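import Mathlib
import Groth.Agent.Lib.Helper8.Andre2
import Groth.Agent.Lib.Helper8.AdicFS7
import Groth.Agent.Lib.Helper8.Depth30

/-!
# Schemes smooth over a field have regular local rings (helper2)
-/

set_option autoImplicit false
universe u

namespace Groth.Agent.Helper2.SmoothFieldRegular

open CategoryTheory CategoryTheory.Limits AlgebraicGeometry IsLocalRing

/-- The local rings of the spectrum of a field are fields. -/
theorem isField_stalk_spec_field (k : Type u) [Field k] (s : ↥(Spec (CommRingCat.of k))) :
    IsField ↥((Spec (CommRingCat.of k)).presheaf.stalk s) := by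
  haveI : Subsingleton ↥(Spec (CommRingCat.of k)) :=
    inferInstanceAs (Subsingleton (PrimeSpectrum k))
  have hco : Order.coheight s ≤ ((0 : ℕ) : ℕ∞) := by
    have : Order.coheight s = 0 := Order.coheight_eq_zero.2 fun b _ => by
      rw [Subsingleton.elim b s]
    rw [this]; rfl
  haveI : Ring.KrullDimLE 0 ↥((Spec (CommRingCat.of k)).presheaf.stalk s) :=
    krullDimLE_of_coheight_le hco
  exact Ring.KrullDimLE.isField_of_isReduced

/-- If the stalk map over a field is formally smooth and the local ring is Noetherian, then the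
local ring is regular. -/
theorem isRegularLocalRing_stalk_of_formallySmooth (k : Type u) [Field k] {X : Scheme.{u}}
    (f : X ⟶ Spec (CommRingCat.of k)) [IsLocallyNoetherian X] (x : ↥X)
    (h : (f.stalkMap x).hom.FormallySmooth) : IsRegularLocalRing ↥(X.presheaf.stalk x) := by
  haveI : IsNoetherianRing ↥(X.presheaf.stalk x) := inferInstance
  haveI : IsRegularLocalRing ↥((Spec (CommRingCat.of k)).presheaf.stalk (f x)) :=
    Groth.Agent.Helper8.Depth.isRegularLocalRing_of_isField _ (isField_stalk_spec_field k (f x))
  algebraize [(f.stalkMap x).hom]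
  haveI : IsLocalHom (algebraMap ↥((Spec (CommRingCat.of k)).presheaf.stalk (f x))
      ↥(X.presheaf.stalk x)) := inferInstanceAs (IsLocalHom (f.stalkMap x).hom)
  exact Groth.Agent.Helper8.Andre.isRegularLocalRing_of_isAdicFormallySmooth
    (A₁ := ↥((Spec (CommRingCat.of k)).presheaf.stalk (f x)))
    (Groth.Agent.Helper8.AdicFS.of_formallySmooth
      (R := ↥((Spec (CommRingCat.of k)).presheaf.stalk (f x))) _)

/-- S1535 -/
theorem S1535_main (k : Type u) [Field k] {X : Scheme.{u}} (f : X ⟶ Spec (CommRingCat.of k))
    [Smooth f] (x : ↥X) : IsRegularLocalRing ↥(X.presheaf.stalk x) := by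
  haveI : IsLocallyNoetherian X := LocallyOfFiniteType.isLocallyNoetherian f
  have h1 : x ∈ f.smoothLocus := by rw [f.smoothLocus_eq_top]; trivial
  exact isRegularLocalRing_stalk_of_formallySmooth k f x h1

end Groth.Agent.Helper2.SmoothFieldRegular
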