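import Mathlib
import Groth.Agent.Lib.Helper2.Ring.ReducedSmooth

/-!
# Reducedness of schemes along smooth and along flat surjective morphisms
-/

universe u

open CategoryTheory AlgebraicGeometry

namespace Groth.Agent.Helper2.SchLib

set_option backward.isDefEq.respectTransparency.types false in
/-- The stalk maps of a flat morphism are injective. -/
theorem stalkMap_injective_of_flat {X Y : Scheme.{u}} (f : X ⟶ Y) [Flat f] (x : X) :
    Function.Injective (f.stalkMap x).hom := by
  algebraize [(f.stalkMap x).hom]
  have : Module.FaithfullyFlat (Y.presheaf.stalk (f x)) (X.presheaf.stalk x) :=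
    @Module.FaithfullyFlat.of_flat_of_isLocalHom _ _ _ _ _ _ _
      (Flat.stalkMap f x) (f.toLRSHom.prop x)
  exact ‹RingHom.FaithfullyFlat _›.injective

/-- The target of a flat surjective morphism with reduced source is reduced. -/
theorem isReduced_of_flat_of_surjective {X Y : Scheme.{u}} (f : X ⟶ Y) [Flat f] [Surjective f]
    [IsReduced X] : IsReduced Y := by
  have (y : Y) : _root_.IsReduced (Y.presheaf.stalk y) := by
    obtain ⟨x, rfl⟩ := f.surjective y
    exact isReduced_of_injective (f.stalkMap x).hom (stalkMap_injective_of_flat f x)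
  exact isReduced_of_isReduced_stalk Y

/-- A scheme is reduced if every point has an affine open neighbourhood with reduced sections. -/
theorem isReduced_of_forall_exists_affine {X : Scheme.{u}}
    (h : ∀ x : X, ∃ V : X.Opens, IsAffineOpen V ∧ x ∈ V ∧ _root_.IsReduced Γ(X, V)) :
    IsReduced X := by
  have (x : X) : _root_.IsReduced (X.presheaf.stalk x) := by
    obtain ⟨V, hV, hxV, hred⟩ := h x
    let := X.presheaf.algebra_section_stalk ⟨x, hxV⟩
    have := hV.isLocalization_stalk ⟨x, hxV⟩
    exact isReduced_localizationPreserves (hV.primeIdealOf ⟨x, hxV⟩).asIdeal.primeCompl _ hred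
  exact isReduced_of_isReduced_stalk X

/-- The source of a smooth morphism with reduced target is reduced. -/
theorem isReduced_of_smooth {X Y : Scheme.{u}} (f : X ⟶ Y) [Smooth f] [IsReduced Y] :
    IsReduced X := by
  refine isReduced_of_forall_exists_affine fun x => ?_
  obtain ⟨U, hU, hxU, -⟩ := exists_isAffineOpen_mem_and_subset (show f x ∈ (⊤ : Y.Opens) from trivial)
  obtain ⟨V, hV, hxV, hVU⟩ :=
    exists_isAffineOpen_mem_and_subset (show x ∈ f ⁻¹ᵁ U from hxU)
  refine ⟨V, hV, hxV, ?_⟩
  have h1 : (f.appLE U V hVU).hom.Smooth := Smooth.smooth_appLE f hU hV hVU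
  exact h1.isReduced

end Groth.Agent.Helper2.SchLib
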