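import Mathlib

/-!
# The Krull dimension of a scheme is the supremum of the dimensions of its local rings
-/

universe u

open CategoryTheory AlgebraicGeometry TopologicalSpace Topology

namespace Groth.Agent.Helper2.DimFormula

/-- The generizations of a point of a scheme, with the specialization order, are the prime
spectrum of the local ring with the reversed inclusion order. -/
noncomputable def iciEquiv (X : Scheme.{u}) (x : X) :
    (PrimeSpectrum ↥(X.presheaf.stalk x))ᵒᵈ ≃o Set.Ici x := by
  have hemb : IsEmbedding (X.fromSpecStalk x) := (X.fromSpecStalk x).isEmbedding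
  have hrange : ∀ p, X.fromSpecStalk x p ∈ Set.Ici x := fun p => by
    have : X.fromSpecStalk x p ∈ Set.range (X.fromSpecStalk x) := ⟨p, rfl⟩
    rw [Scheme.range_fromSpecStalk] at this
    exact this
  refine
    { toFun := fun p => ⟨X.fromSpecStalk x (OrderDual.ofDual p), hrange _⟩
      invFun := fun y => OrderDual.toDual (by
        have hy : (y : X) ∈ Set.range (X.fromSpecStalk x) := by
          rw [Scheme.range_fromSpecStalk]; exact y.2
        exact hy.choose)
      left_inv := fun p => by
        apply OrderDual.ofDual.injective
        apply hemb.injective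
        have hy : X.fromSpecStalk x (OrderDual.ofDual p) ∈ Set.range (X.fromSpecStalk x) :=
          ⟨_, rfl⟩
        exact hy.choose_spec
      right_inv := fun y => by
        apply Subtype.ext
        have hy : (y : X) ∈ Set.range (X.fromSpecStalk x) := by
          rw [Scheme.range_fromSpecStalk]; exact y.2
        exact hy.choose_spec
      map_rel_iff' := ?_ }
  intro p q
  have h1 := hemb.isInducing.specializes_iff (x := (OrderDual.ofDual q : PrimeSpectrum _))
    (y := (OrderDual.ofDual p : PrimeSpectrum _))
  have h2 := PrimeSpectrum.le_iff_specializes (OrderDual.ofDual q : PrimeSpectrum _)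
    (OrderDual.ofDual p : PrimeSpectrum _)
  exact h1.trans h2.symm

theorem ringKrullDim_stalk_eq_coheight (X : Scheme.{u}) (x : ↥X) :
    ringKrullDim ↥(X.presheaf.stalk x) = (Order.coheight x : WithBot ℕ∞) := by
  rw [Order.coheight_eq_krullDim_Ici, ← Order.krullDim_eq_of_orderIso (iciEquiv X x),
    Order.krullDim_orderDual]
  rfl

theorem topologicalKrullDim_eq_iSup (X : Scheme.{u}) :
    topologicalKrullDim ↥X = ⨆ x : ↥X, ringKrullDim ↥(X.presheaf.stalk x) := by
  unfold topologicalKrullDim
  rw [Order.krullDim_eq_of_orderIso
    (@irreducibleSetEquivPoints ↥X _ _ _), Order.krullDim_eq_iSup_coheight]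
  congr 1
  funext x
  rw [Order.coheight_eq_krullDim_Ici, ← Order.krullDim_eq_of_orderIso (iciEquiv X x),
    Order.krullDim_orderDual]
  rfl

end Groth.Agent.Helper2.DimFormula
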