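import Mathlib
import Groth.Agent.Lib.Helper2.Sch.DimFormula

/-!
# Schemes locally of finite type over a field of dimension at most zero are locally quasi-finite
-/

set_option autoImplicit false

universe u

open CategoryTheory AlgebraicGeometry TopologicalSpace Topology

namespace Groth.Agent.Helper2.LqfField

theorem lqf_SpecMap {k : Type u} [Field k] {R : CommRingCat.{u}} (φ : CommRingCat.of k ⟶ R)
    (hft : LocallyOfFiniteType (Spec.map φ)) (hdim : ringKrullDim ↑R ≤ 0) :
    LocallyQuasiFinite (Spec.map φ) := by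
  rw [HasRingHomProperty.Spec_iff (P := @LocallyQuasiFinite)]
  rw [HasRingHomProperty.Spec_iff (P := @LocallyOfFiniteType)] at hft
  algebraize [φ.hom]
  have hfin : Module.Finite k ↑R :=
    (Module.finite_iff_krullDimLE_zero k _).mpr (Ring.krullDimLE_iff.mpr hdim)
  show Algebra.QuasiFinite k ↑R
  infer_instance

theorem lqf_of_dim_le_zero {k : Type u} [Field k] {U : Scheme.{u}}
    (g : U ⟶ Spec (CommRingCat.of k)) [LocallyOfFiniteType g]
    (hd : topologicalKrullDim ↥U ≤ 0) : LocallyQuasiFinite g := by
  rw [IsZariskiLocalAtSource.iff_of_openCover (P := @LocallyQuasiFinite)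
    U.affineOpenCover.openCover]
  intro i
  let j : U.affineOpenCover.I₀ := i
  haveI : IsOpenImmersion (U.affineOpenCover.f j) := U.affineOpenCover.openCover.map_prop i
  change LocallyQuasiFinite (U.affineOpenCover.f j ≫ g)
  have hft0 : LocallyOfFiniteType (U.affineOpenCover.f j ≫ g) := inferInstance
  have hdim : ringKrullDim ↑(U.affineOpenCover.X j) ≤ 0 := by
    rw [← PrimeSpectrum.topologicalKrullDim_eq_ringKrullDim]
    exact ((U.affineOpenCover.f j).isOpenEmbedding.isInducing.topologicalKrullDim_le).trans hd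
  obtain ⟨φ, hφ⟩ := Spec.map_surjective (U.affineOpenCover.f j ≫ g)
  rw [← hφ] at hft0 ⊢
  exact lqf_SpecMap φ hft0 hdim

theorem ringKrullDim_stalk_field_le {k : Type u} [Field k] (x : ↥(Spec (CommRingCat.of k))) :
    ringKrullDim ↥((Spec (CommRingCat.of k)).presheaf.stalk x) ≤ 0 := by
  have h1 : ringKrullDim ↥((Spec (CommRingCat.of k)).presheaf.stalk x) ≤
      topologicalKrullDim ↥(Spec (CommRingCat.of k)) := by
    rw [DimFormula.topologicalKrullDim_eq_iSup]
    exact le_iSup (fun y : ↥(Spec (CommRingCat.of k)) =>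
      ringKrullDim ↥((Spec (CommRingCat.of k)).presheaf.stalk y)) x
  refine h1.trans ?_
  have h2 : topologicalKrullDim ↥(Spec (CommRingCat.of k)) = ringKrullDim k :=
    PrimeSpectrum.topologicalKrullDim_eq_ringKrullDim k
  rw [h2, ringKrullDim_eq_zero_of_field]

end Groth.Agent.Helper2.LqfField
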