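import Mathlib
import Groth.Agent.Lib.Helper2.Sch.DimFormula
import Groth.Agent.Lib.Helper2.Sch.LqfField
import Groth.Agent.Lib.Helper2.Ring.DimEtaleLocal

/-!
# Quasi-finiteness of a morphism of schemes at a point
-/

set_option autoImplicit false

universe u

open CategoryTheory AlgebraicGeometry TopologicalSpace Topology

namespace Groth.Agent.Helper2.QfAt

variable {X Y : Scheme.{u}}

theorem locallyQuasiFinite_of_etale {X' : Scheme.{u}} (p : X' ⟶ X) [Etale p] :
    LocallyQuasiFinite p := by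
  rw [HasRingHomProperty.iff_appLE (P := @LocallyQuasiFinite)]
  intro U V e
  have h1 : RingHom.Etale (p.appLE U V e).hom :=
    HasRingHomProperty.appLE (P := @Etale) p inferInstance U V e
  algebraize [(p.appLE U V e).hom]
  show Algebra.QuasiFinite ↑Γ(X, U.1) ↑Γ(X', V.1)
  infer_instance

/-- The form of "quasi-finite at a point" used in the statements. -/
def QfNear (h : X ⟶ Y) (u : ↥X) : Prop :=
  ∃ W : X.Opens, u ∈ W ∧ LocallyQuasiFinite (W.ι ≫ h) ∧ LocallyOfFiniteType (W.ι ≫ h)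

theorem quasiFiniteAt_of_qfNear {h : X ⟶ Y} {u : ↥X} (hq : QfNear h u) : h.QuasiFiniteAt u := by
  obtain ⟨W, hu, hlqf, -⟩ := hq
  haveI := hlqf
  have h1 : (W.ι ≫ h).QuasiFiniteAt (⟨u, hu⟩ : ↥W) := (W.ι ≫ h).quasiFiniteAt _
  exact Scheme.Hom.quasiFiniteAt_comp_iff_of_isOpenImmersion.mp h1

theorem qfNear_of_quasiFiniteAt {h : X ⟶ Y} [LocallyOfFiniteType h] {u : ↥X}
    (hq : h.QuasiFiniteAt u) : QfNear h u :=
  ⟨h.quasiFiniteLocus, hq, inferInstance, inferInstance⟩

theorem qfNear_iff {h : X ⟶ Y} [LocallyOfFiniteType h] {u : ↥X} :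
    QfNear h u ↔ h.QuasiFiniteAt u :=
  ⟨quasiFiniteAt_of_qfNear, qfNear_of_quasiFiniteAt⟩

/-- `u` is isolated in its fibre. -/
def IsolatedInFibre (h : X ⟶ Y) (u : ↥X) : Prop :=
  ∃ O : Set ↥X, IsOpen O ∧ u ∈ O ∧ ∀ u' ∈ O, h u' = h u → u' = u

theorem quasiFiniteAt_iff_isOpen_singleton {h : X ⟶ Y} [LocallyOfFiniteType h] (u : ↥X) :
    h.QuasiFiniteAt u ↔ IsOpen ({⟨u, rfl⟩} : Set ↥(h ⁻¹' {h u})) := by
  rw [Scheme.Hom.quasiFiniteAt_iff_isOpen_singleton_asFiber, ← (h.fiberHomeo (h u)).isOpen_image]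
  simp only [Set.image_singleton, Scheme.Hom.asFiber, Homeomorph.apply_symm_apply]

theorem quasiFiniteAt_iff_isolated {h : X ⟶ Y} [LocallyOfFiniteType h] (u : ↥X) :
    h.QuasiFiniteAt u ↔ IsolatedInFibre h u := by
  rw [quasiFiniteAt_iff_isOpen_singleton, isOpen_induced_iff]
  constructor
  · rintro ⟨O, hO, hOe⟩
    refine ⟨O, hO, ?_, ?_⟩
    · have : (⟨u, rfl⟩ : ↥(h ⁻¹' {h u})) ∈ Subtype.val ⁻¹' O := by rw [hOe]; rfl
      exact this
    · intro u' hu' e
      have : (⟨u', e⟩ : ↥(h ⁻¹' {h u})) ∈ Subtype.val ⁻¹' O := hu'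
      rw [hOe] at this
      exact congrArg Subtype.val this
  · rintro ⟨O, hO, huO, hOu⟩
    refine ⟨O, hO, ?_⟩
    ext ⟨x, hx⟩
    constructor
    · intro hxO
      exact Subtype.ext (hOu x hxO hx)
    · intro e
      have : x = u := congrArg Subtype.val e
      subst this
      exact huO

theorem isolated_of_comp_of_isOpenMap {X' : Scheme.{u}} (p : X' ⟶ X) (hp : IsOpenMap p)
    (h : X ⟶ Y) (u' : ↥X') (hi : IsolatedInFibre (p ≫ h) u') : IsolatedInFibre h (p u') := by
  obtain ⟨O, hO, hu, hOu⟩ := hi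
  refine ⟨p '' O, hp O hO, ⟨u', hu, rfl⟩, ?_⟩
  rintro _ ⟨x', hx', rfl⟩ e
  have : x' = u' := hOu x' hx' (by simpa using e)
  rw [this]

theorem quasiFiniteAt_comp {X' : Scheme.{u}} (p : X' ⟶ X) (h : X ⟶ Y) (u' : ↥X')
    (hp : p.QuasiFiniteAt u') (hh : h.QuasiFiniteAt (p u')) : (p ≫ h).QuasiFiniteAt u' := by
  simp only [Scheme.Hom.QuasiFiniteAt, Scheme.Hom.stalkMap_comp, CommRingCat.hom_comp] at *
  exact hp.comp hh

/-- Quasi-finiteness at a point in a commutative square with etale vertical maps. -/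
theorem quasiFiniteAt_square_iff {X₁ Y₁ X₃ Y₃ : Scheme.{u}} (h₁ : X₁ ⟶ Y₁) (h₃ : X₃ ⟶ Y₃)
    (p : X₃ ⟶ X₁) (q : Y₃ ⟶ Y₁) [Etale p] [Etale q] [LocallyOfFiniteType h₁]
    (comm : p ≫ h₁ = h₃ ≫ q) (u₃ : ↥X₃) :
    h₁.QuasiFiniteAt (p u₃) ↔ h₃.QuasiFiniteAt u₃ := by
  haveI := locallyQuasiFinite_of_etale p
  haveI := locallyQuasiFinite_of_etale q
  constructor
  · intro hq
    have h1 : (p ≫ h₁).QuasiFiniteAt u₃ := quasiFiniteAt_comp p h₁ u₃ (p.quasiFiniteAt u₃) hq
    rw [comm] at h1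
    exact Scheme.Hom.quasiFiniteAt_comp_iff.mp h1
  · intro hq
    have h1 : (h₃ ≫ q).QuasiFiniteAt u₃ := Scheme.Hom.quasiFiniteAt_comp_iff.mpr hq
    rw [← comm] at h1
    have h2 : IsolatedInFibre (p ≫ h₁) u₃ := (quasiFiniteAt_iff_isolated u₃).mp h1
    exact (quasiFiniteAt_iff_isolated (p u₃)).mpr
      (isolated_of_comp_of_isOpenMap p p.isOpenMap h₁ u₃ h2)

/-- A point where the morphism is quasi-finite has no proper specialization in its fibre. -/
theorem eq_of_specializes_of_quasiFiniteAt {h : X ⟶ Y} [LocallyOfFiniteType h] {u u' : ↥X}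
    (hs : u' ⤳ u) (e : h u = h u') (hq : h.QuasiFiniteAt u') : u = u' := by
  have hcl : IsClosed ({h.asFiber u'} : Set ↥(h.fiber (h u'))) :=
    hq.isClopen_singleton_asFiber.isClosed
  rw [← (h.fiberHomeo (h u')).isClosed_image] at hcl
  simp only [Set.image_singleton, Scheme.Hom.asFiber, Homeomorph.apply_symm_apply] at hcl
  have hs' : (⟨u', rfl⟩ : ↥(h ⁻¹' {h u'})) ⤳ (⟨u, e⟩ : ↥(h ⁻¹' {h u'})) :=
    (subtype_specializes_iff _ _).mpr hs
  have := hs'.mem_closed hcl rfl
  exact congrArg Subtype.val this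

/-- Quasi-finiteness at a point bounds the dimension of the local ring. -/
theorem ringKrullDim_stalk_le_of_quasiFiniteAt {h : X ⟶ Y} {u : ↥X} (hq : h.QuasiFiniteAt u) :
    ringKrullDim ↥(X.presheaf.stalk u) ≤ ringKrullDim ↥(Y.presheaf.stalk (h u)) := by
  have hqf : (h.stalkMap u).hom.QuasiFinite := hq
  algebraize [(h.stalkMap u).hom]
  exact DimEtaleLocal.ringKrullDim_le_of_quasiFinite (A := ↥(Y.presheaf.stalk (h u)))
    (B := ↥(X.presheaf.stalk u))

theorem ringKrullDim_stalk_eq_zero_iff (x : ↥X) :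
    ringKrullDim ↥(X.presheaf.stalk x) = 0 ↔ IsMax x := by
  rw [DimFormula.ringKrullDim_stalk_eq_coheight, ← Order.coheight_eq_zero]
  exact_mod_cast Iff.rfl

/-- A point whose local ring has dimension zero has no proper generization. -/
theorem eq_of_specializes_of_dim_zero {v v' : ↥X}
    (hv : ringKrullDim ↥(X.presheaf.stalk v) = 0) (hs : v' ⤳ v) : v' = v := by
  have hmax : IsMax v := (ringKrullDim_stalk_eq_zero_iff v).mp hv
  have h1 : v ≤ v' := hs
  have h2 : v' ≤ v := hmax h1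
  exact (Specializes.antisymm hs h2).eq

/-- Every point of a scheme has a generization whose local ring has dimension zero. -/
theorem exists_generization_dim_zero (x : ↥X) :
    ∃ ξ : ↥X, ξ ⤳ x ∧ ringKrullDim ↥(X.presheaf.stalk ξ) = 0 := by
  obtain ⟨ξ, hξ⟩ := QuasiSober.sober (isIrreducible_irreducibleComponent (x := x))
    isClosed_irreducibleComponent
  refine ⟨ξ, ?_, ?_⟩
  · exact hξ.specializes mem_irreducibleComponent
  · rw [ringKrullDim_stalk_eq_zero_iff]
    intro ξ' hle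
    have hs : ξ' ⤳ ξ := hle
    have h1 : irreducibleComponent x ⊆ closure {ξ'} := by
      rw [← hξ.def]
      exact closure_minimal (Set.singleton_subset_iff.mpr (specializes_iff_mem_closure.mp hs))
        isClosed_closure
    have h2 : closure {ξ'} = irreducibleComponent x :=
      eq_irreducibleComponent isIrreducible_singleton.closure.isPreirreducible h1
    have h3 : ξ' ∈ closure ({ξ} : Set ↥X) := by
      rw [hξ.def, ← h2]
      exact subset_closure rfl
    exact (specializes_iff_mem_closure.mpr h3 : ξ ⤳ ξ')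

/-- If no point of the fibre over `v` has a proper generization, a morphism locally of finite
type is quasi-finite at every point of that fibre. -/
theorem quasiFiniteAt_of_fibre_isMax {h : X ⟶ Y} [LocallyOfFiniteType h] (u : ↥X)
    (hmax : ∀ x : ↥X, h x = h u → IsMax x) : h.QuasiFiniteAt u := by
  let F := h.fiber (h u)
  let g : F ⟶ Spec (Y.residueField (h u)) := h.fiberToSpecResidueField (h u)
  haveI : LocallyOfFiniteType g := MorphismProperty.pullback_snd _ _ inferInstance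
  have hdim : topologicalKrullDim ↥F ≤ 0 := by
    rw [DimFormula.topologicalKrullDim_eq_iSup]
    refine iSup_le fun x => ?_
    rw [(ringKrullDim_stalk_eq_zero_iff x).mpr]
    intro x' hle
    have hs : x' ⤳ x := hle
    have hs' : (h.fiberι (h u)) x' ⤳ (h.fiberι (h u)) x := hs.map (h.fiberι (h u)).continuous
    have hmem : (h.fiberι (h u)) x ∈ h ⁻¹' {h u} := by
      rw [← Scheme.Hom.range_fiberι]
      exact ⟨x, rfl⟩
    have h1 := hmax _ hmem
    have h2 : (h.fiberι (h u)) x ⤳ (h.fiberι (h u)) x' := h1 hs'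
    exact ((h.fiberι (h u)).isEmbedding.isInducing.specializes_iff.mp h2 : x ⤳ x')
  haveI : LocallyQuasiFinite g :=
    LqfField.lqf_of_dim_le_zero (k := ↑(Y.residueField (h u))) g hdim
  haveI : IsLocallyArtinian (Spec (Y.residueField (h u))) :=
    Scheme.isLocallyArtinianScheme_Spec.mpr inferInstance
  haveI : IsLocallyArtinian F := IsLocallyArtinian.of_locallyQuasiFinite g
  rw [Scheme.Hom.quasiFiniteAt_iff_isOpen_singleton_asFiber]
  exact isOpen_discrete _

/-- A morphism of finite type is quasi-finite at only finitely many points of a fibre. -/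
theorem finite_quasiFiniteAt_fibre (h : X ⟶ Y) [LocallyOfFiniteType h] [QuasiCompact h] (v : ↥Y) :
    {u : ↥X | h u = v ∧ h.QuasiFiniteAt u}.Finite := by
  let F := h.fiber v
  let g : F ⟶ Spec (Y.residueField v) := h.fiberToSpecResidueField v
  haveI : LocallyOfFiniteType g := MorphismProperty.pullback_snd _ _ inferInstance
  haveI : IsLocallyNoetherian F := LocallyOfFiniteType.isLocallyNoetherian g
  haveI : IsNoetherian F := {}
  let D : Set ↥F := {z | IsOpen ({z} : Set ↥F)}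
  have hDc : IsCompact D := NoetherianSpace.isCompact D
  have hDd : DiscreteTopology ↥D := by
    rw [discreteTopology_iff_isOpen_singleton]
    rintro ⟨z, hz⟩
    rw [isOpen_induced_iff]
    refine ⟨{z}, hz, ?_⟩
    ext ⟨w, hw⟩
    simp
  have hDf : D.Finite := hDc.finite ⟨hDd⟩
  refine (hDf.image (h.fiberι v)).subset ?_
  rintro u ⟨rfl, hq⟩
  refine ⟨h.asFiber u, ?_, h.fiberι_asFiber u⟩
  exact Scheme.Hom.quasiFiniteAt_iff_isOpen_singleton_asFiber.mp hq

end Groth.Agent.Helper2.QfAt
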