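import Mathlib
import Groth.Agent.Lib.Helper2.Sch.QfAt

/-!
# Quasi-finiteness at a point descends along arbitrary base change
-/

set_option autoImplicit false

universe u

open CategoryTheory CategoryTheory.Limits AlgebraicGeometry TopologicalSpace Topology

namespace Groth.Agent.Helper2.QfAt

theorem isolated_of_isOpen_singleton_fiber {X Z : Scheme.{u}} (f : X ⟶ Z) (z : ↥Z)
    (u' : ↥(f.fiber z)) (hopen : IsOpen ({u'} : Set ↥(f.fiber z))) :
    IsolatedInFibre f (f.fiberι z u') := by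
  have h1 : IsOpen ((f.fiberHomeo z) '' {u'}) := (f.fiberHomeo z).isOpen_image.mpr hopen
  rw [Set.image_singleton, isOpen_induced_iff] at h1
  obtain ⟨O, hO, hOe⟩ := h1
  have hmem : f.fiberι z u' ∈ f ⁻¹' {z} := (f.fiberHomeo z u').2
  have hfz : f (f.fiberι z u') = z := hmem
  refine ⟨O, hO, ?_, ?_⟩
  · have : (f.fiberHomeo z u') ∈ Subtype.val ⁻¹' O := by rw [hOe]; rfl
    exact this
  · intro u hu e
    have hu' : u ∈ f ⁻¹' {z} := e.trans hfz
    have : (⟨u, hu'⟩ : ↥(f ⁻¹' {z})) ∈ Subtype.val ⁻¹' O := hu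
    rw [hOe] at this
    exact congrArg Subtype.val this

theorem quasiFiniteAt_of_isPullback {P X Y Z : Scheme.{u}} {fst : P ⟶ X} {snd : P ⟶ Y}
    {f : X ⟶ Z} {g : Y ⟶ Z} (sq : IsPullback fst snd f g) [LocallyOfFiniteType f] (p : ↥P)
    (hq : snd.QuasiFiniteAt p) : f.QuasiFiniteAt (fst p) := by
  haveI : LocallyOfFiniteType snd := MorphismProperty.of_isPullback sq inferInstance
  obtain ⟨top, sqF, hcomm⟩ : ∃ top : snd.fiber (snd p) ⟶ f.fiber (g (snd p)),
      IsPullback top (snd.fiberToSpecResidueField (snd p))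
        (f.fiberToSpecResidueField (g (snd p))) (Spec.map (g.residueFieldMap (snd p))) ∧
      top ≫ f.fiberι (g (snd p)) = snd.fiberι (snd p) ≫ fst :=
    ⟨_, isPullback_fiberToSpecResidueField_of_isPullback sq (snd p), pullback.lift_fst _ _ _⟩
  haveI : UniversallyOpen (Spec.map (g.residueFieldMap (snd p))) := inferInstance
  haveI : UniversallyOpen top :=
    MorphismProperty.of_isPullback (P := @UniversallyOpen) sqF.flip inferInstance
  have hopen : IsOpen ({snd.asFiber p} : Set ↥(snd.fiber (snd p))) :=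
    Scheme.Hom.quasiFiniteAt_iff_isOpen_singleton_asFiber.mp hq
  have himg := top.isOpenMap _ hopen
  rw [Set.image_singleton] at himg
  have hiso := isolated_of_isOpen_singleton_fiber f (g (snd p)) _ himg
  have hpt : f.fiberι (g (snd p)) (top (snd.asFiber p)) = fst p := by
    rw [← Scheme.Hom.comp_apply, hcomm, Scheme.Hom.comp_apply, Scheme.Hom.fiberι_asFiber]
  rw [hpt] at hiso
  exact (quasiFiniteAt_iff_isolated _).mpr hiso

/-- Quasi-finiteness at a point is stable under base change. -/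
theorem quasiFiniteAt_baseChange {P X Y Z : Scheme.{u}} {fst : P ⟶ X} {snd : P ⟶ Y}
    {f : X ⟶ Z} {g : Y ⟶ Z} (sq : IsPullback fst snd f g) [LocallyOfFiniteType f] (p : ↥P)
    (hq : f.QuasiFiniteAt (fst p)) : snd.QuasiFiniteAt p := by
  let W := f.quasiFiniteLocus
  have sq1 : IsPullback (fst ∣_ W) (fst ⁻¹ᵁ W).ι W.ι fst := isPullback_morphismRestrict fst W
  have sq2 : IsPullback (fst ∣_ W) ((fst ⁻¹ᵁ W).ι ≫ snd) (W.ι ≫ f) g := sq1.paste_vert sq
  haveI : LocallyQuasiFinite ((fst ⁻¹ᵁ W).ι ≫ snd) :=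
    MorphismProperty.of_isPullback (P := @LocallyQuasiFinite) sq2 inferInstance
  have hp : p ∈ fst ⁻¹ᵁ W := hq
  have h1 : ((fst ⁻¹ᵁ W).ι ≫ snd).QuasiFiniteAt (⟨p, hp⟩ : ↥(fst ⁻¹ᵁ W)) :=
    ((fst ⁻¹ᵁ W).ι ≫ snd).quasiFiniteAt _
  exact Scheme.Hom.quasiFiniteAt_comp_iff_of_isOpenImmersion.mp h1

theorem quasiFiniteAt_isPullback_iff {P X Y Z : Scheme.{u}} {fst : P ⟶ X} {snd : P ⟶ Y}
    {f : X ⟶ Z} {g : Y ⟶ Z} (sq : IsPullback fst snd f g) [LocallyOfFiniteType f] (p : ↥P) :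
    snd.QuasiFiniteAt p ↔ f.QuasiFiniteAt (fst p) :=
  ⟨quasiFiniteAt_of_isPullback sq p, quasiFiniteAt_baseChange sq p⟩

end Groth.Agent.Helper2.QfAt
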