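import Mathlib
import Groth.Prelude.Def_Flat
import Groth.Agent.Lib.Helper4.RelDim1
import Groth.Agent.Lib.Helper4.FibDimBC2
import Groth.Agent.Lib.Helper2.FibDim.StalkFibre
import Groth.Agent.Lib.Helper2.AlgSp.FibreDimField
import Groth.Agent.Lib.Helper2.Sch.SmoothFieldRegular

/-!
# The local dimension of a product of schemes locally of finite type over a field (S7610)
(helper2)
-/

set_option backward.isDefEq.respectTransparency.types false
set_option autoImplicit false
set_option linter.unusedSectionVars false
set_option linter.style.haveILetI false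
universe u
open CategoryTheory CategoryTheory.Limits AlgebraicGeometry TopologicalSpace Topology
open Groth.Agent.Lib.Helper4.FibDim1 Groth.Agent.Lib.Helper4.RelDim1
open Groth.Agent.Lib.Helper4.JacDim1

namespace Groth.Agent.Helper2.ProdLocalDim

/-- For a scheme locally of finite type over a field, the local dimension at a point is the
dimension of the local ring plus the transcendence degree of the residue field. -/
theorem localDim_eq_stalk_add_tr {W : Scheme.{u}} (K : Type u) [Field K]
    (g : W ⟶ Spec (.of K)) [LocallyOfFiniteType g] (w : W) :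
    FlatMor.localDim W w = ringKrullDim (W.presheaf.stalk w) + (tr g w : WithBot ℕ∞) := by
  haveI : Subsingleton ↥(Spec (.of K)) := inferInstanceAs (Subsingleton (PrimeSpectrum K))
  rw [← Groth.Agent.Helper2.FibreDimField.fibreDimAt_eq_localDim_of_subsingleton g w,
    Groth.Agent.Helper2.FibDim.fibreDimAt_eq_stalk_add_tr g w]
  congr 1
  have h := stalk_dim_eq_of_flat g w
  rw [h, ringKrullDim_eq_zero_of_isField
    (Groth.Agent.Helper2.SmoothFieldRegular.isField_stalk_spec_field K (g w)), zero_add]

/-- S7610 -/
theorem localDim_pullback_eq_add (K : Type u) [Field K] {X Y : Scheme.{u}}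
    (a : X ⟶ Spec (.of K)) (b : Y ⟶ Spec (.of K)) [LocallyOfFiniteType a]
    [LocallyOfFiniteType b] (z : ↥(pullback a b)) :
    FlatMor.localDim ↥(pullback a b) z =
      FlatMor.localDim ↥X (pullback.fst a b z) + FlatMor.localDim ↥Y (pullback.snd a b z) := by
  haveI : Subsingleton ↥(Spec (.of K)) := inferInstanceAs (Subsingleton (PrimeSpectrum K))
  haveI : IsLocallyNoetherian Y := LocallyOfFiniteType.isLocallyNoetherian b
  haveI : Flat (pullback.snd a b) := MorphismProperty.pullback_snd (P := @Flat) _ _ inferInstance
  haveI : LocallyOfFiniteType (pullback.snd a b) :=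
    MorphismProperty.pullback_snd (P := @LocallyOfFiniteType) _ _ inferInstance
  rw [localDim_eq_stalk_add_tr K (pullback.snd a b ≫ b) z, tr_comp (pullback.snd a b) b z,
    stalk_dim_eq_of_flat (pullback.snd a b) z, localDim_eq_stalk_add_tr K b (pullback.snd a b z),
    ← Groth.Agent.Helper2.FibreDimField.fibreDimAt_eq_localDim_of_subsingleton a
      (pullback.fst a b z),
    ← Groth.Agent.Lib.Helper4.FibDimBC2.fibreDimAt_abs a b (pullback.fst a b) (pullback.snd a b)
      (IsPullback.of_hasPullback a b) z,
    Groth.Agent.Helper2.FibDim.fibreDimAt_eq_stalk_add_tr (pullback.snd a b) z]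
  push_cast
  abel

end Groth.Agent.Helper2.ProdLocalDim
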