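import Mathlib
import Groth.Prelude.Def_Flat
import Groth.Prelude.Def_FDesc
import Groth.Agent.Lib.Helper4.FibDimBC2
import Groth.Agent.Lib.Helper4.Chev2
import Groth.Agent.Lib.Helper4.Chev6
import Groth.Agent.Lib.Helper8.TopDim2
import Groth.Agent.Lib.Helper2.AlgSp.FibreDimField
import Groth.Agent.Lib.Helper2.Sch.ProdLocalDim
import Groth.Agent.Lib.Helper7.EtCoord.DiffSpan

/-!
# Dimension and extension of the ground field (S4642, S4643, S4673, S4663) (helper2)
-/

set_option backward.isDefEq.respectTransparency.types false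
set_option autoImplicit false
set_option linter.unusedSectionVars false
set_option linter.style.haveILetI false
universe u
open CategoryTheory CategoryTheory.Limits AlgebraicGeometry TopologicalSpace
open Groth.Agent.Lib.Helper4.FibDim1

namespace Groth.Agent.Helper2.FieldBCDim

section General

/-- A maximal point (no proper generizations) of a scheme locally of finite type over a field:
the dimension of its closure is its local dimension. -/
theorem dim_closure_eq_localDim_of_max {k : Type u} [Field k] {X : Scheme.{u}}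
    (f : X ⟶ Spec (CommRingCat.of k)) [LocallyOfFiniteType f] (ξ : X)
    (hmax : ∀ b : X, b ⤳ ξ → ξ ⤳ b) :
    topologicalKrullDim ↥(closure ({ξ} : Set X)) = FlatMor.localDim X ξ := by
  have h0 : ringKrullDim (X.presheaf.stalk ξ) = 0 := by
    rw [ringKrullDim_stalk_eq_coheight]
    have : Order.coheight ξ = 0 := by
      rw [Order.coheight_eq_zero]
      intro b hb
      exact hmax b hb
    rw [this]; rfl
  have h1 := Groth.Agent.Helper2.ProdLocalDim.localDim_eq_stalk_add_tr k f ξ
  rw [h0, zero_add] at h1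
  haveI : IsLocallyNoetherian (Spec (CommRingCat.of k)) := inferInstance
  have h2 := Groth.Agent.Lib.Helper4.Chev6.dim_closure_inter_fiber f ξ (f ξ) rfl
  have hset : closure ({ξ} : Set X) ∩ f.base ⁻¹' {f ξ} = closure ({ξ} : Set X) := by
    apply Set.inter_eq_left.mpr
    intro x _
    haveI : Subsingleton ↥(Spec (CommRingCat.of k)) :=
      inferInstanceAs (Subsingleton (PrimeSpectrum k))
    exact Subsingleton.elim _ _
  rw [hset] at h2
  rw [h2, h1]

/-- generic points of irreducible components are maximal points -/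
theorem max_of_isGenericPoint {X : Type*} [TopologicalSpace X] {Z : Set X}
    (hZ : Z ∈ irreducibleComponents X) {ξ : X} (hgen : IsGenericPoint ξ Z) (b : X)
    (hb : b ⤳ ξ) : ξ ⤳ b := by
  have hsub : Z ⊆ closure ({b} : Set X) := by
    rw [← hgen.def]
    exact closure_minimal (Set.singleton_subset_iff.mpr hb.mem_closure) isClosed_closure
  have hle : closure ({b} : Set X) ⊆ Z := hZ.2 isIrreducible_singleton.closure hsub
  have hbZ : b ∈ closure ({ξ} : Set X) := by
    rw [hgen.def]; exact hle (subset_closure rfl)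
  exact specializes_iff_mem_closure.mpr hbZ

/-- the closure of a maximal point is an irreducible component -/
theorem closure_mem_irreducibleComponents_of_max {X : Type*} [TopologicalSpace X] [QuasiSober X]
    (ξ : X) (hmax : ∀ b : X, b ⤳ ξ → ξ ⤳ b) :
    closure ({ξ} : Set X) ∈ irreducibleComponents X := by
  refine ⟨isIrreducible_singleton.closure, ?_⟩
  intro T hT hsub
  have hTc : IsIrreducible (closure T) := hT.closure
  obtain ⟨b, hb⟩ := QuasiSober.sober hTc isClosed_closure
  have hξT : ξ ∈ closure T := subset_closure (hsub (subset_closure rfl))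
  have hbξ : b ⤳ ξ := by
    rw [specializes_iff_mem_closure, hb.def]; exact hξT
  have hξb : ξ ⤳ b := hmax b hbξ
  intro t ht
  have : t ∈ closure ({b} : Set X) := by rw [hb.def]; exact subset_closure ht
  exact (hξb.trans (specializes_iff_mem_closure.mpr this)).mem_closure

end General

section BC

variable {k K : Type u} [Field k] [Field K] [Algebra k K] {X : Scheme.{u}}
  (f : X ⟶ Spec (CommRingCat.of k)) [LocallyOfFiniteType f]

instance : LocallyOfFiniteType (FBase.bcStr f K) := by
  unfold FBase.bcStr; exact MorphismProperty.pullback_snd _ _ inferInstance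

instance : Flat (FBase.bcπ f K) := by
  have : Flat (Spec.map (CommRingCat.ofHom (algebraMap k K))) := by
    rw [HasRingHomProperty.Spec_iff (P := @Flat)]
    simp only [CommRingCat.hom_ofHom, RingHom.Flat]
    infer_instance
  unfold FBase.bcπ; exact MorphismProperty.pullback_fst _ _ inferInstance

theorem surjective_bcπ : Function.Surjective (FBase.bcπ f K) := by
  have : Surjective (Spec.map (CommRingCat.ofHom (algebraMap k K))) := by
    constructor
    intro x
    haveI : Subsingleton ↥(Spec (CommRingCat.of k)) :=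
      inferInstanceAs (Subsingleton (PrimeSpectrum k))
    haveI : Nonempty ↥(Spec (CommRingCat.of K)) :=
      inferInstanceAs (Nonempty (PrimeSpectrum K))
    obtain ⟨y⟩ := ‹Nonempty ↥(Spec (CommRingCat.of K))›
    exact ⟨y, Subsingleton.elim _ _⟩
  have h : Surjective (FBase.bcπ f K) := by
    unfold FBase.bcπ; exact MorphismProperty.pullback_fst _ _ inferInstance
  exact h.surj

/-- Local dimension is invariant under extension of the ground field. -/
theorem localDim_bc (y : ↥(FBase.bc f K)) :
    FlatMor.localDim ↥(FBase.bc f K) y = FlatMor.localDim X (FBase.bcπ f K y) := by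
  obtain ⟨g₀, hg₀⟩ : ∃ g₀, g₀ = Spec.map (CommRingCat.ofHom (algebraMap k K)) := ⟨_, rfl⟩
  have hsq : IsPullback (FBase.bcπ f K) (FBase.bcStr f K) f g₀ := by
    rw [hg₀]; exact IsPullback.of_hasPullback f _
  haveI : Subsingleton ↥(Spec (CommRingCat.of k)) :=
    inferInstanceAs (Subsingleton (PrimeSpectrum k))
  haveI : Subsingleton ↥(Spec (CommRingCat.of K)) :=
    inferInstanceAs (Subsingleton (PrimeSpectrum K))
  have h1 := Groth.Agent.Lib.Helper4.FibDimBC2.fibreDimAt_abs f g₀ (FBase.bcπ f K)
    (FBase.bcStr f K) hsq y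
  rw [Groth.Agent.Helper2.FibreDimField.fibreDimAt_eq_localDim_of_subsingleton (FBase.bcStr f K),
    Groth.Agent.Helper2.FibreDimField.fibreDimAt_eq_localDim_of_subsingleton f] at h1
  exact h1

theorem S4642_main : topologicalKrullDim ↥(FBase.bc f K) = topologicalKrullDim ↥X := by
  rw [Groth.Agent.Helper8.TopDim2.dim_eq_iSup_localDim,
    Groth.Agent.Helper8.TopDim2.dim_eq_iSup_localDim]
  apply le_antisymm
  · apply iSup_le
    intro y
    rw [localDim_bc f y]
    exact le_iSup (fun x => FlatMor.localDim X x) _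
  · apply iSup_le
    intro x
    obtain ⟨y, rfl⟩ := surjective_bcπ (K := K) f x
    rw [← localDim_bc f y]
    exact le_iSup (fun y => FlatMor.localDim ↥(FBase.bc f K) y) y

/-- the image of a maximal point of the base change is a maximal point -/
theorem max_bcπ (η : ↥(FBase.bc f K)) (hmax : ∀ b, b ⤳ η → η ⤳ b) (b : X)
    (hb : b ⤳ FBase.bcπ f K η) : FBase.bcπ f K η ⤳ b := by
  obtain ⟨b', hb', rfl⟩ := (Flat.generalizingMap (FBase.bcπ f K)) hb
  exact (hmax b' hb').map (FBase.bcπ f K).continuous

theorem S4673_main :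
    (fun Z : Set ↥(FBase.bc f K) => topologicalKrullDim ↥Z) '' irreducibleComponents ↥(FBase.bc f K) =
      (fun Z : Set ↥X => topologicalKrullDim ↥Z) '' irreducibleComponents ↥X := by
  apply Set.Subset.antisymm
  · rintro _ ⟨Z', hZ', rfl⟩
    have hcl : IsClosed Z' := isClosed_of_mem_irreducibleComponents _ hZ'
    obtain ⟨η, hη⟩ := QuasiSober.sober hZ'.1 hcl
    have hmax := max_of_isGenericPoint hZ' hη
    have hmax' := max_bcπ f η hmax
    refine ⟨closure {FBase.bcπ f K η}, closure_mem_irreducibleComponents_of_max _ hmax', ?_⟩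
    change topologicalKrullDim ↥(closure ({FBase.bcπ f K η} : Set X)) = topologicalKrullDim ↥Z'
    rw [dim_closure_eq_localDim_of_max f _ hmax', ← localDim_bc f η,
      ← dim_closure_eq_localDim_of_max (FBase.bcStr f K) η hmax, hη.def]
  · rintro _ ⟨Z, hZ, rfl⟩
    have hcl : IsClosed Z := isClosed_of_mem_irreducibleComponents _ hZ
    obtain ⟨ξ, hξ⟩ := QuasiSober.sober hZ.1 hcl
    have hmax := max_of_isGenericPoint hZ hξ
    obtain ⟨y, hy⟩ := surjective_bcπ (K := K) f ξ
    obtain ⟨η, hη⟩ := QuasiSober.sober (isIrreducible_irreducibleComponent (x := y))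
      isClosed_irreducibleComponent
    have hηmax := max_of_isGenericPoint (irreducibleComponent_mem_irreducibleComponents y) hη
    have hηy : η ⤳ y := by
      rw [specializes_iff_mem_closure, hη.def]; exact mem_irreducibleComponent
    have h1 : FBase.bcπ f K η ⤳ ξ := by
      rw [← hy]; exact hηy.map (FBase.bcπ f K).continuous
    have h2 : ξ ⤳ FBase.bcπ f K η := hmax _ h1
    have heq : FBase.bcπ f K η = ξ := (h1.antisymm h2).eq
    refine ⟨irreducibleComponent y, irreducibleComponent_mem_irreducibleComponents y, ?_⟩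
    change topologicalKrullDim ↥(irreducibleComponent y) = topologicalKrullDim ↥Z
    rw [← hη.def, dim_closure_eq_localDim_of_max (FBase.bcStr f K) η hηmax, localDim_bc f η, heq,
      ← dim_closure_eq_localDim_of_max f ξ hmax, hξ.def]

end BC

section Prod

variable {k : Type u} [Field k] {X Y : Scheme.{u}}
  (f : X ⟶ Spec (CommRingCat.of k)) (g : Y ⟶ Spec (CommRingCat.of k))
  [LocallyOfFiniteType f] [LocallyOfFiniteType g]

include f in
/-- Local dimensions of a scheme locally of finite type over a field are natural numbers. -/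
theorem exists_nat_localDim (x : X) : ∃ n : ℕ, FlatMor.localDim X x = (n : WithBot ℕ∞) := by
  haveI : IsLocallyNoetherian X := LocallyOfFiniteType.isLocallyNoetherian f
  obtain ⟨e, he⟩ := Groth.Agent.Helper7.EtCoord.exists_nat_ringKrullDim (X.presheaf.stalk x)
  refine ⟨e + tr f x, ?_⟩
  rw [Groth.Agent.Helper2.ProdLocalDim.localDim_eq_stalk_add_tr k f x, he]
  push_cast
  rfl

theorem S4643_main :
    topologicalKrullDim ↥(pullback f g) = topologicalKrullDim ↥X + topologicalKrullDim ↥Y := by
  rw [Groth.Agent.Helper8.TopDim2.dim_eq_iSup_localDim (X := ↥(pullback f g)),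
    Groth.Agent.Helper8.TopDim2.dim_eq_iSup_localDim (X := ↥X),
    Groth.Agent.Helper8.TopDim2.dim_eq_iSup_localDim (X := ↥Y)]
  apply le_antisymm
  · apply iSup_le
    intro z
    rw [Groth.Agent.Helper2.ProdLocalDim.localDim_pullback_eq_add k f g z]
    exact add_le_add (le_iSup (fun x => FlatMor.localDim X x) _)
      (le_iSup (fun y => FlatMor.localDim Y y) _)
  · rcases isEmpty_or_nonempty ↥X with hXe | hXe
    · rw [iSup_of_empty, WithBot.bot_add]; exact bot_le
    rcases isEmpty_or_nonempty ↥Y with hYe | hYe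
    · rw [iSup_of_empty (f := fun y : ↥Y => FlatMor.localDim Y y), WithBot.add_bot]; exact bot_le
    have hpt : ∀ (x : X) (y : Y), ∃ z : ↥(pullback f g),
        pullback.fst f g z = x ∧ pullback.snd f g z = y := by
      intro x y
      exact Scheme.Pullback.exists_preimage_pullback (f := f) (g := g) x y
        (by
          haveI : Subsingleton ↥(Spec (CommRingCat.of k)) :=
            inferInstanceAs (Subsingleton (PrimeSpectrum k))
          exact Subsingleton.elim _ _)
    haveI : Nonempty ↥(pullback f g) := by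
      obtain ⟨x⟩ := hXe
      obtain ⟨y⟩ := hYe
      obtain ⟨z, -, -⟩ := hpt x y
      exact ⟨z⟩
    choose lx hlx using exists_nat_localDim f
    choose ly hly using exists_nat_localDim g
    have hz : ∀ z : ↥(pullback f g), FlatMor.localDim ↥(pullback f g) z =
        (((lx (pullback.fst f g z) + ly (pullback.snd f g z) : ℕ) : ℕ∞) : WithBot ℕ∞) := by
      intro z
      rw [Groth.Agent.Helper2.ProdLocalDim.localDim_pullback_eq_add k f g z, hlx, hly]
      push_cast
      rfl
    have hx' : ∀ x : X, FlatMor.localDim X x = (((lx x : ℕ) : ℕ∞) : WithBot ℕ∞) := hlx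
    have hy' : ∀ y : Y, FlatMor.localDim Y y = (((ly y : ℕ) : ℕ∞) : WithBot ℕ∞) := hly
    simp_rw [hz, hx', hy']
    rw [← WithBot.coe_iSup (OrderTop.bddAbove _), ← WithBot.coe_iSup (OrderTop.bddAbove _),
      ← WithBot.coe_iSup (OrderTop.bddAbove _), ← WithBot.coe_add, WithBot.coe_le_coe]
    apply ENat.iSup_add_iSup_le
    intro x y
    obtain ⟨z, hz1, hz2⟩ := hpt x y
    refine le_trans ?_ (le_iSup _ z)
    rw [hz1, hz2]
    push_cast
    rfl

end Prod

section ClosedIrr

/-- irreducible components transfer along homeomorphisms -/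
theorem image_mem_irreducibleComponents {A B : Type*} [TopologicalSpace A] [TopologicalSpace B]
    (e : A ≃ₜ B) {W : Set A} (hW : W ∈ irreducibleComponents A) :
    e '' W ∈ irreducibleComponents B := by
  refine ⟨hW.1.image e e.continuous.continuousOn, ?_⟩
  intro T hT hsub
  have h1 : IsIrreducible (e.symm '' T) := hT.image e.symm e.symm.continuous.continuousOn
  have h2 : W ⊆ e.symm '' T := by
    intro w hw
    exact ⟨e w, hsub ⟨w, hw, rfl⟩, e.symm_apply_apply w⟩
  have h3 := hW.2 h1 h2
  intro t ht
  have h4 : e.symm t ∈ W := h3 ⟨t, ht, rfl⟩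
  exact ⟨e.symm t, h4, e.apply_symm_apply t⟩

variable {k K : Type u} [Field k] [Field K] [Algebra k K] {X : Scheme.{u}}
  (f : X ⟶ Spec (CommRingCat.of k)) [LocallyOfFiniteType f]

theorem S4663_main (Z : Set ↥X) (hZc : IsClosed Z) (hZi : IsIrreducible Z)
    (W : Set ↥(⇑(FBase.bcπ f K) ⁻¹' Z))
    (hW : W ∈ irreducibleComponents ↥(⇑(FBase.bcπ f K) ⁻¹' Z)) :
    topologicalKrullDim ↥W = topologicalKrullDim ↥Z := by
  obtain ⟨I, hI⟩ : ∃ I, I = Scheme.IdealSheafData.vanishingIdeal ⟨Z, hZc⟩ := ⟨_, rfl⟩
  have r : Set.range I.subschemeι = Z := by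
    rw [Scheme.IdealSheafData.range_subschemeι, hI,
      Scheme.IdealSheafData.coe_support_vanishingIdeal]
    rfl
  obtain ⟨Z', i, hi, hrange⟩ : ∃ (Z' : Scheme.{u}) (i : Z' ⟶ X),
      IsClosedImmersion i ∧ Set.range i = Z := ⟨I.subscheme, I.subschemeι, inferInstance, r⟩
  haveI := hi
  have eZ : ↥Z' ≃ₜ ↥Z := (i.isEmbedding.toHomeomorph).trans (Homeomorph.setCongr hrange)
  haveI : IrreducibleSpace ↥Z := Subtype.irreducibleSpace hZi
  haveI : IrreducibleSpace ↥Z' := (eZ.irreducibleSpace_iff).mpr inferInstance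
  haveI : LocallyOfFiniteType (i ≫ f) := inferInstance
  -- the closed subscheme of the base change over `Z`
  have hsnd : IsClosedImmersion (pullback.snd i (FBase.bcπ f K)) :=
    MorphismProperty.pullback_snd _ _ inferInstance
  have hrangeQ : Set.range (pullback.snd i (FBase.bcπ f K)) = ⇑(FBase.bcπ f K) ⁻¹' Z := by
    rw [Scheme.Pullback.range_snd, hrange]
  have e1 : ↥(pullback i (FBase.bcπ f K)) ≃ₜ ↥(⇑(FBase.bcπ f K) ⁻¹' Z) :=
    ((pullback.snd i (FBase.bcπ f K)).isEmbedding.toHomeomorph).trans
      (Homeomorph.setCongr hrangeQ)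
  have e2 : ↥(FBase.bc (i ≫ f) K) ≃ₜ ↥(pullback i (FBase.bcπ f K)) :=
    Scheme.homeoOfIso (pullbackRightPullbackFstIso f
      (Spec.map (CommRingCat.ofHom (algebraMap k K))) i).symm
  obtain ⟨e, -⟩ : ∃ e : ↥(⇑(FBase.bcπ f K) ⁻¹' Z) ≃ₜ ↥(FBase.bc (i ≫ f) K), e = (e2.trans e1).symm :=
    ⟨_, rfl⟩
  have hW' := image_mem_irreducibleComponents e hW
  have hdimW : topologicalKrullDim ↥W = topologicalKrullDim ↥(e '' W) :=
    (e.image W).isHomeomorph.topologicalKrullDim_eq
  have hmem : topologicalKrullDim ↥(e '' W) ∈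
      (fun T : Set ↥(FBase.bc (i ≫ f) K) => topologicalKrullDim ↥T) ''
        irreducibleComponents ↥(FBase.bc (i ≫ f) K) := ⟨_, hW', rfl⟩
  rw [S4673_main (i ≫ f)] at hmem
  obtain ⟨T, hT, hTdim⟩ := hmem
  rw [irreducibleComponents_eq_singleton, Set.mem_singleton_iff] at hT
  rw [hdimW, ← hTdim, hT]
  change topologicalKrullDim ↥(Set.univ : Set ↥Z') = _
  rw [(Homeomorph.Set.univ ↥Z').isHomeomorph.topologicalKrullDim_eq,
    eZ.isHomeomorph.topologicalKrullDim_eq]

end ClosedIrr

end Groth.Agent.Helper2.FieldBCDim
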