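import Mathlib
import Groth.Prelude.Def_Flat
import Groth.Agent.Lib.Helper2.Sch.DimFormula
import Groth.Agent.Lib.Helper2.AlgSp.ChartIndep

/-!
# Etale morphisms preserve the local dimension
-/

set_option autoImplicit false

universe u

open CategoryTheory AlgebraicGeometry TopologicalSpace Topology

namespace Groth.Agent.Helper2.LocalDimEtale

/-- The dimension of an open subset of a scheme is the supremum of the dimensions of the local rings
of the scheme at its points. -/
theorem topologicalKrullDim_opens (X : Scheme.{u}) (V : X.Opens) :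
    topologicalKrullDim ((V : Set ↥X) : Type u) =
      ⨆ v : ((V : Set ↥X) : Type u), ringKrullDim ↥(X.presheaf.stalk v.1) := by
  have h := DimFormula.topologicalKrullDim_eq_iSup V.toScheme
  have h2 : ∀ v : ↥V.toScheme, ringKrullDim ↥(V.toScheme.presheaf.stalk v) =
      ringKrullDim ↥(X.presheaf.stalk v.1) := fun v =>
    ringKrullDim_eq_of_ringEquiv (V.stalkIso v).commRingCatIsoToRingEquiv
  simp only [h2] at h
  exact h

theorem localDim_eq_of_etale {W U : Scheme.{u}} (g : W ⟶ U) [Etale g] (w : ↥W) :
    FlatMor.localDim ↥W w = FlatMor.localDim ↥U (g w) := by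
  unfold FlatMor.localDim
  apply le_antisymm
  · refine le_iInf fun V => ?_
    let W' : W.Opens := g ⁻¹ᵁ V.1
    have hw : w ∈ W' := V.2
    refine iInf_le_of_le ⟨W', hw⟩ ?_
    rw [topologicalKrullDim_opens, topologicalKrullDim_opens]
    refine iSup_le fun w' => ?_
    rw [ChartIndep.ringKrullDim_stalk_eq_of_etale g w'.1]
    exact le_iSup (fun v : ((V.1 : Set ↥U) : Type u) => ringKrullDim ↥(U.presheaf.stalk v.1))
      ⟨g w'.1, w'.2⟩
  · refine le_iInf fun W' => ?_
    let V : U.Opens := ⟨g '' W'.1.1, g.isOpenMap _ W'.1.2⟩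
    have hv : g w ∈ V := ⟨w, W'.2, rfl⟩
    refine iInf_le_of_le ⟨V, hv⟩ ?_
    rw [topologicalKrullDim_opens, topologicalKrullDim_opens]
    refine iSup_le fun v => ?_
    obtain ⟨w', hw', e⟩ := v.2
    have := ChartIndep.ringKrullDim_stalk_eq_of_etale g w'
    rw [e] at this
    rw [← this]
    exact le_iSup (fun v : ((W'.1 : Set ↥W) : Type u) => ringKrullDim ↥(W.presheaf.stalk v.1))
      ⟨w', hw'⟩

theorem etaleInvariant_localDim (d : WithBot ℕ∞) :
    ChartIndep.EtaleInvariant (fun (U : Scheme.{u}) u => FlatMor.localDim ↥U u = d) := by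
  intro W U g hg w
  haveI := hg
  show FlatMor.localDim ↥W w = d ↔ FlatMor.localDim ↥U (g w) = d
  rw [localDim_eq_of_etale g w]

end Groth.Agent.Helper2.LocalDimEtale
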