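import Mathlib
import Groth.Prelude.Def_Flat
import Groth.Agent.Lib.Helper7.EtCoord.RankDim
import Groth.Agent.Lib.Helper2.Sch.LocalDimEtale

/-!
# The fibres of a morphism smooth of relative dimension `n` have local dimension `n` (S2768)
(helper2)
-/

set_option autoImplicit false
set_option linter.style.haveILetI false
set_option linter.unusedSectionVars false

universe u

open CategoryTheory CategoryTheory.Limits AlgebraicGeometry TopologicalSpace Topology TensorProduct

namespace Groth.Agent.Helper2.SmoothRelDim

open Groth.Agent.Helper7.EtCoord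

/-- At a smooth point of a finite type algebra over a field, the local dimension is the rank of
the fibre of the differentials. -/
theorem localDim_eq_finrank_of_isSmoothAt {k S : Type u} [Field k] [CommRing S] [Algebra k S]
    [Algebra.FiniteType k S] (q : Ideal S) [q.IsPrime] [Algebra.IsSmoothAt k q] :
    FlatMor.localDim (PrimeSpectrum S) ⟨q, inferInstance⟩ =
      ((Module.finrank q.ResidueField (q.ResidueField ⊗[S] Ω[S⁄k]) : ℕ) : WithBot ℕ∞) := by
  obtain ⟨g, hli, hspan⟩ := exists_coords k S q
  generalize Module.finrank q.ResidueField (q.ResidueField ⊗[S] Ω[S⁄k]) = r at g hli hspan ⊢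
  letI : Algebra (MvPolynomial (Fin r) k) S := (MvPolynomial.aeval g).toRingHom.toAlgebra
  haveI : IsScalarTower k (MvPolynomial (Fin r) k) S :=
    IsScalarTower.of_algebraMap_eq' (MvPolynomial.aeval g).comp_algebraMap.symm
  have hX : ∀ i, algebraMap (MvPolynomial (Fin r) k) S (MvPolynomial.X i) = g i :=
    fun i => MvPolynomial.aeval_X g i
  have hfun : (fun i : Fin r => (1 : q.ResidueField) ⊗ₜ[S] KaehlerDifferential.D k S
      (algebraMap (MvPolynomial (Fin r) k) S (MvPolynomial.X i))) =
      fun i => (1 : q.ResidueField) ⊗ₜ[S] KaehlerDifferential.D k S (g i) := by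
    funext i; rw [hX]
  rw [← hfun] at hli hspan
  haveI := isEtaleAt_of_basis_of_isSmoothAt k S r q hli hspan
  exact localDim_eq_of_isEtaleAt k S r q

/-- The spectrum of a standard smooth algebra of relative dimension `n` over a field has local
dimension `n` at every point. -/
theorem localDim_eq_of_isStandardSmoothOfRelativeDimension {k A : Type u} [Field k] [CommRing A]
    [Algebra k A] (n : ℕ) [Algebra.IsStandardSmoothOfRelativeDimension n k A]
    (q : Ideal A) [q.IsPrime] :
    FlatMor.localDim (PrimeSpectrum A) ⟨q, inferInstance⟩ = (n : WithBot ℕ∞) := by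
  haveI : Algebra.IsStandardSmooth k A :=
    Algebra.IsStandardSmoothOfRelativeDimension.isStandardSmooth n
  haveI : Algebra.FiniteType k A := inferInstance
  haveI : Nontrivial A := ⟨⟨0, 1, fun h => ‹q.IsPrime›.ne_top
    ((Ideal.eq_top_iff_one q).2 (h ▸ q.zero_mem))⟩⟩
  haveI : Algebra.FormallySmooth A (Localization.AtPrime q) :=
    haveI : Algebra.FormallyEtale A (Localization.AtPrime q) :=
      Algebra.FormallyEtale.of_isLocalization q.primeCompl
    inferInstance
  haveI : Algebra.IsSmoothAt k q :=
    Algebra.FormallySmooth.comp k A (Localization.AtPrime q)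
  rw [localDim_eq_finrank_of_isSmoothAt (k := k) q]
  have h1 : Module.rank A Ω[A⁄k] = n :=
    Algebra.IsStandardSmoothOfRelativeDimension.rank_kaehlerDifferential n
  have h2 : Module.finrank q.ResidueField (q.ResidueField ⊗[A] Ω[A⁄k]) =
      Module.finrank A Ω[A⁄k] := Module.finrank_baseChange
  have h3 : Module.finrank A Ω[A⁄k] = n := by
    rw [Module.finrank, h1]; simp
  rw [h2, h3]

end Groth.Agent.Helper2.SmoothRelDim
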