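import Mathlib
import Groth.Prelude.Def_Flat
import Groth.Agent.Lib.Helper2.Sch.SmoothRelDim

/-!
# The fibres of a morphism smooth of relative dimension `n` have local dimension `n` (S2768)
(helper2), scheme part
-/

set_option autoImplicit false
set_option linter.style.haveILetI false
set_option linter.unusedSectionVars false

universe u

open CategoryTheory CategoryTheory.Limits AlgebraicGeometry TopologicalSpace Topology TensorProduct

namespace Groth.Agent.Helper2.SmoothRelDim

/-- A scheme smooth of relative dimension `n` over a field has local dimension `n` everywhere. -/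
theorem localDim_eq_of_smoothOfRelativeDimension_field (n : ℕ) {F : Scheme.{u}}
    (K : Type u) [Field K] (g : F ⟶ Spec (.of K)) [SmoothOfRelativeDimension n g] (z : F) :
    FlatMor.localDim F z = (n : WithBot ℕ∞) := by
  obtain ⟨U, hU, V, hV, hz, e, hstd⟩ :=
    SmoothOfRelativeDimension.exists_isStandardSmoothOfRelativeDimension (n := n) (f := g) z
  have hUtop : U = ⊤ := by
    ext w
    simp only [Opens.coe_top, Set.mem_univ, iff_true]
    have hgz : g z ∈ U := e hz
    haveI : Subsingleton ↥(Spec (.of K)) := inferInstanceAs (Subsingleton (PrimeSpectrum K))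
    rw [Subsingleton.elim w (g z)]
    exact hgz
  subst hUtop
  let eK : K ≃+* Γ(Spec (.of K), ⊤) := (Scheme.ΓSpecIso (.of K)).symm.commRingCatIsoToRingEquiv
  have hψ : ((g.appLE ⊤ V e).hom.comp eK.toRingHom).IsStandardSmoothOfRelativeDimension n :=
    (RingHom.isStandardSmoothOfRelativeDimension_respectsIso (n := n)).2 _ eK hstd
  algebraize [(g.appLE ⊤ V e).hom.comp eK.toRingHom]
  let z' : V.toScheme := ⟨z, hz⟩
  have h1 : FlatMor.localDim V.toScheme z' = FlatMor.localDim F z :=
    LocalDimEtale.localDim_eq_of_etale V.ι z'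
  have h2 : FlatMor.localDim V.toScheme z' = FlatMor.localDim (Spec Γ(F, V)) (hV.isoSpec.hom z') :=
    LocalDimEtale.localDim_eq_of_etale hV.isoSpec.hom z'
  rw [← h1, h2]
  obtain ⟨p, hp⟩ : ∃ p : PrimeSpectrum Γ(F, V), p = hV.isoSpec.hom z' := ⟨_, rfl⟩
  rw [← hp]
  haveI := p.isPrime
  exact localDim_eq_of_isStandardSmoothOfRelativeDimension (k := K) n p.asIdeal

/-- S2768 -/
theorem S2768_main (n : ℕ) {X Y : Scheme.{u}} (f : X ⟶ Y)
    [SmoothOfRelativeDimension n f] (x : X) :
    FlatMor.fibreDimAt f x = (n : WithBot ℕ∞) := by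
  haveI := smoothOfRelativeDimension_isStableUnderBaseChange n
  haveI : SmoothOfRelativeDimension n (f.fiberToSpecResidueField (f x)) :=
    MorphismProperty.pullback_snd (P := @SmoothOfRelativeDimension n) _ _ inferInstance
  exact localDim_eq_of_smoothOfRelativeDimension_field n (Y.residueField (f x))
    (f.fiberToSpecResidueField (f x)) (f.asFiber x)

end Groth.Agent.Helper2.SmoothRelDim
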