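import Mathlib
import Groth.Prelude.Def_Flat
import Groth.Agent.Lib.Helper2.Sch.SmoothRelDim2
import Groth.Agent.Lib.Helper2.FibDim.EtaleLocal
import Groth.Agent.Lib.Helper2.FibDim.FlatLocalDim

/-!
# For a smooth morphism the fibre dimension is locally constant on the source, and the local
dimension formula (helper2)
-/

set_option autoImplicit false
set_option linter.style.haveILetI false
set_option linter.unusedSectionVars false

universe u

open CategoryTheory CategoryTheory.Limits AlgebraicGeometry TopologicalSpace Topology TensorProduct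

namespace Groth.Agent.Helper2.SmoothRelDim

open RingHom in
/-- If the ring map of a pair of affine opens is standard smooth of relative dimension `n`, the
restriction of the morphism is smooth of relative dimension `n`. -/
theorem smoothOfRelativeDimension_resLE (n : ℕ) {X Y : Scheme.{u}} (f : X ⟶ Y)
    (U : Y.affineOpens) (V : X.affineOpens) (e : V.1 ≤ f ⁻¹ᵁ U.1)
    (hf : IsStandardSmoothOfRelativeDimension n (f.appLE U V e).hom) :
    SmoothOfRelativeDimension n (f.resLE U V e) := by
  haveI : IsAffine U.1.toScheme := U.2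
  haveI : IsAffine V.1.toScheme := V.2
  rw [HasRingHomProperty.iff_of_isAffine (P := @SmoothOfRelativeDimension n)]
  simp only [Scheme.Hom.appLE, homOfLE_leOfHom] at hf ⊢
  have : (toMorphismProperty (Locally (IsStandardSmoothOfRelativeDimension n))).RespectsIso :=
    toMorphismProperty_respectsIso_iff.mp <|
      (HasRingHomProperty.isLocal_ringHomProperty (@SmoothOfRelativeDimension n)).respectsIso
  exact (MorphismProperty.arrow_mk_iso_iff
    (toMorphismProperty (Locally (IsStandardSmoothOfRelativeDimension n)))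
    (arrowResLEAppIso f U V e)).mpr
      (locally_of isStandardSmoothOfRelativeDimension_respectsIso _ hf)

/-- the fibre dimension of a smooth morphism is locally constant on the source -/
theorem exists_open_fibreDimAt_eq {X Y : Scheme.{u}} (f : X ⟶ Y) [Smooth f] (x : X) :
    ∃ (n : ℕ) (V : X.Opens), x ∈ V ∧ ∀ v ∈ V, FlatMor.fibreDimAt f v = (n : WithBot ℕ∞) := by
  obtain ⟨U, hU, V, hV, hx, e, hstd⟩ := Smooth.exists_isStandardSmooth f x
  obtain ⟨n, hn⟩ : ∃ n : ℕ, RingHom.IsStandardSmoothOfRelativeDimension n (f.appLE U V e).hom := by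
    algebraize [(f.appLE U V e).hom]
    obtain ⟨ι, σ, _, _, ⟨P⟩⟩ := (‹Algebra.IsStandardSmooth Γ(Y, U) Γ(X, V)›).out
    exact ⟨P.dimension, ⟨ι, σ, inferInstance, inferInstance, P, rfl⟩⟩
  refine ⟨n, V, hx, fun v hv => ?_⟩
  haveI := smoothOfRelativeDimension_resLE n f ⟨U, hU⟩ ⟨V, hV⟩ e hn
  have h1 := S2768_main n (f.resLE U V e) ⟨v, hv⟩
  rw [← h1]
  exact Groth.Agent.Helper2.FibDim.S7408_main f (f.resLE U V e) V.ι U.ι
    (Scheme.Hom.resLE_comp_ι f e) ⟨v, hv⟩

/-- the local dimension formula for smooth morphisms -/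
theorem localDim_eq_add_fibreDimAt_of_smooth {X Y : Scheme.{u}} [IsLocallyNoetherian Y]
    (f : X ⟶ Y) [Smooth f] (x : X) :
    FlatMor.localDim ↑X x = FlatMor.localDim ↑Y (f x) + FlatMor.fibreDimAt f x := by
  obtain ⟨n, V, hx, hV⟩ := exists_open_fibreDimAt_eq f x
  rw [hV x hx]
  have hall : ∀ v : ↥V, FlatMor.fibreDimAt (V.ι ≫ f) v = (n : WithBot ℕ∞) := by
    intro v
    rw [← hV v.1 v.2]
    exact (Groth.Agent.Helper2.FibDim.S7408_main f (V.ι ≫ f) V.ι (𝟙 Y)
      (by rw [Category.comp_id]) v).symm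
  have h1 := Groth.Agent.Helper2.FibDim.localDim_eq_add_of_fibreDimAt (V.ι ≫ f) n hall ⟨x, hx⟩
  have h2 : FlatMor.localDim ↥V ⟨x, hx⟩ = FlatMor.localDim ↑X x :=
    LocalDimEtale.localDim_eq_of_etale V.ι ⟨x, hx⟩
  rw [← h2]
  exact h1

end Groth.Agent.Helper2.SmoothRelDim
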