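import Mathlib
import Groth.Prelude.Def_Flat
import Groth.Prelude.Def_Omega3
import Groth.Prelude.Def_FlatMod2
import Groth.Agent.Lib.Helper2.Sch.SmoothRelDim3
import Groth.Agent.Lib.Lead.OmU5
import Groth.Agent.Lib.Lead.FLF4
import Groth.Agent.Lib.Lead.FLF6

/-!
# The sheaf of differentials of a smooth morphism is locally free of rank the fibre dimension
(S5019) (helper2)
-/

set_option autoImplicit false
set_option linter.style.haveILetI false
set_option linter.unusedSectionVars false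
set_option backward.isDefEq.respectTransparency.types false

universe u

open CategoryTheory CategoryTheory.Limits AlgebraicGeometry TopologicalSpace Topology TensorProduct

namespace Groth.Agent.Helper2.SmoothRelDim

/-- around every point of the source of a smooth morphism there is a pair of affine opens whose
ring map is standard smooth of some relative dimension `n`, which is the fibre dimension -/
theorem exists_affine_standardSmooth {X Y : Scheme.{u}} (f : X ⟶ Y) [Smooth f] (x : X) :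
    ∃ (U : Y.Opens) (_ : IsAffineOpen U) (V : X.Opens) (_ : IsAffineOpen V) (_ : x ∈ V)
      (e : V ≤ f ⁻¹ᵁ U) (n : ℕ),
      RingHom.IsStandardSmoothOfRelativeDimension n (f.appLE U V e).hom ∧
        ∀ v ∈ V, FlatMor.fibreDimAt f v = (n : WithBot ℕ∞) := by
  obtain ⟨U, hU, V, hV, hx, e, hstd⟩ := Smooth.exists_isStandardSmooth f x
  obtain ⟨n, hn⟩ : ∃ n : ℕ, RingHom.IsStandardSmoothOfRelativeDimension n (f.appLE U V e).hom := by
    algebraize [(f.appLE U V e).hom]
    obtain ⟨ι, σ, _, _, ⟨P⟩⟩ := (‹Algebra.IsStandardSmooth Γ(Y, U) Γ(X, V)›).out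
    exact ⟨P.dimension, ⟨ι, σ, inferInstance, inferInstance, P, rfl⟩⟩
  refine ⟨U, hU, V, hV, hx, e, n, hn, fun v hv => ?_⟩
  haveI := smoothOfRelativeDimension_resLE n f ⟨U, hU⟩ ⟨V, hV⟩ e hn
  have h1 := S2768_main n (f.resLE U V e) ⟨v, hv⟩
  rw [← h1]
  exact Groth.Agent.Helper2.FibDim.S7408_main f (f.resLE U V e) V.ι U.ι
    (Scheme.Hom.resLE_comp_ι f e) ⟨v, hv⟩

open OmegaSh Groth.Agent.Lead.OmU Groth.Agent.Lead.FLF in
/-- S5019 -/
theorem S5019_main {X Y : Scheme.{u}} (f : X ⟶ Y) [Smooth f]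
    (Ω' : X.Modules) (d : OmegaSh.Der f Ω') (hd : OmegaSh.IsUniversal d) (x : ↥X) :
    ∃ (U : X.Opens) (n : ℕ), x ∈ U ∧ Nonempty (Ω'.restrict U.ι ≅ FlatMod.freeMod (↑U) n) ∧
      FlatMor.fibreDimAt f x = (n : WithBot ℕ∞) := by
  classical
  haveI := isQuasicoherent_of_universal d hd
  -- the sections over the good affine opens are free of rank the fibre dimension
  have key : ∀ x : X, ∃ (V : X.Opens) (hV : IsAffineOpen V) (_ : x ∈ V) (n : ℕ),
      Module.Free Γ(X, V) Γ(Ω', V) ∧ Module.Finite Γ(X, V) Γ(Ω', V) ∧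
      (∀ p : PrimeSpectrum Γ(X, V), Module.rankAtStalk (R := Γ(X, V)) Γ(Ω', V) p = n) ∧
      FlatMor.fibreDimAt f x = (n : WithBot ℕ∞) := by
    intro x
    obtain ⟨U, hU, V, hV, hx, e, n, hn, hfib⟩ := exists_affine_standardSmooth f x
    refine ⟨V, hV, hx, n, ?_⟩
    letI := (f.appLE U V e).hom.toAlgebra
    haveI : Algebra.IsStandardSmoothOfRelativeDimension n Γ(Y, U) Γ(X, V) := hn
    haveI : Algebra.IsStandardSmooth Γ(Y, U) Γ(X, V) :=
      Algebra.IsStandardSmoothOfRelativeDimension.isStandardSmooth n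
    haveI : Nontrivial Γ(X, V) := by
      haveI : Nonempty ↥V := ⟨⟨x, hx⟩⟩
      infer_instance
    have E := sectionsKaehler f d hd hV hU e
    haveI : Module.Free Γ(X, V) Ω[Γ(X, V)⁄Γ(Y, U)] := inferInstance
    haveI : Module.Finite Γ(X, V) Ω[Γ(X, V)⁄Γ(Y, U)] := inferInstance
    have hfree : Module.Free Γ(X, V) Γ(Ω', V) := Module.Free.of_equiv E.symm
    have hfin : Module.Finite Γ(X, V) Γ(Ω', V) := Module.Finite.equiv E.symm
    refine ⟨hfree, hfin, fun p => ?_, hfib x hx⟩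
    rw [Module.rankAtStalk_eq_of_equiv E, Module.rankAtStalk_eq_finrank_of_free]
    have h1 : Module.rank Γ(X, V) Ω[Γ(X, V)⁄Γ(Y, U)] = n :=
      Algebra.IsStandardSmoothOfRelativeDimension.rank_kaehlerDifferential n
    rw [Module.finrank, h1]
    simp
  have hM : FlatMod.IsFinLocFree Ω' := by
    apply isFinLocFree_of_affine_nhds
    intro x
    obtain ⟨V, hV, hx, n, hfree, hfin, -, -⟩ := key x
    exact ⟨V, hV, hx, hfin, inferInstance⟩
  obtain ⟨V, hV, hx, n, -, -, hrank, hfib⟩ := key x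
  obtain ⟨W, m, hxW, ⟨e⟩⟩ := hM x
  have h1 := rankAtStalk_of_free_nhds Ω' hM hV ⟨x, hx⟩ W hxW m e
  rw [hrank] at h1
  subst h1
  exact ⟨W, n, hxW, ⟨e⟩, hfib⟩

end Groth.Agent.Helper2.SmoothRelDim
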