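import Mathlib
import Groth.Agent.Lib.Helper4.UnramDescent1

/-!
# Pointwise flatness of morphisms of schemes (helper2)
-/

set_option backward.isDefEq.respectTransparency.types false
set_option autoImplicit false
set_option linter.unusedSectionVars false
set_option linter.style.haveILetI false
universe u
open CategoryTheory CategoryTheory.Limits AlgebraicGeometry TopologicalSpace

namespace Groth.Agent.Helper2.FlatPt

variable {X Y Z : Scheme.{u}}

/-- `f` is flat at the point `x`. -/
def FlatAt (f : X ⟶ Y) (x : X) : Prop := (f.stalkMap x).hom.Flat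

theorem flatAt_of_flat (f : X ⟶ Y) [Flat f] (x : X) : FlatAt f x := Flat.stalkMap f x

theorem flat_iff_forall_flatAt (f : X ⟶ Y) : Flat f ↔ ∀ x, FlatAt f x :=
  Flat.iff_flat_stalkMap f

theorem FlatAt.comp {f : X ⟶ Y} {g : Y ⟶ Z} {x : X} (hf : FlatAt f x) (hg : FlatAt g (f x)) :
    FlatAt (f ≫ g) x := by
  unfold FlatAt at *
  rw [Scheme.Hom.stalkMap_comp]
  change (((f.stalkMap x).hom).comp (g.stalkMap (f x)).hom).Flat
  exact RingHom.Flat.comp hg hf

theorem flatAt_congr {f g : X ⟶ Y} (h : f = g) (x : X) : FlatAt f x ↔ FlatAt g x := by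
  subst h; rfl

/-- Descent of flatness at a point along a morphism flat at a point. -/
theorem FlatAt.of_comp {f : X ⟶ Y} {g : Y ⟶ Z} {x : X} (hfg : FlatAt (f ≫ g) x)
    (hf : FlatAt f x) : FlatAt g (f x) := by
  unfold FlatAt at *
  rw [Scheme.Hom.stalkMap_comp] at hfg
  change (((f.stalkMap x).hom).comp (g.stalkMap (f x)).hom).Flat at hfg
  algebraize [(g.stalkMap (f x)).hom, (f.stalkMap x).hom,
    ((f.stalkMap x).hom).comp (g.stalkMap (f x)).hom]
  haveI : IsLocalHom (algebraMap (Y.presheaf.stalk (f x)) (X.presheaf.stalk x)) :=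
    inferInstanceAs (IsLocalHom (f.stalkMap x).hom)
  haveI : Module.Flat (Y.presheaf.stalk (f x)) (X.presheaf.stalk x) := hf
  haveI : Module.Flat (Z.presheaf.stalk (g (f x))) (X.presheaf.stalk x) := hfg
  haveI : Module.FaithfullyFlat (Y.presheaf.stalk (f x)) (X.presheaf.stalk x) :=
    Module.FaithfullyFlat.of_flat_of_isLocalHom
  exact Groth.Agent.Lib.Helper4.UnramDescent1.flat_of_flat_of_faithfullyFlat
    (Z.presheaf.stalk (g (f x))) (Y.presheaf.stalk (f x)) (X.presheaf.stalk x)

theorem flatAt_of_isIso (f : X ⟶ Y) [IsIso f] (x : X) : FlatAt f x := flatAt_of_flat f x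

/-- Flatness at a point can be tested on an open subscheme of the source. -/
theorem flatAt_comp_openImmersion_iff {V : Scheme.{u}} (j : V ⟶ X) [IsOpenImmersion j]
    (f : X ⟶ Y) (v : V) : FlatAt (j ≫ f) v ↔ FlatAt f (j v) :=
  ⟨fun h => FlatAt.of_comp h (flatAt_of_flat j v), fun h => FlatAt.comp (flatAt_of_flat j v) h⟩

/-- Base change of flatness at a point, when the flat locus is open. -/
theorem flatAt_of_isPullback {X S X' S' : Scheme.{u}} (f : X ⟶ S) (g : S' ⟶ S)
    (f' : X' ⟶ S') (g' : X' ⟶ X) (h : IsPullback g' f' f g)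
    (hopen : IsOpen {x : X | FlatAt f x}) (x' : X') (hx' : FlatAt f (g' x')) : FlatAt f' x' := by
  obtain ⟨F, hF⟩ : ∃ F : X.Opens, (F : Set X) = {x : X | FlatAt f x} := ⟨⟨_, hopen⟩, rfl⟩
  have h1 : Flat (F.ι ≫ f) := by
    rw [flat_iff_forall_flatAt]
    intro v
    rw [flatAt_comp_openImmersion_iff]
    have : F.ι v ∈ (F : Set X) := v.2
    rw [hF] at this
    exact this
  have sq := (isPullback_morphismRestrict g' F).paste_vert h
  have h2 : Flat ((g' ⁻¹ᵁ F).ι ≫ f') := MorphismProperty.of_isPullback (P := @Flat) sq h1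
  have hx'F : x' ∈ g' ⁻¹ᵁ F := by
    show g' x' ∈ (F : Set X)
    rw [hF]; exact hx'
  have h3 := (flatAt_comp_openImmersion_iff (g' ⁻¹ᵁ F).ι f' ⟨x', hx'F⟩).1
    (flatAt_of_flat _ _)
  exact h3

/-- Descent of flatness at a point along a flat base change. -/
theorem flatAt_of_isPullback_of_flat {X S X' S' : Scheme.{u}} (f : X ⟶ S) (g : S' ⟶ S)
    (f' : X' ⟶ S') (g' : X' ⟶ X) (h : IsPullback g' f' f g) [Flat g]
    (x' : X') (hx' : FlatAt f' x') : FlatAt f (g' x') := by
  haveI : Flat g' := MorphismProperty.of_isPullback (P := @Flat) h.flip inferInstance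
  have h1 : FlatAt (f' ≫ g) x' := FlatAt.comp hx' (flatAt_of_flat g _)
  have h2 : FlatAt (g' ≫ f) x' := (flatAt_congr h.w x').2 h1
  exact FlatAt.of_comp h2 (flatAt_of_flat g' x')

end Groth.Agent.Helper2.FlatPt
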