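import Mathlib
import Groth.Prelude.Def_Flat
import Groth.Agent.Lib.Helper4.GrpShear1

/-!
# Homomorphisms of group schemes: homogeneity (helper2)

For a homomorphism `u : G ⟶ H` of group schemes over a base `S`, the morphism
`G ◁ u : G ×_S G ⟶ G ×_S H` is the base change of `u` along the second projection and commutes
with the shear automorphisms.  Any two points of `G` in the same fibre are of the form `snd z`
and `μ z` for a point `z` of `G ×_S G`.
-/

set_option backward.isDefEq.respectTransparency.types false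
set_option synthInstance.maxHeartbeats 400000
set_option autoImplicit false
set_option linter.unusedSectionVars false
set_option linter.style.haveILetI false
universe u
open CategoryTheory CategoryTheory.Limits AlgebraicGeometry TopologicalSpace
open MonoidalCategory CartesianMonoidalCategory MonObj GrpObj
open Groth.Agent.Lib.Helper4.GrpShear1

namespace Groth.Agent.Helper2.GrpHom

section Cat

variable {C : Type*} [Category C] [CartesianMonoidalCategory C] {G H : C} [GrpObj G] [GrpObj H]
  (u : G ⟶ H) [IsMonHom u]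

lemma mul_comp {T : C} (a b : T ⟶ G) : (a * b) ≫ u = (a ≫ u) * (b ≫ u) :=
  map_mul (IsMonHom.monoidHom u T) a b

/-- `G ◁ u` intertwines the shear maps. -/
lemma whiskerLeft_shear : (G ◁ u) ≫ shear u = shear (𝟙 G) ≫ (G ◁ u) := by
  apply CartesianMonoidalCategory.hom_ext
  · rw [Category.assoc, shear_fst, Category.assoc, whiskerLeft_fst, shear_fst]
  · rw [Category.assoc, shear_snd, MonObj.comp_mul, ← Category.assoc, whiskerLeft_fst,
      whiskerLeft_snd, Category.assoc, whiskerLeft_snd, ← Category.assoc, shear_snd, mul_comp,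
      Category.assoc, Category.id_comp]

lemma shear_id_snd : shear (𝟙 G) ≫ snd G G = μ[G] := by
  rw [shear_snd, Category.comp_id, Hom.mul_def]
  have : lift (fst G G) (snd G G) = 𝟙 _ := by
    apply CartesianMonoidalCategory.hom_ext <;> simp
  rw [this, Category.id_comp]

end Cat

section Sch

variable {S : Scheme.{u}} {G H : Over S} [GrpObj G] [GrpObj H] (u : G ⟶ H) [IsMonHom u]

/-- `G ◁ u : G ×_S G ⟶ G ×_S H` is the base change of `u` along the second projection. -/
theorem isPullback_whiskerLeft :
    IsPullback (snd G G).left (G ◁ u).left u.left (snd G H).left := by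
  have t : IsPullback (fst G H).left (snd G H).left G.hom H.hom :=
    IsPullback.of_hasPullback G.hom H.hom
  have o : IsPullback (fst G G).left (snd G G).left G.hom G.hom :=
    IsPullback.of_hasPullback G.hom G.hom
  have e1 : (G ◁ u).left ≫ (fst G H).left = (fst G G).left := by
    rw [← Over.comp_left, whiskerLeft_fst]
  have e2 : u.left ≫ H.hom = G.hom := Over.w u
  have p : (G ◁ u).left ≫ (snd G H).left = (snd G G).left ≫ u.left := by
    rw [← Over.comp_left, whiskerLeft_snd, Over.comp_left]
  have s : IsPullback ((G ◁ u).left ≫ (fst G H).left) (snd G G).left G.hom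
      (u.left ≫ H.hom) := by
    rw [e1, e2]; exact o
  exact (IsPullback.of_right s p t).flip

omit [GrpObj H] in
/-- Two points of `G` in the same fibre over `S` are `snd z` and `μ z` for some point `z` of
`G ×_S G`. -/
theorem exists_snd_mul (g g' : G.left) (h : G.hom g = G.hom g') :
    ∃ z : (G ⊗ G).left, (snd G G).left z = g ∧ μ[G].left z = g' := by
  obtain ⟨w, hw1, hw2⟩ := Scheme.Pullback.exists_preimage_pullback (f := G.hom) (g := G.hom)
    g' g h.symm
  obtain ⟨jj, hjj⟩ : ∃ jj : Spec ((pullback G.hom G.hom).residueField w) ⟶ (G ⊗ G).left,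
      jj = (pullback G.hom G.hom).fromSpecResidueField w := ⟨_, rfl⟩
  have w1 : (jj ≫ (fst G G).left) ≫ G.hom = jj ≫ (G ⊗ G).hom := by
    rw [Category.assoc, Over.w]
  have w2 : (jj ≫ (snd G G).left) ≫ G.hom = jj ≫ (G ⊗ G).hom := by
    rw [Category.assoc, Over.w]
  obtain ⟨a', ha'⟩ : ∃ a' : Over.mk (jj ≫ (G ⊗ G).hom) ⟶ G, a'.left = jj ≫ (fst G G).left :=
    ⟨Over.homMk (jj ≫ (fst G G).left) w1, rfl⟩
  obtain ⟨a, ha⟩ : ∃ a : Over.mk (jj ≫ (G ⊗ G).hom) ⟶ G, a.left = jj ≫ (snd G G).left :=
    ⟨Over.homMk (jj ≫ (snd G G).left) w2, rfl⟩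
  obtain ⟨zT, hzT⟩ : ∃ zT : Over.mk (jj ≫ (G ⊗ G).hom) ⟶ G ⊗ G, zT = lift (a' * a⁻¹) a :=
    ⟨_, rfl⟩
  have k1 : zT ≫ snd G G = a := by rw [hzT, lift_snd]
  have k2 : zT ≫ μ[G] = a' := by
    rw [hzT, ← Hom.mul_def, inv_mul_cancel_right]
  obtain ⟨pt⟩ : Nonempty ↥(Spec ((pullback G.hom G.hom).residueField w)) := inferInstance
  refine ⟨zT.left pt, ?_, ?_⟩
  · rw [← Scheme.Hom.comp_apply, ← Over.comp_left, k1, ha]
    rw [Scheme.Hom.comp_apply, hjj, (pullback G.hom G.hom).fromSpecResidueField_apply w pt]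
    exact hw2
  · rw [← Scheme.Hom.comp_apply, ← Over.comp_left, k2, ha']
    rw [Scheme.Hom.comp_apply, hjj, (pullback G.hom G.hom).fromSpecResidueField_apply w pt]
    exact hw1

end Sch

end Groth.Agent.Helper2.GrpHom
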