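import Mathlib
import Groth.Prelude.Def_Flat
import Groth.Agent.Lib.Helper2.Sch.GrpHom
import Groth.Agent.Lib.Helper2.Sch.FlatAt
import Groth.Agent.Lib.Helper4.FibDimBC2

/-!
# Homogeneity of flatness and fibre dimension for homomorphisms of group schemes (helper2)
-/

set_option backward.isDefEq.respectTransparency.types false
set_option synthInstance.maxHeartbeats 400000
set_option autoImplicit false
set_option linter.unusedSectionVars false
set_option linter.style.haveILetI false
universe u
open CategoryTheory CategoryTheory.Limits AlgebraicGeometry TopologicalSpace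
open MonoidalCategory CartesianMonoidalCategory MonObj GrpObj
open Groth.Agent.Lib.Helper4.GrpShear1 Groth.Agent.Helper2.FlatPt

namespace Groth.Agent.Helper2.GrpHom

variable {S : Scheme.{u}} {G H : Over S} [GrpObj G] [GrpObj H] (u : G ⟶ H) [IsMonHom u]

lemma shear_left_comp :
    (shear (𝟙 G)).left ≫ (G ◁ u).left = (G ◁ u).left ≫ (shear u).left := by
  rw [← Over.comp_left, ← Over.comp_left, whiskerLeft_shear]

instance isIso_shear_left {T : Over S} (a : T ⟶ H) : IsIso (shear a).left :=
  inferInstanceAs (IsIso ((Over.forget _).map (shear a)))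

/-- For a homomorphism of group schemes with flat source, flatness at one point of a fibre of
`G → S` implies flatness at all points of this fibre (when the flat locus is open). -/
theorem flatAt_of_flatAt [Flat G.hom] (hopen : IsOpen {x : G.left | FlatAt u.left x})
    (g g' : G.left) (h : G.hom g = G.hom g') (hg : FlatAt u.left g) : FlatAt u.left g' := by
  obtain ⟨z, hz1, hz2⟩ := exists_snd_mul g g' h
  have sq := isPullback_whiskerLeft u
  have k1 : FlatAt (G ◁ u).left z :=
    flatAt_of_isPullback u.left (snd G H).left (G ◁ u).left (snd G G).left sq hopen z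
      (hz1 ▸ hg)
  have k2 : FlatAt ((G ◁ u).left ≫ (shear u).left) z :=
    FlatAt.comp k1 (flatAt_of_isIso _ _)
  have k3 : FlatAt ((shear (𝟙 G)).left ≫ (G ◁ u).left) z :=
    (flatAt_congr (shear_left_comp u) z).2 k2
  have k4 : FlatAt (G ◁ u).left ((shear (𝟙 G)).left z) :=
    FlatAt.of_comp k3 (flatAt_of_isIso _ _)
  haveI : Flat (snd G H).left := by
    rw [Over.snd_left]; infer_instance
  have k5 := flatAt_of_isPullback_of_flat u.left (snd G H).left (G ◁ u).left (snd G G).left sq
    _ k4
  rwa [← Scheme.Hom.comp_apply, ← Over.comp_left, shear_id_snd, hz2] at k5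

/-- The fibre dimension of a homomorphism of group schemes is constant on the fibres of
`G → S`. -/
theorem fibreDimAt_eq [LocallyOfFiniteType u.left] (g g' : G.left) (h : G.hom g = G.hom g') :
    FlatMor.fibreDimAt u.left g = FlatMor.fibreDimAt u.left g' := by
  obtain ⟨z, hz1, hz2⟩ := exists_snd_mul g g' h
  have sq := isPullback_whiskerLeft u
  haveI : LocallyOfFiniteType (G ◁ u).left :=
    MorphismProperty.of_isPullback (P := @LocallyOfFiniteType) sq inferInstance
  have k1 := Groth.Agent.Lib.Helper4.FibDimBC2.fibreDimAt_abs u.left (snd G H).left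
    (snd G G).left (G ◁ u).left sq z
  have k2 := Groth.Agent.Lib.Helper4.FibDimBC2.fibreDimAt_abs u.left (snd G H).left
    (snd G G).left (G ◁ u).left sq ((shear (𝟙 G)).left z)
  rw [← Scheme.Hom.comp_apply, ← Over.comp_left, shear_id_snd, hz2] at k2
  rw [hz1] at k1
  rw [← k1, ← k2]
  -- invariance under the shear isomorphisms
  have sq2 : IsPullback (shear (𝟙 G)).left (G ◁ u).left (G ◁ u).left (shear u).left :=
    IsPullback.of_horiz_isIso ⟨shear_left_comp u⟩
  exact Groth.Agent.Lib.Helper4.FibDimBC2.fibreDimAt_abs (G ◁ u).left (shear u).left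
    (shear (𝟙 G)).left (G ◁ u).left sq2 z

end Groth.Agent.Helper2.GrpHom
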