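import Mathlib
import Groth.Prelude.Def_Flat
import Groth.Agent.Lib.Helper2.Sch.GrpHomFlat
import Groth.Agent.S1386

/-!
# Homomorphisms of group schemes over a field: flatness (helper2)
-/

set_option backward.isDefEq.respectTransparency.types false
set_option synthInstance.maxHeartbeats 400000
set_option autoImplicit false
set_option linter.unusedSectionVars false
set_option linter.style.haveILetI false
universe u
open CategoryTheory CategoryTheory.Limits AlgebraicGeometry TopologicalSpace
open MonoidalCategory CartesianMonoidalCategory MonObj GrpObj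
open Groth.Agent.Lib.Helper4.GrpShear1 Groth.Agent.Helper2.FlatPt

namespace Groth.Agent.Helper2.GrpHom

/-- The flat locus of a morphism `f : X ⟶ Y` of schemes locally of finite type over a base
over which `Y` is flat is open. -/
theorem isOpen_flatAt {X Y S : Scheme.{u}} (f : X ⟶ Y) (g : Y ⟶ S)
    [LocallyOfFinitePresentation (f ≫ g)] [LocallyOfFiniteType g] [Flat g] :
    IsOpen {x : X | FlatAt f x} := by
  have h := (Groth.Agent.S1386.result f g).2
  have e : {x : X | FlatAt f x} =
      {x : ↑X | (g.stalkMap (f x)).hom.Flat ∧ (f.stalkMap x).hom.Flat} := by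
    ext x
    simp only [Set.mem_ofPred_eq]
    exact ⟨fun hx => ⟨Flat.stalkMap g (f x), hx⟩, fun hx => hx.2⟩
  rw [e]
  exact h

/-- The local ring at the generic point of an irreducible component of a reduced scheme is a
field. -/
theorem isField_stalk_of_isMax {X : Scheme.{u}} [IsReduced X] (ξ : X)
    (hξ : ∀ b : X, b ⤳ ξ → ξ ⤳ b) : IsField (X.presheaf.stalk ξ) := by
  have h0 : ringKrullDim (X.presheaf.stalk ξ) = 0 := by
    rw [ringKrullDim_stalk_eq_coheight]
    have : Order.coheight ξ = 0 := by
      rw [Order.coheight_eq_zero]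
      intro b hb
      exact hξ b hb
    rw [this]; rfl
  haveI : Ring.KrullDimLE 0 (X.presheaf.stalk ξ) :=
    Ring.krullDimLE_iff.mpr (by rw [h0]; rfl)
  exact Ring.KrullDimLE.isField_of_isReduced

theorem exists_isField_stalk (X : Scheme.{u}) [IsReduced X] [Nonempty X] :
    ∃ ξ : X, IsField (X.presheaf.stalk ξ) := by
  obtain ⟨x⟩ : Nonempty X := inferInstance
  have hZ := irreducibleComponent_mem_irreducibleComponents x
  have hcl : IsClosed (irreducibleComponent x) := isClosed_irreducibleComponent
  obtain ⟨ξ, hξ⟩ : ∃ ξ, ξ = hZ.1.genericPoint := ⟨_, rfl⟩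
  have hgen : IsGenericPoint ξ (irreducibleComponent x) :=
    hξ ▸ hZ.1.isGenericPoint_genericPoint hcl
  refine ⟨ξ, isField_stalk_of_isMax ξ ?_⟩
  intro b hbξ
  have hsub : irreducibleComponent x ⊆ closure ({b} : Set X) := by
    rw [← hgen.def]
    exact closure_minimal (Set.singleton_subset_iff.mpr hbξ.mem_closure) isClosed_closure
  have hle : closure ({b} : Set X) ⊆ irreducibleComponent x :=
    hZ.2 isIrreducible_singleton.closure hsub
  have hbZ : b ∈ closure ({ξ} : Set X) := by
    rw [hgen.def]; exact hle (subset_closure rfl)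
  exact specializes_iff_mem_closure.mpr hbZ

variable {K : Type u} [Field K] {G H : Over (Spec (CommRingCat.of K))} [GrpObj G] [GrpObj H]
  (u : G ⟶ H) [IsMonHom u]

/-- A surjective homomorphism of group schemes locally of finite type over a field with reduced
target is flat. -/
theorem flat_of_surjective_of_isReduced [LocallyOfFiniteType G.hom] [LocallyOfFiniteType H.hom]
    [IsReduced H.left] [Surjective u.left] : Flat u.left := by
  haveI : Flat G.hom := inferInstance
  haveI : Flat H.hom := inferInstance
  haveI : LocallyOfFinitePresentation (u.left ≫ H.hom) := by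
    rw [Over.w u]
    exact LocallyOfFinitePresentation.iff_locallyOfFiniteType.2 inferInstance
  have hopen := isOpen_flatAt u.left H.hom
  haveI : Nonempty H.left := ⟨η[H].left (IsLocalRing.closedPoint K)⟩
  obtain ⟨ξ, hξ⟩ := exists_isField_stalk H.left
  obtain ⟨g, hg⟩ := u.left.surjective ξ
  have hflat : FlatAt u.left g := by
    unfold FlatAt
    apply RingHom.Flat.of_isField
    rw [hg]; exact hξ
  haveI : Subsingleton ↥(Spec (CommRingCat.of K)) :=
    inferInstanceAs (Subsingleton (PrimeSpectrum K))
  rw [flat_iff_forall_flatAt]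
  intro g'
  exact flatAt_of_flatAt u hopen g g' (Subsingleton.elim _ _) hflat

end Groth.Agent.Helper2.GrpHom
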