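import Mathlib
import Groth.Prelude.Def_Flat
import Groth.Agent.Lib.Helper2.Sch.FlatAt
import Groth.Agent.Lib.Helper1.LocImm28
import Groth.Agent.Lib.Helper7.SmoothBC.Main

/-!
# Base change of flatness at a point, without finiteness hypotheses (helper2, for S5336)
-/

set_option backward.isDefEq.respectTransparency.types false
set_option autoImplicit false
set_option linter.unusedSectionVars false
set_option linter.style.haveILetI false
universe u
open CategoryTheory CategoryTheory.Limits AlgebraicGeometry TopologicalSpace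

namespace Groth.Agent.Helper2.FlatPt

/-- a morphism factoring through a monomorphism is the base change of the composite -/
theorem isPullback_id_of_mono {C : Type*} [Category C] {A B D : C} (k : A ⟶ B) (m : B ⟶ D)
    [Mono m] : IsPullback (𝟙 A) k (k ≫ m) m := by
  refine ⟨⟨by simp⟩, ⟨PullbackCone.IsLimit.mk _ (fun s => s.fst) (fun s => by simp) ?_ ?_⟩⟩
  · intro s
    rw [← cancel_mono m, Category.assoc, s.condition]
  · intro s l h1 _
    simpa using h1

theorem flatAt_iff_flat_fromSpecStalk {X Y : Scheme.{u}} (f : X ⟶ Y) (x : X) :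
    FlatAt f x ↔ Flat (X.fromSpecStalk x ≫ f) :=
  (Groth.Agent.Helper1.LocImmL.flat_fromSpecStalk_comp_iff f x).symm

/-- Base change of flatness at a point (no finiteness hypotheses). -/
theorem flatAt_of_isPullback' {X S X' S' : Scheme.{u}} (f : X ⟶ S) (g : S' ⟶ S)
    (f' : X' ⟶ S') (g' : X' ⟶ X) (h : IsPullback g' f' f g)
    (x' : X') (hx' : FlatAt f (g' x')) : FlatAt f' x' := by
  rw [flatAt_iff_flat_fromSpecStalk] at hx' ⊢
  obtain ⟨j, hj⟩ : ∃ j, j = X.fromSpecStalk (g' x') := ⟨_, rfl⟩
  rw [← hj] at hx'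
  -- `Z = Spec O_{X,x} ×_X X'`
  have sqZ : IsPullback (pullback.fst j g') (pullback.snd j g') j g' := IsPullback.of_hasPullback j g'
  have sq2 : IsPullback (pullback.fst j g') (pullback.snd j g' ≫ f') (j ≫ f) g :=
    sqZ.paste_vert h
  haveI : Flat (pullback.snd j g' ≫ f') := MorphismProperty.of_isPullback (P := @Flat) sq2 hx'
  haveI : Mono j := by rw [hj]; infer_instance
  haveI : Mono (pullback.snd j g') := inferInstance
  -- the map `Spec O_{X',x'} ⟶ Z`
  have hw : Spec.map (g'.stalkMap x') ≫ j = X'.fromSpecStalk x' ≫ g' := by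
    rw [hj]; exact Scheme.SpecMap_stalkMap_fromSpecStalk g'
  obtain ⟨k, hk⟩ : ∃ k, k = pullback.lift (Spec.map (g'.stalkMap x')) (X'.fromSpecStalk x') hw :=
    ⟨_, rfl⟩
  have hk2 : k ≫ pullback.snd j g' = X'.fromSpecStalk x' := by
    rw [hk, pullback.lift_snd]
  haveI : Flat (X'.fromSpecStalk x') := Groth.Agent.Helper7.SmoothBC.flat_fromSpecStalk X' x'
  haveI : Flat k := by
    have sq3 := isPullback_id_of_mono k (pullback.snd j g')
    rw [hk2] at sq3
    exact MorphismProperty.of_isPullback (P := @Flat) sq3 inferInstance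
  have e : X'.fromSpecStalk x' ≫ f' = k ≫ pullback.snd j g' ≫ f' := by
    rw [← Category.assoc, hk2]
  rw [e]
  infer_instance

end Groth.Agent.Helper2.FlatPt
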