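import Mathlib
import Groth.Prelude.Def_Flat
import Groth.Agent.Lib.Helper2.Sch.GrpHomFlat
import Groth.Agent.Lib.Helper2.Sch.FlatAtBC

/-!
# Homogeneity of flatness for homomorphisms of group schemes, without finiteness hypotheses
(S5336) (helper2)
-/

set_option backward.isDefEq.respectTransparency.types false
set_option synthInstance.maxHeartbeats 400000
set_option autoImplicit false
set_option linter.unusedSectionVars false
set_option linter.style.haveILetI false
universe u
open CategoryTheory CategoryTheory.Limits AlgebraicGeometry TopologicalSpace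
open MonoidalCategory CartesianMonoidalCategory MonObj GrpObj
open Groth.Agent.Lib.Helper4.GrpShear1 Groth.Agent.Helper2.FlatPt

namespace Groth.Agent.Helper2.GrpHom

variable {S : Scheme.{u}} {G H : Over S} [GrpObj G] [GrpObj H] (u : G ⟶ H) [IsMonHom u]

/-- For a homomorphism of group schemes with flat source, flatness at one point of a fibre of
`G → S` implies flatness at all points of this fibre. -/
theorem flatAt_of_flatAt' [Flat G.hom]
    (g g' : G.left) (h : G.hom g = G.hom g') (hg : FlatAt u.left g) : FlatAt u.left g' := by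
  obtain ⟨z, hz1, hz2⟩ := exists_snd_mul g g' h
  have sq := isPullback_whiskerLeft u
  have k1 : FlatAt (G ◁ u).left z :=
    flatAt_of_isPullback' u.left (snd G H).left (G ◁ u).left (snd G G).left sq z (hz1 ▸ hg)
  have k2 : FlatAt ((G ◁ u).left ≫ (shear u).left) z :=
    FlatAt.comp k1 (flatAt_of_isIso _ _)
  have k3 : FlatAt ((shear (𝟙 G)).left ≫ (G ◁ u).left) z :=
    (flatAt_congr (shear_left_comp u) z).2 k2
  have k4 : FlatAt (G ◁ u).left ((shear (𝟙 G)).left z) :=
    FlatAt.of_comp k3 (flatAt_of_isIso _ _)
  haveI : Flat (snd G H).left := by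
    rw [Over.snd_left]; infer_instance
  have k5 := flatAt_of_isPullback_of_flat u.left (snd G H).left (G ◁ u).left (snd G G).left sq
    _ k4
  rwa [← Scheme.Hom.comp_apply, ← Over.comp_left, shear_id_snd, hz2] at k5

/-- S5336 -/
theorem S5336_main (A : Type u) [CommRing A] [IsArtinianRing A] [IsLocalRing A]
    (G H : Over (Spec (CommRingCat.of A))) [GrpObj G] [GrpObj H]
    [Flat G.hom] (u : G ⟶ H) [IsMonHom u]
    (h : ∃ x : G.left, (u.left.stalkMap x).hom.Flat) : Flat u.left := by
  haveI : Subsingleton ↥(Spec (CommRingCat.of A)) :=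
    inferInstanceAs (Subsingleton (PrimeSpectrum A))
  obtain ⟨x, hx⟩ := h
  rw [flat_iff_forall_flatAt]
  intro g'
  exact flatAt_of_flatAt' u x g' (Subsingleton.elim _ _) hx

end Groth.Agent.Helper2.GrpHom
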