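import Mathlib
import Groth.Prelude.Def_Flat
import Groth.Prelude.Def_AlgGrp
import Groth.Agent.Lib.Helper2.Sch.GrpHomFlat2
import Groth.Agent.Lib.Helper4.Act1

/-!
# Homogeneity of flatness for orbit maps (S5347) (helper2)
-/

set_option backward.isDefEq.respectTransparency.types false
set_option synthInstance.maxHeartbeats 400000
set_option autoImplicit false
set_option linter.unusedSectionVars false
set_option linter.style.haveILetI false
universe u
open CategoryTheory CategoryTheory.Limits AlgebraicGeometry TopologicalSpace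
open MonoidalCategory CartesianMonoidalCategory MonObj GrpObj
open Groth.Agent.Lib.Helper4.GrpShear1 Groth.Agent.Helper2.FlatPt

namespace Groth.Agent.Helper2.Orbit

section Cat

variable {C : Type*} [Category C] [CartesianMonoidalCategory C] {G X : C} [GrpObj G]
  (act : G ⊗ X ⟶ X)
  (one_act : (η[G] ▷ X) ≫ act = (λ_ X).hom)
  (mul_act : (μ[G] ▷ X) ≫ act = (α_ G G X).hom ≫ (G ◁ act) ≫ act)

/-- the shear map `(g, x) ↦ (g, g x)` of an action -/
def actShear : G ⊗ X ⟶ G ⊗ X := lift (fst G X) act

lemma actShear_fst : actShear act ≫ fst G X = fst G X := by simp [actShear]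

lemma actShear_snd : actShear act ≫ snd G X = act := by simp [actShear]

include one_act mul_act in
lemma isIso_actShear : IsIso (actShear act) := by
  have key : ∀ {T : C} (g : T ⟶ G) (x : T ⟶ X),
      lift g x ≫ lift (fst G X) act = lift g (lift g x ≫ act) := by
    intro T g x
    rw [comp_lift, lift_fst]
  have key' : ∀ {T : C} (g : T ⟶ G) (x : T ⟶ X),
      lift g x ≫ lift (fst G X) ((ι[G] ▷ X) ≫ act) = lift g (lift g⁻¹ x ≫ act) := by
    intro T g x
    rw [comp_lift, lift_fst, lift_whiskerRight_assoc, Hom.inv_def]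
  refine ⟨lift (fst G X) ((ι[G] ▷ X) ≫ act), ?_, ?_⟩
  · have : lift (fst G X) (snd G X) ≫ (lift (fst G X) act ≫ lift (fst G X) ((ι[G] ▷ X) ≫ act)) =
        lift (fst G X) (snd G X) ≫ 𝟙 _ := by
      rw [← Category.assoc, key, key', ← Groth.Agent.Helper4.Act.mul_smul' act mul_act,
        inv_mul_cancel, Groth.Agent.Helper4.Act.one_smul' act one_act, Category.comp_id]
    simpa [actShear] using this
  · have : lift (fst G X) (snd G X) ≫ (lift (fst G X) ((ι[G] ▷ X) ≫ act) ≫ lift (fst G X) act) =
        lift (fst G X) (snd G X) ≫ 𝟙 _ := by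
      rw [← Category.assoc, key', key, ← Groth.Agent.Helper4.Act.mul_smul' act mul_act,
        mul_inv_cancel, Groth.Agent.Helper4.Act.one_smul' act one_act, Category.comp_id]
    simpa [actShear] using this

/-- the orbit map of a point -/
def orbit (o : 𝟙_ C ⟶ X) : G ⟶ X := lift (𝟙 G) (toUnit G ≫ o) ≫ act

lemma comp_orbit (o : 𝟙_ C ⟶ X) {T : C} (g : T ⟶ G) :
    g ≫ orbit act o = lift g (toUnit T ≫ o) ≫ act := by
  have h1 : g ≫ toUnit G = toUnit T := toUnit_unique _ _
  rw [orbit, ← Category.assoc, comp_lift, Category.comp_id, ← Category.assoc, h1]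

include mul_act in
/-- `g (g' o) = (g g') o` -/
lemma whiskerLeft_orbit_act (o : 𝟙_ C ⟶ X) : (G ◁ orbit act o) ≫ act = μ[G] ≫ orbit act o := by
  have h := Groth.Agent.Helper4.Act.mul_smul' act mul_act (fst G G) (snd G G)
    (toUnit (G ⊗ G) ≫ o)
  have e1 : G ◁ orbit act o = lift (fst G G) (lift (snd G G) (toUnit (G ⊗ G) ≫ o) ≫ act) := by
    apply CartesianMonoidalCategory.hom_ext
    · simp
    · rw [whiskerLeft_snd, lift_snd, comp_orbit]
  have e3 : fst G G * snd G G = μ[G] := by
    rw [Hom.mul_def]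
    have : lift (fst G G) (snd G G) = 𝟙 _ := by
      apply CartesianMonoidalCategory.hom_ext <;> simp
    rw [this, Category.id_comp]
  rw [e1, comp_orbit, ← e3, h]

include mul_act in
/-- `G ◁ φ` intertwines the shear maps. -/
lemma whiskerLeft_orbit_shear (o : 𝟙_ C ⟶ X) :
    (G ◁ orbit act o) ≫ actShear act = shear (𝟙 G) ≫ (G ◁ orbit act o) := by
  apply CartesianMonoidalCategory.hom_ext
  · rw [Category.assoc, actShear_fst, whiskerLeft_fst, Category.assoc, whiskerLeft_fst, shear_fst]
  · rw [Category.assoc, actShear_snd, whiskerLeft_orbit_act act mul_act, Category.assoc,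
      whiskerLeft_snd, ← Category.assoc, Groth.Agent.Helper2.GrpHom.shear_id_snd]

end Cat

section Sch

variable {S : Scheme.{u}} {G X Y : Over S}

/-- `G ◁ φ : G ×_S X ⟶ G ×_S Y` is the base change of `φ` along the second projection. -/
theorem isPullback_whiskerLeft' (φ : X ⟶ Y) :
    IsPullback (snd G X).left (G ◁ φ).left φ.left (snd G Y).left := by
  have t : IsPullback (fst G Y).left (snd G Y).left G.hom Y.hom :=
    IsPullback.of_hasPullback G.hom Y.hom
  have o : IsPullback (fst G X).left (snd G X).left G.hom X.hom :=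
    IsPullback.of_hasPullback G.hom X.hom
  have e1 : (G ◁ φ).left ≫ (fst G Y).left = (fst G X).left := by
    rw [← Over.comp_left, whiskerLeft_fst]
  have e2 : φ.left ≫ Y.hom = X.hom := Over.w φ
  have p : (G ◁ φ).left ≫ (snd G Y).left = (snd G X).left ≫ φ.left := by
    rw [← Over.comp_left, whiskerLeft_snd, Over.comp_left]
  have s : IsPullback ((G ◁ φ).left ≫ (fst G Y).left) (snd G X).left G.hom
      (φ.left ≫ Y.hom) := by
    rw [e1, e2]; exact o
  exact (IsPullback.of_right s p t).flip

variable [GrpObj G]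

/-- Flatness of an orbit map at one point of a fibre of `G → S` implies flatness at all points
of this fibre, when `G` is flat over `S`. -/
theorem flatAt_orbit_of_flatAt [Flat G.hom] (act : G ⊗ X ⟶ X)
    (one_act : (η[G] ▷ X) ≫ act = (λ_ X).hom)
    (mul_act : (μ[G] ▷ X) ≫ act = (α_ G G X).hom ≫ (G ◁ act) ≫ act)
    (o : 𝟙_ (Over S) ⟶ X)
    (g g' : G.left) (h : G.hom g = G.hom g') (hg : FlatAt (orbit act o).left g) :
    FlatAt (orbit act o).left g' := by
  obtain ⟨φ, hφ⟩ : ∃ φ, φ = orbit act o := ⟨_, rfl⟩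
  rw [← hφ] at hg ⊢
  obtain ⟨z, hz1, hz2⟩ := Groth.Agent.Helper2.GrpHom.exists_snd_mul g g' h
  have sq := isPullback_whiskerLeft' (G := G) φ
  haveI : IsIso (actShear act) := isIso_actShear act one_act mul_act
  haveI : IsIso (actShear act).left :=
    inferInstanceAs (IsIso ((Over.forget _).map (actShear act)))
  have hcomm : (G ◁ φ).left ≫ (actShear act).left = (shear (𝟙 G)).left ≫ (G ◁ φ).left := by
    rw [← Over.comp_left, ← Over.comp_left, hφ, whiskerLeft_orbit_shear act mul_act]
  have k1 : FlatAt (G ◁ φ).left z :=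
    flatAt_of_isPullback' φ.left (snd G X).left (G ◁ φ).left (snd G G).left sq z (hz1 ▸ hg)
  have k2 : FlatAt ((G ◁ φ).left ≫ (actShear act).left) z :=
    FlatAt.comp k1 (flatAt_of_isIso _ _)
  have k3 : FlatAt ((shear (𝟙 G)).left ≫ (G ◁ φ).left) z :=
    (flatAt_congr hcomm z).1 k2
  have k4 : FlatAt (G ◁ φ).left ((shear (𝟙 G)).left z) :=
    FlatAt.of_comp k3 (flatAt_of_isIso _ _)
  haveI : Flat (snd G X).left := by
    rw [Over.snd_left]; infer_instance
  have k5 := flatAt_of_isPullback_of_flat φ.left (snd G X).left (G ◁ φ).left (snd G G).left sq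
    _ k4
  rwa [← Scheme.Hom.comp_apply, ← Over.comp_left, Groth.Agent.Helper2.GrpHom.shear_id_snd, hz2]
    at k5

/-- S5347 -/
theorem S5347_main (A : Type u) [CommRing A] [IsArtinianRing A] [IsLocalRing A]
    (G X : Over (Spec (CommRingCat.of A))) [GrpObj G] [Flat G.hom]
    (a : AlgGrp.Action G X) (s₀ : 𝟙_ (Over (Spec (CommRingCat.of A))) ⟶ X)
    (h : ∃ g : G.left, ((a.orbitMap s₀).left.stalkMap g).hom.Flat) :
    Flat (a.orbitMap s₀).left := by
  haveI : Subsingleton ↥(Spec (CommRingCat.of A)) :=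
    inferInstanceAs (Subsingleton (PrimeSpectrum A))
  obtain ⟨x, hx⟩ := h
  rw [flat_iff_forall_flatAt]
  intro g'
  exact flatAt_orbit_of_flatAt a.act a.one_act a.mul_act s₀ x g' (Subsingleton.elim _ _) hx

end Sch

end Groth.Agent.Helper2.Orbit
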