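import Mathlib

/-!
# Quasi-compact dominant morphisms: maximal points are hit; stability under flat base change
(helper2)
-/

set_option backward.isDefEq.respectTransparency.types false
set_option autoImplicit false
set_option linter.unusedSectionVars false
set_option linter.style.haveILetI false
universe u
open CategoryTheory CategoryTheory.Limits AlgebraicGeometry TopologicalSpace

namespace Groth.Agent.Helper2.QcDominant

/-- affine case: a maximal point in the closure of the image is in the image -/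
theorem mem_range_of_isMax_affine {A B : CommRingCat.{u}} (φ : A ⟶ B) (p : ↥(Spec A))
    (hmax : ∀ y : ↥(Spec A), y ⤳ p → p ⤳ y)
    (hcl : p ∈ closure (Set.range (Spec.map φ))) : p ∈ Set.range (Spec.map φ) := by
  have hcl' : p ∈ closure (Set.range (PrimeSpectrum.comap φ.hom)) := hcl
  rw [PrimeSpectrum.closure_range_comap] at hcl'
  have hker : RingHom.ker φ.hom ≤ p.asIdeal := hcl'
  have hmin : p.asIdeal ∈ ((⊥ : Ideal B).comap φ.hom).minimalPrimes := by
    refine ⟨⟨p.isPrime, hker⟩, ?_⟩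
    rintro q ⟨hq, -⟩ hqp
    have h1 : (⟨q, hq⟩ : PrimeSpectrum A) ⤳ p :=
      (PrimeSpectrum.le_iff_specializes ⟨q, hq⟩ p).mp hqp
    have h2 := hmax ⟨q, hq⟩ h1
    exact (PrimeSpectrum.le_iff_specializes p ⟨q, hq⟩).mpr h2
  obtain ⟨p', hp', -, hcomap⟩ := Ideal.exists_comap_eq_of_mem_minimalPrimes φ.hom p.asIdeal hmin
  refine ⟨⟨p', hp'⟩, ?_⟩
  exact PrimeSpectrum.ext hcomap

/-- A quasi-compact morphism with dense range hits every maximal point. -/
theorem mem_range_of_isMax {X Y : Scheme.{u}} (f : X ⟶ Y) [QuasiCompact f]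
    (hd : DenseRange f) (η : Y) (hmax : ∀ y : Y, y ⤳ η → η ⤳ y) : η ∈ Set.range f := by
  obtain ⟨V, hV, hηV, -⟩ := exists_isAffineOpen_mem_and_subset (x := η) (U := (⊤ : Y.Opens)) trivial
  have hc : IsCompact (f ⁻¹ᵁ V : Set X) := f.isCompact_preimage hV.isCompact
  obtain ⟨s, hs, hsU⟩ := isCompact_and_isOpen_iff_finite_and_eq_biUnion_affineOpens.mp
    ⟨hc, (f ⁻¹ᵁ V).isOpen⟩
  -- `η` lies in the closure of `f '' f⁻¹ V`
  have h1 : η ∈ closure (f '' (f ⁻¹ᵁ V : Set X)) := by
    rw [mem_closure_iff]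
    intro W hW hηW
    obtain ⟨_, ⟨hy1, hy2⟩, x, rfl⟩ :=
      hd.inter_open_nonempty (W ∩ V) (hW.inter V.isOpen) ⟨η, hηW, hηV⟩
    exact ⟨f x, hy1, x, hy2, rfl⟩
  rw [hsU, Set.image_iUnion₂, hs.closure_biUnion] at h1
  obtain ⟨U, hUs, hηU⟩ := Set.mem_iUnion₂.mp h1
  have hUV : (U : X.Opens) ≤ f ⁻¹ᵁ V := by
    intro x hx
    have : x ∈ (f ⁻¹ᵁ V : Set X) := by
      rw [hsU]; exact Set.mem_iUnion₂.mpr ⟨U, hUs, hx⟩
    exact this
  have hU : IsAffineOpen (U : X.Opens) := U.2
  obtain ⟨φ, hφ⟩ : ∃ φ, φ = f.appLE V U hUV := ⟨_, rfl⟩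
  have hcomm : Spec.map φ ≫ hV.fromSpec = hU.fromSpec ≫ f := by
    rw [hφ]; exact IsAffineOpen.SpecMap_appLE_fromSpec f hV hU hUV
  obtain ⟨p, hp⟩ : ∃ p : ↥(Spec Γ(Y, V)), p = hV.primeIdealOf ⟨η, hηV⟩ := ⟨_, rfl⟩
  have hpη : hV.fromSpec p = η := by rw [hp]; exact hV.fromSpec_primeIdealOf ⟨η, hηV⟩
  have hind : Topology.IsInducing hV.fromSpec := hV.fromSpec.isOpenEmbedding.isInducing
  have hpmax : ∀ y : ↥(Spec Γ(Y, V)), y ⤳ p → p ⤳ y := by
    intro y hy
    have h2 : hV.fromSpec y ⤳ η := hpη ▸ hy.map hV.fromSpec.continuous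
    have h3 := hmax _ h2
    rw [← hpη] at h3
    exact hind.specializes_iff.mp h3
  have hpt : ∀ q : ↥(Spec Γ(X, U)), hV.fromSpec (Spec.map φ q) = f (hU.fromSpec q) := by
    intro q
    rw [← Scheme.Hom.comp_apply, hcomm, Scheme.Hom.comp_apply]
  have himg : hV.fromSpec '' Set.range (Spec.map φ) = f '' (U : Set X) := by
    ext y
    constructor
    · rintro ⟨_, ⟨q, rfl⟩, rfl⟩
      refine ⟨hU.fromSpec q, ?_, (hpt q).symm⟩
      have : hU.fromSpec q ∈ Set.range hU.fromSpec := ⟨q, rfl⟩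
      rw [hU.range_fromSpec] at this
      exact this
    · rintro ⟨x, hx, rfl⟩
      have : x ∈ Set.range hU.fromSpec := by rw [hU.range_fromSpec]; exact hx
      obtain ⟨q, rfl⟩ := this
      exact ⟨Spec.map φ q, ⟨q, rfl⟩, hpt q⟩
  have hpcl : p ∈ closure (Set.range (Spec.map φ)) := by
    rw [hind.closure_eq_preimage_closure_image]
    show hV.fromSpec p ∈ closure (hV.fromSpec '' Set.range (Spec.map φ))
    rw [himg, hpη]
    exact hηU
  obtain ⟨q, hq⟩ := mem_range_of_isMax_affine φ p hpmax hpcl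
  refine ⟨hU.fromSpec q, ?_⟩
  rw [← Scheme.Hom.comp_apply, ← hcomm, Scheme.Hom.comp_apply, hq, hpη]

/-- Quasi-compact morphisms with dense range are stable under flat base change. -/
theorem denseRange_of_isPullback {X Y X' Y' : Scheme.{u}} (f : X ⟶ Y) (g : Y' ⟶ Y)
    (f' : X' ⟶ Y') (g' : X' ⟶ X) (h : IsPullback g' f' f g) [QuasiCompact f] [Flat g]
    (hd : DenseRange f) : DenseRange f' := by
  intro y'
  rw [mem_closure_iff]
  intro W hW hyW
  -- a maximal generization of `y'`
  have hirr : IsIrreducible (irreducibleComponent y') := isIrreducible_irreducibleComponent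
  have hcl : IsClosed (irreducibleComponent y') := isClosed_irreducibleComponent
  obtain ⟨η', hη'⟩ : ∃ η', η' = hirr.genericPoint := ⟨_, rfl⟩
  have hgen : IsGenericPoint η' (irreducibleComponent y') := by
    rw [hη']; exact hirr.isGenericPoint_genericPoint hcl
  have hsp : η' ⤳ y' := hgen.specializes mem_irreducibleComponent
  have hη'max : ∀ b : Y', b ⤳ η' → η' ⤳ b := by
    intro b hb
    have h1 : irreducibleComponent y' ⊆ closure {b} := by
      rw [← hgen.def]
      exact closure_minimal (Set.singleton_subset_iff.mpr hb.mem_closure) isClosed_closure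
    have h2 : closure {b} ⊆ irreducibleComponent y' :=
      (irreducibleComponent_mem_irreducibleComponents y').2
        (isIrreducible_singleton.closure) h1
    apply hgen.specializes
    exact h2 (subset_closure (Set.mem_singleton b))
  have hη'W : η' ∈ W := hsp.mem_open hW hyW
  -- its image is maximal
  have hgm : GeneralizingMap g := Flat.generalizingMap g
  have hηmax : ∀ y : Y, y ⤳ g η' → g η' ⤳ y := by
    intro y hy
    obtain ⟨y'', hy'', rfl⟩ := hgm hy
    exact (hη'max y'' hy'').map g.continuous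
  obtain ⟨x, hx⟩ := mem_range_of_isMax f hd (g η') hηmax
  obtain ⟨w, hw1, hw2⟩ := Scheme.Pullback.exists_preimage_pullback (f := f) (g := g) x η' hx
  refine ⟨η', hη'W, h.isoPullback.inv w, ?_⟩
  rw [← Scheme.Hom.comp_apply, h.isoPullback_inv_snd, hw2]

end Groth.Agent.Helper2.QcDominant
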