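import Mathlib
import Groth.Prelude.Def_Flat
import Groth.Agent.Lib.Helper2.Sch.QcDominant
import Groth.Agent.Lib.Helper2.Sch.OrbitFlat
import Groth.Agent.Lib.Helper2.Sch.GrpHomField

/-!
# Quasi-compact dominant homomorphisms of group schemes over a field (S5355) (helper2)
-/

set_option backward.isDefEq.respectTransparency.types false
set_option synthInstance.maxHeartbeats 400000
set_option autoImplicit false
set_option linter.unusedSectionVars false
set_option linter.style.haveILetI false
universe u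
open CategoryTheory CategoryTheory.Limits AlgebraicGeometry TopologicalSpace
open MonoidalCategory CartesianMonoidalCategory MonObj GrpObj
open Groth.Agent.Lib.Helper4.GrpShear1 Groth.Agent.Helper2.FlatPt
open Groth.Agent.Helper2.QcDominant

namespace Groth.Agent.Helper2.GrpHom

section Cat

variable {C : Type*} [Category C] [CartesianMonoidalCategory C] {G H : C} [GrpObj G] [GrpObj H]
  (f : G ⟶ H) [IsMonHom f]

/-- the automorphism `(t, h) ↦ (t, a(t) h⁻¹)` -/
def invShear {T : C} (a : T ⟶ H) : T ⊗ H ⟶ T ⊗ H := (T ◁ ι[H]) ≫ shear a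

instance {T : C} (a : T ⟶ H) : IsIso (invShear a) := by
  unfold invShear; infer_instance

lemma invShear_fst {T : C} (a : T ⟶ H) : invShear a ≫ fst T H = fst T H := by
  rw [invShear, Category.assoc, shear_fst, whiskerLeft_fst]

lemma invShear_snd {T : C} (a : T ⟶ H) :
    invShear a ≫ snd T H = (fst T H ≫ a) * (snd T H)⁻¹ := by
  rw [invShear, Category.assoc, shear_snd, MonObj.comp_mul, ← Category.assoc, whiskerLeft_fst,
    whiskerLeft_snd, Hom.inv_def]

/-- If `(t, f a) = (t', h(t') (f b)⁻¹)` then `h(t) = f (a b)`. -/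
lemma point_eq_of_cond {T P : C} (a : T ⟶ H) (π₁ π₂ : P ⟶ T ⊗ G)
    (hcond : π₁ ≫ (T ◁ f) = π₂ ≫ (T ◁ f) ≫ invShear a) :
    (π₁ ≫ fst T G) ≫ a = ((π₁ ≫ snd T G) * (π₂ ≫ snd T G)) ≫ f := by
  have h1 : π₁ ≫ fst T G = π₂ ≫ fst T G := by
    have := congrArg (· ≫ fst T H) hcond
    simpa only [Category.assoc, invShear_fst, whiskerLeft_fst] using this
  have h2 : (π₁ ≫ snd T G) ≫ f = ((π₂ ≫ fst T G) ≫ a) * ((π₂ ≫ snd T G) ≫ f)⁻¹ := by
    have := congrArg (· ≫ snd T H) hcond
    simp only [Category.assoc, invShear_snd, whiskerLeft_snd] at this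
    rw [Category.assoc, this, ← Category.assoc, MonObj.comp_mul, GrpObj.comp_inv]
    simp only [Category.assoc, whiskerLeft_fst_assoc, whiskerLeft_snd_assoc, whiskerLeft_fst,
      whiskerLeft_snd]
  rw [mul_comp, h2, h1, inv_mul_cancel_right]

end Cat

section Sch

variable {K : Type u} [Field K] {G H : Over (Spec (CommRingCat.of K))} [GrpObj G] [GrpObj H]
  (f : G ⟶ H) [IsMonHom f]

/-- A quasi-compact dominant homomorphism of group schemes over a field with reduced target is
flat. -/
theorem flat_of_denseRange_of_isReduced [QuasiCompact f.left] (hf : DenseRange f.left)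
    [IsReduced H.left] : Flat f.left := by
  haveI : Flat G.hom := inferInstance
  haveI : Subsingleton ↥(Spec (CommRingCat.of K)) :=
    inferInstanceAs (Subsingleton (PrimeSpectrum K))
  obtain ⟨ξ, -, hξ⟩ := Groth.Agent.Lib.Helper4.FibDim2.exists_isMax_ge H.left
    (η[H].left (IsLocalRing.closedPoint K))
  have hξ' : ∀ b : H.left, b ⤳ ξ → ξ ⤳ b := fun b hb => hξ hb
  have hfield := isField_stalk_of_isMax ξ hξ'
  obtain ⟨g, hg⟩ := mem_range_of_isMax f.left hf ξ hξ'
  have hflat : FlatAt f.left g := by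
    unfold FlatAt
    apply RingHom.Flat.of_isField
    rw [hg]; exact hfield
  rw [flat_iff_forall_flatAt]
  intro g'
  exact flatAt_of_flatAt' f g g' (Subsingleton.elim _ _) hflat

/-- A quasi-compact dominant homomorphism of group schemes over a field is surjective. -/
theorem surjective_of_denseRange [QuasiCompact f.left] (hf : DenseRange f.left) :
    Surjective f.left := by
  constructor
  intro h
  obtain ⟨T, hT, hTpt, hTne⟩ : ∃ (T : Over (Spec (CommRingCat.of K))) (hT : T ⟶ H),
      (∀ t : T.left, hT.left t = h) ∧ Nonempty T.left := by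
    refine ⟨Over.mk (H.left.fromSpecResidueField h ≫ H.hom),
      Over.homMk (H.left.fromSpecResidueField h) rfl, ?_, ?_⟩
    · intro t
      exact Scheme.fromSpecResidueField_apply _ _
    · exact ⟨IsLocalRing.closedPoint (H.left.residueField h)⟩
  obtain ⟨F, hF⟩ : ∃ F : T ⊗ G ⟶ T ⊗ H, F = T ◁ f := ⟨_, rfl⟩
  obtain ⟨σ, hσ⟩ : ∃ σ : T ⊗ H ⟶ T ⊗ H, σ = invShear hT := ⟨_, rfl⟩
  haveI : IsIso σ := by rw [hσ]; infer_instance
  haveI : IsIso σ.left := inferInstanceAs (IsIso ((Over.forget _).map σ))
  have sq : IsPullback (snd T G).left F.left f.left (snd T H).left := by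
    rw [hF]; exact Groth.Agent.Helper2.Orbit.isPullback_whiskerLeft' (G := T) f
  haveI : Flat T.hom := inferInstance
  haveI : Flat (snd T H).left := by
    rw [Over.snd_left]; infer_instance
  haveI : QuasiCompact F.left :=
    MorphismProperty.of_isPullback (P := @QuasiCompact) sq inferInstance
  have hFd : DenseRange F.left :=
    denseRange_of_isPullback f.left (snd T H).left F.left (snd T G).left sq hf
  have hΦd : DenseRange (F.left ≫ σ.left) := by
    have h1 : Function.Surjective σ.left := σ.left.surjective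
    have := h1.denseRange.comp hFd σ.left.continuous
    convert this using 1
    ext x
    exact Scheme.Hom.comp_apply _ _ _
  haveI : QuasiCompact (F.left ≫ σ.left) := inferInstance
  -- a maximal point of `T ⊗ H`
  obtain ⟨ζ, -, hζ⟩ := Groth.Agent.Lib.Helper4.FibDim2.exists_isMax_ge (T ⊗ H).left
    ((lift (𝟙 T) (toUnit T ≫ η[H])).left hTne.some)
  have hζ' : ∀ y : (T ⊗ H).left, y ⤳ ζ → ζ ⤳ y := fun y hy => hζ hy
  obtain ⟨a, ha⟩ := mem_range_of_isMax F.left hFd ζ hζ'
  obtain ⟨b, hb⟩ := mem_range_of_isMax (F.left ≫ σ.left) hΦd ζ hζ'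
  -- the fibre product in `Over`
  have sqP := IsPullback.of_hasPullback F (F ≫ σ)
  have sqP' : IsPullback (pullback.fst F (F ≫ σ)).left (pullback.snd F (F ≫ σ)).left F.left
      (F ≫ σ).left := sqP.map (Over.forget _)
  obtain ⟨w, hw1, hw2⟩ := Scheme.Pullback.exists_preimage_pullback (f := F.left)
    (g := (F ≫ σ).left) a b (ha.trans hb.symm)
  obtain ⟨p, hp⟩ : ∃ p, p = sqP'.isoPullback.inv w := ⟨_, rfl⟩
  have hcond : pullback.fst F (F ≫ σ) ≫ (T ◁ f) =
      pullback.snd F (F ≫ σ) ≫ (T ◁ f) ≫ invShear hT := by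
    rw [← hF, ← hσ]; exact pullback.condition
  have key := point_eq_of_cond f hT _ _ hcond
  refine ⟨((pullback.fst F (F ≫ σ) ≫ snd T G) * (pullback.snd F (F ≫ σ) ≫ snd T G)).left p, ?_⟩
  have key2 := congrArg (fun m => m.left p) key
  simp only [Over.comp_left, Scheme.Hom.comp_apply] at key2
  rw [← key2]
  exact hTpt _

/-- S5355 -/
theorem S5355_main [QuasiCompact f.left] (hf : DenseRange f.left.base) :
    Surjective f.left ∧ (IsReduced H.left → Flat f.left) :=
  ⟨surjective_of_denseRange f hf, fun _ => flat_of_denseRange_of_isReduced f hf⟩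

end Sch

end Groth.Agent.Helper2.GrpHom
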