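import Mathlib

/-!
# Group structure on a subobject of a group object closed under the operations (helper2)

If `i : K ⟶ G` is a monomorphism into a group object such that the unit, the multiplication and
the inverse of `G` restrict to `K`, then `K` is a group object and `i` is a homomorphism.
-/

set_option autoImplicit false
set_option linter.unusedSectionVars false
set_option warn.classDefReducibility false
universe u
open CategoryTheory CategoryTheory.Limits
open MonoidalCategory CartesianMonoidalCategory MonObj GrpObj

namespace Groth.Agent.Helper2.SubGrp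

variable {C : Type*} [Category C] [CartesianMonoidalCategory C] {G K : C} [GrpObj G]
  (i : K ⟶ G) [Mono i]
  (e : 𝟙_ C ⟶ K) (he : e ≫ i = η[G])
  (m : K ⊗ K ⟶ K) (hm : m ≫ i = (i ⊗ₘ i) ≫ μ[G])
  (v : K ⟶ K) (hv : v ≫ i = i ≫ ι[G])

include hm in
lemma key {T : C} (f : T ⟶ K ⊗ K) :
    f ≫ m ≫ i = (f ≫ fst K K ≫ i) * (f ≫ snd K K ≫ i) := by
  rw [hm, Hom.mul_def, ← Category.assoc]
  congr 1
  apply CartesianMonoidalCategory.hom_ext <;> simp

include he in
lemma key_one {T : C} (f : T ⟶ 𝟙_ C) : f ≫ e ≫ i = 1 := by
  rw [he, Hom.one_def]
  congr 1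
  exact toUnit_unique _ _

include he hm in
/-- The monoid structure on a subobject closed under unit and multiplication. -/
def monObjOfMono : MonObj K where
  one := e
  mul := m
  one_mul := by
    rw [← cancel_mono i, Category.assoc, key i m hm, whiskerRight_fst_assoc,
      whiskerRight_snd_assoc, key_one i e he, _root_.one_mul, leftUnitor_hom]
  mul_one := by
    rw [← cancel_mono i, Category.assoc, key i m hm, whiskerLeft_fst_assoc,
      whiskerLeft_snd_assoc, key_one i e he, _root_.mul_one, rightUnitor_hom]
  mul_assoc := by
    rw [← cancel_mono i]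
    simp only [Category.assoc]
    have h1 : (α_ K K K).hom ≫ K ◁ m ≫ m ≫ i = ((α_ K K K).hom ≫ K ◁ m) ≫ m ≫ i := by
      rw [Category.assoc]
    rw [key i m hm, h1, key i m hm ((α_ K K K).hom ≫ K ◁ m)]
    simp only [Category.assoc, whiskerRight_fst_assoc, whiskerRight_snd_assoc,
      whiskerLeft_fst_assoc, whiskerLeft_snd_assoc, associator_hom_fst_assoc]
    have h2 : (α_ K K K).hom ≫ snd K (K ⊗ K) ≫ m ≫ i =
        ((α_ K K K).hom ≫ snd K (K ⊗ K)) ≫ m ≫ i := by rw [Category.assoc]
    rw [key i m hm, h2, key i m hm ((α_ K K K).hom ≫ snd K (K ⊗ K))]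
    simp only [Category.assoc, associator_hom_snd_fst_assoc, associator_hom_snd_snd_assoc,
      _root_.mul_assoc]

include he hm hv in
/-- The group structure on a subobject closed under unit, multiplication and inverse. -/
def grpObjOfMono : GrpObj K :=
  letI := monObjOfMono i e he m hm
  { inv := v
    left_inv := by
      change lift v (𝟙 K) ≫ m = toUnit K ≫ e
      rw [← cancel_mono i, Category.assoc, key i m hm, lift_fst_assoc, lift_snd_assoc,
        Category.id_comp, hv, ← Hom.inv_def, inv_mul_cancel, Category.assoc, key_one i e he]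
    right_inv := by
      change lift (𝟙 K) v ≫ m = toUnit K ≫ e
      rw [← cancel_mono i, Category.assoc, key i m hm, lift_fst_assoc, lift_snd_assoc,
        Category.id_comp, hv, ← Hom.inv_def, mul_inv_cancel, Category.assoc, key_one i e he] }

include he hm in
/-- The inclusion of such a subobject is a homomorphism. -/
lemma isMonHom_of_mono : @IsMonHom C _ _ K G (monObjOfMono i e he m hm) _ i :=
  letI := monObjOfMono i e he m hm
  { one_hom := he
    mul_hom := hm }

end Groth.Agent.Helper2.SubGrp
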