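import Mathlib
import Groth.Agent.Lib.Helper2.Sch.SubGrpMono
import Groth.Agent.Lib.Helper2.Sch.GrpHomDominant

/-!
# The scheme-theoretic image of a quasi-compact homomorphism of group schemes over a field
is a closed subgroup scheme (S18825, S3024) (helper2)
-/

set_option backward.isDefEq.respectTransparency.types false
set_option synthInstance.maxHeartbeats 400000
set_option autoImplicit false
set_option linter.unusedSectionVars false
set_option linter.style.haveILetI false
universe u
open CategoryTheory CategoryTheory.Limits AlgebraicGeometry TopologicalSpace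
open MonoidalCategory CartesianMonoidalCategory MonObj GrpObj

namespace Groth.Agent.Helper2.SchImage

/-- Lifting through a closed immersion along a scheme-theoretically dominant morphism. -/
theorem exists_lift_of_schDominant {K G Z Z' : Scheme.{u}} (i : K ⟶ G) [IsClosedImmersion i]
    (d : Z' ⟶ Z) [IsSchemeTheoreticallyDominant d] (φ : Z ⟶ G) (ψ : Z' ⟶ K)
    (h : ψ ≫ i = d ≫ φ) : ∃ χ : Z ⟶ K, χ ≫ i = φ := by
  haveI : IsClosedImmersion (pullback.fst φ i) := inferInstance
  obtain ⟨d', hd'⟩ : ∃ d' : Z' ⟶ pullback φ i, d' ≫ pullback.fst φ i = d :=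
    ⟨pullback.lift d ψ h.symm, pullback.lift_fst _ _ _⟩
  have hker : (pullback.fst φ i).ker = ⊥ := by
    have := Scheme.Hom.le_ker_comp d' (pullback.fst φ i)
    rw [hd', d.ker_eq_bot] at this
    exact le_bot_iff.mp this
  haveI : IsIso (pullback.fst φ i) := IsClosedImmersion.isIso_iff_ker_eq_bot.2 hker
  exact ⟨inv (pullback.fst φ i) ≫ pullback.snd φ i, by
    rw [Category.assoc, ← pullback.condition, IsIso.inv_hom_id_assoc]⟩

/-- The morphism to the scheme-theoretic image of a quasi-compact morphism is scheme-theoretically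
dominant. -/
instance isSchemeTheoreticallyDominant_toImage {X Y : Scheme.{u}} (f : X ⟶ Y) [QuasiCompact f] :
    IsSchemeTheoreticallyDominant f.toImage := by
  rw [isSchemeTheoreticallyDominant_iff]
  refine Scheme.IdealSheafData.ext_of_iSup_eq_top
    (fun U : Y.affineOpens => ⟨f.imageι ⁻¹ᵁ U.1, U.2.preimage f.imageι⟩) ?_ ?_
  · change ⨆ U : Y.affineOpens, f.imageι ⁻¹ᵁ U.1 = ⊤
    rw [← Scheme.Hom.preimage_iSup, iSup_affineOpens_eq_top]
    rfl
  · intro U
    rw [Scheme.Hom.ker_apply]
    simp only [Scheme.IdealSheafData.ideal_bot, Pi.bot_apply]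
    exact (RingHom.injective_iff_ker_eq_bot _).1 (f.toImage_app_injective U)

section Over

variable {S : Scheme.{u}} {G X Y : Over S}

/-- Lifting through a closed immersion along a scheme-theoretically dominant morphism, over a
base. -/
theorem exists_lift_of_schDominant_over {K G Z Z' : Over S} (i : K ⟶ G)
    [IsClosedImmersion i.left]
    (d : Z' ⟶ Z) [IsSchemeTheoreticallyDominant d.left] (φ : Z ⟶ G) (ψ : Z' ⟶ K)
    (h : ψ ≫ i = d ≫ φ) : ∃ χ : Z ⟶ K, χ ≫ i = φ := by
  obtain ⟨χ, hχ⟩ := exists_lift_of_schDominant i.left d.left φ.left ψ.left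
    (by rw [← Over.comp_left, h, Over.comp_left])
  refine ⟨Over.homMk χ ?_, ?_⟩
  · rw [← Over.w i, ← Category.assoc, hχ, Over.w φ]
  · ext; exact hχ

/-- `φ ▷ G : X ×_S G ⟶ Y ×_S G` is the base change of `φ` along the first projection. -/
theorem isPullback_whiskerRight' (φ : X ⟶ Y) :
    IsPullback (fst X G).left (φ ▷ G).left φ.left (fst Y G).left := by
  have t : IsPullback (fst Y G).left (snd Y G).left Y.hom G.hom :=
    IsPullback.of_hasPullback Y.hom G.hom
  have o : IsPullback (fst X G).left (snd X G).left X.hom G.hom :=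
    IsPullback.of_hasPullback X.hom G.hom
  have e1 : (φ ▷ G).left ≫ (snd Y G).left = (snd X G).left := by
    rw [← Over.comp_left, whiskerRight_snd]
  have e2 : φ.left ≫ Y.hom = X.hom := Over.w φ
  have p : (φ ▷ G).left ≫ (fst Y G).left = (fst X G).left ≫ φ.left := by
    rw [← Over.comp_left, whiskerRight_fst, Over.comp_left]
  have s : IsPullback ((φ ▷ G).left ≫ (snd Y G).left) (fst X G).left G.hom
      (φ.left ≫ Y.hom) := by
    rw [e1, e2]; exact o.flip
  exact (IsPullback.of_right s p t.flip).flip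

theorem schDominant_whiskerLeft [Flat G.hom] (φ : X ⟶ Y)
    [IsSchemeTheoreticallyDominant φ.left] [QuasiCompact φ.left] :
    IsSchemeTheoreticallyDominant (G ◁ φ).left := by
  haveI : Flat (snd G Y).left := by rw [Over.snd_left]; infer_instance
  exact IsSchemeTheoreticallyDominant.of_isPullback
    (Groth.Agent.Helper2.Orbit.isPullback_whiskerLeft' φ)

theorem schDominant_whiskerRight [Flat G.hom] (φ : X ⟶ Y)
    [IsSchemeTheoreticallyDominant φ.left] [QuasiCompact φ.left] :
    IsSchemeTheoreticallyDominant (φ ▷ G).left := by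
  haveI : Flat (fst Y G).left := by rw [Over.fst_left]; infer_instance
  exact IsSchemeTheoreticallyDominant.of_isPullback (isPullback_whiskerRight' φ)

theorem schDominant_tensorHom {X' Y' : Over S} [Flat X'.hom] [Flat Y.hom] (φ : X ⟶ Y)
    (ψ : X' ⟶ Y')
    [IsSchemeTheoreticallyDominant φ.left] [QuasiCompact φ.left]
    [IsSchemeTheoreticallyDominant ψ.left] [QuasiCompact ψ.left] :
    IsSchemeTheoreticallyDominant (φ ⊗ₘ ψ).left := by
  haveI := schDominant_whiskerRight (G := X') φ
  haveI := schDominant_whiskerLeft (G := Y) ψ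
  rw [MonoidalCategory.tensorHom_def, Over.comp_left]
  infer_instance

end Over

section Main

variable {k : Type u} [Field k] {H G K : Over (Spec (CommRingCat.of k))} [GrpObj H] [GrpObj G]
  (f : H ⟶ G) [IsMonHom f] (i : K ⟶ G) [IsClosedImmersion i.left] (g : H ⟶ K)
  (hgi : g ≫ i = f) [IsSchemeTheoreticallyDominant g.left] [QuasiCompact g.left]

include hgi in
/-- The scheme-theoretic image of a quasi-compact homomorphism of group schemes over a field
is a subgroup scheme. -/
theorem exists_grpObj : ∃ (_ : GrpObj K), IsMonHom i ∧ IsMonHom g := by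
  haveI : Mono i.left := inferInstance
  haveI : Mono i := (Over.forget _).mono_of_mono_map ‹Mono i.left›
  haveI : Flat H.hom := inferInstance
  haveI : Flat K.hom := inferInstance
  obtain ⟨e, he, he'⟩ : ∃ e : 𝟙_ _ ⟶ K, e ≫ i = η[G] ∧ η[H] ≫ g = e :=
    ⟨η[H] ≫ g, by rw [Category.assoc, hgi, IsMonHom.one_hom], rfl⟩
  haveI : IsSchemeTheoreticallyDominant (g ⊗ₘ g).left := schDominant_tensorHom g g
  obtain ⟨m, hm⟩ : ∃ m : K ⊗ K ⟶ K, m ≫ i = (i ⊗ₘ i) ≫ μ[G] :=
    exists_lift_of_schDominant_over i (g ⊗ₘ g) ((i ⊗ₘ i) ≫ μ[G]) (μ[H] ≫ g) (by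
      rw [Category.assoc, hgi, IsMonHom.mul_hom, ← Category.assoc, tensorHom_comp_tensorHom, hgi])
  obtain ⟨v, hv⟩ : ∃ v : K ⟶ K, v ≫ i = i ≫ ι[G] :=
    exists_lift_of_schDominant_over i g (i ≫ ι[G]) (ι[H] ≫ g) (by
      rw [Category.assoc, hgi, ← Category.assoc, hgi, GrpObj.inv_hom])
  refine ⟨Groth.Agent.Helper2.SubGrp.grpObjOfMono i e he m hm v hv,
    Groth.Agent.Helper2.SubGrp.isMonHom_of_mono i e he m hm, ?_⟩
  letI := Groth.Agent.Helper2.SubGrp.monObjOfMono i e he m hm
  exact
    { one_hom := he'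
      mul_hom := by
        change μ[H] ≫ g = (g ⊗ₘ g) ≫ m
        rw [← cancel_mono i, Category.assoc, Category.assoc, hm, hgi, IsMonHom.mul_hom,
          ← Category.assoc, tensorHom_comp_tensorHom, hgi] }

end Main

end Groth.Agent.Helper2.SchImage
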