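import Mathlib
import Groth.Agent.Lib.Helper2.Sch.Reduced
import Groth.Agent.Lib.Helper2.Sch.QfAt

/-!
# Schemes etale over the spectrum of a field (helper2)

Such a scheme is discrete with all local rings fields; base changes of preimmersions to it
are open immersions.
-/

set_option autoImplicit false

universe u

open CategoryTheory CategoryTheory.Limits AlgebraicGeometry

namespace Groth.Agent.Helper2.EtaleField

/-- The local rings of a locally Artinian scheme are Artinian. -/
theorem isArtinianRing_stalk (X : Scheme.{u}) [IsLocallyArtinian X] (x : X) :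
    IsArtinianRing (X.presheaf.stalk x) := by
  obtain ⟨V, hV, hxV, -⟩ := exists_isAffineOpen_mem_and_subset (show x ∈ (⊤ : X.Opens) from trivial)
  let := X.presheaf.algebra_section_stalk ⟨x, hxV⟩
  have := hV.isLocalization_stalk ⟨x, hxV⟩
  haveI : IsArtinianRing Γ(X, V) := IsLocallyArtinian.isArtinianRing_presheaf_obj ⟨V, hV⟩
  exact IsArtinianRing.localization_artinian (hV.primeIdealOf ⟨x, hxV⟩).asIdeal.primeCompl _

/-- A scheme is "field-like" if it is discrete with all local rings fields. -/
structure IsFieldLike (F : Scheme.{u}) : Prop where
  discrete : DiscreteTopology F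
  isField : ∀ w : F, IsField (F.presheaf.stalk w)

theorem isFieldLike_of_artinian_reduced (F : Scheme.{u}) [IsLocallyArtinian F] [IsReduced F] :
    IsFieldLike F where
  discrete := inferInstance
  isField w := by
    haveI := isArtinianRing_stalk F w
    exact IsArtinianRing.isField_of_isReduced_of_isLocalRing _

/-- A scheme etale over the spectrum of a field is discrete with all local rings fields. -/
theorem isFieldLike_of_etale {K : Type u} [Field K] {F : Scheme.{u}}
    (f : F ⟶ Spec (CommRingCat.of K)) [Etale f] : IsFieldLike F := by
  haveI : LocallyQuasiFinite f := QfAt.locallyQuasiFinite_of_etale f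
  haveI : IsLocallyArtinian F := IsLocallyArtinian.of_locallyQuasiFinite f
  haveI : IsReduced F := SchLib.isReduced_of_smooth f
  exact isFieldLike_of_artinian_reduced F

/-- A ring map from a field to a nontrivial ring is injective. -/
theorem injective_of_isField {A B : Type*} [CommRing A] [CommRing B] [Nontrivial B]
    (hA : IsField A) (f : A →+* B) : Function.Injective f := by
  rw [injective_iff_map_eq_zero]
  intro x hx
  by_contra hne
  obtain ⟨y, hy⟩ := hA.mul_inv_cancel hne
  have h1 : f x * f y = 1 := by rw [← map_mul, hy, map_one]
  rw [hx, zero_mul] at h1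
  exact zero_ne_one h1

/-- The base change of a preimmersion to a discrete scheme with field local rings is an open
immersion. -/
theorem isOpenImmersion_of_preimmersion {F U Z P : Scheme.{u}} (hF : IsFieldLike F)
    (g : F ⟶ U) (j : Z ⟶ U) [IsPreimmersion j] (fst : P ⟶ F) (snd : P ⟶ Z)
    (sq : IsPullback fst snd g j) : IsOpenImmersion fst := by
  haveI : IsPreimmersion fst := MorphismProperty.of_isPullback sq.flip ‹IsPreimmersion j›
  haveI := hF.discrete
  have hemb : Topology.IsOpenEmbedding fst :=
    ⟨fst.isEmbedding, isOpen_discrete _⟩
  haveI : ∀ z, IsIso (fst.stalkMap z) := by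
    intro z
    rw [ConcreteCategory.isIso_iff_bijective]
    exact ⟨injective_of_isField (hF.isField (fst z)) (fst.stalkMap z).hom,
      fst.stalkMap_surjective z⟩
  exact IsOpenImmersion.of_isIso_stalkMap fst hemb

end Groth.Agent.Helper2.EtaleField
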