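import Mathlib

/-!
# Descent of the locally Noetherian property along fppf coverings of schemes
-/

universe u

open CategoryTheory CategoryTheory.Limits AlgebraicGeometry

namespace Groth.Agent.Helper2.SchLib

/-- Noetherianity descends along faithfully flat ring maps. -/
theorem isNoetherianRing_of_faithfullyFlat {A B : Type*} [CommRing A] [CommRing B] {φ : A →+* B}
    (hφ : φ.FaithfullyFlat) [IsNoetherianRing B] : IsNoetherianRing A := by
  algebraize [φ]
  rw [isNoetherianRing_iff, isNoetherian_iff']
  have hmono' : Monotone (Ideal.map (algebraMap A B)) := fun _ _ h => Ideal.map_mono h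
  have hmono : StrictMono (Ideal.map (algebraMap A B)) :=
    hmono'.strictMono_of_injective Ideal.map_injective_of_faithfullyFlat
  exact hmono.wellFoundedGT

/-- The target of a flat, open, surjective morphism from a locally Noetherian scheme to an affine
scheme has a Noetherian ring of global sections. -/
theorem isNoetherianRing_of_flat_open_surjective {W V : Scheme.{u}} [IsAffine V] (f : W ⟶ V)
    [Flat f] [Surjective f] (hopen : IsOpenMap f) [IsLocallyNoetherian W] :
    IsNoetherianRing Γ(V, ⊤) := by
  have hcov : (Set.univ : Set V) ⊆ ⋃ j : W.affineOpens, f '' (j.1 : Set W) := by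
    intro v _
    obtain ⟨w, rfl⟩ := f.surjective v
    obtain ⟨U, hU, hwU, -⟩ := exists_isAffineOpen_mem_and_subset (show w ∈ (⊤ : W.Opens) from trivial)
    exact Set.mem_iUnion.2 ⟨⟨U, hU⟩, w, hwU, rfl⟩
  obtain ⟨t, ht⟩ := isCompact_univ.elim_finite_subcover (fun j : W.affineOpens => f '' (j.1 : Set W))
    (fun j => hopen _ j.1.isOpen) hcov
  let X : t → Scheme.{u} := fun j => (j.1.1 : W.Opens)
  haveI : ∀ j : t, IsAffine (X j) := fun j => j.1.2
  let g : (∐ X) ⟶ V := Sigma.desc fun j => j.1.1.ι ≫ f
  haveI : Flat g := by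
    rw [IsZariskiLocalAtSource.iff_of_openCover (P := @Flat) (sigmaOpenCover _)]
    intro j
    change Flat (Sigma.ι X j ≫ Sigma.desc fun j => j.1.1.ι ≫ f)
    rw [Sigma.ι_desc]
    infer_instance
  haveI : Surjective g := by
    refine ⟨fun v => ?_⟩
    obtain ⟨j, hj, w, hw, rfl⟩ : ∃ j ∈ t, v ∈ f '' (j.1 : Set W) := by
      simpa using ht (Set.mem_univ v)
    refine ⟨Sigma.ι X ⟨j, hj⟩ ⟨w, hw⟩, ?_⟩
    rw [← Scheme.Hom.comp_apply, Sigma.ι_desc]
    rfl
  haveI : IsLocallyNoetherian (∐ X) :=
    (isLocallyNoetherian_iff_openCover (sigmaOpenCover X)).2 fun j => by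
      change IsLocallyNoetherian (X j)
      infer_instance
  haveI : IsNoetherianRing Γ(∐ X, ⊤) :=
    IsLocallyNoetherian.component_noetherian ⟨⊤, isAffineOpen_top (∐ X)⟩
  have hff : g.appTop.hom.FaithfullyFlat :=
    (Flat.flat_and_surjective_iff_faithfullyFlat_of_isAffine g).1 ⟨inferInstance, inferInstance⟩
  exact isNoetherianRing_of_faithfullyFlat hff

/-- The locally Noetherian property descends along flat surjective morphisms locally of finite
presentation. -/
theorem isLocallyNoetherian_of_flat_lfp_surjective {W V : Scheme.{u}} (f : W ⟶ V) [Flat f]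
    [LocallyOfFinitePresentation f] [Surjective f] [IsLocallyNoetherian W] :
    IsLocallyNoetherian V := by
  refine ⟨fun U => ?_⟩
  haveI : IsAffine (U.1 : Scheme) := U.2
  haveI : Flat (f ∣_ U.1) := IsZariskiLocalAtTarget.restrict ‹_› U.1
  haveI : LocallyOfFinitePresentation (f ∣_ U.1) := IsZariskiLocalAtTarget.restrict ‹_› U.1
  haveI : Surjective (f ∣_ U.1) := IsZariskiLocalAtTarget.restrict ‹_› U.1
  have := isNoetherianRing_of_flat_open_surjective (f ∣_ U.1) (f ∣_ U.1).isOpenMap
  exact isNoetherianRing_of_ringEquiv _ (U.1.topIso).commRingCatIsoToRingEquiv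

end Groth.Agent.Helper2.SchLib
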