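import Mathlib

/-! A nonempty reduced scheme admits a flat morphism from the spectrum of a field. -/
namespace Groth.Agent.Helper2.SchLib
open CategoryTheory CategoryTheory.Limits AlgebraicGeometry
universe u

theorem exists_prime_flat_residueField (A : Type u) [CommRing A] [IsReduced A] [Nontrivial A] :
    ∃ (𝔭 : Ideal A) (_ : 𝔭.IsPrime), (algebraMap A 𝔭.ResidueField).Flat := by
  obtain ⟨⟨𝔭, hp⟩⟩ := Ideal.nonempty_minimalPrimes (bot_ne_top : (⊥ : Ideal A) ≠ ⊤)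
  have hprime : 𝔭.IsPrime := hp.1.1
  refine ⟨𝔭, hprime, ?_⟩
  haveI : Ring.KrullDimLE 0 (Localization.AtPrime 𝔭) :=
    Ring.KrullDimLE.of_isLocalization 𝔭 hp _
  have hfield : IsField (Localization.AtPrime 𝔭) := Ring.KrullDimLE.isField_of_isReduced
  rw [IsScalarTower.algebraMap_eq A (Localization.AtPrime 𝔭) 𝔭.ResidueField]
  exact RingHom.Flat.comp (RingHom.flat_algebraMap_iff.mpr inferInstance)
    (RingHom.Flat.of_isField hfield _)

theorem exists_flat_fieldPt_of_isReduced (U : Scheme.{u}) [IsReduced U] [Nonempty U] :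
    ∃ (k : Type u) (_ : Field k) (g : Spec (CommRingCat.of k) ⟶ U), Flat g := by
  obtain ⟨x⟩ := (inferInstance : Nonempty U)
  obtain ⟨_, ⟨V, hV : IsAffineOpen V, rfl⟩, hxV, -⟩ :=
    U.isBasis_affineOpens.exists_subset_of_mem_open (Set.mem_univ x) isOpen_univ
  haveI : Nontrivial Γ(U, V) := by
    have : Nonempty (V : Set U) := ⟨⟨x, hxV⟩⟩
    have : Nonempty (Spec Γ(U, V)) := ⟨hV.primeIdealOf ⟨x, hxV⟩⟩
    by_contra h
    rw [not_nontrivial_iff_subsingleton] at h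
    exact (inferInstance : IsEmpty (PrimeSpectrum Γ(U, V))).false (hV.primeIdealOf ⟨x, hxV⟩)
  obtain ⟨𝔭, _, hflat⟩ := exists_prime_flat_residueField Γ(U, V)
  refine ⟨𝔭.ResidueField, inferInstance,
    Spec.map (CommRingCat.ofHom (algebraMap Γ(U, V) 𝔭.ResidueField)) ≫ hV.fromSpec, ?_⟩
  haveI : Flat (Spec.map (CommRingCat.ofHom (algebraMap Γ(U, V) 𝔭.ResidueField))) :=
    Flat.SpecMap_iff.mpr hflat
  infer_instance

theorem exists_lft_fieldPt (U : Scheme.{u}) [Nonempty U] :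
    ∃ (k : Type u) (_ : Field k) (g : Spec (CommRingCat.of k) ⟶ U), LocallyOfFiniteType g := by
  obtain ⟨x⟩ := (inferInstance : Nonempty U)
  obtain ⟨_, ⟨V, hV : IsAffineOpen V, rfl⟩, hxV, -⟩ :=
    U.isBasis_affineOpens.exists_subset_of_mem_open (Set.mem_univ x) isOpen_univ
  haveI : Nontrivial Γ(U, V) := by
    by_contra h
    rw [not_nontrivial_iff_subsingleton] at h
    exact (inferInstance : IsEmpty (PrimeSpectrum Γ(U, V))).false (hV.primeIdealOf ⟨x, hxV⟩)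
  obtain ⟨𝔪, h𝔪⟩ := Ideal.exists_maximal Γ(U, V)
  letI : Field (Γ(U, V) ⧸ 𝔪) := Ideal.Quotient.field 𝔪
  refine ⟨Γ(U, V) ⧸ 𝔪, inferInstance,
    Spec.map (CommRingCat.ofHom (Ideal.Quotient.mk 𝔪)) ≫ hV.fromSpec, ?_⟩
  haveI : IsClosedImmersion (Spec.map (CommRingCat.ofHom (Ideal.Quotient.mk 𝔪))) :=
    IsClosedImmersion.spec_of_surjective _ Ideal.Quotient.mk_surjective
  infer_instance

end Groth.Agent.Helper2.SchLib
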