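import Mathlib
import Groth.Agent.Lib.Helper2.AlgSp.UBSch

/-!
# Degrees of finite schemes over a field (helper2)

`fdeg c` is the degree of a finite `c : T ⟶ Spec K`.
-/

set_option autoImplicit false
set_option linter.style.haveILetI false

open CategoryTheory CategoryTheory.Limits AlgebraicGeometry TensorProduct

universe u

namespace Groth.Agent.Helper2.FibDeg

open Groth.Agent.Helper2.UBAlg

variable {K : Type u} [Field K]

/-- The degree of `c : T ⟶ Spec K` (meaningful when `c` is finite). -/
noncomputable def fdeg {T : Scheme.{u}} (c : T ⟶ Spec (.of K)) : ℕ :=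
  c.finrank (IsLocalRing.closedPoint K)

theorem finrank_eq_fdeg {T : Scheme.{u}} (c : T ⟶ Spec (.of K)) (s : Spec (.of K)) :
    c.finrank s = fdeg c := by
  have : s = IsLocalRing.closedPoint K := Subsingleton.elim (α := PrimeSpectrum K) _ _
  rw [this]; rfl

theorem degLE_iff {T : Scheme.{u}} (c : T ⟶ Spec (.of K)) (n : ℕ) :
    DegLE c n ↔ IsFinite c ∧ fdeg c ≤ n := by
  constructor
  · rintro ⟨h1, h2⟩
    exact ⟨h1, h2 _⟩
  · rintro ⟨h1, h2⟩
    exact ⟨h1, fun s => by rw [finrank_eq_fdeg]; exact h2⟩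

theorem fdeg_specMap (A : Type u) [CommRing A] [Algebra K A] [Module.Finite K A] :
    fdeg (Spec.map (CommRingCat.ofHom (algebraMap K A))) = Module.finrank K A := by
  unfold fdeg
  rw [Scheme.Hom.finrank_SpecMap_algebraMap, Module.rankAtStalk_eq_finrank_of_free]
  simp

theorem fdeg_comp_iso {T T' : Scheme.{u}} (e : T ≅ T') (c' : T' ⟶ Spec (.of K)) [IsFinite c'] :
    fdeg (e.hom ≫ c') = fdeg c' := by
  unfold fdeg
  rw [Scheme.Hom.finrank_comp_left_of_isIso]

theorem isFinite_specMap_iff (A : Type u) [CommRing A] [Algebra K A] :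
    IsFinite (Spec.map (CommRingCat.ofHom (algebraMap K A))) ↔ Module.Finite K A := by
  rw [IsFinite.SpecMap_iff]
  exact RingHom.finite_algebraMap

/-- A finite `c` is, up to isomorphism, the spectrum of a finite `K`-algebra. -/
theorem exists_finite_algebra {T : Scheme.{u}} (c : T ⟶ Spec (.of K)) [IsFinite c] :
    ∃ (A : Type u) (_ : CommRing A) (_ : Algebra K A) (_ : Module.Finite K A)
      (e : T ≅ Spec (.of A)),
      e.hom ≫ Spec.map (CommRingCat.ofHom (algebraMap K A)) = c ∧ fdeg c = Module.finrank K A := by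
  haveI : IsAffine T := isAffine_of_isAffineHom c
  obtain ⟨A, _, _, e, he⟩ := exists_algebra c
  have hfin : IsFinite (Spec.map (CommRingCat.ofHom (algebraMap K A))) := by
    have : Spec.map (CommRingCat.ofHom (algebraMap K A)) = e.inv ≫ c := by
      rw [← he, Iso.inv_hom_id_assoc]
    rw [this]; infer_instance
  have hA : Module.Finite K A := (isFinite_specMap_iff A).1 hfin
  refine ⟨A, _, _, hA, e, he, ?_⟩
  rw [← he, fdeg_comp_iso, fdeg_specMap]

/-- Base change along a field extension does not change the degree. -/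
theorem fdeg_of_isPullback {Ω : Type u} [Field Ω] (ψ : K →+* Ω) {T TΩ : Scheme.{u}}
    (c : T ⟶ Spec (.of K)) (cΩ : TΩ ⟶ Spec (.of Ω)) (π : TΩ ⟶ T)
    (sq : IsPullback cΩ π (Spec.map (CommRingCat.ofHom ψ)) c) [IsFinite c] :
    fdeg cΩ = fdeg c := by
  unfold fdeg
  rw [Scheme.Hom.finrank_of_isPullback π cΩ c (Spec.map (CommRingCat.ofHom ψ)) sq.flip]
  exact finrank_eq_fdeg c _

/-- Precomposing with a closed immersion does not increase the degree; equality forces an
isomorphism. -/
theorem fdeg_closedImmersion {T T' : Scheme.{u}} (i : T' ⟶ T) [IsClosedImmersion i]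
    (c : T ⟶ Spec (.of K)) [IsFinite c] :
    fdeg (i ≫ c) ≤ fdeg c ∧ (fdeg (i ≫ c) = fdeg c → IsIso i) := by
  obtain ⟨A, _, _, hA, e, he, hdeg⟩ := exists_finite_algebra c
  obtain ⟨I, e', he'⟩ := IsClosedImmersion.Spec_iff.1 (inferInstance : IsClosedImmersion (i ≫ e.hom))
  have hic : i ≫ c = e'.hom ≫ Spec.map (CommRingCat.ofHom (algebraMap K (A ⧸ I))) := by
    rw [← he, ← Category.assoc, he', Category.assoc, ← Spec.map_comp]
    rfl
  haveI : IsFinite (Spec.map (CommRingCat.ofHom (algebraMap K (A ⧸ I)))) :=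
    (isFinite_specMap_iff _).2 inferInstance
  have hd' : fdeg (i ≫ c) = Module.finrank K (A ⧸ I) := by
    rw [hic, fdeg_comp_iso, fdeg_specMap]
  have hle : Module.finrank K (A ⧸ I) ≤ Module.finrank K A :=
    (I.restrictScalars K).finrank_quotient_le
  refine ⟨by rw [hd', hdeg]; exact hle, fun heq => ?_⟩
  rw [hd', hdeg] at heq
  have hsum := Submodule.finrank_quotient_add_finrank (I.restrictScalars K)
  have heq' : Module.finrank K (A ⧸ I.restrictScalars K) = Module.finrank K A := heq
  have h0 : Module.finrank K (I.restrictScalars K) = 0 := by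
    have h1 : Module.finrank K (A ⧸ I.restrictScalars K) + Module.finrank K (I.restrictScalars K) =
        Module.finrank K (A ⧸ I.restrictScalars K) + 0 := by
      rw [Nat.add_zero]; exact hsum.trans heq'.symm
    exact Nat.add_left_cancel h1
  have hbot : I.restrictScalars K = ⊥ := Submodule.finrank_eq_zero.mp h0
  have hIbot : I = ⊥ := by
    rw [eq_bot_iff]
    intro x hx
    have : x ∈ I.restrictScalars K := hx
    rw [hbot] at this
    exact this
  have hbij : Function.Bijective (Ideal.Quotient.mk I) := by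
    refine ⟨?_, Ideal.Quotient.mk_surjective⟩
    rw [RingHom.injective_iff_ker_eq_bot, Ideal.mk_ker, hIbot]
  haveI : IsIso (CommRingCat.ofHom (Ideal.Quotient.mk I)) :=
    (ConcreteCategory.isIso_iff_bijective _).2 hbij
  haveI : IsIso (i ≫ e.hom) := by rw [he']; infer_instance
  exact IsIso.of_isIso_comp_right i e.hom

theorem fdeg_pos_of_nonempty {T : Scheme.{u}} (c : T ⟶ Spec (.of K)) [IsFinite c] [Nonempty T] :
    0 < fdeg c := by
  obtain ⟨A, _, _, hA, e, he, hdeg⟩ := exists_finite_algebra c
  rw [hdeg]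
  haveI : Nonempty (Spec (.of A)) := ⟨e.hom (Classical.arbitrary T)⟩
  haveI : Nontrivial A := by
    by_contra h
    rw [not_nontrivial_iff_subsingleton] at h
    exact (inferInstance : IsEmpty (PrimeSpectrum A)).false (Classical.arbitrary (Spec (.of A)))
  exact Module.finrank_pos

end Groth.Agent.Helper2.FibDeg
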