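import Mathlib
import Groth.Agent.Lib.Helper2.Sch.FibDeg1

/-!
# Fibre degrees of a morphism of schemes at a point (helper2)
-/

set_option autoImplicit false
set_option linter.style.haveILetI false

open CategoryTheory CategoryTheory.Limits AlgebraicGeometry TensorProduct

universe u

namespace Groth.Agent.Helper2.FibDeg

open Groth.Agent.Helper2.UBAlg

theorem exists_preimage_of_isPullback {P X Y S : Scheme.{u}} {fst : P ⟶ X} {snd : P ⟶ Y}
    {f : X ⟶ S} {g : Y ⟶ S} (sq : IsPullback fst snd f g) (x : X) (y : Y) (h : f x = g y) :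
    ∃ z : P, fst z = x ∧ snd z = y := by
  obtain ⟨z, hz1, hz2⟩ := Scheme.Pullback.exists_preimage_pullback x y h
  refine ⟨sq.isoPullback.inv z, ?_, ?_⟩
  · rw [← Scheme.Hom.comp_apply, IsPullback.isoPullback_inv_fst]; exact hz1
  · rw [← Scheme.Hom.comp_apply, IsPullback.isoPullback_inv_snd]; exact hz2

theorem coe_eq_compl_of_isCompl {Z : Scheme.{u}} {V W : Z.Opens} (hVW : IsCompl V W) :
    (W : Set Z) = (V : Set Z)ᶜ := by
  have h1 : (V : Set Z) ∩ (W : Set Z) = ∅ := by
    have := hVW.disjoint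
    rw [disjoint_iff] at this
    have h2 := congrArg (fun O : Z.Opens => (O : Set Z)) this
    simpa using h2
  have h1' : (V : Set Z) ∪ (W : Set Z) = Set.univ := by
    have := hVW.codisjoint
    rw [codisjoint_iff] at this
    have h2 := congrArg (fun O : Z.Opens => (O : Set Z)) this
    simpa using h2
  ext z
  constructor
  · intro hz hz'
    have : z ∈ (V : Set Z) ∩ (W : Set Z) := ⟨hz', hz⟩
    rw [h1] at this
    exact this
  · intro hz
    have : z ∈ (V : Set Z) ∪ (W : Set Z) := by rw [h1']; trivial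
    exact this.resolve_left hz

/-- Every field-valued fibre of `h` over the point `b` is finite of degree at most `n`. -/
def FibDegLE {Z B : Scheme.{u}} (h : Z ⟶ B) (b : B) (n : ℕ) : Prop :=
  ∀ (K : Type u) [Field K] (μ : Spec (.of K) ⟶ B), (∀ z, μ z = b) →
    ∀ (T : Scheme.{u}) (c : T ⟶ Spec (.of K)) (p : T ⟶ Z), IsPullback c p μ h → DegLE c n

theorem FibDegLE.mono {Z B : Scheme.{u}} {h : Z ⟶ B} {b : B} {n n' : ℕ} (H : FibDegLE h b n)
    (hn : n ≤ n') : FibDegLE h b n' :=
  fun K _ μ hμ T c p sq => (H K μ hμ T c p sq).mono hn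

/-- Base change. -/
theorem FibDegLE.baseChange {Z B Z' B' : Scheme.{u}} {h : Z ⟶ B} {h' : Z' ⟶ B'} {g' : Z' ⟶ Z}
    {g : B' ⟶ B} (sq : IsPullback g' h' h g) (b' : B') {n : ℕ} (H : FibDegLE h (g b') n) :
    FibDegLE h' b' n := by
  intro K _ μ hμ T c p sqT
  have big := sqT.paste_vert sq.flip
  refine H K (μ ≫ g) (fun z => ?_) T c (p ≫ g') big
  rw [Scheme.Hom.comp_apply, hμ]

/-- The canonical fibre square. -/
theorem isPullback_fiber {Z B : Scheme.{u}} (h : Z ⟶ B) (b : B) :
    IsPullback (h.fiberToSpecResidueField b) (h.fiberι b) (B.fromSpecResidueField b) h :=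
  (IsPullback.of_hasPullback h _).flip

theorem fromSpecResidueField_apply' {B : Scheme.{u}} (b : B) (z : Spec (B.residueField b)) :
    B.fromSpecResidueField b z = b := by
  have : z = IsLocalRing.closedPoint (B.residueField b) :=
    Subsingleton.elim (α := PrimeSpectrum (B.residueField b)) _ _
  rw [this]
  exact B.fromSpecResidueField_apply b _

/-- The canonical fibre is finite of degree at most `n`. -/
theorem FibDegLE.fiber {Z B : Scheme.{u}} {h : Z ⟶ B} {b : B} {n : ℕ} (H : FibDegLE h b n) :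
    @DegLE (h.fiber b) (B.residueField b) _ (h.fiberToSpecResidueField b) n :=
  H (B.residueField b) (B.fromSpecResidueField b) (fromSpecResidueField_apply' b) _ _ _
    (isPullback_fiber h b)

theorem FibDegLE.pos {Z B : Scheme.{u}} {h : Z ⟶ B} {b : B} {n : ℕ} (H : FibDegLE h b n)
    (z : Z) (hz : h z = b) : 1 ≤ n := by
  have hd := H.fiber
  obtain ⟨hfin, hcard⟩ := card_le_of_degLE _ hd
  have hz' : z ∈ Set.range (h.fiberι b) := by
    rw [Scheme.Hom.range_fiberι]; exact hz
  obtain ⟨t, -⟩ := hz'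
  haveI := hfin
  haveI : Nonempty (h.fiber b) := ⟨t⟩
  exact (Nat.card_pos (α := h.fiber b)).trans_le hcard

theorem FibDegLE.ne_of_zero {Z B : Scheme.{u}} {h : Z ⟶ B} {b : B} (H : FibDegLE h b 0) (z : Z) :
    h z ≠ b := by
  intro hz
  have := H.pos z hz
  omega

/-- Removing a clopen piece which meets the fibre lowers the degree. -/
theorem FibDegLE.of_isCompl {Z B : Scheme.{u}} {h : Z ⟶ B} {b : B} {n : ℕ} (H : FibDegLE h b n)
    (V W : Z.Opens) (hVW : IsCompl V W) (v : Z) (hv : v ∈ V) (hvb : h v = b) :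
    FibDegLE (W.ι ≫ h) b (n - 1) := by
  intro K _ μ hμ T c p sqT
  have sqT' := IsPullback.of_hasPullback μ h
  have hd := H K μ hμ _ _ _ sqT'
  haveI := hd.1
  obtain ⟨i, hi⟩ : ∃ i : T ⟶ pullback μ h, i = pullback.lift c (p ≫ W.ι) (by
      rw [Category.assoc]; exact sqT.w) := ⟨_, rfl⟩
  have hi1 : i ≫ pullback.fst μ h = c := by rw [hi, pullback.lift_fst]
  have hi2 : i ≫ pullback.snd μ h = p ≫ W.ι := by rw [hi, pullback.lift_snd]
  have sqi : IsPullback i p (pullback.snd μ h) W.ι := by
    refine IsPullback.of_right ?_ hi2 sqT'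
    rw [hi1]
    exact sqT
  haveI : IsOpenImmersion i := MorphismProperty.of_isPullback (P := @IsOpenImmersion) sqi.flip
    inferInstance
  have hrange : Set.range i = (pullback.snd μ h) ⁻¹' (W : Set Z) := by
    ext t
    constructor
    · rintro ⟨t', rfl⟩
      show pullback.snd μ h (i t') ∈ W
      rw [← Scheme.Hom.comp_apply, hi2, Scheme.Hom.comp_apply]
      exact (p t').2
    · intro ht
      obtain ⟨w, hw⟩ : pullback.snd μ h t ∈ Set.range W.ι := by
        rw [Scheme.Opens.range_ι]; exact ht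
      obtain ⟨t', ht'1, -⟩ := exists_preimage_of_isPullback sqi t w hw.symm
      exact ⟨t', ht'1⟩
  have hclosed : IsClosed (Set.range i) := by
    rw [hrange]
    have hW : (W : Set Z) = (V : Set Z)ᶜ := coe_eq_compl_of_isCompl hVW
    rw [hW, Set.preimage_compl]
    exact (V.isOpen.preimage (pullback.snd μ h).continuous).isClosed_compl
  haveI : IsClosedImmersion i := IsClosedImmersion.of_isPreimmersion i hclosed
  obtain ⟨hle, hiso⟩ := fdeg_closedImmersion i (pullback.fst μ h)
  rw [hi1] at hle hiso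
  have hnot : ¬ IsIso i := by
    intro hI
    obtain ⟨t, -, ht⟩ := exists_preimage_of_isPullback sqT' (IsLocalRing.closedPoint K) v
      ((hμ _).trans hvb.symm)
    have : t ∈ Set.range i := by
      have := (ConcreteCategory.bijective_of_isIso i.base).2 t
      exact this
    rw [hrange] at this
    have hvW : v ∈ (W : Set Z) := by rw [← ht]; exact this
    rw [coe_eq_compl_of_isCompl hVW] at hvW
    exact hvW hv
  have hlt : fdeg c < fdeg (pullback.fst μ h) :=
    lt_of_le_of_ne hle (fun heq => hnot (hiso heq))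
  have hdn := ((degLE_iff _ _).1 hd).2
  rw [degLE_iff]
  refine ⟨?_, by omega⟩
  rw [← hi1]
  infer_instance

end Groth.Agent.Helper2.FibDeg
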