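import Mathlib
import Groth.Agent.Lib.Helper2.Sch.FibDeg2

/-!
# Unions of opens finite over the base (helper2)
-/

set_option autoImplicit false
set_option linter.style.haveILetI false

open CategoryTheory CategoryTheory.Limits AlgebraicGeometry TensorProduct

universe u

namespace Groth.Agent.Helper2.FibDeg

theorem ι_image_preimage_comp {X Y : Scheme.{u}} (f : X ⟶ Y) (W : X.Opens) (O : Set Y) :
    W.ι '' ((W.ι ≫ f) ⁻¹' O) = (W : Set X) ∩ f ⁻¹' O := by
  ext x
  constructor
  · rintro ⟨w, hw, rfl⟩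
    exact ⟨w.2, hw⟩
  · rintro ⟨hx, hfx⟩
    exact ⟨⟨x, hx⟩, hfx, rfl⟩

/-- Inside a separated, locally quasi-finite scheme locally of finite type over `Y`, the union of two opens
which are finite over `Y` is finite over `Y`. -/
theorem isFinite_sup {X Y : Scheme.{u}} (f : X ⟶ Y) [LocallyOfFiniteType f] [IsSeparated f]
    [LocallyQuasiFinite f] (A B : X.Opens) (hA : IsFinite (A.ι ≫ f)) (hB : IsFinite (B.ι ≫ f)) :
    IsFinite ((A ⊔ B).ι ≫ f) := by
  haveI hqc : QuasiCompact ((A ⊔ B).ι ≫ f) := by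
    constructor
    intro O hO hOc
    have hA' : IsCompact ((A.ι ≫ f) ⁻¹' O) := QuasiCompact.isCompact_preimage O hO hOc
    have hB' : IsCompact ((B.ι ≫ f) ⁻¹' O) := QuasiCompact.isCompact_preimage O hO hOc
    have h1 := hA'.image A.ι.continuous
    have h2 := hB'.image B.ι.continuous
    rw [ι_image_preimage_comp] at h1 h2
    rw [(A ⊔ B).ι.isEmbedding.isCompact_iff, ι_image_preimage_comp]
    have : ((A ⊔ B : X.Opens) : Set X) ∩ f ⁻¹' O =
        ((A : Set X) ∩ f ⁻¹' O) ∪ ((B : Set X) ∩ f ⁻¹' O) := by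
      rw [← Set.union_inter_distrib_right]
      rfl
    rw [this]
    exact h1.union h2
  have hex : ValuativeCriterion.Existence ((A ⊔ B).ι ≫ f) := by
    intro S
    let p : (A ⊔ B : X.Opens) := S.i₁ (IsLocalRing.closedPoint S.K)
    have hp : p.1 ∈ A ⊔ B := p.2
    obtain ⟨W, hWle, hpW, hWfin⟩ : ∃ W : X.Opens, W ≤ A ⊔ B ∧ p.1 ∈ W ∧ IsFinite (W.ι ≫ f) := by
      rcases hp with h | h
      · exact ⟨A, le_sup_left, h, hA⟩
      · exact ⟨B, le_sup_right, h, hB⟩
    let j : W.toScheme ⟶ (A ⊔ B).toScheme := X.homOfLE hWle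
    have hrange : Set.range S.i₁ ⊆ Set.range j := by
      rintro _ ⟨z, rfl⟩
      have hz : z = IsLocalRing.closedPoint S.K := Subsingleton.elim _ _
      rw [hz]
      have h1 : Set.range j = ((X.homOfLE hWle).opensRange : Set ↑(A ⊔ B)) := rfl
      rw [h1, Scheme.opensRange_homOfLE]
      exact hpW
    let l₁ := IsOpenImmersion.lift j S.i₁ hrange
    have hl₁ : l₁ ≫ j = S.i₁ := IsOpenImmersion.lift_fac j S.i₁ hrange
    have hjι : j ≫ (A ⊔ B).ι = W.ι := X.homOfLE_ι hWle
    have sq : CommSq l₁ (Spec.map (CommRingCat.ofHom (algebraMap S.R S.K)))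
        (W.ι ≫ f) S.i₂ := by
      constructor
      rw [← hjι, Category.assoc, ← Category.assoc l₁, hl₁]
      exact S.commSq.w
    let S' : ValuativeCommSq (W.ι ≫ f) :=
      { R := S.R, K := S.K, i₁ := l₁, i₂ := S.i₂, commSq := sq }
    haveI := hWfin
    have huc : UniversallyClosed (W.ι ≫ f) := inferInstance
    rw [UniversallyClosed.eq_valuativeCriterion] at huc
    obtain ⟨⟨l, hl1, hl2⟩⟩ := huc.1 S'
    refine ⟨⟨⟨l ≫ j, ?_, ?_⟩⟩⟩
    · rw [← Category.assoc]
      have : Spec.map (CommRingCat.ofHom (algebraMap S.R S.K)) ≫ l = l₁ := hl1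
      rw [this, hl₁]
    · rw [Category.assoc, ← Category.assoc j, hjι]
      exact hl2
  haveI : UniversallyClosed ((A ⊔ B).ι ≫ f) := UniversallyClosed.of_valuativeCriterion _ hex
  haveI : IsProper ((A ⊔ B).ι ≫ f) := {}
  exact IsFinite.of_isProper_of_locallyQuasiFinite _

end Groth.Agent.Helper2.FibDeg
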