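import Mathlib
import Groth.Agent.Lib.Helper2.Sch.FibDeg3

/-!
# Étale-local splitting off of a finite part containing a whole fibre (helper2)
-/

set_option autoImplicit false
set_option linter.style.haveILetI false

open CategoryTheory CategoryTheory.Limits AlgebraicGeometry TensorProduct

universe u

namespace Groth.Agent.Helper2.FibDeg

/-- Base change of an open which is finite over the base. -/
theorem isFinite_preimage_of_isPullback {P U P' U' : Scheme.{u}} {π : P' ⟶ P} {s' : P' ⟶ U'}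
    {s : P ⟶ U} {g' : U' ⟶ U} (sq : IsPullback π s' s g') (V : P.Opens)
    (hV : IsFinite (V.ι ≫ s)) : IsFinite ((π ⁻¹ᵁ V).ι ≫ s') := by
  have h1 := isPullback_morphismRestrict π V
  have h2 := h1.paste_vert sq
  exact MorphismProperty.of_isPullback (P := @IsFinite) h2 hV

/-- The transitivity square for pullbacks along a composite. -/
theorem isPullback_lift_comp {W Y U₁ U₂ : Scheme.{u}} (f : W ⟶ Y) (g₁ : U₁ ⟶ Y) (g₂ : U₂ ⟶ U₁) :
    IsPullback (pullback.lift (pullback.fst f (g₂ ≫ g₁)) (pullback.snd f (g₂ ≫ g₁) ≫ g₂)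
        (by rw [Category.assoc]; exact pullback.condition))
      (pullback.snd f (g₂ ≫ g₁)) (pullback.snd f g₁) g₂ := by
  refine IsPullback.of_right ?_ (pullback.lift_snd _ _ _) (IsPullback.of_hasPullback f g₁)
  rw [pullback.lift_fst]
  exact IsPullback.of_hasPullback f (g₂ ≫ g₁)

/-- Étale-local clopen finite piece containing the fibre. -/
def HasSplit {W Y : Scheme.{u}} (f : W ⟶ Y) (y : Y) : Prop :=
  ∃ (U : Scheme.{u}) (g : U ⟶ Y) (_ : Etale g) (u : U) (_ : g u = y)
    (V : (pullback f g).Opens), IsClosed (V : Set ↑(pullback f g)) ∧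
      IsFinite (V.ι ≫ pullback.snd f g) ∧ ∀ z : ↑(pullback f g), pullback.snd f g z = u → z ∈ V

theorem hasSplit_of_forall_ne {W Y : Scheme.{u}} (f : W ⟶ Y) (y : Y) (h : ∀ x, f x ≠ y) :
    HasSplit f y := by
  refine ⟨Y, 𝟙 Y, inferInstance, y, rfl, ⊥, by simp, ?_, ?_⟩
  · haveI : IsEmpty ((⊥ : (pullback f (𝟙 Y)).Opens) : Scheme.{u}) := by
      constructor
      rintro ⟨z, hz⟩
      exact hz
    haveI : IsClosedImmersion ((⊥ : (pullback f (𝟙 Y)).Opens).ι ≫ pullback.snd f (𝟙 Y)) :=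
      inferInstance
    infer_instance
  · intro z hz
    exfalso
    apply h (pullback.fst f (𝟙 Y) z)
    have : f (pullback.fst f (𝟙 Y) z) = (𝟙 Y : Y ⟶ Y) (pullback.snd f (𝟙 Y) z) := by
      rw [← Scheme.Hom.comp_apply, pullback.condition, Scheme.Hom.comp_apply]
    rw [this, hz]
    rfl

/-- **Étale-local splitting.** If the fibre of a separated locally quasi-finite morphism locally of
finite type over `y` has bounded degree then, étale locally around `y`, there is an open and closed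
part which is finite over the base and contains the whole fibre. -/
theorem hasSplit_of_fibDegLE (n : ℕ) : ∀ {W Y : Scheme.{u}} (f : W ⟶ Y) [LocallyOfFiniteType f]
    [IsSeparated f] [LocallyQuasiFinite f] (y : Y), FibDegLE f y n → HasSplit f y := by
  induction n with
  | zero =>
    intro W Y f _ _ _ y H
    exact hasSplit_of_forall_ne f y (fun x => H.ne_of_zero x)
  | succ n ih =>
    intro W Y f _ _ _ y H
    by_cases hne : ∀ x, f x ≠ y
    · exact hasSplit_of_forall_ne f y hne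
    simp only [ne_eq, not_forall, not_not] at hne
    obtain ⟨x, hx⟩ := hne
    obtain ⟨U₁, g₁, hg₁, -, V₁, W₁, v, hVW, hV₁fin, hv⟩ :=
      exists_etale_isCompl_of_quasiFiniteAt f hx (f.quasiFiniteAt x)
    obtain ⟨u₁, hu₁⟩ : ∃ u₁, u₁ = pullback.snd f g₁ v.1 := ⟨_, rfl⟩
    have hgu₁ : g₁ u₁ = y := by
      rw [hu₁, ← Scheme.Hom.comp_apply, ← pullback.condition, Scheme.Hom.comp_apply, hv, hx]
    have H₁ : FibDegLE (pullback.snd f g₁) u₁ (n + 1) :=
      FibDegLE.baseChange (IsPullback.of_hasPullback f g₁) u₁ (by rw [hgu₁]; exact H)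
    have H₂ : FibDegLE (W₁.ι ≫ pullback.snd f g₁) u₁ n :=
      H₁.of_isCompl V₁ W₁ hVW v.1 v.2 hu₁.symm
    obtain ⟨U₂, g₂, hg₂, u₂, hgu₂, V₂, hV₂cl, hV₂fin, hV₂pts⟩ :=
      ih (W₁.ι ≫ pullback.snd f g₁) u₁ H₂
    haveI := hg₁
    haveI := hg₂
    -- the transitivity square
    obtain ⟨π, hπ⟩ : ∃ π, π = pullback.lift (pullback.fst f (g₂ ≫ g₁))
        (pullback.snd f (g₂ ≫ g₁) ≫ g₂) (by rw [Category.assoc]; exact pullback.condition) :=
      ⟨_, rfl⟩
    have sqπ : IsPullback π (pullback.snd f (g₂ ≫ g₁)) (pullback.snd f g₁) g₂ := by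
      rw [hπ]; exact isPullback_lift_comp f g₁ g₂
    -- the open immersion `j`
    have sq₂ := IsPullback.of_hasPullback (W₁.ι ≫ pullback.snd f g₁) g₂
    obtain ⟨j, hj⟩ : ∃ j, j = sqπ.lift (pullback.fst (W₁.ι ≫ pullback.snd f g₁) g₂ ≫ W₁.ι)
        (pullback.snd (W₁.ι ≫ pullback.snd f g₁) g₂)
        (by rw [Category.assoc]; exact pullback.condition) := ⟨_, rfl⟩
    have hj1 : j ≫ π = pullback.fst (W₁.ι ≫ pullback.snd f g₁) g₂ ≫ W₁.ι := by
      rw [hj]; exact sqπ.lift_fst _ _ _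
    have hj2 : j ≫ pullback.snd f (g₂ ≫ g₁) = pullback.snd (W₁.ι ≫ pullback.snd f g₁) g₂ := by
      rw [hj]; exact sqπ.lift_snd _ _ _
    have sqj : IsPullback (pullback.fst (W₁.ι ≫ pullback.snd f g₁) g₂) j W₁.ι π := by
      refine IsPullback.of_bot ?_ hj1.symm sqπ
      rw [hj2]
      exact sq₂
    haveI : IsOpenImmersion j := MorphismProperty.of_isPullback (P := @IsOpenImmersion) sqj
      (inferInstance : IsOpenImmersion W₁.ι)
    have hW₁ : (W₁ : Set ↑(pullback f g₁)) = (V₁ : Set ↑(pullback f g₁))ᶜ :=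
      coe_eq_compl_of_isCompl hVW
    have hrange : ∀ z : ↑(pullback f (g₂ ≫ g₁)), π z ∈ W₁ → z ∈ Set.range j := by
      intro z hz
      obtain ⟨z₂, -, hz₂⟩ := exists_preimage_of_isPullback sqj ⟨π z, hz⟩ z rfl
      exact ⟨z₂, hz₂⟩
    have hrange' : ∀ z₂, π (j z₂) ∈ W₁ := by
      intro z₂
      rw [← Scheme.Hom.comp_apply, hj1, Scheme.Hom.comp_apply]
      exact (pullback.fst (W₁.ι ≫ pullback.snd f g₁) g₂ z₂).2
    refine ⟨U₂, g₂ ≫ g₁, inferInstance, u₂, ?_, π ⁻¹ᵁ V₁ ⊔ j ''ᵁ V₂, ?_, ?_, ?_⟩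
    · rw [Scheme.Hom.comp_apply, hgu₂, hgu₁]
    · -- closed
      rw [← isOpen_compl_iff]
      have : ((π ⁻¹ᵁ V₁ ⊔ j ''ᵁ V₂ : (pullback f (g₂ ≫ g₁)).Opens) : Set _)ᶜ =
          j '' ((V₂ : Set _)ᶜ) := by
        ext z
        simp only [Set.mem_compl_iff, Set.mem_image]
        constructor
        · intro hz
          have hz1 : π z ∈ W₁ := by
            show π z ∈ (W₁ : Set _)
            rw [hW₁]
            intro h
            exact hz (Or.inl h)
          obtain ⟨z₂, rfl⟩ := hrange z hz1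
          refine ⟨z₂, fun h => hz (Or.inr ?_), rfl⟩
          exact ⟨z₂, h, rfl⟩
        · rintro ⟨z₂, hz₂, rfl⟩ (h | h)
          · have h1 := hrange' z₂
            have h2 : π (j z₂) ∈ (V₁ : Set _)ᶜ := by rw [← hW₁]; exact h1
            exact h2 h
          · obtain ⟨z₃, hz₃, hz₃'⟩ := h
            have := j.isOpenEmbedding.injective hz₃'
            exact hz₂ (this ▸ hz₃)
      rw [this]
      exact j.isOpenEmbedding.isOpenMap _ hV₂cl.isOpen_compl
    · -- finite
      apply isFinite_sup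
      · exact isFinite_preimage_of_isPullback sqπ V₁ hV₁fin
      · have h1 : (j ''ᵁ V₂).ι ≫ pullback.snd f (g₂ ≫ g₁) =
            (j.isoImage V₂).inv ≫ V₂.ι ≫ pullback.snd (W₁.ι ≫ pullback.snd f g₁) g₂ := by
          rw [← hj2, ← Scheme.Hom.isoImage_inv_ι j V₂]
          simp only [Category.assoc]
        rw [h1]
        haveI := hV₂fin
        infer_instance
    · intro z hz
      by_cases hzV : π z ∈ V₁
      · exact Or.inl hzV
      · have hz1 : π z ∈ W₁ := by
          show π z ∈ (W₁ : Set _)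
          rw [hW₁]
          exact hzV
        obtain ⟨z₂, rfl⟩ := hrange z hz1
        refine Or.inr ⟨z₂, hV₂pts z₂ ?_, rfl⟩
        rw [← hj2, Scheme.Hom.comp_apply]
        exact hz

end Groth.Agent.Helper2.FibDeg
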