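import Mathlib
import Groth.Agent.Lib.Helper2.Sch.FibDeg4
import Groth.Agent.Lib.Helper2.AlgSp.UBSch

/-!
# Invariance of the fibre degree under change of the field valued point (helper2)
-/

set_option autoImplicit false
set_option linter.style.haveILetI false

open CategoryTheory CategoryTheory.Limits AlgebraicGeometry TensorProduct

universe u

namespace Groth.Agent.Helper2.FibDeg

open Groth.Agent.Helper2.UBAlg

/-- Base change of a degree bound along a field extension. -/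
theorem degLE_baseChange_field {K Ω : Type u} [Field K] [Field Ω] (ψ : K →+* Ω)
    {T TΩ : Scheme.{u}} (c : T ⟶ Spec (.of K)) (cΩ : TΩ ⟶ Spec (.of Ω)) (π : TΩ ⟶ T)
    (sq : IsPullback cΩ π (Spec.map (CommRingCat.ofHom ψ)) c) {n : ℕ} (h : DegLE c n) :
    DegLE cΩ n := by
  rw [degLE_iff] at h ⊢
  obtain ⟨h1, h2⟩ := h
  haveI := h1
  have h3 : IsFinite cΩ := MorphismProperty.of_isPullback (P := @IsFinite) sq.flip h1
  refine ⟨h3, ?_⟩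
  rw [fdeg_of_isPullback ψ c cΩ π sq]
  exact h2

/-- Two field valued points with the same image have a common field extension. -/
theorem exists_common_field {Y : Scheme.{u}} {K₁ K₂ : Type u} [Field K₁] [Field K₂]
    (μ₁ : Spec (.of K₁) ⟶ Y) (μ₂ : Spec (.of K₂) ⟶ Y)
    (h : μ₁ (IsLocalRing.closedPoint K₁) = μ₂ (IsLocalRing.closedPoint K₂)) :
    ∃ (Ω : Type u) (_ : Field Ω) (ψ₁ : K₁ →+* Ω) (ψ₂ : K₂ →+* Ω),
      Spec.map (CommRingCat.ofHom ψ₁) ≫ μ₁ = Spec.map (CommRingCat.ofHom ψ₂) ≫ μ₂ := by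
  obtain ⟨z, -, -⟩ := Scheme.Pullback.exists_preimage_pullback (f := μ₁) (g := μ₂) _ _ h
  let Z := pullback μ₁ μ₂
  let ν := Z.fromSpecResidueField z
  refine ⟨Z.residueField z, inferInstance, (Spec.preimage (ν ≫ pullback.fst μ₁ μ₂)).hom,
    (Spec.preimage (ν ≫ pullback.snd μ₁ μ₂)).hom, ?_⟩
  have e1 : Spec.map (CommRingCat.ofHom (Spec.preimage (ν ≫ pullback.fst μ₁ μ₂)).hom) =
      ν ≫ pullback.fst μ₁ μ₂ := Spec.map_preimage _
  have e2 : Spec.map (CommRingCat.ofHom (Spec.preimage (ν ≫ pullback.snd μ₁ μ₂)).hom) =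
      ν ≫ pullback.snd μ₁ μ₂ := Spec.map_preimage _
  rw [e1, e2, Category.assoc, Category.assoc, pullback.condition]

/-- The degree bound of a fibre only depends on the image point. -/
theorem degLE_invariant {W Y : Scheme.{u}} (f : W ⟶ Y) {K₁ K₂ : Type u} [Field K₁] [Field K₂]
    (μ₁ : Spec (.of K₁) ⟶ Y) (μ₂ : Spec (.of K₂) ⟶ Y)
    (h : μ₁ (IsLocalRing.closedPoint K₁) = μ₂ (IsLocalRing.closedPoint K₂))
    {T₁ T₂ : Scheme.{u}} (c₁ : T₁ ⟶ Spec (.of K₁)) (p₁ : T₁ ⟶ W) (sq₁ : IsPullback c₁ p₁ μ₁ f)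
    (c₂ : T₂ ⟶ Spec (.of K₂)) (p₂ : T₂ ⟶ W) (sq₂ : IsPullback c₂ p₂ μ₂ f) {n : ℕ}
    (H : DegLE c₁ n) : DegLE c₂ n := by
  obtain ⟨Ω, _, ψ₁, ψ₂, hψ⟩ := exists_common_field μ₁ μ₂ h
  have sqΩ₁ : IsPullback (pullback.fst (Spec.map (CommRingCat.ofHom ψ₁)) c₁)
      (pullback.snd (Spec.map (CommRingCat.ofHom ψ₁)) c₁) (Spec.map (CommRingCat.ofHom ψ₁)) c₁ :=
    IsPullback.of_hasPullback _ _
  obtain ⟨cΩ, hcΩ⟩ : ∃ cΩ, cΩ = pullback.fst (Spec.map (CommRingCat.ofHom ψ₁)) c₁ := ⟨_, rfl⟩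
  obtain ⟨π₁, hπ₁⟩ : ∃ π₁, π₁ = pullback.snd (Spec.map (CommRingCat.ofHom ψ₁)) c₁ := ⟨_, rfl⟩
  rw [← hcΩ, ← hπ₁] at sqΩ₁
  have HΩ : DegLE cΩ n := degLE_baseChange_field ψ₁ c₁ cΩ π₁ sqΩ₁ H
  have hcomm : (cΩ ≫ Spec.map (CommRingCat.ofHom ψ₂)) ≫ μ₂ = (π₁ ≫ p₁) ≫ f := by
    rw [Category.assoc, ← hψ, ← Category.assoc, sqΩ₁.w, Category.assoc, sq₁.w, Category.assoc]
  obtain ⟨π₂, hπ₂⟩ : ∃ π₂, π₂ = sq₂.lift (cΩ ≫ Spec.map (CommRingCat.ofHom ψ₂)) (π₁ ≫ p₁) hcomm :=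
    ⟨_, rfl⟩
  have h1 : π₂ ≫ c₂ = cΩ ≫ Spec.map (CommRingCat.ofHom ψ₂) := by
    rw [hπ₂]; exact sq₂.lift_fst _ _ _
  have h2 : π₂ ≫ p₂ = π₁ ≫ p₁ := by
    rw [hπ₂]; exact sq₂.lift_snd _ _ _
  have big : IsPullback (π₂ ≫ p₂) cΩ f (Spec.map (CommRingCat.ofHom ψ₂) ≫ μ₂) := by
    rw [h2, ← hψ]
    exact sqΩ₁.flip.paste_horiz sq₁.flip
  have sqΩ₂ : IsPullback π₂ cΩ c₂ (Spec.map (CommRingCat.ofHom ψ₂)) :=
    IsPullback.of_right big h1 sq₂.flip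
  exact degLE_of_fieldExt ψ₂ c₂ cΩ π₂ sqΩ₂.flip HΩ

/-- The bound on the fibre degree can be tested on a single field valued point. -/
theorem fibDegLE_of_degLE {W Y : Scheme.{u}} (f : W ⟶ Y) {K : Type u} [Field K]
    (μ : Spec (.of K) ⟶ Y) {T : Scheme.{u}} (c : T ⟶ Spec (.of K)) (p : T ⟶ W)
    (sq : IsPullback c p μ f) {n : ℕ} (H : DegLE c n) :
    FibDegLE f (μ (IsLocalRing.closedPoint K)) n := by
  intro K' _ μ' hμ' T' c' p' sq'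
  exact degLE_invariant f μ μ' (hμ' _).symm c p sq c' p' sq' H

/-- Converse to `FibDegLE.baseChange`. -/
theorem FibDegLE.of_baseChange {Z B Z' B' : Scheme.{u}} {h : Z ⟶ B} {h' : Z' ⟶ B'} {g' : Z' ⟶ Z}
    {g : B' ⟶ B} (sq : IsPullback g' h' h g) (b' : B') {n : ℕ} (H : FibDegLE h' b' n) :
    FibDegLE h (g b') n := by
  have hd := H.fiber
  have big := (isPullback_fiber h' b').paste_vert sq.flip
  have := fibDegLE_of_degLE h (B'.fromSpecResidueField b' ≫ g) _ _ big hd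
  have e : (B'.fromSpecResidueField b' ≫ g) (IsLocalRing.closedPoint (B'.residueField b')) = g b' := by
    rw [Scheme.Hom.comp_apply, fromSpecResidueField_apply']
  rw [← e]
  exact this

theorem fibDegLE_baseChange_iff {Z B Z' B' : Scheme.{u}} {h : Z ⟶ B} {h' : Z' ⟶ B'} {g' : Z' ⟶ Z}
    {g : B' ⟶ B} (sq : IsPullback g' h' h g) (b' : B') (n : ℕ) :
    FibDegLE h' b' n ↔ FibDegLE h (g b') n :=
  ⟨fun H => H.of_baseChange sq b', fun H => H.baseChange sq b'⟩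

end Groth.Agent.Helper2.FibDeg
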