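import Mathlib
import Groth.Agent.Lib.Helper2.Sch.FibDeg5

/-!
# Fibres of an open and closed finite flat part (helper2)
-/

set_option autoImplicit false
set_option linter.style.haveILetI false

open CategoryTheory CategoryTheory.Limits AlgebraicGeometry TensorProduct

universe u

namespace Groth.Agent.Helper2.FibDeg

open Groth.Agent.Helper2.UBAlg

/-- The part of a fibre lying in an open which is finite flat over the base. -/
theorem fiber_piece {P U : Scheme.{u}} (h : P ⟶ U) (V : P.Opens) [IsFinite (V.ι ≫ h)]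
    [Flat (V.ι ≫ h)] {K : Type u} [Field K] (μ : Spec (.of K) ⟶ U) {T : Scheme.{u}}
    (c : T ⟶ Spec (.of K)) (p : T ⟶ P) (sq : IsPullback c p μ h) :
    IsFinite ((p ⁻¹ᵁ V).ι ≫ c) ∧
      fdeg ((p ⁻¹ᵁ V).ι ≫ c) = (V.ι ≫ h).finrank (μ (IsLocalRing.closedPoint K)) := by
  have h1 := isPullback_morphismRestrict p V
  have h2 := h1.paste_vert sq.flip
  refine ⟨MorphismProperty.of_isPullback (P := @IsFinite) h2 inferInstance, ?_⟩
  exact Scheme.Hom.finrank_of_isPullback _ _ _ _ h2 _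

/-- A morphism which is finite on an open containing every point is finite. -/
theorem isFinite_of_forall_mem {X Y : Scheme.{u}} (c : X ⟶ Y) (O : X.Opens) (hO : ∀ x, x ∈ O)
    (hc : IsFinite (O.ι ≫ c)) : IsFinite c ∧ IsIso O.ι := by
  haveI : Surjective O.ι := ⟨fun x => ⟨⟨x, hO x⟩, rfl⟩⟩
  haveI : IsIso O.ι := (isIso_iff_isOpenImmersion_and_surjective _).2 ⟨inferInstance, inferInstance⟩
  exact ⟨(MorphismProperty.cancel_left_of_respectsIso @IsFinite O.ι c).1 hc, inferInstance⟩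

/-- If the open contains the whole fibre, the fibre has the degree of the finite flat part. -/
theorem fiber_of_forall_mem {P U : Scheme.{u}} (h : P ⟶ U) (V : P.Opens) [IsFinite (V.ι ≫ h)]
    [Flat (V.ι ≫ h)] {K : Type u} [Field K] (μ : Spec (.of K) ⟶ U) {T : Scheme.{u}}
    (c : T ⟶ Spec (.of K)) (p : T ⟶ P) (sq : IsPullback c p μ h)
    (hV : ∀ z : P, h z = μ (IsLocalRing.closedPoint K) → z ∈ V) :
    IsFinite c ∧ fdeg c = (V.ι ≫ h).finrank (μ (IsLocalRing.closedPoint K)) := by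
  obtain ⟨h1, h2⟩ := fiber_piece h V μ c p sq
  have hall : ∀ t : T, t ∈ p ⁻¹ᵁ V := by
    intro t
    apply hV
    rw [← Scheme.Hom.comp_apply, ← sq.w, Scheme.Hom.comp_apply]
    congr 1
    exact Subsingleton.elim (α := PrimeSpectrum K) _ _
  obtain ⟨h3, h4⟩ := isFinite_of_forall_mem c _ hall h1
  refine ⟨h3, ?_⟩
  rw [← h2]
  haveI := h3
  haveI := h4
  exact (fdeg_comp_iso (asIso (p ⁻¹ᵁ V).ι) c).symm

/-- Comparison of the degree of the finite flat part with the degree of a finite fibre. -/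
theorem fiber_piece_le {P U : Scheme.{u}} (h : P ⟶ U) (V : P.Opens) [IsFinite (V.ι ≫ h)]
    [Flat (V.ι ≫ h)] (hVcl : IsClosed (V : Set P)) {K : Type u} [Field K]
    (μ : Spec (.of K) ⟶ U) {T : Scheme.{u}}
    (c : T ⟶ Spec (.of K)) (p : T ⟶ P) (sq : IsPullback c p μ h) [IsFinite c] :
    (V.ι ≫ h).finrank (μ (IsLocalRing.closedPoint K)) ≤ fdeg c ∧
      ((V.ι ≫ h).finrank (μ (IsLocalRing.closedPoint K)) = fdeg c → ∀ t : T, p t ∈ V) := by
  obtain ⟨h1, h2⟩ := fiber_piece h V μ c p sq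
  haveI : IsClosedImmersion (p ⁻¹ᵁ V).ι := by
    apply IsClosedImmersion.of_isPreimmersion
    rw [Scheme.Opens.range_ι]
    exact hVcl.preimage p.continuous
  obtain ⟨h3, h4⟩ := fdeg_closedImmersion (p ⁻¹ᵁ V).ι c
  rw [h2] at h3 h4
  refine ⟨h3, fun he t => ?_⟩
  haveI := h4 he
  obtain ⟨t', rfl⟩ := (p ⁻¹ᵁ V).ι.surjective t
  exact t'.2

end Groth.Agent.Helper2.FibDeg
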