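import Mathlib
import Groth.Agent.Lib.Helper2.Sch.FibDeg6
import Groth.Agent.Lib.Helper2.AlgSp.Descent
import Groth.Prelude.Def_Mor2

/-!
# Semicontinuity of the fibre degree and the flattening criterion (helper2)
-/

set_option autoImplicit false
set_option linter.style.haveILetI false

open CategoryTheory CategoryTheory.Limits AlgebraicGeometry TensorProduct

universe u

namespace Groth.Agent.Helper2.FibDeg

open Groth.Agent.Helper2.UBAlg

/-- The canonical fibre, packaged with a field in `Type u`. -/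
theorem exists_fiber {P U : Scheme.{u}} (h : P ⟶ U) (b : U) :
    ∃ (K : Type u) (_ : Field K) (μ : Spec (.of K) ⟶ U) (T : Scheme.{u})
      (c : T ⟶ Spec (.of K)) (p : T ⟶ P), IsPullback c p μ h ∧
        μ (IsLocalRing.closedPoint K) = b ∧ Set.range p = h ⁻¹' {b} :=
  ⟨U.residueField b, inferInstance, U.fromSpecResidueField b, h.fiber b,
    h.fiberToSpecResidueField b, h.fiberι b, isPullback_fiber h b,
    fromSpecResidueField_apply' b _, Scheme.Hom.range_fiberι h b⟩

/-- (L1) If the finite flat open part contains the fibre over `b`, the fibre degree at `b` is its rank. -/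
theorem fibDegLE_iff_of_forall_mem {P U : Scheme.{u}} (h : P ⟶ U) (V : P.Opens)
    [IsFinite (V.ι ≫ h)] [Flat (V.ι ≫ h)] (b : U) (hV : ∀ z : P, h z = b → z ∈ V) (k : ℕ) :
    FibDegLE h b k ↔ (V.ι ≫ h).finrank b ≤ k := by
  constructor
  · intro H
    obtain ⟨K, _, μ, T, c, p, sq, e, -⟩ := exists_fiber h b
    have hd := H K μ (fun z => by
      rw [← e]; congr 1; exact Subsingleton.elim (α := PrimeSpectrum K) _ _) T c p sq
    obtain ⟨h1, h2⟩ := fiber_of_forall_mem h V μ c p sq (fun z hz => hV z (hz.trans e))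
    rw [e] at h2
    rw [← h2]
    exact ((degLE_iff _ _).1 hd).2
  · intro hk K _ μ hμ T c p sq
    have e : μ (IsLocalRing.closedPoint K) = b := hμ _
    obtain ⟨h1, h2⟩ := fiber_of_forall_mem h V μ c p sq (fun z hz => hV z (hz.trans e))
    rw [e] at h2
    rw [degLE_iff]
    exact ⟨h1, h2 ▸ hk⟩

/-- (L2) In general the rank of a closed finite flat open part is at most the fibre degree, with
equality only if the part contains the fibre. -/
theorem finrank_le_of_fibDegLE {P U : Scheme.{u}} (h : P ⟶ U) (V : P.Opens)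
    [IsFinite (V.ι ≫ h)] [Flat (V.ι ≫ h)] (hVcl : IsClosed (V : Set P)) (b : U) (k : ℕ)
    (H : FibDegLE h b k) :
    (V.ι ≫ h).finrank b ≤ k ∧ ((V.ι ≫ h).finrank b = k → ∀ z : P, h z = b → z ∈ V) := by
  obtain ⟨K, _, μ, T, c, p, sq, e, hr⟩ := exists_fiber h b
  have hd := H K μ (fun z => by
    rw [← e]; congr 1; exact Subsingleton.elim (α := PrimeSpectrum K) _ _) T c p sq
  rw [degLE_iff] at hd
  obtain ⟨hfin, hle⟩ := hd
  haveI := hfin
  obtain ⟨h1, h2⟩ := fiber_piece_le h V hVcl μ c p sq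
  rw [e] at h1 h2
  refine ⟨h1.trans hle, fun he z hz => ?_⟩
  have he' : (V.ι ≫ h).finrank b = fdeg c := le_antisymm h1 (he ▸ hle)
  have hz' : z ∈ Set.range p := by
    rw [hr]; exact hz
  obtain ⟨t, rfl⟩ := hz'
  exact h2 he' t

/-- Lower semicontinuity of the fibre degree at a point with finite fibre. -/
theorem exists_open_not_fibDegLE {W Y : Scheme.{u}} (f : W ⟶ Y) [Flat f]
    [LocallyOfFinitePresentation f] [IsSeparated f] [LocallyQuasiFinite f] (y : Y) (n : ℕ)
    (Hn : FibDegLE f y n) (d : ℕ) (Hd : ¬ FibDegLE f y d) :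
    ∃ O : Y.Opens, y ∈ O ∧ ∀ y' ∈ O, ¬ FibDegLE f y' d := by
  obtain ⟨U, g, hg, u, hgu, V, hVcl, hVfin, hVpts⟩ := hasSplit_of_fibDegLE n f y Hn
  haveI := hg
  haveI := hVfin
  have sq := IsPullback.of_hasPullback f g
  have hm : ¬ (V.ι ≫ pullback.snd f g).finrank u ≤ d := by
    intro hle
    apply Hd
    rw [← hgu, ← fibDegLE_baseChange_iff sq u d]
    exact (fibDegLE_iff_of_forall_mem _ V u hVpts d).2 hle
  have hN : IsOpen {u' | (V.ι ≫ pullback.snd f g).finrank u' = (V.ι ≫ pullback.snd f g).finrank u} :=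
    (Scheme.Hom.isLocallyConstant_finrank (V.ι ≫ pullback.snd f g)).isOpen_fiber _
  refine ⟨⟨g '' _, g.isOpenMap _ hN⟩, ⟨u, rfl, hgu⟩, ?_⟩
  rintro _ ⟨u', hu', rfl⟩ H
  have H' := H.baseChange sq u'
  have := (finrank_le_of_fibDegLE _ V hVcl u' d H').1
  rw [hu'] at this
  exact hm this

/-- fppf-locality on the target, in pointwise form. -/
theorem of_fppf_local (P : MorphismProperty Scheme.{u})
    [P.IsLocalAtTarget Scheme.fppfPrecoverage] {Z B : Scheme.{u}} (h : Z ⟶ B)
    (H : ∀ b : B, ∃ (U : Scheme.{u}) (g : U ⟶ B), Flat g ∧ LocallyOfFinitePresentation g ∧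
      b ∈ Set.range g ∧ P (pullback.snd h g)) : P h := by
  choose U g hfl hfp hb hP using H
  let 𝒰 : Scheme.Cover.{u} (Scheme.precoverage (@Flat ⊓ @LocallyOfFinitePresentation)) B :=
    Scheme.Cover.mkOfCovers B U g (fun b => ⟨b, hb b⟩) (fun b => ⟨hfl b, hfp b⟩)
  exact MorphismProperty.IsLocalAtTarget.of_zeroHypercover (K := Scheme.fppfPrecoverage) 𝒰 hP

/-- **Flattening criterion.** A separated, flat, locally quasi-finite morphism locally of finite
presentation all of whose fibres have degree exactly `r` is finite locally free of degree `r`. -/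
theorem isFinLocFreeOfDeg_of_fibDeg {P B : Scheme.{u}} (h : P ⟶ B) [Flat h]
    [LocallyOfFinitePresentation h] [IsSeparated h] [LocallyQuasiFinite h] (r : ℕ)
    (H1 : ∀ b, FibDegLE h b r) (H2 : ∀ b k, FibDegLE h b k → r ≤ k) :
    Mor2.IsFinLocFreeOfDeg r h := by
  have hfin : IsFinite h := by
    apply of_fppf_local @IsFinite h
    intro b
    obtain ⟨U, g, hg, u, hgu, V, hVcl, hVfin, hVpts⟩ := hasSplit_of_fibDegLE r h b (H1 b)
    haveI := hg
    haveI := hVfin
    have sq := IsPullback.of_hasPullback h g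
    have hmr : (V.ι ≫ pullback.snd h g).finrank u = r := by
      apply le_antisymm
      · exact (fibDegLE_iff_of_forall_mem _ V u hVpts r).1 ((H1 (g u)).baseChange sq u)
      · apply H2 (g u)
        rw [← fibDegLE_baseChange_iff sq u]
        exact (fibDegLE_iff_of_forall_mem _ V u hVpts _).2 le_rfl
    let N : U.Opens := ⟨{u' | (V.ι ≫ pullback.snd h g).finrank u' = r},
      (Scheme.Hom.isLocallyConstant_finrank (V.ι ≫ pullback.snd h g)).isOpen_fiber _⟩
    refine ⟨N, N.ι ≫ g, inferInstance, inferInstance, ⟨⟨u, hmr⟩, hgu⟩, ?_⟩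
    have sqπ := isPullback_lift_comp h g N.ι
    have hfinπ := isFinite_preimage_of_isPullback sqπ V hVfin
    refine (isFinite_of_forall_mem _ _ ?_ hfinπ).1
    intro z'
    have hu' : (V.ι ≫ pullback.snd h g).finrank (N.ι (pullback.snd h (N.ι ≫ g) z')) = r :=
      (pullback.snd h (N.ι ≫ g) z').2
    refine (finrank_le_of_fibDegLE _ V hVcl _ r ((H1 _).baseChange sq _)).2 hu' _ ?_
    rw [← Scheme.Hom.comp_apply, sqπ.w, Scheme.Hom.comp_apply]
  refine ⟨⟨hfin, inferInstance, inferInstance⟩, fun b => ?_⟩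
  obtain ⟨K, _, μ, T, c, p, sq, e, -⟩ := exists_fiber h b
  have h1 : fdeg c = h.finrank (μ (IsLocalRing.closedPoint K)) :=
    Scheme.Hom.finrank_of_isPullback p c h μ sq.flip _
  rw [e] at h1
  have hd := (H1 b) K μ (fun z => by
    rw [← e]; congr 1; exact Subsingleton.elim (α := PrimeSpectrum K) _ _) T c p sq
  rw [degLE_iff] at hd
  apply le_antisymm
  · rw [← h1]; exact hd.2
  · apply H2 b
    have := fibDegLE_of_degLE h μ c p sq (n := fdeg c) ((degLE_iff _ _).2 ⟨hd.1, le_rfl⟩)
    rw [e] at this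
    rw [← h1]
    exact this

end Groth.Agent.Helper2.FibDeg
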