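import Mathlib
import Groth.Agent.Lib.Helper2.Sch.FibDeg7
import Groth.Agent.Lib.Helper4.ZeroDim

/-!
# Fibre degree in terms of the rank of global sections (helper2)
-/

set_option autoImplicit false
set_option linter.style.haveILetI false

open CategoryTheory CategoryTheory.Limits AlgebraicGeometry TensorProduct

universe u

namespace Groth.Agent.Helper2.FibDeg

open Groth.Agent.Helper2.UBAlg

/-- On a discrete scheme over a field, the number of points is at most the rank of the global
sections. -/
theorem card_le_rank_of_discrete {T : Scheme.{u}} [DiscreteTopology T] {K : Type u} [Field K]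
    (φ : K →+* Γ(T, ⊤)) :
    letI := φ.toAlgebra
    Cardinal.mk T ≤ Module.rank K Γ(T, ⊤) := by
  letI := φ.toAlgebra
  let Φ : Γ(T, ⊤) →+* (∀ x : T, T.presheaf.stalk x) :=
    RingHom.pi (fun x => (T.presheaf.germ ⊤ x trivial).hom)
  have hΦ : Function.Bijective Φ :=
    Groth.Agent.Lib.Helper4.ZeroDim.bijective_germ_of_discrete T
  classical
  choose e he using fun t : T => hΦ.2 (Pi.single t 1)
  have hli : LinearIndependent K e := by
    rw [linearIndependent_iff']
    intro s a hsum j hj
    have h1 := congrArg (fun z => Φ z j) hsum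
    simp only [map_sum, map_zero, Pi.zero_apply, Finset.sum_apply] at h1
    have h2 : ∀ i ∈ s, Φ (a i • e i) j = if i = j then Φ (φ (a i)) j else 0 := by
      intro i _
      rw [Algebra.smul_def, map_mul, he i]
      show Φ (φ (a i)) j * (Pi.single i 1 : ∀ x : T, T.presheaf.stalk x) j = _
      by_cases hij : i = j
      · subst hij; simp
      · rw [Pi.single_eq_of_ne' hij]; simp [hij]
    rw [Finset.sum_congr rfl h2, Finset.sum_ite_eq' s j, if_pos hj] at h1
    have hinj : Function.Injective ((Pi.evalRingHom _ j).comp (Φ.comp φ)) := RingHom.injective _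
    apply hinj
    rw [map_zero]
    exact h1
  exact hli.cardinal_le_rank

/-- For a finite scheme over a field, the rank of the global sections is the degree. -/
theorem rank_eq_fdeg {T : Scheme.{u}} {K : Type u} [Field K] (c : T ⟶ Spec (.of K)) [IsFinite c] :
    letI := ((Scheme.ΓSpecIso (CommRingCat.of K)).inv ≫ c.appTop).hom.toAlgebra
    Module.rank K Γ(T, ⊤) = (fdeg c : Cardinal.{u}) := by
  letI := ((Scheme.ΓSpecIso (CommRingCat.of K)).inv ≫ c.appTop).hom.toAlgebra
  have hA : IsAffine T := isAffine_of_isAffineHom c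
  let φ' : CommRingCat.of K ⟶ Γ(T, ⊤) := (Scheme.ΓSpecIso (CommRingCat.of K)).inv ≫ c.appTop
  have hp : c = T.isoSpec.hom ≫ Spec.map φ' := by
    have h1 := Scheme.isoSpec_hom_naturality c
    rw [Scheme.isoSpec_Spec_hom] at h1
    simp only [φ', Spec.map_comp]
    rw [reassoc_of% h1, ← Spec.map_comp, Iso.inv_hom_id, Spec.map_id, Category.comp_id]
  have hfl : Flat (Spec.map φ') := by
    have : Spec.map φ' = T.isoSpec.inv ≫ c := by rw [hp, Iso.inv_hom_id_assoc]
    rw [this]; infer_instance
  have hfi : IsFinite (Spec.map φ') := by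
    have : Spec.map φ' = T.isoSpec.inv ≫ c := by rw [hp, Iso.inv_hom_id_assoc]
    rw [this]; infer_instance
  have hfin' : φ'.hom.Finite := (IsFinite.SpecMap_iff φ').mp hfi
  have hflat' : φ'.hom.Flat := Flat.SpecMap_iff.mp hfl
  have hfin : Module.Finite K Γ(T, ⊤) := hfin'
  rw [← Module.finrank_eq_rank]
  congr 1
  unfold fdeg
  conv_rhs => rw [hp]
  rw [Scheme.Hom.finrank_comp_left_of_isIso, Scheme.Hom.finrank_SpecMap_eq_finrank hfin' hflat']
  change _ = Module.rankAtStalk (R := K) Γ(T, ⊤) _
  rw [Module.rankAtStalk_eq_finrank_of_free]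
  rfl

/-- A locally quasi-finite scheme over a field whose global sections have finite rank is finite. -/
theorem degLE_of_rank_le {T : Scheme.{u}} {K : Type u} [Field K] (c : T ⟶ Spec (.of K))
    [LocallyQuasiFinite c] (n : ℕ)
    (hn : (letI := ((Scheme.ΓSpecIso (CommRingCat.of K)).inv ≫ c.appTop).hom.toAlgebra
      Module.rank K Γ(T, ⊤)) ≤ (n : Cardinal.{u})) : DegLE c n := by
  haveI : IsLocallyArtinian T := IsLocallyArtinian.of_locallyQuasiFinite c
  have h1 := card_le_rank_of_discrete (T := T)
    ((Scheme.ΓSpecIso (CommRingCat.of K)).inv ≫ c.appTop).hom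
  have h2 : Cardinal.mk T < Cardinal.aleph0 := (h1.trans hn).trans_lt (Cardinal.natCast_lt_aleph0)
  haveI : Finite T := Cardinal.lt_aleph0_iff_finite.1 h2
  haveI : CompactSpace T := Finite.compactSpace
  haveI : QuasiCompact c := by
    rw [HasAffineProperty.iff_of_isAffine (P := @QuasiCompact)]
    infer_instance
  haveI : IsFinite c := IsFinite.of_locallyQuasiFinite c
  rw [degLE_iff]
  refine ⟨inferInstance, ?_⟩
  rw [rank_eq_fdeg c] at hn
  exact_mod_cast hn

/-- The rank of the global sections is at least `d` iff the degree is not bounded by `d - 1`. -/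
theorem le_rank_iff {T : Scheme.{u}} {K : Type u} [Field K] (c : T ⟶ Spec (.of K))
    [LocallyQuasiFinite c] (d : ℕ) :
    ((d + 1 : ℕ) : Cardinal.{u}) ≤ (letI := ((Scheme.ΓSpecIso (CommRingCat.of K)).inv ≫ c.appTop).hom.toAlgebra
      Module.rank K Γ(T, ⊤)) ↔ ¬ DegLE c d := by
  constructor
  · intro h hd
    rw [degLE_iff] at hd
    obtain ⟨h1, h2⟩ := hd
    haveI := h1
    rw [rank_eq_fdeg c] at h
    have : d + 1 ≤ fdeg c := by exact_mod_cast h
    omega
  · intro h
    by_contra hlt
    apply h
    apply degLE_of_rank_le c d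
    rw [not_le] at hlt
    have := Order.le_of_lt_succ (show _ < Order.succ ((d : ℕ) : Cardinal.{u}) by
      rw [Cardinal.succ_natCast]; exact_mod_cast hlt)
    exact this

end Groth.Agent.Helper2.FibDeg
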