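import Mathlib
import Groth.Agent.Lib.Helper2.Sch.FibDeg8

/-!
# The stratification by fibre degree (helper2)
-/

set_option autoImplicit false
set_option linter.style.haveILetI false

open CategoryTheory CategoryTheory.Limits AlgebraicGeometry TensorProduct

universe u

namespace Groth.Agent.Helper2.FibDeg

open Groth.Agent.Helper2.UBAlg

/-- For a finite flat morphism the fibre degree is the rank. -/
theorem fibDegLE_iff_of_isFinite {P U : Scheme.{u}} (h : P ⟶ U) [IsFinite h] [Flat h] (b : U)
    (k : ℕ) : FibDegLE h b k ↔ h.finrank b ≤ k := by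
  haveI : Surjective (⊤ : P.Opens).ι := ⟨fun x => ⟨⟨x, trivial⟩, rfl⟩⟩
  haveI : IsIso (⊤ : P.Opens).ι :=
    (isIso_iff_isOpenImmersion_and_surjective _).2 ⟨inferInstance, inferInstance⟩
  rw [fibDegLE_iff_of_forall_mem h ⊤ b (fun _ _ => trivial) k,
    Scheme.Hom.finrank_comp_left_of_isIso]

/-- The bound on the ranks of the global sections of the fibres gives a bound on the fibre degrees. -/
theorem fibDegLE_of_rank_le {X S : Scheme.{u}} (f : X ⟶ S) [LocallyQuasiFinite f] (n : ℕ)
    {K : Type u} [Field K] (g : Spec (CommRingCat.of K) ⟶ S)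
    (hn : (letI := ((Scheme.ΓSpecIso (CommRingCat.of K)).inv ≫ (pullback.snd f g).appTop).hom.toAlgebra
      Module.rank K (Γ(pullback f g, ⊤) : Type u)) ≤ (n : Cardinal.{u})) :
    FibDegLE f (g (IsLocalRing.closedPoint K)) n :=
  fibDegLE_of_degLE f g (pullback.snd f g) (pullback.fst f g) (IsPullback.of_hasPullback f g).flip
    (degLE_of_rank_le (pullback.snd f g) n hn)

/-- The stratification statement for a degree function. -/
theorem stratification {X S : Scheme.{u}} (f : X ⟶ S) [Flat f] [LocallyOfFinitePresentation f]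
    [IsSeparated f] [LocallyQuasiFinite f] (deg : S → ℕ)
    (hdeg : ∀ s k, deg s ≤ k ↔ FibDegLE f s k) :
    (∀ r : ℕ, IsClosed {s : S | deg s ≤ r}) ∧
      ∀ (T : Scheme.{u}) (g : T ⟶ S) (r : ℕ),
        Mor2.IsFinLocFreeOfDeg r (pullback.snd f g) ↔ ∀ t : T, deg (g t) = r := by
  refine ⟨fun r => ?_, fun T g r => ?_⟩
  · rw [← isOpen_compl_iff, isOpen_iff_forall_mem_open]
    intro s hs
    have hs' : ¬ FibDegLE f s r := fun h => hs ((hdeg s r).2 h)
    obtain ⟨O, hsO, hO⟩ := exists_open_not_fibDegLE f s (deg s) ((hdeg s _).1 le_rfl) r hs'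
    exact ⟨O, fun y hy hy' => hO y hy ((hdeg y r).1 hy'), O.2, hsO⟩
  · have sq := IsPullback.of_hasPullback f g
    constructor
    · rintro ⟨⟨h1, h2, h3⟩, hr⟩ t
      haveI := h1
      haveI := h2
      apply le_antisymm
      · rw [hdeg, ← fibDegLE_baseChange_iff sq t, fibDegLE_iff_of_isFinite, hr]
      · have := (hdeg (g t) _).1 le_rfl
        rw [← fibDegLE_baseChange_iff sq t, fibDegLE_iff_of_isFinite, hr] at this
        exact this
    · intro H
      apply isFinLocFreeOfDeg_of_fibDeg
      · intro t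
        rw [fibDegLE_baseChange_iff sq t, ← hdeg, H t]
      · intro t k hk
        rw [fibDegLE_baseChange_iff sq t, ← hdeg, H t] at hk
        exact hk

/-- The degree function of a morphism with finite fibres. -/
theorem exists_deg {X S : Scheme.{u}} (f : X ⟶ S) (H : ∀ s, ∃ n, FibDegLE f s n) :
    ∃ deg : S → ℕ, ∀ s k, deg s ≤ k ↔ FibDegLE f s k := by
  classical
  refine ⟨fun s => Nat.find (H s), fun s k => ⟨fun h => (Nat.find_spec (H s)).mono h,
    fun h => Nat.find_min' (H s) h⟩⟩

/-- The rank bound at every field valued point gives the bound on all fibre degrees. -/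
theorem fibDegLE_of_forall_rank_le {X S : Scheme.{u}} (f : X ⟶ S) [LocallyQuasiFinite f] (n : ℕ)
    (hn : ∀ (K : Type u) [Field K] (g : Spec (CommRingCat.of K) ⟶ S), (letI := ((Scheme.ΓSpecIso (CommRingCat.of K)).inv ≫ (pullback.snd f g).appTop).hom.toAlgebra
        Module.rank K (Γ(pullback f g, ⊤) : Type u)) ≤ (n : Cardinal.{u}))
    (s : S) :
    FibDegLE f s n := by
  obtain ⟨K, _, μ, T, c, p, sq, e, -⟩ := exists_fiber f s
  have := fibDegLE_of_rank_le f n μ (hn K μ)
  rw [e] at this
  exact this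

end Groth.Agent.Helper2.FibDeg
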