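import Mathlib
import Groth.Agent.Lib.Helper2.Sch.FibDeg9

/-!
# Openness of the loci of large fibre degree, without boundedness (helper2)
-/

set_option autoImplicit false
set_option linter.style.haveILetI false

open CategoryTheory CategoryTheory.Limits AlgebraicGeometry TensorProduct

universe u

namespace Groth.Agent.Helper2.FibDeg

open Groth.Agent.Helper2.UBAlg

/-- Comparison of the fibre of an open subscheme with the fibre of the whole scheme. -/
theorem fiber_open_compare {Z B : Scheme.{u}} (h : Z ⟶ B) (W : Z.Opens) {K : Type u} [Field K]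
    (μ : Spec (.of K) ⟶ B) {T : Scheme.{u}} (c : T ⟶ Spec (.of K)) (p : T ⟶ W.toScheme)
    (sqT : IsPullback c p μ (W.ι ≫ h)) :
    ∃ i : T ⟶ pullback μ h, IsOpenImmersion i ∧ i ≫ pullback.fst μ h = c ∧
      i ≫ pullback.snd μ h = p ≫ W.ι ∧ Set.range i = (pullback.snd μ h) ⁻¹' (W : Set Z) := by
  have sqT' := IsPullback.of_hasPullback μ h
  obtain ⟨i, hi⟩ : ∃ i : T ⟶ pullback μ h, i = pullback.lift c (p ≫ W.ι) (by
      rw [Category.assoc]; exact sqT.w) := ⟨_, rfl⟩
  have hi1 : i ≫ pullback.fst μ h = c := by rw [hi, pullback.lift_fst]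
  have hi2 : i ≫ pullback.snd μ h = p ≫ W.ι := by rw [hi, pullback.lift_snd]
  have sqi : IsPullback i p (pullback.snd μ h) W.ι := by
    refine IsPullback.of_right ?_ hi2 sqT'
    rw [hi1]
    exact sqT
  haveI : IsOpenImmersion i := MorphismProperty.of_isPullback (P := @IsOpenImmersion) sqi.flip
    inferInstance
  refine ⟨i, inferInstance, hi1, hi2, ?_⟩
  ext t
  constructor
  · rintro ⟨t', rfl⟩
    show pullback.snd μ h (i t') ∈ W
    rw [← Scheme.Hom.comp_apply, hi2, Scheme.Hom.comp_apply]
    exact (p t').2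
  · intro ht
    obtain ⟨w, hw⟩ : pullback.snd μ h t ∈ Set.range W.ι := by
      rw [Scheme.Opens.range_ι]; exact ht
    obtain ⟨t', ht'1, -⟩ := exists_preimage_of_isPullback sqi t w hw.symm
    exact ⟨t', ht'1⟩

/-- (M1) Passing to an open subscheme of the source does not increase the fibre degree. -/
theorem FibDegLE.of_open {Z B : Scheme.{u}} {h : Z ⟶ B} {b : B} {n : ℕ} (H : FibDegLE h b n)
    (W : Z.Opens) : FibDegLE (W.ι ≫ h) b n := by
  intro K _ μ hμ T c p sqT
  have sqT' := IsPullback.of_hasPullback μ h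
  have hd := H K μ hμ _ _ _ sqT'
  haveI := hd.1
  obtain ⟨i, hi, hi1, hi2, hrange⟩ := fiber_open_compare h W μ c p sqT
  obtain ⟨hfin, hdisc⟩ := finite_discrete_of_isFinite (pullback.fst μ h)
  haveI := hdisc
  have hclosed : IsClosed (Set.range i) := isClosed_discrete _
  haveI : IsClosedImmersion i := IsClosedImmersion.of_isPreimmersion i hclosed
  obtain ⟨hle, -⟩ := fdeg_closedImmersion i (pullback.fst μ h)
  rw [hi1] at hle
  have hdn := ((degLE_iff _ _).1 hd).2
  rw [degLE_iff]
  refine ⟨?_, hle.trans hdn⟩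
  rw [← hi1]
  infer_instance

/-- (C1) If the open contains the whole fibre, the fibre degrees agree. -/
theorem FibDegLE.of_open_of_forall_mem {Z B : Scheme.{u}} {h : Z ⟶ B} {b : B} {n : ℕ}
    (W : Z.Opens) (hW : ∀ z, h z = b → z ∈ W) (H : FibDegLE (W.ι ≫ h) b n) : FibDegLE h b n := by
  intro K _ μ hμ T c p sqT
  have sqT' := IsPullback.of_hasPullback μ (W.ι ≫ h)
  have hd := H K μ hμ _ _ _ sqT'
  obtain ⟨i, hi, hi1, hi2, hrange⟩ := fiber_open_compare h W μ _ _ sqT'
  haveI : Surjective i := by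
    refine ⟨fun t => ?_⟩
    have : t ∈ Set.range i := by
      rw [hrange]
      apply hW
      rw [← Scheme.Hom.comp_apply, ← pullback.condition, Scheme.Hom.comp_apply]
      exact hμ _
    exact this
  haveI : IsIso i := (isIso_iff_isOpenImmersion_and_surjective _).2 ⟨hi, inferInstance⟩
  have h1 : DegLE (pullback.fst μ h) n :=
    (degLE_of_iso (asIso i) _ _ hi1 n).1 hd
  exact degLE_invariant h μ μ rfl _ _ (IsPullback.of_hasPullback μ h) c p sqT h1

/-- (C2) A bound on the fibre degree bounds the number of points of the fibre. -/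
theorem FibDegLE.finite_fiber {Z B : Scheme.{u}} {h : Z ⟶ B} {b : B} {n : ℕ} (H : FibDegLE h b n) :
    (h ⁻¹' {b}).Finite ∧ (h ⁻¹' {b}).ncard ≤ n := by
  obtain ⟨K, _, μ, T, c, p, sq, e, hr⟩ := exists_fiber h b
  have hd := H K μ (fun z => by
    rw [← e]; congr 1; exact Subsingleton.elim (α := PrimeSpectrum K) _ _) T c p sq
  obtain ⟨hfin, hcard⟩ := card_le_of_degLE c hd
  rw [← hr]
  refine ⟨Set.finite_range p, ?_⟩
  calc (Set.range p).ncard ≤ Nat.card T := by
        rw [← Set.image_univ, ← Set.ncard_univ]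
        exact Set.ncard_image_le (Set.finite_univ)
    _ ≤ n := hcard

/-- (Q) A quasi-compact locally quasi-finite morphism has finite fibres. -/
theorem exists_fibDegLE_of_quasiCompact {Z B : Scheme.{u}} (h : Z ⟶ B) [LocallyQuasiFinite h]
    [QuasiCompact h] (b : B) : ∃ n, FibDegLE h b n := by
  obtain ⟨K, _, μ, T, c, p, sq, e, hr⟩ := exists_fiber h b
  haveI : LocallyQuasiFinite c := MorphismProperty.of_isPullback (P := @LocallyQuasiFinite) sq.flip
    inferInstance
  haveI : QuasiCompact c := MorphismProperty.of_isPullback (P := @QuasiCompact) sq.flip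
    inferInstance
  haveI : IsFinite c := IsFinite.of_locallyQuasiFinite c
  refine ⟨fdeg c, ?_⟩
  have := fibDegLE_of_degLE h μ c p sq (n := fdeg c) ((degLE_iff _ _).2 ⟨inferInstance, le_rfl⟩)
  rw [e] at this
  exact this

end Groth.Agent.Helper2.FibDeg
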