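import Mathlib
import Groth.Agent.Lib.Helper2.Sch.FibDeg10

/-!
# Openness of the loci of large fibre degree, without boundedness (helper2)
-/

set_option autoImplicit false
set_option linter.style.haveILetI false

open CategoryTheory CategoryTheory.Limits AlgebraicGeometry TensorProduct

universe u

namespace Groth.Agent.Helper2.FibDeg

open Groth.Agent.Helper2.UBAlg

/-- A finite set of points lies in a quasi-compact open. -/
theorem exists_isCompact_open_of_finite (X : Scheme.{u}) (F : Set X) (hF : F.Finite) :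
    ∃ W : X.Opens, IsCompact (W : Set X) ∧ F ⊆ W := by
  induction F, hF using Set.Finite.induction_on with
  | empty => exact ⟨⊥, by simp, Set.empty_subset _⟩
  | @insert a s _ _ ih =>
    obtain ⟨W, hW, hsW⟩ := ih
    obtain ⟨_, ⟨A, hA, rfl⟩, haA, -⟩ := X.isBasis_affineOpens.exists_subset_of_mem_open
      (Set.mem_univ a) isOpen_univ
    refine ⟨W ⊔ A, ?_, ?_⟩
    · have : ((W ⊔ A : X.Opens) : Set X) = (W : Set X) ∪ (A : Set X) := rfl
      rw [this]
      exact hW.union hA.isCompact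
    · intro x hx
      rcases hx with rfl | hx
      · exact Or.inr haA
      · exact Or.inl (hsW hx)

/-- There is a quasi-compact open of the source on which the fibre degree is still not bounded
by `d`. -/
theorem exists_isCompact_open_not_fibDegLE {Z B : Scheme.{u}} (h : Z ⟶ B) (b : B) (d : ℕ)
    (Hd : ¬ FibDegLE h b d) :
    ∃ W : Z.Opens, IsCompact (W : Set Z) ∧ ¬ FibDegLE (W.ι ≫ h) b d := by
  by_cases hfin : (h ⁻¹' {b}).Finite
  · obtain ⟨W, hWc, hW⟩ := exists_isCompact_open_of_finite Z _ hfin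
    exact ⟨W, hWc, fun H => Hd (H.of_open_of_forall_mem W (fun z hz => hW hz))⟩
  · obtain ⟨F, hFsub, hFfin, hFcard⟩ := Set.Infinite.exists_subset_ncard_eq hfin (d + 1)
    obtain ⟨W, hWc, hW⟩ := exists_isCompact_open_of_finite Z F hFfin
    refine ⟨W, hWc, fun H => ?_⟩
    obtain ⟨h1, h2⟩ := H.finite_fiber
    have hsub : F ⊆ W.ι '' ((W.ι ≫ h) ⁻¹' {b}) := by
      intro x hx
      refine ⟨⟨x, hW hx⟩, ?_, rfl⟩
      show (W.ι ≫ h) ⟨x, hW hx⟩ = b
      rw [Scheme.Hom.comp_apply]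
      exact hFsub hx
    have h3 := Set.ncard_le_ncard hsub (h1.image _)
    have h4 := Set.ncard_image_le (f := W.ι) h1
    omega

/-- **Openness of the locus where the fibre degree exceeds `d`**, without any boundedness
assumption. -/
theorem exists_open_not_fibDegLE' {X S : Scheme.{u}} (f : X ⟶ S) [Flat f]
    [LocallyOfFinitePresentation f] [IsSeparated f] [LocallyQuasiFinite f] (y : S) (d : ℕ)
    (Hd : ¬ FibDegLE f y d) : ∃ O : S.Opens, y ∈ O ∧ ∀ y' ∈ O, ¬ FibDegLE f y' d := by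
  obtain ⟨_, ⟨S₀', hS₀, rfl⟩, hy, -⟩ := S.isBasis_affineOpens.exists_subset_of_mem_open
    (Set.mem_univ y) isOpen_univ
  obtain ⟨S₀, hS₀e⟩ : ∃ S₀ : S.Opens, S₀ = S₀' := ⟨_, rfl⟩
  rw [← hS₀e] at hS₀ hy
  haveI : IsAffine S₀.toScheme := hS₀
  have sq₀ := IsPullback.of_hasPullback f S₀.ι
  have Hd₀ : ¬ FibDegLE (pullback.snd f S₀.ι) ⟨y, hy⟩ d := by
    rw [fibDegLE_baseChange_iff sq₀]
    exact Hd
  obtain ⟨W, hWc, hW⟩ := exists_isCompact_open_not_fibDegLE _ _ d Hd₀
  haveI : CompactSpace W.toScheme := isCompact_iff_compactSpace.1 hWc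
  haveI : QuasiCompact (W.ι ≫ pullback.snd f S₀.ι) := by
    rw [HasAffineProperty.iff_of_isAffine (P := @QuasiCompact)]
    infer_instance
  obtain ⟨n, Hn⟩ := exists_fibDegLE_of_quasiCompact (W.ι ≫ pullback.snd f S₀.ι) ⟨y, hy⟩
  obtain ⟨O₀, hyO₀, hO₀⟩ := exists_open_not_fibDegLE (W.ι ≫ pullback.snd f S₀.ι) ⟨y, hy⟩ n Hn d hW
  refine ⟨S₀.ι ''ᵁ O₀, ⟨⟨y, hy⟩, hyO₀, rfl⟩, ?_⟩
  rintro _ ⟨y', hy', rfl⟩ H
  exact hO₀ y' hy' ((H.baseChange sq₀ y').of_open W)

end Groth.Agent.Helper2.FibDeg
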