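import Mathlib
import Groth.Agent.Lib.Helper6.GenFin.Fiber

/-!
# Generic finiteness for separated morphisms whose points generize into a finite fibre
-/

set_option autoImplicit false
universe u

namespace Groth.Agent.Helper2.GenFinSep

open AlgebraicGeometry CategoryTheory TopologicalSpace Groth.Agent.Lib.Helper6.GenFin

variable {X Y : Scheme.{u}}

set_option backward.isDefEq.respectTransparency false in
/-- Let `h : X ⟶ Y` be separated and locally of finite type with `Y` affine, `η` a point of `Y`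
without proper generizations whose fibre is finite and such that every point of `X` is a
specialization of a point of the fibre. Then `h` is finite over an open neighbourhood of `η`. -/
theorem exists_isFinite_morphismRestrict (h : X ⟶ Y) [IsAffine Y] [IsSeparated h]
    [LocallyOfFiniteType h] (η : Y) (hη : ∀ y : Y, y ⤳ η → y = η)
    (hfin : (h ⁻¹' {η}).Finite) (hgen : ∀ z : X, ∃ w : X, h w = η ∧ w ⤳ z) :
    ∃ V : Y.Opens, η ∈ V ∧ IsFinite (h ∣_ V) := by
  classical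
  -- choose affine opens around the points of the fibre
  have hch : ∀ w : X, ∃ W : X.Opens, IsAffineOpen W ∧ w ∈ W := fun w => by
    obtain ⟨W, hW, hwW, -⟩ := exists_isAffineOpen_mem_and_subset (x := w) (U := ⊤) trivial
    exact ⟨W, hW, hwW⟩
  choose Wf hWf hwWf using hch
  let W : X.Opens := ⨆ w ∈ hfin.toFinset, Wf w
  have hFW : ∀ w : X, h w = η → w ∈ W := by
    intro w hw
    refine Opens.mem_iSup.mpr ⟨w, Opens.mem_iSup.mpr ⟨?_, hwWf w⟩⟩
    exact hfin.mem_toFinset.mpr hw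
  have hWc : IsCompact (W : Set X) := by
    have : (W : Set X) = ⋃ w ∈ hfin.toFinset, (Wf w : Set X) := by
      simp [W]
    rw [this]
    exact hfin.toFinset.isCompact_biUnion fun w _ => (hWf w).isCompact
  have : CompactSpace W := isCompact_iff_compactSpace.mp hWc
  have : QuasiCompact (W.ι ≫ h) :=
    (HasAffineProperty.iff_of_isAffine (P := @QuasiCompact)).mpr this
  have hfin' : ((W.ι ≫ h) ⁻¹' {η}).Finite := by
    refine Set.Finite.of_finite_image (f := fun x : W => (x.1 : X)) (hfin.subset ?_)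
      (fun a _ b _ hab => Subtype.ext hab)
    rintro _ ⟨x, hx, rfl⟩
    exact hx
  obtain ⟨V, -, hηV, hfinV⟩ := exists_isFinite_morphismRestrict_of_qcqs (W.ι ≫ h) η hη hfin'
  refine ⟨V, hηV, ?_⟩
  rw [morphismRestrict_comp] at hfinV
  have hrange : Set.range (W.ι ∣_ (h ⁻¹ᵁ V)) = {x | (x.1 : X) ∈ W} := by
    rw [morphismRestrict_base, Set.range_restrictPreimage, Scheme.Opens.range_ι]
    rfl
  have hj : IsFinite (W.ι ∣_ (h ⁻¹ᵁ V)) := IsFinite.of_comp _ (h ∣_ V)
  have hclosed : IsClosed (Set.range (W.ι ∣_ (h ⁻¹ᵁ V))) :=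
    (W.ι ∣_ (h ⁻¹ᵁ V)).isClosedMap.isClosed_range
  refine isFinite_of_openImmersions (ι := Unit) (h ∣_ V) (fun _ => W.ι ∣_ (h ⁻¹ᵁ V))
    (fun _ => hfinV) (fun _ _ => by simp) ?_
  intro x
  refine ⟨(), ?_⟩
  by_contra hx
  obtain ⟨w, hw, hwx⟩ := hgen x.1
  have hwV : w ∈ h ⁻¹ᵁ V := by
    show h w ∈ V
    rw [hw]; exact hηV
  have hsp : (⟨w, hwV⟩ : ↥(h ⁻¹ᵁ V)) ⤳ x := (subtype_specializes_iff _ _).mpr hwx
  have := hsp.mem_open hclosed.isOpen_compl hx
  apply this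
  rw [hrange]
  exact hFW w hw

end Groth.Agent.Helper2.GenFinSep

namespace Groth.Agent.Helper2.GenFinSep

open AlgebraicGeometry CategoryTheory TopologicalSpace CategoryTheory.Limits

/-- The fibre over a point of `V₁` of a morphism which is finite over `V₁`. -/
theorem finite_preimage_of_isFinite_morphismRestrict {T V : Scheme.{u}} (π : T ⟶ V)
    (V₁ : V.Opens) (hfin : IsFinite (π ∣_ V₁)) (v : V) (hv : v ∈ V₁) : (π ⁻¹' {v}).Finite := by
  have h1 : ((π ∣_ V₁) ⁻¹' {⟨v, hv⟩}).Finite := (π ∣_ V₁).finite_preimage_singleton _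
  refine (h1.image (fun x : ↥(π ⁻¹ᵁ V₁) => (x.1 : T))).subset ?_
  intro x hx
  have hx' : π x = v := hx
  have hxV : x ∈ π ⁻¹ᵁ V₁ := by
    show π x ∈ V₁
    rw [hx']; exact hv
  refine ⟨⟨x, hxV⟩, ?_, rfl⟩
  show (π ∣_ V₁) ⟨x, hxV⟩ = ⟨v, hv⟩
  apply Subtype.ext
  rw [morphismRestrict_base_coe]
  exact hx'

set_option backward.isDefEq.respectTransparency false in
/-- The first projection of the self fibre product is finite over an open over which the
morphism is finite. -/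
theorem isFinite_morphismRestrict_fst_comp {U V : Scheme.{u}} (g : U ⟶ V) (V₁ : V.Opens)
    (hfin : IsFinite (g ∣_ V₁)) : IsFinite ((pullback.fst g g ≫ g) ∣_ V₁) := by
  rw [morphismRestrict_comp]
  have A := (isPullback_morphismRestrict (pullback.fst g g) (g ⁻¹ᵁ V₁)).flip
  have B : IsPullback (pullback.fst g g) (pullback.snd g g) g g :=
    (IsPullback.of_hasPullback g g)
  have AB := A.paste_horiz B.flip
  -- the lift of the second projection
  have hrange : Set.range (((pullback.fst g g) ⁻¹ᵁ (g ⁻¹ᵁ V₁)).ι ≫ pullback.snd g g) ⊆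
      Set.range (g ⁻¹ᵁ V₁).ι := by
    rw [Scheme.Opens.range_ι]
    rintro _ ⟨x, rfl⟩
    show g ((((pullback.fst g g) ⁻¹ᵁ (g ⁻¹ᵁ V₁)).ι ≫ pullback.snd g g) x) ∈ V₁
    rw [← Scheme.Hom.comp_apply, Category.assoc, ← pullback.condition, ← Category.assoc,
      Scheme.Hom.comp_apply, Scheme.Hom.comp_apply]
    exact x.2
  obtain ⟨l, hl⟩ : ∃ l, l = IsOpenImmersion.lift (g ⁻¹ᵁ V₁).ι
    (((pullback.fst g g) ⁻¹ᵁ (g ⁻¹ᵁ V₁)).ι ≫ pullback.snd g g) hrange := ⟨_, rfl⟩
  have hlι : l ≫ (g ⁻¹ᵁ V₁).ι = ((pullback.fst g g) ⁻¹ᵁ (g ⁻¹ᵁ V₁)).ι ≫ pullback.snd g g := by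
    rw [hl, IsOpenImmersion.lift_fac]
  rw [← hlι] at AB
  have sq1 : IsPullback l (pullback.fst g g ∣_ g ⁻¹ᵁ V₁) ((g ⁻¹ᵁ V₁).ι ≫ g) ((g ⁻¹ᵁ V₁).ι ≫ g) := by
    refine ⟨⟨by rw [← Category.assoc, AB.w]⟩,
      ⟨PullbackCone.IsLimit.mk _ (fun c => AB.lift (c.fst ≫ (g ⁻¹ᵁ V₁).ι) c.snd (by
        rw [Category.assoc, c.condition])) (fun c => ?_)
        (fun c => AB.lift_snd _ _ _) (fun c m h1 h2 => AB.hom_ext ?_ ?_)⟩⟩
    · rw [← cancel_mono (g ⁻¹ᵁ V₁).ι, Category.assoc, AB.lift_fst]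
    · rw [AB.lift_fst, ← Category.assoc, h1]
    · rw [h2, AB.lift_snd]
  rw [← morphismRestrict_ι] at sq1
  have sq2 : IsPullback l (pullback.fst g g ∣_ g ⁻¹ᵁ V₁) (g ∣_ V₁) (g ∣_ V₁) := by
    refine ⟨⟨by rw [← cancel_mono V₁.ι, Category.assoc, Category.assoc, sq1.w]⟩,
      ⟨PullbackCone.IsLimit.mk _ (fun c => sq1.lift c.fst c.snd (by
        rw [← Category.assoc, c.condition, Category.assoc])) (fun c => sq1.lift_fst _ _ _)
        (fun c => sq1.lift_snd _ _ _) (fun c m h1 h2 => sq1.hom_ext ?_ ?_)⟩⟩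
    · rw [h1, sq1.lift_fst]
    · rw [h2, sq1.lift_snd]
  have h3 : IsFinite (pullback.fst g g ∣_ g ⁻¹ᵁ V₁) :=
    MorphismProperty.of_isPullback (P := @IsFinite) sq2 hfin
  infer_instance

/-- Finiteness of the fibre of the kernel pair: if `t, s : R ⟶ U` are jointly monic with
`t ≫ g = s ≫ g` and `g` is finite over a neighbourhood of `v`, then the fibre of `s ≫ g` over `v`
is finite. -/
theorem finite_fibre_comp_of_jointly_mono {U V R : Scheme.{u}} (g : U ⟶ V) (t s : R ⟶ U)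
    (hts : t ≫ g = s ≫ g)
    (hmono : ∀ {T : Scheme.{u}} (α β : T ⟶ R), α ≫ t = β ≫ t → α ≫ s = β ≫ s → α = β)
    (V₁ : V.Opens) (hfin : IsFinite (g ∣_ V₁)) (v : V) (hv : v ∈ V₁) :
    ((s ≫ g) ⁻¹' {v}).Finite := by
  obtain ⟨l, hl⟩ : ∃ l, l = pullback.lift t s hts := ⟨_, rfl⟩
  have hl1 : l ≫ pullback.fst g g = t := by rw [hl, pullback.lift_fst]
  have hl2 : l ≫ pullback.snd g g = s := by rw [hl, pullback.lift_snd]
  have : Mono l := ⟨fun α β h => hmono α β
    (by rw [← hl1, ← Category.assoc, h, Category.assoc])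
    (by rw [← hl2, ← Category.assoc, h, Category.assoc])⟩
  have hπ : ((pullback.fst g g ≫ g) ⁻¹' {v}).Finite :=
    finite_preimage_of_isFinite_morphismRestrict _ V₁
      (isFinite_morphismRestrict_fst_comp g V₁ hfin) v hv
  have heq : s ≫ g = l ≫ pullback.fst g g ≫ g := by
    rw [← Category.assoc, hl1, hts]
  rw [heq]
  have : (l ≫ pullback.fst g g ≫ g) ⁻¹' {v} = l ⁻¹' ((pullback.fst g g ≫ g) ⁻¹' {v}) := by
    ext r
    simp only [Set.mem_preimage, Set.mem_singleton_iff, Scheme.Hom.comp_apply]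
  rw [this]
  exact hπ.preimage l.injective.injOn

end Groth.Agent.Helper2.GenFinSep
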