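import Mathlib
import Groth.Prelude.Def_Dual3
import Groth.Agent.Lib.Helper4.TrdegEtale1
import Groth.Agent.Lib.Helper2.Sch.QfAt

/-!
# Transcendence degree of residue field extensions: scheme-level lemmas (helper2)
-/

set_option autoImplicit false
set_option linter.style.haveILetI false
set_option backward.isDefEq.respectTransparency false

open CategoryTheory CategoryTheory.Limits AlgebraicGeometry Opposite Topology TopologicalSpace

namespace Groth.Agent.Helper2.ResTrdeg
universe u

/-- The transcendence degree of a residue field extension is etale local on source and target. -/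
theorem resTrdeg_square {U U' V V' : Scheme.{u}} (h : U ⟶ V) (h' : U' ⟶ V') (a : U' ⟶ U)
    (b : V' ⟶ V) [Etale a] [Etale b] (comm : h' ≫ b = a ≫ h) (u' : ↥U') :
    Dual3.resTrdeg h (a u') = Dual3.resTrdeg h' u' :=
  Groth.Agent.Lib.Helper4.TrdegEtale1.S7407_main h h' a b comm u'

/-- Additivity of the transcendence degree of residue field extensions along a composition. -/
theorem resTrdeg_comp {X Y Z : Scheme.{u}} (f : X ⟶ Y) (g : Y ⟶ Z) (x : ↥X) :
    Dual3.resTrdeg (f ≫ g) x = Dual3.resTrdeg g (f x) + Dual3.resTrdeg f x := by
  unfold Dual3.resTrdeg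
  letI a1 : Algebra (Z.residueField (g (f x))) (Y.residueField (f x)) :=
    (g.residueFieldMap (f x)).hom.toAlgebra
  letI a2 : Algebra (Y.residueField (f x)) (X.residueField x) :=
    (f.residueFieldMap x).hom.toAlgebra
  letI a3 : Algebra (Z.residueField (g (f x))) (X.residueField x) :=
    ((f ≫ g).residueFieldMap x).hom.toAlgebra
  haveI : IsScalarTower (Z.residueField (g (f x))) (Y.residueField (f x)) (X.residueField x) := by
    refine IsScalarTower.of_algebraMap_eq' ?_
    change ((f ≫ g).residueFieldMap x).hom =
      (f.residueFieldMap x).hom.comp (g.residueFieldMap (f x)).hom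
    rw [Scheme.residueFieldMap_comp]
    rfl
  exact (trdeg_add_eq (Z.residueField (g (f x))) (Y.residueField (f x))
    (A := X.residueField x)).symm

/-- At a closed point of the source of a morphism locally of finite type the residue field
extension is algebraic. -/
theorem resTrdeg_eq_zero_of_isClosed {U V : Scheme.{u}} (h : U ⟶ V) [LocallyOfFiniteType h]
    (u : ↥U) (hu : IsClosed ({u} : Set ↥U)) : Dual3.resTrdeg h u = 0 := by
  haveI : IsClosedImmersion (U.fromSpecResidueField u) :=
    isClosed_singleton_iff_isClosedImmersion.mp hu
  have h1 : LocallyOfFiniteType (Spec.map (h.residueFieldMap u) ≫ V.fromSpecResidueField _) := by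
    rw [Scheme.Hom.SpecMap_residueFieldMap_fromSpecResidueField]
    infer_instance
  have h2 : LocallyOfFiniteType (Spec.map (h.residueFieldMap u)) :=
    locallyOfFiniteType_of_comp _ (V.fromSpecResidueField _)
  rw [HasRingHomProperty.Spec_iff (P := @LocallyOfFiniteType)] at h2
  unfold Dual3.resTrdeg
  letI a1 : Algebra (V.residueField (h u)) (U.residueField u) :=
    (h.residueFieldMap u).hom.toAlgebra
  haveI : Algebra.FiniteType (V.residueField (h u)) (U.residueField u) := h2
  haveI : Module.Finite (V.residueField (h u)) (U.residueField u) :=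
    finite_of_finite_type_of_isJacobsonRing _ _
  haveI : Algebra.IsAlgebraic (V.residueField (h u)) (U.residueField u) :=
    Algebra.IsAlgebraic.of_finite _ _
  exact trdeg_eq_zero

/-- A point of the source of an etale morphism lying over a closed point is closed. -/
theorem isClosed_singleton_of_etale {U U₁ : Scheme.{u}} (p : U ⟶ U₁) [Etale p] (u : ↥U)
    (h : IsClosed ({p u} : Set ↥U₁)) : IsClosed ({u} : Set ↥U) := by
  haveI : LocallyQuasiFinite p := Groth.Agent.Helper2.QfAt.locallyQuasiFinite_of_etale p
  have hD : IsClosed (p ⁻¹' {p u}) := h.preimage p.continuous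
  have hdisc : _root_.IsDiscrete (p ⁻¹' {p u}) := p.isDiscrete_preimage_singleton (p u)
  rw [isDiscrete_iff_discreteTopology] at hdisc
  have hc : IsClosed ({⟨u, rfl⟩} : Set ↥(p ⁻¹' {p u})) := isClosed_discrete _
  have := hc.trans hD
  simpa using this

/-- The residue field extension of a morphism that is quasi-finite at the point is algebraic. -/
theorem resTrdeg_eq_zero_of_locallyQuasiFinite {U V : Scheme.{u}} (h : U ⟶ V)
    [LocallyQuasiFinite h] (u : ↥U) : Dual3.resTrdeg h u = 0 := by
  unfold Dual3.resTrdeg
  letI a1 : Algebra (V.residueField (h u)) (U.residueField u) :=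
    (h.residueFieldMap u).hom.toAlgebra
  have h1 : LocallyQuasiFinite (Spec.map (h.residueFieldMap u) ≫ V.fromSpecResidueField _) := by
    rw [Scheme.Hom.SpecMap_residueFieldMap_fromSpecResidueField]
    infer_instance
  have h2 : LocallyQuasiFinite (Spec.map (h.residueFieldMap u)) :=
    LocallyQuasiFinite.of_comp _ (V.fromSpecResidueField _)
  rw [HasRingHomProperty.Spec_iff (P := @LocallyQuasiFinite)] at h2
  haveI : Algebra.QuasiFinite (V.residueField (h u)) (U.residueField u) := h2
  haveI : Module.Finite (V.residueField (h u)) (U.residueField u) := Module.Finite.of_quasiFinite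
  haveI : Algebra.IsAlgebraic (V.residueField (h u)) (U.residueField u) :=
    Algebra.IsAlgebraic.of_finite _ _
  exact trdeg_eq_zero

end Groth.Agent.Helper2.ResTrdeg
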