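import Mathlib
import Groth.Prelude.Def_Flat
import Groth.Agent.Lib.Helper2.Sch.QfAt

/-!
# Relative dimension zero at a point is quasi-finiteness at the point
-/

set_option autoImplicit false

universe u

open CategoryTheory AlgebraicGeometry TopologicalSpace Topology

namespace Groth.Agent.Helper2.FibreDimZero

variable {X Y : Scheme.{u}}

theorem one_le_of_not_le_zero {d : WithBot ℕ∞} (h : ¬ d ≤ 0) : 1 ≤ d := by
  induction d with
  | bot => exact absurd bot_le h
  | coe n =>
    have h' : ¬ n ≤ 0 := fun hn => h (by exact_mod_cast hn)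
    have : 1 ≤ n := ENat.one_le_iff_ne_zero.mpr (fun h0 => h' (h0 ▸ le_rfl))
    exact_mod_cast this

theorem topologicalKrullDim_nonneg_of_mem {T : Type*} [TopologicalSpace T] (s : Set T) (z : T)
    (hz : z ∈ s) : 0 ≤ topologicalKrullDim ↥s := by
  haveI : Nonempty (IrreducibleCloseds ↥s) :=
    ⟨⟨closure {⟨z, hz⟩}, isIrreducible_singleton.closure, isClosed_closure⟩⟩
  exact Order.krullDim_nonneg

theorem localDim_eq_zero_of_isOpen_singleton {T : Type*} [TopologicalSpace T] (z : T)
    (hz : IsOpen ({z} : Set T)) : FlatMor.localDim T z = 0 := by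
  unfold FlatMor.localDim
  apply le_antisymm
  · refine iInf_le_of_le ⟨⟨{z}, hz⟩, rfl⟩ ?_
    haveI : Subsingleton ↥((⟨{z}, hz⟩ : Opens T) : Set T) :=
      ⟨fun a b => Subtype.ext (a.2.trans b.2.symm)⟩
    exact topologicalKrullDim_zero_of_discreteTopology _
  · exact le_iInf fun U => topologicalKrullDim_nonneg_of_mem _ z U.2

theorem exists_open_dim_le_zero_of_localDim_eq_zero {T : Type*} [TopologicalSpace T] (z : T)
    (h0 : FlatMor.localDim T z = 0) :
    ∃ U : Opens T, z ∈ U ∧ topologicalKrullDim ↥(U : Set T) ≤ 0 := by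
  by_contra hne
  have h1 : ∀ U : {U : Opens T // z ∈ U}, (1 : WithBot ℕ∞) ≤ topologicalKrullDim ↥(U.1 : Set T) :=
    fun U => one_le_of_not_le_zero fun hle => hne ⟨U.1, U.2, hle⟩
  have h2 : (1 : WithBot ℕ∞) ≤ FlatMor.localDim T z := le_iInf h1
  rw [h0] at h2
  exact absurd h2 (by decide)

theorem fibreDimAt_eq_zero_iff {h : X ⟶ Y} [LocallyOfFiniteType h] (u : ↥X) :
    FlatMor.fibreDimAt h u = 0 ↔ h.QuasiFiniteAt u := by
  rw [Scheme.Hom.quasiFiniteAt_iff_isOpen_singleton_asFiber]
  unfold FlatMor.fibreDimAt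
  constructor
  · intro h0
    obtain ⟨U, hzU, hU⟩ := exists_open_dim_le_zero_of_localDim_eq_zero _ h0
    let g : h.fiber (h u) ⟶ Spec (Y.residueField (h u)) := h.fiberToSpecResidueField (h u)
    haveI : LocallyOfFiniteType g := MorphismProperty.pullback_snd _ _ inferInstance
    let U' : (h.fiber (h u)).Opens := U
    have hU' : topologicalKrullDim ↥U'.toScheme ≤ 0 := hU
    haveI : LocallyQuasiFinite (U'.ι ≫ g) :=
      LqfField.lqf_of_dim_le_zero (k := ↑(Y.residueField (h u))) (U'.ι ≫ g) hU'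
    haveI : IsLocallyArtinian (Spec (Y.residueField (h u))) :=
      Scheme.isLocallyArtinianScheme_Spec.mpr inferInstance
    haveI : IsLocallyArtinian U'.toScheme := IsLocallyArtinian.of_locallyQuasiFinite (U'.ι ≫ g)
    have hopen : IsOpen ({⟨h.asFiber u, hzU⟩} : Set ↥U'.toScheme) := isOpen_discrete _
    have := U'.ι.isOpenEmbedding.isOpenMap _ hopen
    rw [Set.image_singleton] at this
    exact this
  · intro hz
    exact localDim_eq_zero_of_isOpen_singleton _ hz

/-- A point of local dimension zero of a scheme locally of finite type over a field is open. -/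
theorem isOpen_singleton_of_localDim_eq_zero {F : Scheme.{u}} {k : Type u} [Field k]
    (g : F ⟶ Spec (CommRingCat.of k)) [LocallyOfFiniteType g] (z : ↥F)
    (h0 : FlatMor.localDim ↥F z = 0) : IsOpen ({z} : Set ↥F) := by
  obtain ⟨U, hzU, hU⟩ := exists_open_dim_le_zero_of_localDim_eq_zero _ h0
  let U' : F.Opens := U
  have hU' : topologicalKrullDim ↥U'.toScheme ≤ 0 := hU
  haveI : LocallyQuasiFinite (U'.ι ≫ g) := LqfField.lqf_of_dim_le_zero (U'.ι ≫ g) hU'
  haveI : IsLocallyArtinian (Spec (CommRingCat.of k)) :=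
    Scheme.isLocallyArtinianScheme_Spec.mpr inferInstance
  haveI : IsLocallyArtinian U'.toScheme := IsLocallyArtinian.of_locallyQuasiFinite (U'.ι ≫ g)
  have hopen : IsOpen ({⟨z, hzU⟩} : Set ↥U'.toScheme) := isOpen_discrete _
  have := U'.ι.isOpenEmbedding.isOpenMap _ hopen
  rw [Set.image_singleton] at this
  exact this

theorem quasiFiniteAt_of_localDim_eq_zero {F : Scheme.{u}} {k : Type u} [Field k]
    (g : F ⟶ Spec (CommRingCat.of k)) [LocallyOfFiniteType g] (z : ↥F)
    (h0 : FlatMor.localDim ↥F z = 0) : g.QuasiFiniteAt z := by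
  have hopen := isOpen_singleton_of_localDim_eq_zero g z h0
  rw [QfAt.quasiFiniteAt_iff_isolated]
  exact ⟨{z}, hopen, rfl, fun u' hu' _ => hu'⟩

end Groth.Agent.Helper2.FibreDimZero
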