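import Mathlib

set_option autoImplicit false
set_option backward.isDefEq.respectTransparency false
set_option linter.style.haveILetI false
universe u
open CategoryTheory CategoryTheory.Limits AlgebraicGeometry TensorProduct

namespace Groth.Agent.Helper2.KerFlat

/-- Flat base change of the kernel of an algebra map (algebra form). -/
theorem ker_of_isPushout_of_flat {A B A' B' : Type u} [CommRing A] [CommRing B]
    [CommRing A'] [CommRing B'] [Algebra A B] [Algebra A A'] [Algebra B B'] [Algebra A' B']
    [Algebra A B'] [IsScalarTower A B B'] [IsScalarTower A A' B']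
    (h : Algebra.IsPushout A A' B B') [Module.Flat A A'] :
    RingHom.ker (algebraMap A' B') = (RingHom.ker (algebraMap A B)).map (algebraMap A A') := by
  have hbc : IsBaseChange A' (IsScalarTower.toAlgHom A B B').toLinearMap := h.out
  let e := hbc.equiv
  let f : A →ₗ[A] B := Algebra.linearMap A B
  have hex : Function.Exact ((LinearMap.ker f).subtype.lTensor A') (f.lTensor A') :=
    Module.Flat.lTensor_exact A' (LinearMap.exact_subtype_ker_map f)
  have hmem : ∀ y : A' ⊗[A] (LinearMap.ker f),
      TensorProduct.rid A A' ((LinearMap.ker f).subtype.lTensor A' y) ∈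
        (RingHom.ker (algebraMap A B)).map (algebraMap A A') := by
    intro y
    induction y with
    | zero => simp
    | add x y hx hy =>
      rw [map_add, map_add]
      exact Ideal.add_mem _ hx hy
    | tmul s r =>
      rw [LinearMap.lTensor_tmul, TensorProduct.rid_tmul, Algebra.smul_def, mul_comm]
      apply Ideal.mul_mem_left
      apply Ideal.mem_map_of_mem
      exact r.2
  apply le_antisymm
  · intro a' ha'
    have h1 : e (a' ⊗ₜ[A] (1 : B)) = 0 := by
      rw [hbc.equiv_tmul]
      simp only [AlgHom.toLinearMap_apply, map_one]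
      rw [Algebra.smul_def, mul_one]
      exact ha'
    have h2 : (a' ⊗ₜ[A] (1 : B)) = 0 := e.injective (by rw [h1, map_zero])
    have h3 : f.lTensor A' (a' ⊗ₜ[A] (1 : A)) = 0 := by
      rw [LinearMap.lTensor_tmul]
      simpa [f] using h2
    obtain ⟨y, hy⟩ := (hex _).mp h3
    have h4 := hmem y
    rw [hy, TensorProduct.rid_tmul, one_smul] at h4
    exact h4
  · rw [Ideal.map_le_iff_le_comap]
    intro a ha
    rw [Ideal.mem_comap, RingHom.mem_ker, ← IsScalarTower.algebraMap_apply,
      IsScalarTower.algebraMap_apply A B B']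
    rw [RingHom.mem_ker] at ha
    rw [ha, map_zero]

/-- Flat base change of the kernel of a ring map (categorical form). -/
theorem ker_of_isPushout_cat {A B A' B' : CommRingCat.{u}} (f : A ⟶ B) (g : A ⟶ A')
    (f' : B ⟶ B') (g' : A' ⟶ B') (h : IsPushout f g f' g') (hflat : g.hom.Flat) :
    RingHom.ker g'.hom = (RingHom.ker f.hom).map g.hom := by
  letI : Algebra A B := f.hom.toAlgebra
  letI : Algebra A A' := g.hom.toAlgebra
  letI : Algebra B B' := f'.hom.toAlgebra
  letI : Algebra A' B' := g'.hom.toAlgebra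
  letI : Algebra A B' := (f ≫ f').hom.toAlgebra
  haveI : IsScalarTower A B B' := .of_algebraMap_eq' rfl
  haveI : IsScalarTower A A' B' := .of_algebraMap_eq' (congrArg CommRingCat.Hom.hom h.w)
  have h' : Algebra.IsPushout A A' B B' := CommRingCat.isPushout_iff_isPushout.mp h.flip
  haveI : Module.Flat A A' := by
    rw [← RingHom.flat_algebraMap_iff]
    exact hflat
  exact ker_of_isPushout_of_flat h'


theorem appTop_eq_appLE {X Y : Scheme.{u}} (f : X ⟶ Y) :
    f.appTop = f.appLE ⊤ ⊤ le_top := by
  rw [Scheme.Hom.appTop, Scheme.Hom.app_eq_appLE]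
  rfl

/-- Flat base change of the kernel of global sections for a quasi-compact scheme over an
affine base. -/
theorem ker_appTop_of_isPullback_of_flat {P P' E E' : Scheme.{u}} {g' : P' ⟶ P} {q' : P' ⟶ E'}
    {q : P ⟶ E} {g : E' ⟶ E} (H : IsPullback g' q' q g) [Flat g] [IsAffine E] [IsAffine E']
    [CompactSpace P] :
    RingHom.ker q'.appTop.hom = (RingHom.ker q.appTop.hom).map g.appTop.hom := by
  have hUST : (⊤ : E'.Opens) ≤ g ⁻¹ᵁ ⊤ := le_top
  have hUSX : (⊤ : P.Opens) ≤ q ⁻¹ᵁ ⊤ := le_top
  have hUY : (⊤ : P'.Opens) = g' ⁻¹ᵁ ⊤ ⊓ q' ⁻¹ᵁ ⊤ := by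
    ext x
    simp
  have hmono := mono_pushoutSection_of_isCompact_of_flat_right H hUST hUSX hUY
    (isAffineOpen_top E) (isAffineOpen_top E') isCompact_univ
  have hinj : Function.Injective (pushoutSection H hUST hUSX hUY).hom :=
    (ConcreteCategory.mono_iff_injective_of_preservesPullback _).mp hmono
  have hpo := IsPushout.of_hasPushout (q.appLE ⊤ ⊤ hUSX) (g.appLE ⊤ ⊤ hUST)
  have hk := ker_of_isPushout_cat _ _ _ _ hpo (g.flat_appLE (isAffineOpen_top E)
    (isAffineOpen_top E') hUST)
  have h1 : pushout.inr (q.appLE ⊤ ⊤ hUSX) (g.appLE ⊤ ⊤ hUST) ≫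
      pushoutSection H hUST hUSX hUY = q'.appLE ⊤ ⊤ le_top :=
    pushout.inr_desc _ _ _
  rw [appTop_eq_appLE q', appTop_eq_appLE q, appTop_eq_appLE g]
  rw [← hk]
  ext a
  rw [RingHom.mem_ker, RingHom.mem_ker]
  have h2 : (q'.appLE ⊤ ⊤ le_top).hom a =
      (pushoutSection H hUST hUSX hUY).hom
        ((pushout.inr (q.appLE ⊤ ⊤ hUSX) (g.appLE ⊤ ⊤ hUST)).hom a) :=
    (congrArg (fun m => m.hom a) h1).symm
  rw [h2]
  constructor
  · intro h
    apply hinj
    rw [map_zero]
    exact h
  · intro h
    rw [h, map_zero]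

end Groth.Agent.Helper2.KerFlat
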