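import Mathlib

/-!
# Flat base change of an equalizer of algebra maps (helper2)

For a flat `A`-algebra `A'` and `A`-algebra maps `s t : C → D`, the equalizer of
`A' ⊗ s, A' ⊗ t` is `A' ⊗ E` for `E` the equalizer of `s, t`.  We give the statement for the
concrete tensor product and then for abstract pushout squares in `CommRingCat`.
-/

set_option autoImplicit false

namespace Groth.Agent.Helper2.EqLocusFlat
open CategoryTheory CategoryTheory.Limits TensorProduct
universe u

section Alg
variable {A A' C D E : Type u} [CommRing A] [CommRing A'] [CommRing C] [CommRing D] [CommRing E]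
  [Algebra A A'] [Algebra A C] [Algebra A D] [Algebra A E]

/-- Flat base change of an equalizer, concrete tensor product version. -/
theorem tensor_eqLocus [Module.Flat A A'] (s t : C →ₐ[A] D) (ι : E →ₐ[A] C)
    (hinj : Function.Injective ι) (heq : ∀ e, s (ι e) = t (ι e))
    (hrange : ∀ x, s x = t x → x ∈ Set.range ι) :
    Function.Injective (Algebra.TensorProduct.map (AlgHom.id A A') ι) ∧
    ∀ x : A' ⊗[A] C, Algebra.TensorProduct.map (AlgHom.id A A') s x =
        Algebra.TensorProduct.map (AlgHom.id A A') t x →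
      x ∈ Set.range (Algebra.TensorProduct.map (AlgHom.id A A') ι) := by
  let d : C →ₗ[A] D := s.toLinearMap - t.toLinearMap
  have hex : Function.Exact ι.toLinearMap d := by
    intro y
    constructor
    · intro hy
      have : s y = t y := by
        have : s y - t y = 0 := hy
        exact sub_eq_zero.mp this
      exact hrange y this
    · rintro ⟨e, rfl⟩
      show s (ι e) - t (ι e) = 0
      rw [heq, sub_self]
  have hex' := Module.Flat.lTensor_exact A' hex
  have hinj' := Module.Flat.lTensor_preserves_injective_linearMap (M := A') ι.toLinearMap hinj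
  have h1 : ∀ x : A' ⊗[A] E, Algebra.TensorProduct.map (AlgHom.id A A') ι x =
      ι.toLinearMap.lTensor A' x := by
    intro x
    induction x with
    | zero => simp
    | tmul a e => simp
    | add x y hx hy => rw [map_add, map_add, hx, hy]
  have h2 : ∀ x : A' ⊗[A] C, Algebra.TensorProduct.map (AlgHom.id A A') s x -
      Algebra.TensorProduct.map (AlgHom.id A A') t x = d.lTensor A' x := by
    intro x
    induction x with
    | zero => simp
    | tmul a c => simp [d]
    | add x y hx hy => rw [map_add, map_add, map_add, ← hx, ← hy]; abel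
  refine ⟨?_, ?_⟩
  · intro x y hxy
    rw [h1, h1] at hxy
    exact hinj' hxy
  · intro x hx
    have : d.lTensor A' x = 0 := by rw [← h2, hx, sub_self]
    obtain ⟨y, hy⟩ := (hex' x).mp this
    exact ⟨y, by rw [h1]; exact hy⟩

end Alg

section Cat

set_option maxHeartbeats 800000 in
/-- Flat base change of an equalizer, for abstract pushout squares in `CommRingCat`. -/
theorem eqLocus_isPushout {A A' C D E C' D' E' : CommRingCat.{u}} (φ : A ⟶ A') (hφ : φ.hom.Flat)
    (aC : A ⟶ C) (aD : A ⟶ D) (aE : A ⟶ E) (s t : C ⟶ D) (ι : E ⟶ C)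
    (hs : aC ≫ s = aD) (ht : aC ≫ t = aD) (hι : aE ≫ ι = aC)
    (hinj : Function.Injective ι.hom) (heq : ι ≫ s = ι ≫ t)
    (hrange : ∀ x, s.hom x = t.hom x → x ∈ Set.range ι.hom)
    (γ : C ⟶ C') (aC' : A' ⟶ C') (POC : IsPushout φ aC aC' γ)
    (δ : D ⟶ D') (aD' : A' ⟶ D') (POD : IsPushout φ aD aD' δ)
    (ε : E ⟶ E') (aE' : A' ⟶ E') (POE : IsPushout φ aE aE' ε)
    (s' t' : C' ⟶ D') (hs1 : γ ≫ s' = s ≫ δ) (hs2 : aC' ≫ s' = aD')
    (ht1 : γ ≫ t' = t ≫ δ) (ht2 : aC' ≫ t' = aD')
    (ι' : E' ⟶ C') (hι1 : ε ≫ ι' = ι ≫ γ) (hι2 : aE' ≫ ι' = aC') :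
    Function.Injective ι'.hom ∧ ∀ x, s'.hom x = t'.hom x → x ∈ Set.range ι'.hom := by
  letI : Algebra A A' := φ.hom.toAlgebra
  letI : Algebra A C := aC.hom.toAlgebra
  letI : Algebra A D := aD.hom.toAlgebra
  letI : Algebra A E := aE.hom.toAlgebra
  haveI : Module.Flat A A' := hφ
  let sA : C →ₐ[A] D :=
    { toRingHom := s.hom
      commutes' := fun a => congrArg (fun m => m.hom a) hs }
  let tA : C →ₐ[A] D :=
    { toRingHom := t.hom
      commutes' := fun a => congrArg (fun m => m.hom a) ht }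
  let ιA : E →ₐ[A] C :=
    { toRingHom := ι.hom
      commutes' := fun a => congrArg (fun m => m.hom a) hι }
  have hsA : ∀ c, sA c = s.hom c := fun _ => rfl
  have htA : ∀ c, tA c = t.hom c := fun _ => rfl
  have hιA : ∀ e, ιA e = ι.hom e := fun _ => rfl
  obtain ⟨hI, hR⟩ := tensor_eqLocus (A' := A') sA tA ιA hinj
    (fun e => congrArg (fun m => m.hom e) heq) hrange
  have TPC := CommRingCat.isPushout_tensorProduct A A' C
  have TPD := CommRingCat.isPushout_tensorProduct A A' D
  have TPE := CommRingCat.isPushout_tensorProduct A A' E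
  let eC : CommRingCat.of (A' ⊗[A] C) ≅ C' := TPC.isoIsPushout _ _ POC
  let eD : CommRingCat.of (A' ⊗[A] D) ≅ D' := TPD.isoIsPushout _ _ POD
  let eE : CommRingCat.of (A' ⊗[A] E) ≅ E' := TPE.isoIsPushout _ _ POE
  have heCl : CommRingCat.ofHom (S := A' ⊗[A] C) Algebra.TensorProduct.includeLeftRingHom ≫
      eC.hom = aC' := TPC.inl_isoIsPushout_hom _ _ POC
  have heCr : CommRingCat.ofHom (S := A' ⊗[A] C)
      (Algebra.TensorProduct.includeRight : C →ₐ[A] A' ⊗[A] C).toRingHom ≫ eC.hom = γ :=
    TPC.inr_isoIsPushout_hom _ _ POC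
  have heDl : CommRingCat.ofHom (S := A' ⊗[A] D) Algebra.TensorProduct.includeLeftRingHom ≫
      eD.hom = aD' := TPD.inl_isoIsPushout_hom _ _ POD
  have heDr : CommRingCat.ofHom (S := A' ⊗[A] D)
      (Algebra.TensorProduct.includeRight : D →ₐ[A] A' ⊗[A] D).toRingHom ≫ eD.hom = δ :=
    TPD.inr_isoIsPushout_hom _ _ POD
  have heEl : CommRingCat.ofHom (S := A' ⊗[A] E) Algebra.TensorProduct.includeLeftRingHom ≫
      eE.hom = aE' := TPE.inl_isoIsPushout_hom _ _ POE
  have heEr : CommRingCat.ofHom (S := A' ⊗[A] E)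
      (Algebra.TensorProduct.includeRight : E →ₐ[A] A' ⊗[A] E).toRingHom ≫ eE.hom = ε :=
    TPE.inr_isoIsPushout_hom _ _ POE
  -- compatibility of the identifications
  have K1 : CommRingCat.ofHom (Algebra.TensorProduct.map (AlgHom.id A A') ιA).toRingHom ≫
      eC.hom = eE.hom ≫ ι' := by
    apply TPE.hom_ext
    · have e1 : CommRingCat.ofHom (S := A' ⊗[A] E) Algebra.TensorProduct.includeLeftRingHom ≫
          CommRingCat.ofHom (Algebra.TensorProduct.map (AlgHom.id A A') ιA).toRingHom =
          CommRingCat.ofHom (S := A' ⊗[A] C) Algebra.TensorProduct.includeLeftRingHom := by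
        ext a
        simp
      rw [← Category.assoc, e1, heCl, ← Category.assoc, heEl, hι2]
    · have e1 : CommRingCat.ofHom (S := A' ⊗[A] E)
          (Algebra.TensorProduct.includeRight : E →ₐ[A] A' ⊗[A] E).toRingHom ≫
          CommRingCat.ofHom (Algebra.TensorProduct.map (AlgHom.id A A') ιA).toRingHom =
          ι ≫ CommRingCat.ofHom (S := A' ⊗[A] C)
            (Algebra.TensorProduct.includeRight : C →ₐ[A] A' ⊗[A] C).toRingHom := by
        ext e
        show Algebra.TensorProduct.map (AlgHom.id A A') ιA ((1 : A') ⊗ₜ[A] e) =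
          (1 : A') ⊗ₜ[A] (ι.hom e)
        simp [hιA]
      rw [← Category.assoc, e1, Category.assoc, heCr, ← Category.assoc, heEr, hι1]
  have K2 : ∀ (σ : C ⟶ D) (σ' : C' ⟶ D') (σA : C →ₐ[A] D) (_ : ∀ c, σA c = σ.hom c)
      (_ : γ ≫ σ' = σ ≫ δ) (_ : aC' ≫ σ' = aD'),
      CommRingCat.ofHom (Algebra.TensorProduct.map (AlgHom.id A A') σA).toRingHom ≫
        eD.hom = eC.hom ≫ σ' := by
    intro σ σ' σA hσA h1 h2
    apply TPC.hom_ext
    · have e1 : CommRingCat.ofHom (S := A' ⊗[A] C) Algebra.TensorProduct.includeLeftRingHom ≫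
          CommRingCat.ofHom (Algebra.TensorProduct.map (AlgHom.id A A') σA).toRingHom =
          CommRingCat.ofHom (S := A' ⊗[A] D) Algebra.TensorProduct.includeLeftRingHom := by
        ext a
        simp
      rw [← Category.assoc, e1, heDl, ← Category.assoc, heCl, h2]
    · have e1 : CommRingCat.ofHom (S := A' ⊗[A] C)
          (Algebra.TensorProduct.includeRight : C →ₐ[A] A' ⊗[A] C).toRingHom ≫
          CommRingCat.ofHom (Algebra.TensorProduct.map (AlgHom.id A A') σA).toRingHom =
          σ ≫ CommRingCat.ofHom (S := A' ⊗[A] D)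
            (Algebra.TensorProduct.includeRight : D →ₐ[A] A' ⊗[A] D).toRingHom := by
        ext c
        show Algebra.TensorProduct.map (AlgHom.id A A') σA ((1 : A') ⊗ₜ[A] c) =
          (1 : A') ⊗ₜ[A] (σ.hom c)
        simp [hσA]
      rw [← Category.assoc, e1, Category.assoc, heDr, ← Category.assoc, heCr, h1]
  have K2s := K2 s s' sA hsA hs1 hs2
  have K2t := K2 t t' tA htA ht1 ht2
  have injOfIso : ∀ {P Q : CommRingCat.{u}} (e : P ≅ Q), Function.Injective e.hom.hom := by
    intro P Q e x y hxy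
    have := congrArg e.inv.hom hxy
    have hx : e.inv.hom (e.hom.hom x) = x := congrArg (fun m => m.hom x) e.hom_inv_id
    have hy : e.inv.hom (e.hom.hom y) = y := congrArg (fun m => m.hom y) e.hom_inv_id
    rwa [hx, hy] at this
  have surjOfIso : ∀ {P Q : CommRingCat.{u}} (e : P ≅ Q) (y : Q), e.hom.hom (e.inv.hom y) = y := by
    intro P Q e y
    exact congrArg (fun m => m.hom y) e.inv_hom_id
  have k1 : ∀ x, ι'.hom (eE.hom.hom x) =
      eC.hom.hom (Algebra.TensorProduct.map (AlgHom.id A A') ιA x) := fun x =>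
    (congrArg (fun m => m.hom x) K1).symm
  have k2s : ∀ x, s'.hom (eC.hom.hom x) =
      eD.hom.hom (Algebra.TensorProduct.map (AlgHom.id A A') sA x) := fun x =>
    (congrArg (fun m => m.hom x) K2s).symm
  have k2t : ∀ x, t'.hom (eC.hom.hom x) =
      eD.hom.hom (Algebra.TensorProduct.map (AlgHom.id A A') tA x) := fun x =>
    (congrArg (fun m => m.hom x) K2t).symm
  refine ⟨?_, ?_⟩
  · intro x y hxy
    rw [← surjOfIso eE x, ← surjOfIso eE y, k1, k1] at hxy
    have := hI (injOfIso eC hxy)
    rw [← surjOfIso eE x, ← surjOfIso eE y, this]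
  · intro x hx
    rw [← surjOfIso eC x, k2s, k2t] at hx
    obtain ⟨y, hy⟩ := hR _ (injOfIso eD hx)
    refine ⟨eE.hom.hom y, ?_⟩
    rw [k1, hy, surjOfIso]

end Cat

end Groth.Agent.Helper2.EqLocusFlat
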