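import Mathlib
import Groth.Agent.Lib.Helper2.Sch.EqLocusFlat
import Groth.Agent.Lib.Helper2.Desc.QcqsDesc

/-!
# The affine quotient of an affine scheme by a pair of maps, and its flat base change (helper2)

For `r₁ r₂ : R ⟶ U` with `U` affine (over an affine `Z`), the spectrum `T` of the equalizer of
`Γ(r₁), Γ(r₂)` receives a map `e : U ⟶ T`.  We show that the formation of `(T, e)` commutes with
flat base change `W ⟶ Z` of affine schemes, and that a flat surjective `q : U_W ⟶ V` coequalizing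
the base changed pair induces an open immersion `V ⟶ T_W` when `V` is quasi-affine.
-/

set_option autoImplicit false
set_option linter.style.haveILetI false

namespace Groth.Agent.Helper2.AffQuot
open CategoryTheory CategoryTheory.Limits AlgebraicGeometry
universe u

/-- Global sections are injective along a flat surjective morphism. -/
theorem appTop_injective_of_flat_of_surjective {X Y : Scheme.{u}} (f : X ⟶ Y) [Flat f]
    [Surjective f] : Function.Injective f.appTop.hom := by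
  rw [injective_iff_map_eq_zero]
  intro s hs
  refine TopCat.Presheaf.section_ext Y.sheaf ⊤ s 0 ?_
  intro y hy
  obtain ⟨x, rfl⟩ := f.surjective y
  have hinj : Function.Injective (f.stalkMap x).hom := by
    algebraize [(f.stalkMap x).hom]
    have : Module.FaithfullyFlat (Y.presheaf.stalk (f x)) (X.presheaf.stalk x) :=
      @Module.FaithfullyFlat.of_flat_of_isLocalHom _ _ _ _ _ _ _
        (Flat.stalkMap f x) (f.toLRSHom.prop x)
    exact ‹RingHom.FaithfullyFlat _›.injective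
  apply hinj
  have h1 := Scheme.Hom.germ_stalkMap_apply f ⊤ x hy s
  have h2 := Scheme.Hom.germ_stalkMap_apply f ⊤ x hy 0
  erw [h1, h2]
  have : f.app ⊤ s = f.app ⊤ 0 := by
    rw [map_zero]; exact hs
  rw [this]

/-- The affine quotient of an affine scheme by a pair of maps. -/
theorem exists_affine_quot {U R Z : Scheme.{u}} [IsAffine Z] (r₁ r₂ : R ⟶ U)
    (uZ : U ⟶ Z) (h : r₁ ≫ uZ = r₂ ≫ uZ) :
    ∃ (T : Scheme.{u}) (e : U ⟶ T) (tZ : T ⟶ Z), IsAffine T ∧ e ≫ tZ = uZ ∧ r₁ ≫ e = r₂ ≫ e ∧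
      Function.Injective e.appTop.hom ∧
      ∀ x, r₁.appTop.hom x = r₂.appTop.hom x → x ∈ Set.range e.appTop.hom := by
  let L : Subring Γ(U, ⊤) := RingHom.eqLocus r₁.appTop.hom r₂.appTop.hom
  let E : CommRingCat.{u} := CommRingCat.of L
  let ι : E ⟶ Γ(U, ⊤) := CommRingCat.ofHom L.subtype
  have hmem : ∀ x : Γ(Z, ⊤), uZ.appTop.hom x ∈ L := by
    intro x
    show r₁.appTop.hom (uZ.appTop.hom x) = r₂.appTop.hom (uZ.appTop.hom x)
    have h1 : uZ.appTop ≫ r₁.appTop = uZ.appTop ≫ r₂.appTop := by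
      rw [← Scheme.Hom.comp_appTop, ← Scheme.Hom.comp_appTop, h]
    exact congrArg (fun m => m.hom x) h1
  let α : Γ(Z, ⊤) ⟶ E := CommRingCat.ofHom (uZ.appTop.hom.codRestrict L hmem)
  have hαι : α ≫ ι = uZ.appTop := by
    ext x
    rfl
  have hι : ι ≫ r₁.appTop = ι ≫ r₂.appTop := by
    ext x
    exact x.2
  let e : U ⟶ Spec E := U.toSpecΓ ≫ Spec.map ι
  let tZ : Spec E ⟶ Z := Spec.map α ≫ Z.isoSpec.inv
  have heT : e.appTop = (Scheme.ΓSpecIso E).hom ≫ ι := by
    show (U.toSpecΓ ≫ Spec.map ι).appTop = _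
    rw [Scheme.Hom.comp_appTop, Scheme.toSpecΓ_appTop, Scheme.ΓSpecIso_naturality]
  refine ⟨Spec E, e, tZ, inferInstance, ?_, ?_, ?_, ?_⟩
  · show (U.toSpecΓ ≫ Spec.map ι) ≫ Spec.map α ≫ Z.isoSpec.inv = uZ
    rw [Category.assoc, ← Category.assoc (Spec.map ι), ← Spec.map_comp, hαι,
      ← Category.assoc, ← Scheme.toSpecΓ_naturality, Category.assoc]
    have : Z.toSpecΓ ≫ Z.isoSpec.inv = 𝟙 Z := Z.isoSpec.hom_inv_id
    rw [this, Category.comp_id]
  · show r₁ ≫ U.toSpecΓ ≫ Spec.map ι = r₂ ≫ U.toSpecΓ ≫ Spec.map ι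
    rw [← Category.assoc, Scheme.toSpecΓ_naturality, Category.assoc, ← Spec.map_comp,
      ← Category.assoc r₂, Scheme.toSpecΓ_naturality, Category.assoc, ← Spec.map_comp, hι]
  · rw [heT]
    intro x y hxy
    have h1 : L.subtype ((Scheme.ΓSpecIso E).hom.hom x) = L.subtype ((Scheme.ΓSpecIso E).hom.hom y) :=
      hxy
    have h2 := Subtype.val_injective h1
    have hinj : Function.Injective (Scheme.ΓSpecIso E).hom.hom :=
      ((ConcreteCategory.isIso_iff_bijective (Scheme.ΓSpecIso E).hom).mp inferInstance).1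
    exact hinj h2
  · intro x hx
    rw [heT]
    have hsurj : Function.Surjective (Scheme.ΓSpecIso E).hom.hom :=
      ((ConcreteCategory.isIso_iff_bijective (Scheme.ΓSpecIso E).hom).mp inferInstance).2
    obtain ⟨y, hy⟩ := hsurj ⟨x, hx⟩
    refine ⟨y, ?_⟩
    show L.subtype ((Scheme.ΓSpecIso E).hom.hom y) = x
    rw [hy]
    rfl

/-- Flat base change of the affine quotient. -/
theorem quot_baseChange {Z W U R T UW RW TW : Scheme.{u}} [IsAffine Z] [IsAffine W] [IsAffine U]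
    [IsAffine T] [CompactSpace R] [QuasiSeparatedSpace R]
    (c : W ⟶ Z) [Flat c] (uZ : U ⟶ Z) (r₁ r₂ : R ⟶ U) (rZ : R ⟶ Z) (h₁ : r₁ ≫ uZ = rZ)
    (h₂ : r₂ ≫ uZ = rZ) (e : U ⟶ T) (tZ : T ⟶ Z) (he : e ≫ tZ = uZ) (heq : r₁ ≫ e = r₂ ≫ e)
    (hinj : Function.Injective e.appTop.hom)
    (hrange : ∀ x, r₁.appTop.hom x = r₂.appTop.hom x → x ∈ Set.range e.appTop.hom)
    (uU : UW ⟶ U) (uW : UW ⟶ W) (sqU : IsPullback uU uW uZ c)
    (rR : RW ⟶ R) (rW : RW ⟶ W) (sqR : IsPullback rR rW rZ c)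
    (tT : TW ⟶ T) (tW : TW ⟶ W) (sqT : IsPullback tT tW tZ c)
    (r₁' r₂' : RW ⟶ UW) (h₁' : r₁' ≫ uU = rR ≫ r₁) (h₁'' : r₁' ≫ uW = rW)
    (h₂' : r₂' ≫ uU = rR ≫ r₂) (h₂'' : r₂' ≫ uW = rW)
    (e' : UW ⟶ TW) (he' : e' ≫ tT = uU ≫ e) (he'' : e' ≫ tW = uW) :
    Function.Injective e'.appTop.hom ∧
      ∀ x, r₁'.appTop.hom x = r₂'.appTop.hom x → x ∈ Set.range e'.appTop.hom := by
  have POC := (AffDesc.isPushout_appTop_of_flat sqU).flip
  have POD := (AffDesc.isPushout_appTop_of_flat sqR).flip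
  have POE := (AffDesc.isPushout_appTop_of_flat sqT).flip
  have tr : ∀ {P Q X : Scheme.{u}} (f : P ⟶ Q) (g : Q ⟶ X) (h : P ⟶ X), f ≫ g = h →
      g.appTop ≫ f.appTop = h.appTop := by
    intro P Q X f g h e
    rw [← Scheme.Hom.comp_appTop, e]
  have tr2 : ∀ {P Q Q' X : Scheme.{u}} (f : P ⟶ Q) (g : Q ⟶ X) (f' : P ⟶ Q') (g' : Q' ⟶ X),
      f ≫ g = f' ≫ g' → g.appTop ≫ f.appTop = g'.appTop ≫ f'.appTop := by
    intro P Q Q' X f g f' g' e
    rw [← Scheme.Hom.comp_appTop, ← Scheme.Hom.comp_appTop, e]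
  exact EqLocusFlat.eqLocus_isPushout c.appTop (Scheme.Hom.flat_appTop c)
    uZ.appTop rZ.appTop tZ.appTop r₁.appTop r₂.appTop e.appTop
    (tr r₁ uZ rZ h₁) (tr r₂ uZ rZ h₂) (tr e tZ uZ he) hinj (tr2 _ _ _ _ heq) hrange
    uU.appTop uW.appTop POC rR.appTop rW.appTop POD tT.appTop tW.appTop POE
    r₁'.appTop r₂'.appTop (tr2 _ _ _ _ h₁') (tr r₁' uW rW h₁'') (tr2 _ _ _ _ h₂')
    (tr r₂' uW rW h₂'') e'.appTop (tr2 _ _ _ _ he') (tr e' tW uW he'')

/-- A flat surjective map from the base changed chart coequalizing the relation induces an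
open immersion into the base changed affine quotient, if its target is quasi-affine. -/
theorem isOpenImmersion_of_quot {UW RW TW V : Scheme.{u}} [IsAffine TW] [V.IsQuasiAffine]
    (r₁' r₂' : RW ⟶ UW) (e' : UW ⟶ TW) (hinj : Function.Injective e'.appTop.hom)
    (hrange : ∀ x, r₁'.appTop.hom x = r₂'.appTop.hom x → x ∈ Set.range e'.appTop.hom)
    (q : UW ⟶ V) [Flat q] [Surjective q] (hq : r₁' ≫ q = r₂' ≫ q) (ρ : V ⟶ TW)
    (hρ : q ≫ ρ = e') : IsOpenImmersion ρ := by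
  have hqinj := appTop_injective_of_flat_of_surjective q
  have hcomp : ∀ x, q.appTop.hom (ρ.appTop.hom x) = e'.appTop.hom x := by
    intro x
    have : ρ.appTop ≫ q.appTop = e'.appTop := by rw [← Scheme.Hom.comp_appTop, hρ]
    exact congrArg (fun m => m.hom x) this
  have hbij : Function.Bijective ρ.appTop.hom := by
    refine ⟨?_, ?_⟩
    · intro x y hxy
      apply hinj
      rw [← hcomp, ← hcomp, hxy]
    · intro b
      have hb : r₁'.appTop.hom (q.appTop.hom b) = r₂'.appTop.hom (q.appTop.hom b) := by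
        have : q.appTop ≫ r₁'.appTop = q.appTop ≫ r₂'.appTop := by
          rw [← Scheme.Hom.comp_appTop, ← Scheme.Hom.comp_appTop, hq]
        exact congrArg (fun m => m.hom b) this
      obtain ⟨x, hx⟩ := hrange _ hb
      refine ⟨x, hqinj ?_⟩
      rw [hcomp, hx]
  haveI : IsIso ρ.appTop := (ConcreteCategory.isIso_iff_bijective ρ.appTop).mpr hbij
  have hfac : ρ = V.toSpecΓ ≫ Spec.map ρ.appTop ≫ TW.isoSpec.inv := by
    rw [← Category.assoc, ← Scheme.toSpecΓ_naturality, Category.assoc]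
    have : TW.toSpecΓ ≫ TW.isoSpec.inv = 𝟙 TW := TW.isoSpec.hom_inv_id
    rw [this, Category.comp_id]
  rw [hfac]
  infer_instance

end Groth.Agent.Helper2.AffQuot
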