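import Mathlib

/-!
# Specializations inside a fibre with algebraic residue field extension (helper2)
-/

set_option autoImplicit false
set_option linter.style.haveILetI false

universe u

open CategoryTheory AlgebraicGeometry Polynomial

namespace Groth.Agent.Helper2.SpecializeAlg

theorem isLocalHom_of_residue_algebraic {A B B' : Type u} [CommRing A] [CommRing B] [CommRing B']
    [IsLocalRing A] [IsLocalRing B] [IsLocalRing B']
    (ψ : A →+* B) (σ : B →+* B') [IsLocalHom ψ] (hφ : IsLocalHom (σ.comp ψ))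
    (halg : ∀ b : B, ∃ P : A[X], (∃ i, P.coeff i ∉ IsLocalRing.maximalIdeal A) ∧
      (P.eval₂ (σ.comp ψ) (σ b)) ∈ IsLocalRing.maximalIdeal B') : IsLocalHom σ := by
  have hqprime : ((IsLocalRing.maximalIdeal B').comap σ).IsPrime :=
    Ideal.comap_isPrime σ _
  have hqQ : (IsLocalRing.maximalIdeal B').comap σ ≤ IsLocalRing.maximalIdeal B :=
    IsLocalRing.le_maximalIdeal hqprime.ne_top
  have hc1 : (IsLocalRing.maximalIdeal B).comap ψ = IsLocalRing.maximalIdeal A :=
    ((IsLocalRing.local_hom_TFAE ψ).out 0 4).mp (inferInstance : IsLocalHom ψ)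
  have hc2 : ((IsLocalRing.maximalIdeal B').comap σ).comap ψ = IsLocalRing.maximalIdeal A := by
    rw [Ideal.comap_comap]
    exact ((IsLocalRing.local_hom_TFAE (σ.comp ψ)).out 0 4).mp hφ
  have heq : (IsLocalRing.maximalIdeal B').comap σ = IsLocalRing.maximalIdeal B := by
    by_contra hne
    have hlt : (IsLocalRing.maximalIdeal B').comap σ < IsLocalRing.maximalIdeal B :=
      lt_of_le_of_ne hqQ hne
    obtain ⟨r, hrQ, hrq⟩ := SetLike.exists_of_lt hlt
    obtain ⟨P, ⟨i, hi⟩, hP⟩ := halg r
    have hP0' : P.map (Ideal.Quotient.mk (((IsLocalRing.maximalIdeal B').comap σ).comap ψ)) ≠ 0 := by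
      rw [hc2]
      intro h0
      have h1 := congrArg (fun Q => Polynomial.coeff Q i) h0
      simp only [Polynomial.coeff_map, Polynomial.coeff_zero] at h1
      exact hi (Ideal.Quotient.eq_zero_iff_mem.mp h1)
    have hPq : P.eval₂ ψ r ∈ (IsLocalRing.maximalIdeal B').comap σ := by
      rw [Ideal.mem_comap, Polynomial.hom_eval₂]
      exact hP
    obtain ⟨i, hi1, hi2⟩ := Ideal.exists_coeff_mem_comap_sdiff_comap_of_root_mem_sdiff
      (f := ψ) hqQ (show r ∈ ((IsLocalRing.maximalIdeal B : Ideal B) : Set B) \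
        ((IsLocalRing.maximalIdeal B').comap σ : Ideal B) from ⟨hrQ, hrq⟩) hP0' hPq
    rw [SetLike.mem_coe, hc1] at hi1
    rw [SetLike.mem_coe, hc2] at hi2
    exact hi2 hi1
  constructor
  intro b hb
  by_contra hnb
  have h1 : b ∈ IsLocalRing.maximalIdeal B := (IsLocalRing.mem_maximalIdeal b).mpr hnb
  rw [← heq, Ideal.mem_comap] at h1
  exact (IsLocalRing.mem_maximalIdeal _).mp h1 hb

end Groth.Agent.Helper2.SpecializeAlg

namespace Groth.Agent.Helper2.SpecializeAlg

variable {X Y : Scheme.{u}} (f : X ⟶ Y)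

/-- If `ξ ⤳ z` lie over the same point and the residue field extension at `ξ` is integral, then
`z = ξ`. -/
theorem eq_of_specializes_of_isIntegral_residueFieldMap {ξ z : X} (h : ξ ⤳ z) (hfz : f z = f ξ)
    (hint : (f.residueFieldMap ξ).hom.IsIntegral) : z = ξ := by
  have key := Scheme.Hom.stalkSpecializes_stalkMap f ξ z h
  haveI hYiso : IsIso (Y.presheaf.stalkSpecializes (f.base.hom.map_specializes h)) :=
    inferInstanceAs (IsIso (Y.presheaf.stalkCongr (Inseparable.of_eq hfz)).hom)
  -- the ring maps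
  obtain ⟨ψ, hψ⟩ : ∃ ψ : Y.presheaf.stalk (f ξ) ⟶ X.presheaf.stalk z,
      ψ = inv (Y.presheaf.stalkSpecializes (f.base.hom.map_specializes h)) ≫ f.stalkMap z :=
    ⟨_, rfl⟩
  have hcomp : ψ ≫ X.presheaf.stalkSpecializes h = f.stalkMap ξ := by
    rw [hψ, Category.assoc, ← key, IsIso.inv_hom_id_assoc]
  haveI hψloc : IsLocalHom ψ.hom := by
    rw [hψ]
    haveI : IsLocalHom (inv (Y.presheaf.stalkSpecializes (f.base.hom.map_specializes h))).hom :=
      isLocalHom_of_isIso _
    exact CommRingCat.isLocalHom_comp _ _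
  have hcomp' : (X.presheaf.stalkSpecializes h).hom.comp ψ.hom = (f.stalkMap ξ).hom := by
    rw [← CommRingCat.hom_comp, hcomp]
  have hφloc : IsLocalHom ((X.presheaf.stalkSpecializes h).hom.comp ψ.hom) := by
    rw [hcomp']; infer_instance
  haveI hloc : IsLocalHom (X.presheaf.stalkSpecializes h).hom := by
    refine isLocalHom_of_residue_algebraic ψ.hom _ hφloc ?_
    intro b
    obtain ⟨Pb, hPbm, hPb⟩ := hint (X.residue ξ ((X.presheaf.stalkSpecializes h).hom b))
    obtain ⟨P, rfl⟩ := Polynomial.map_surjective (Y.residue (f ξ)).hom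
      (show Function.Surjective (Y.residue (f ξ)).hom from IsLocalRing.residue_surjective) Pb
    refine ⟨P, ⟨(P.map (Y.residue (f ξ)).hom).natDegree, ?_⟩, ?_⟩
    · intro hmem
      have h1 := hPbm.coeff_natDegree
      rw [Polynomial.coeff_map] at h1
      have h2 : (Y.residue (f ξ)).hom (P.coeff (P.map (Y.residue (f ξ)).hom).natDegree) = 0 :=
        (IsLocalRing.residue_eq_zero_iff _).mpr hmem
      rw [h2] at h1
      exact zero_ne_one h1
    · rw [hcomp']
      rw [Polynomial.eval₂_map] at hPb
      have h1 : (f.residueFieldMap ξ).hom.comp (Y.residue (f ξ)).hom =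
          (X.residue ξ).hom.comp (f.stalkMap ξ).hom := by
        have := Scheme.residue_residueFieldMap f ξ
        exact congrArg CommRingCat.Hom.hom this
      rw [h1] at hPb
      have h2 : (X.residue ξ).hom
          (P.eval₂ (f.stalkMap ξ).hom ((X.presheaf.stalkSpecializes h).hom b)) = 0 := by
        rw [Polynomial.hom_eval₂]
        exact hPb
      exact (IsLocalRing.residue_eq_zero_iff _).mp h2
  have h1 := IsLocalRing.comap_closedPoint (X.presheaf.stalkSpecializes h).hom
  have h2 := congrArg (fun g : Spec (X.presheaf.stalk ξ) ⟶ X =>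
    g (IsLocalRing.closedPoint (X.presheaf.stalk ξ)))
    (Scheme.SpecMap_stalkSpecializes_fromSpecStalk h)
  simp only [Scheme.fromSpecStalk_closedPoint] at h2
  have h3 : (Spec.map (X.presheaf.stalkSpecializes h))
      (IsLocalRing.closedPoint (X.presheaf.stalk ξ)) =
      IsLocalRing.closedPoint (X.presheaf.stalk z) := h1
  have h4 : (Spec.map (X.presheaf.stalkSpecializes h) ≫ X.fromSpecStalk z)
      (IsLocalRing.closedPoint (X.presheaf.stalk ξ)) =
      X.fromSpecStalk z ((Spec.map (X.presheaf.stalkSpecializes h))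
        (IsLocalRing.closedPoint (X.presheaf.stalk ξ))) := rfl
  exact (h2.symm.trans (h4.trans ((congrArg (X.fromSpecStalk z) h3).trans
    Scheme.fromSpecStalk_closedPoint))).symm

end Groth.Agent.Helper2.SpecializeAlg
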