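import Mathlib

/-!
# Stalk isomorphisms and base change to the local ring (helper2)

If the base change of `h : A ⟶ B` to `Spec 𝒪_{B, h p}` is an isomorphism, then `h` induces an
isomorphism on the local rings at `p`, and `p` is the only point over `h p`.  This property is
stable under base change.
-/

set_option autoImplicit false

open CategoryTheory CategoryTheory.Limits AlgebraicGeometry IsLocalRing

universe u

namespace Groth.Agent.Helper2.StalkIsoBC

variable {A B : Scheme.{u}}

/-- The section `Spec 𝒪_{B, v} ⟶ A` of `h` obtained from the hypothesis. -/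
noncomputable def sec (h : A ⟶ B) (v : ↥B) [IsIso (pullback.snd h (B.fromSpecStalk v))] :
    Spec (B.presheaf.stalk v) ⟶ A :=
  inv (pullback.snd h (B.fromSpecStalk v)) ≫ pullback.fst h (B.fromSpecStalk v)

theorem sec_comp (h : A ⟶ B) (v : ↥B) [IsIso (pullback.snd h (B.fromSpecStalk v))] :
    sec h v ≫ h = B.fromSpecStalk v := by
  unfold sec
  rw [Category.assoc, pullback.condition, IsIso.inv_hom_id_assoc]

/-- Every point over `v` is the image of the closed point under the section. -/
theorem sec_closedPoint (h : A ⟶ B) (v : ↥B) [IsIso (pullback.snd h (B.fromSpecStalk v))]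
    (p : ↥A) (hp : h p = v) : sec h v (closedPoint _) = p := by
  obtain ⟨z, hz1, hz2⟩ := Scheme.Pullback.exists_preimage_pullback p
    (closedPoint (B.presheaf.stalk v)) (f := h) (g := B.fromSpecStalk v)
    (by rw [Scheme.fromSpecStalk_closedPoint, hp])
  unfold sec
  rw [← hz2, Scheme.Hom.comp_apply, ← Scheme.Hom.comp_apply (pullback.snd h (B.fromSpecStalk v)),
    IsIso.hom_inv_id]
  simpa using hz1

/-- The point over `v` is unique. -/
theorem eq_of_map_eq (h : A ⟶ B) (v : ↥B) [IsIso (pullback.snd h (B.fromSpecStalk v))]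
    (p p' : ↥A) (hp : h p = v) (hp' : h p' = v) : p = p' := by
  rw [← sec_closedPoint h v p hp, ← sec_closedPoint h v p' hp']

theorem isIso_stalkMap (h : A ⟶ B) (p : ↥A)
    [IsIso (pullback.snd h (B.fromSpecStalk (h p)))] : IsIso (h.stalkMap p) := by
  have hcp : sec h (h p) (closedPoint _) = p := sec_closedPoint h (h p) p rfl
  obtain ⟨φ, hφ⟩ : ∃ φ : A.presheaf.stalk p ⟶ B.presheaf.stalk (h p),
      Spec.map φ ≫ A.fromSpecStalk p = sec h (h p) := by
    refine ⟨A.presheaf.stalkSpecializes (specializes_of_eq hcp) ≫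
      Scheme.stalkClosedPointTo (sec h (h p)), ?_⟩
    rw [Spec.map_comp, Category.assoc, Scheme.SpecMap_stalkSpecializes_fromSpecStalk,
      Scheme.Spec_stalkClosedPointTo_fromSpecStalk]
  have e0 : Spec.map (h.stalkMap p) ≫ B.fromSpecStalk (h p) = A.fromSpecStalk p ≫ h :=
    Scheme.SpecMap_stalkMap_fromSpecStalk h
  have h1 : Spec.map φ ≫ Spec.map (h.stalkMap p) = 𝟙 _ := by
    rw [← cancel_mono (B.fromSpecStalk (h p)), Category.assoc, e0, ← Category.assoc, hφ,
      sec_comp, Category.id_comp]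
  have h2 : Spec.map (h.stalkMap p) ≫ Spec.map φ = 𝟙 _ := by
    rw [← cancel_mono (A.fromSpecStalk p), Category.assoc, hφ, Category.id_comp]
    have ht : Spec.map (h.stalkMap p) ≫ inv (pullback.snd h (B.fromSpecStalk (h p))) =
        pullback.lift (A.fromSpecStalk p) (Spec.map (h.stalkMap p)) e0.symm := by
      rw [IsIso.comp_inv_eq, pullback.lift_snd]
    unfold sec
    rw [← Category.assoc, ht, pullback.lift_fst]
  rw [← Spec.map_comp] at h1 h2
  have h1' : h.stalkMap p ≫ φ = 𝟙 _ := Spec.map_injective (by rw [h1, Spec.map_id])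
  have h2' : φ ≫ h.stalkMap p = 𝟙 _ := Spec.map_injective (by rw [h2, Spec.map_id])
  exact ⟨φ, h1', h2'⟩

/-- Stability under base change. -/
theorem isIso_pullback_snd_of_isPullback {U Y V P : Scheme.{u}} (g : U ⟶ Y) (c : V ⟶ Y)
    (π₁ : P ⟶ U) (π₂ : P ⟶ V) (sq : IsPullback π₁ π₂ g c) (v : ↥V)
    [IsIso (pullback.snd g (Y.fromSpecStalk (c v)))] :
    IsIso (pullback.snd π₂ (V.fromSpecStalk v)) := by
  have e0 : Spec.map (c.stalkMap v) ≫ Y.fromSpecStalk (c v) = V.fromSpecStalk v ≫ c :=
    Scheme.SpecMap_stalkMap_fromSpecStalk c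
  have sq1 : IsPullback (pullback.fst π₂ (V.fromSpecStalk v)) (pullback.snd π₂ (V.fromSpecStalk v))
      π₂ (V.fromSpecStalk v) := IsPullback.of_hasPullback _ _
  -- paste: pullback of `g` along `fromSpecStalk v ≫ c`
  have sq2 : IsPullback (pullback.fst π₂ (V.fromSpecStalk v) ≫ π₁)
      (pullback.snd π₂ (V.fromSpecStalk v)) g (V.fromSpecStalk v ≫ c) :=
    (sq1.flip.paste_vert sq.flip).flip
  rw [← e0] at sq2
  have sq3 : IsPullback (pullback.fst g (Y.fromSpecStalk (c v)))
      (pullback.snd g (Y.fromSpecStalk (c v))) g (Y.fromSpecStalk (c v)) :=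
    IsPullback.of_hasPullback _ _
  obtain ⟨l, hl⟩ : ∃ l, l = sq3.lift (pullback.fst π₂ (V.fromSpecStalk v) ≫ π₁)
      (pullback.snd π₂ (V.fromSpecStalk v) ≫ Spec.map (c.stalkMap v))
      (by rw [sq2.w, Category.assoc]) := ⟨_, rfl⟩
  have hl1 : l ≫ pullback.fst g (Y.fromSpecStalk (c v)) =
      pullback.fst π₂ (V.fromSpecStalk v) ≫ π₁ := by rw [hl, sq3.lift_fst]
  have hl2 : l ≫ pullback.snd g (Y.fromSpecStalk (c v)) =
      pullback.snd π₂ (V.fromSpecStalk v) ≫ Spec.map (c.stalkMap v) := by rw [hl, sq3.lift_snd]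
  have sq4 : IsPullback l (pullback.snd π₂ (V.fromSpecStalk v))
      (pullback.snd g (Y.fromSpecStalk (c v))) (Spec.map (c.stalkMap v)) := by
    refine IsPullback.of_right ?_ hl2 sq3
    rw [hl1]
    exact sq2
  exact sq4.isIso_snd_of_isIso

end Groth.Agent.Helper2.StalkIsoBC
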