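import Mathlib
import Groth.Agent.S4808
import Groth.Agent.Lib.Helper6.LocIso.QFGeneric

/-!
# Integral birational morphisms to normal schemes (helper2)

The integral (rather than finite) version of `S4808`, and irreducible affine neighbourhoods in
schemes whose local rings are domains and which have finitely many irreducible components.
-/

set_option autoImplicit false
set_option linter.style.haveILetI false

open CategoryTheory CategoryTheory.Limits AlgebraicGeometry

universe u

namespace Groth.Agent.Helper2.IntegralBirat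

section Integral

variable {Y' Y : Scheme.{u}} [IsIntegral Y'] [IsIntegral Y]
    (hN : ∀ y : Y, IsIntegrallyClosed (Y.presheaf.stalk y)) (u : Y' ⟶ Y) [IsIntegralHom u]
    (hgen : u (genericPoint Y') = genericPoint Y)
    (hbir : IsIso (u.stalkMap (genericPoint Y')))

include hN hgen hbir in
theorem app_bijective (V : Y.Opens) (hV : IsAffineOpen V) [Nonempty V] :
    Function.Bijective (u.app V) := by
  have hηV : genericPoint Y ∈ V :=
    ((genericPoint_spec Y).mem_open_set_iff V.isOpen).mpr (by simpa using ‹Nonempty V›)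
  have hη'V : genericPoint Y' ∈ u ⁻¹ᵁ V := by
    show u (genericPoint Y') ∈ V
    rw [hgen]; exact hηV
  have : Nonempty (u ⁻¹ᵁ V : Y'.Opens) := ⟨⟨_, hη'V⟩⟩
  have hIC : IsIntegrallyClosed Γ(Y, V) := Groth.Agent.S4808.H4808.intClosed_sections hN V
  have hFR : IsFractionRing Γ(Y, V) Y.functionField :=
    functionField_isFractionRing_of_isAffineOpen Y V hV
  -- the comparison of function fields
  let e : Inseparable (u (genericPoint Y')) (genericPoint Y) := .of_eq hgen
  let ψ : Y.functionField ⟶ Y'.functionField :=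
    (Y.presheaf.stalkCongr e).inv ≫ u.stalkMap (genericPoint Y')
  have hψiso : IsIso ψ := inferInstance
  have hψbij : Function.Bijective ψ := (ConcreteCategory.isIso_iff_bijective ψ).mp hψiso
  have hcomp : Y.germToFunctionField V ≫ ψ = u.app V ≫ Y'.germToFunctionField (u ⁻¹ᵁ V) := by
    simp only [ψ, Scheme.germToFunctionField, TopCat.Presheaf.stalkCongr_inv]
    rw [← Category.assoc, TopCat.Presheaf.germ_stalkSpecializes]
    exact Scheme.Hom.germ_stalkMap u V (genericPoint Y') _
  have hcomp' : ∀ a : Γ(Y, V), ψ (Y.germToFunctionField V a) =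
      Y'.germToFunctionField (u ⁻¹ᵁ V) (u.app V a) := fun a => by
    have := congr($hcomp a)
    simpa using this
  have hinj' := Scheme.germToFunctionField_injective Y' (u ⁻¹ᵁ V)
  have hinj := Scheme.germToFunctionField_injective Y V
  constructor
  · intro a b hab
    apply hinj
    apply hψbij.1
    rw [hcomp', hcomp', hab]
  · intro b
    have hint : (u.app V).hom.IsIntegralElem b := IsIntegralHom.isIntegral_app u V hV b
    obtain ⟨p, hp, hpb⟩ := hint
    obtain ⟨κ, hκ⟩ := hψbij.2 (Y'.germToFunctionField (u ⁻¹ᵁ V) b)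
    have hκint : IsIntegral Γ(Y, V) κ := by
      refine ⟨p, hp, ?_⟩
      apply hψbij.1
      rw [map_zero]
      show ψ.hom (Polynomial.eval₂ (algebraMap Γ(Y, V) Y.functionField) κ p) = 0
      rw [Polynomial.hom_eval₂]
      have h2 : (ψ.hom.comp (algebraMap Γ(Y, V) Y.functionField)) =
          ((Y'.germToFunctionField (u ⁻¹ᵁ V)).hom.comp (u.app V).hom) := by
        ext a
        exact hcomp' a
      rw [h2]
      show Polynomial.eval₂ _ (ψ κ) p = 0
      rw [hκ, ← Polynomial.hom_eval₂, hpb, map_zero]
    obtain ⟨a, ha⟩ := (IsIntegrallyClosed.isIntegral_iff (K := Y.functionField)).mp hκint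
    refine ⟨a, ?_⟩
    apply hinj'
    rw [← hcomp', ← hκ]
    congr 1

include hN hgen hbir in
theorem isIso_of_integral_birational : IsIso u := by
  show (MorphismProperty.isomorphisms Scheme) u
  refine HasAffineProperty.of_iSup_eq_top (P := MorphismProperty.isomorphisms Scheme)
    (fun V : {V : Y.affineOpens // Nonempty V.1} => V.1) ?_ ?_
  · rw [eq_top_iff]
    intro y _
    obtain ⟨_, ⟨W, hW, rfl⟩, hy, -⟩ :=
      Y.isBasis_affineOpens.exists_subset_of_mem_open (Set.mem_univ y) isOpen_univ
    exact TopologicalSpace.Opens.mem_iSup.mpr ⟨⟨⟨W, hW⟩, ⟨⟨y, hy⟩⟩⟩, hy⟩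
  · rintro ⟨V, hne⟩
    have hV : IsAffineOpen V.1 := V.2
    refine ⟨hV.preimage u, ?_⟩
    rw [morphismRestrict_appTop]
    have key : ∀ W : Y.Opens, W = V.1 → IsIso (u.app W) := by
      rintro W rfl
      exact (ConcreteCategory.isIso_iff_bijective _).mpr (app_bijective hN u hgen hbir V.1 hV)
    have h1 := key _ (by simp : (V.1.ι ''ᵁ ⊤) = V.1)
    have h2 : IsIso (Y'.presheaf.map
        (eqToHom (image_morphismRestrict_preimage u V.1 ⊤)).op) := by
      rw [eqToHom_op, eqToHom_map]; infer_instance
    exact @IsIso.comp_isIso _ _ _ _ _ _ _ h1 h2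

end Integral

section Nhd

open Groth.Agent.Lib.Helper6.LocIso

variable {X : Scheme.{u}}

/-- Two generic points specializing to a point whose local ring is a domain coincide. -/
theorem eq_of_specializes_of_isDomain_stalk (x η₁ η₂ : ↥X) [IsDomain (X.presheaf.stalk x)]
    (h₁ : closure {η₁} ∈ irreducibleComponents ↥X) (h₂ : closure {η₂} ∈ irreducibleComponents ↥X)
    (hs₁ : η₁ ⤳ x) (hs₂ : η₂ ⤳ x) : η₁ = η₂ := by
  have key : ∀ η : ↥X, closure {η} ∈ irreducibleComponents ↥X → η ⤳ x →
      η = X.fromSpecStalk x (⊥ : PrimeSpectrum (X.presheaf.stalk x)) := by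
    intro η hη hs
    have hmem : η ∈ Set.range (X.fromSpecStalk x) := by
      rw [Scheme.range_fromSpecStalk]; exact hs
    obtain ⟨q, rfl⟩ := hmem
    have hbot : (⊥ : PrimeSpectrum (X.presheaf.stalk x)) ⤳ q :=
      (PrimeSpectrum.le_iff_specializes _ _).mp bot_le
    have := hbot.map (X.fromSpecStalk x).continuous
    exact (eq_of_specializes_of_closure_mem hη this).symm
  rw [key η₁ h₁ hs₁, key η₂ h₂ hs₂]

/-- In a scheme with finitely many irreducible components all of whose local rings are domains,
every point has an integral affine open neighbourhood. -/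
theorem exists_integral_affine_nhd (X : Scheme.{u}) (hfin : (irreducibleComponents ↥X).Finite)
    (hdom : ∀ x : ↥X, IsDomain (X.presheaf.stalk x)) (x : ↥X) :
    ∃ A : X.Opens, IsAffineOpen A ∧ x ∈ A ∧ IsIntegral A := by
  have hZ : irreducibleComponent x ∈ irreducibleComponents ↥X :=
    irreducibleComponent_mem_irreducibleComponents x
  have hother : ∀ Z' ∈ irreducibleComponents ↥X, x ∈ Z' → Z' = irreducibleComponent x := by
    intro Z' hZ' hx
    obtain ⟨η', hη'⟩ := exists_generic_of_mem_irreducibleComponents hZ'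
    obtain ⟨η, hη⟩ := exists_generic_of_mem_irreducibleComponents hZ
    haveI := hdom x
    have h1 : η' ⤳ x := specializes_iff_mem_closure.mpr (hη' ▸ hx)
    have h2 : η ⤳ x := specializes_iff_mem_closure.mpr (hη ▸ mem_irreducibleComponent)
    have : η' = η := eq_of_specializes_of_isDomain_stalk x η' η (hη' ▸ hZ') (hη ▸ hZ) h1 h2
    rw [← hη', ← hη, this]
  obtain ⟨O, hO⟩ : ∃ O : Set ↥X, O =
      (⋃ Z' ∈ irreducibleComponents ↥X \ {irreducibleComponent x}, Z')ᶜ := ⟨_, rfl⟩
  have hOopen : IsOpen O := by
    rw [hO]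
    exact ((hfin.subset Set.sdiff_subset).isClosed_biUnion (fun Z' hZ' =>
      isClosed_of_mem_irreducibleComponents Z' hZ'.1)).isOpen_compl
  have hxO : x ∈ O := by
    rw [hO]
    intro hx
    simp only [Set.mem_iUnion, exists_prop] at hx
    obtain ⟨Z', ⟨hZ', hne⟩, hx⟩ := hx
    exact hne (hother Z' hZ' hx)
  have hOZ : O ⊆ irreducibleComponent x := by
    intro y hy
    by_contra hyZ
    rw [hO] at hy
    apply hy
    simp only [Set.mem_iUnion, exists_prop]
    exact ⟨irreducibleComponent y, ⟨irreducibleComponent_mem_irreducibleComponents y,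
      fun h => hyZ (h ▸ mem_irreducibleComponent)⟩, mem_irreducibleComponent⟩
  obtain ⟨_, ⟨A, hA, rfl⟩, hxA, hAO⟩ :=
    X.isBasis_affineOpens.exists_subset_of_mem_open hxO hOopen
  refine ⟨A, hA, hxA, ?_⟩
  have hAirr : IsIrreducible (A : Set ↥X) :=
    ⟨⟨x, hxA⟩, hZ.1.isPreirreducible.open_subset A.isOpen (hAO.trans hOZ)⟩
  haveI hirr : IrreducibleSpace ↥(A : Scheme.{u}) := Subtype.irreducibleSpace hAirr
  haveI : ∀ x : ↥X, _root_.IsReduced (X.presheaf.stalk x) := fun x => by
    haveI := hdom x
    infer_instance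
  haveI : IsReduced X := isReduced_of_isReduced_stalk X
  exact isIntegral_of_irreducibleSpace_of_isReduced _

end Nhd

end Groth.Agent.Helper2.IntegralBirat
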