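import Mathlib
import Groth.Agent.Lib.Helper2.Sch.EtaleField

/-!
# Monomorphisms from field-like schemes onto closed points are closed immersions (helper2)
-/

set_option autoImplicit false

universe u

open CategoryTheory CategoryTheory.Limits AlgebraicGeometry

namespace Groth.Agent.Helper2.EtaleField

/-- A monomorphism between spectra of fields is an isomorphism. -/
theorem bijective_of_mono_SpecMap {K L : Type u} [Field K] [Field L]
    (φ : CommRingCat.of K ⟶ CommRingCat.of L)
    [Mono (Spec.map φ)] : Function.Bijective φ.hom := by
  haveI : Flat (Spec.map φ) := inferInstance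
  haveI : QuasiCompact (Spec.map φ) := inferInstance
  haveI : Surjective (Spec.map φ) := by
    refine ⟨fun y => ?_⟩
    obtain ⟨x⟩ := (inferInstance : Nonempty ↥(Spec (CommRingCat.of L)))
    exact ⟨x, Subsingleton.elim _ _⟩
  haveI : IsIso (Spec.map φ) := Flat.isIso_of_surjective_of_mono (Spec.map φ)
  haveI : IsIso φ := by
    have h1 : IsIso (Scheme.Spec.map φ.op) := ‹IsIso (Spec.map φ)›
    have h2 : IsIso φ.op := isIso_of_reflects_iso φ.op Scheme.Spec
    exact isIso_of_op φ
  exact ConcreteCategory.bijective_of_isIso φ

/-- A monomorphism of schemes induces isomorphisms of residue fields. -/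
theorem bijective_residueFieldMap_of_mono {X Y : Scheme.{u}} (f : X ⟶ Y) [Mono f] (x : X) :
    Function.Bijective (f.residueFieldMap x).hom := by
  have h1 := f.SpecMap_residueFieldMap_fromSpecResidueField x
  haveI : Mono (Spec.map (f.residueFieldMap x) ≫ Y.fromSpecResidueField (f x)) := by
    rw [h1]; infer_instance
  haveI : Mono (Spec.map (f.residueFieldMap x)) :=
    mono_of_mono _ (Y.fromSpecResidueField (f x))
  exact bijective_of_mono_SpecMap (K := Y.residueField (f x)) (L := X.residueField x)
    (f.residueFieldMap x)

/-- A quasi-compact monomorphism from a discrete scheme with field local rings all of whose image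
points are closed is a closed immersion. -/
theorem isClosedImmersion_of_mono_fieldLike {F U : Scheme.{u}} (hF : IsFieldLike F) (g : F ⟶ U)
    [Mono g] [QuasiCompact g] (hcl : ∀ w : F, IsClosed ({g w} : Set U)) :
    IsClosedImmersion g := by
  haveI := hF.discrete
  have hclosed : IsClosedMap g := by
    intro A _
    rw [TopologicalSpace.IsOpenCover.isClosed_iff_coe_preimage (iSup_affineOpens_eq_top U)]
    intro V
    have hfin : (g ⁻¹' (V.1 : Set U)).Finite := by
      have hc : IsCompact (g ⁻¹' (V.1 : Set U)) :=
        QuasiCompact.isCompact_preimage (f := g) _ V.1.isOpen V.2.isCompact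
      exact hc.finite_of_discrete
    have h2 : (g '' (A ∩ g ⁻¹' (V.1 : Set U))).Finite := (hfin.subset Set.inter_subset_right).image _
    have h3 : IsClosed (g '' (A ∩ g ⁻¹' (V.1 : Set U))) := by
      have : g '' (A ∩ g ⁻¹' (V.1 : Set U)) = ⋃ w ∈ (A ∩ g ⁻¹' (V.1 : Set U)), {g w} := by
        ext y; simp [eq_comm]
      rw [this]
      exact (hfin.subset Set.inter_subset_right).isClosed_biUnion (fun w _ => hcl w)
    have h5 := h3.preimage (continuous_subtype_val (p := fun y => y ∈ V.1))
    convert h5 using 1
    ext ⟨y, hy⟩
    simp only [Set.mem_preimage, Set.mem_image, Set.mem_inter_iff]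
    constructor
    · rintro ⟨w, hw, rfl⟩; exact ⟨w, ⟨hw, hy⟩, rfl⟩
    · rintro ⟨w, ⟨hw, -⟩, rfl⟩; exact ⟨w, hw, rfl⟩
  have hemb : Topology.IsClosedEmbedding g :=
    Topology.IsClosedEmbedding.of_continuous_injective_isClosedMap g.continuous g.injective hclosed
  have hst : ∀ w : F, Function.Surjective (g.stalkMap w) := by
    intro w
    have hres := Scheme.residue_residueFieldMap g w
    have hbij := bijective_residueFieldMap_of_mono g w
    have hFw := hF.isField w
    have hinj : Function.Injective (F.residue w).hom :=
      injective_of_isField hFw (F.residue w).hom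
    intro b
    obtain ⟨c, hc⟩ := hbij.2 ((F.residue w).hom b)
    obtain ⟨d, hd⟩ := U.residue_surjective (g w) c
    refine ⟨d, hinj ?_⟩
    have := congrArg (fun φ => φ.hom d) hres
    simp only [CommRingCat.hom_comp, RingHom.comp_apply] at this
    rw [← hc, ← hd]
    exact this.symm
  haveI : SurjectiveOnStalks g := ⟨hst⟩
  exact ⟨hemb⟩

end Groth.Agent.Helper2.EtaleField

namespace Groth.Agent.Helper2.EtaleField

/-- A monomorphism from a scheme with field local rings is surjective on stalks. -/
theorem surjectiveOnStalks_of_mono_fieldLike {F U : Scheme.{u}} (hF : IsFieldLike F) (g : F ⟶ U)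
    [Mono g] : SurjectiveOnStalks g := by
  refine ⟨fun w => ?_⟩
  have hres := Scheme.residue_residueFieldMap g w
  have hbij := bijective_residueFieldMap_of_mono g w
  have hFw := hF.isField w
  have hinj : Function.Injective (F.residue w).hom :=
    injective_of_isField hFw (F.residue w).hom
  intro b
  obtain ⟨c, hc⟩ := hbij.2 ((F.residue w).hom b)
  obtain ⟨d, hd⟩ := U.residue_surjective (g w) c
  refine ⟨d, hinj ?_⟩
  have := congrArg (fun φ => φ.hom d) hres
  simp only [CommRingCat.hom_comp, RingHom.comp_apply] at this
  rw [← hc, ← hd]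
  exact this.symm

/-- A monomorphism from a finite discrete scheme with field local rings whose image points have no
specializations among them is a preimmersion. -/
theorem isPreimmersion_of_mono_fieldLike {F U : Scheme.{u}} (hF : IsFieldLike F) [Finite ↥F]
    (g : F ⟶ U) [Mono g] (hsp : ∀ w w' : F, g w ⤳ g w' → w = w') : IsPreimmersion g := by
  haveI := hF.discrete
  haveI : SurjectiveOnStalks g := surjectiveOnStalks_of_mono_fieldLike hF g
  have hiso : ∀ w : F, ∃ O : Set U, IsOpen O ∧ g ⁻¹' O = {w} := by
    intro w
    refine ⟨⋂ w' ∈ {w' : F | w' ≠ w}, (closure {g w'})ᶜ, ?_, ?_⟩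
    · exact (Set.toFinite _).isOpen_biInter (fun w' _ => isClosed_closure.isOpen_compl)
    · ext z
      simp only [Set.mem_preimage, Set.mem_iInter, Set.mem_compl_iff, Set.mem_setOf_eq,
        Set.mem_singleton_iff]
      constructor
      · intro h
        by_contra hne
        exact h z hne (subset_closure rfl)
      · rintro rfl w' hw' hmem
        exact hw' (hsp w' z (specializes_iff_mem_closure.2 hmem))
  have hind : Topology.IsInducing g := by
    rw [Topology.isInducing_iff]
    apply le_antisymm
    · exact g.continuous.le_induced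
    · intro A _
      rw [isOpen_induced_iff]
      choose O hO1 hO2 using hiso
      refine ⟨⋃ w ∈ A, O w, isOpen_biUnion (fun w _ => hO1 w), ?_⟩
      ext z
      simp only [Set.mem_preimage, Set.mem_iUnion]
      constructor
      · rintro ⟨w, hw, hz⟩
        have : z ∈ g ⁻¹' O w := hz
        rw [hO2 w] at this
        rw [this]; exact hw
      · intro hz
        refine ⟨z, hz, ?_⟩
        have : z ∈ g ⁻¹' O z := by rw [hO2 z]; rfl
        exact this
  exact ⟨⟨hind, g.injective⟩⟩

end Groth.Agent.Helper2.EtaleField
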