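import Mathlib

/-!
# Closed points via universally closed morphisms from one-point schemes (helper2)
-/

set_option autoImplicit false

universe u

open CategoryTheory CategoryTheory.Limits AlgebraicGeometry

namespace Groth.Agent.Helper2.ClosedPointAlg

/-- If a morphism `g : T ⟶ U` has one-point image `{u}` and `g ≫ f` is universally closed for some
`f : U ⟶ S`, then `u` is a closed point of `U`. -/
theorem isClosed_singleton_of_universallyClosed_comp {T U S : Scheme.{u}} (g : T ⟶ U) (f : U ⟶ S)
    [UniversallyClosed (g ≫ f)] (u : U) (hrange : Set.range g = {u}) :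
    IsClosed ({u} : Set U) := by
  rw [← closure_eq_iff_isClosed]
  refine subset_antisymm ?_ subset_closure
  intro u' hu'
  have hs : u ⤳ u' := specializes_iff_mem_closure.2 hu'
  obtain ⟨V, hV, hu'V⟩ : ∃ V : U.Opens, IsAffineOpen V ∧ u' ∈ V := by
    obtain ⟨_, ⟨V, hV, rfl⟩, hu'V, -⟩ := U.isBasis_affineOpens.exists_subset_of_mem_open
      (Set.mem_univ u') isOpen_univ
    exact ⟨V, hV, hu'V⟩
  have huV : u ∈ V := hs.mem_open V.isOpen hu'V
  have hr : Set.range g ⊆ Set.range V.ι := by
    rw [hrange, Scheme.Opens.range_ι]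
    exact Set.singleton_subset_iff.2 huV
  let gV : T ⟶ V.toScheme := IsOpenImmersion.lift V.ι g hr
  have hgV : gV ≫ V.ι = g := IsOpenImmersion.lift_fac _ _ _
  haveI : IsAffine V.toScheme := hV
  haveI : IsSeparated (V.ι ≫ f) := inferInstance
  haveI : UniversallyClosed (gV ≫ (V.ι ≫ f)) := by
    rw [← Category.assoc, hgV]; infer_instance
  haveI : UniversallyClosed gV := UniversallyClosed.of_comp_of_isSeparated gV (V.ι ≫ f)
  have hcl : IsClosed (Set.range gV) := gV.isClosedMap.isClosed_range
  have hmem : ∀ t : T, g t = u := by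
    intro t
    have : g t ∈ Set.range g := ⟨t, rfl⟩
    rw [hrange] at this
    exact this
  have hrV : Set.range gV = {⟨u, huV⟩} := by
    ext y
    constructor
    · rintro ⟨t, rfl⟩
      have h1 : V.ι (gV t) = u := by
        rw [← Scheme.Hom.comp_apply, hgV]; exact hmem t
      exact Subtype.ext h1
    · intro hy
      obtain ⟨t, ht⟩ : u ∈ Set.range g := by rw [hrange]; rfl
      refine ⟨t, Subtype.ext ?_⟩
      have h1 : V.ι (gV t) = u := by
        rw [← Scheme.Hom.comp_apply, hgV]; exact ht
      rw [hy]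
      exact h1
  rw [hrV] at hcl
  have h2 : (⟨u, huV⟩ : V) ⤳ ⟨u', hu'V⟩ := (subtype_specializes_iff _ _).2 hs
  have h3 := h2.mem_closed hcl rfl
  exact congrArg Subtype.val h3

end Groth.Agent.Helper2.ClosedPointAlg
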