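import Mathlib

/-!
# Finite type along nilpotent thickenings of the base: the ring lemma (helper2)
-/

set_option autoImplicit false
universe u
open TensorProduct

namespace Groth.Agent.Helper2.LftThick

/-- `A ⧸ I A ≃ B` when `B` is the pushout of `A` and `S = R ⧸ I` over `R`. -/
theorem exists_quot_equiv {R S A B : Type u} [CommRing R] [CommRing S]
    [CommRing A] [CommRing B] [Algebra R S] [Algebra R A] [Algebra R B] [Algebra S B] [Algebra A B]
    [IsScalarTower R S B] [IsScalarTower R A B] [Algebra.IsPushout R S A B]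
    (hsurj : Function.Surjective (algebraMap R S)) :
    Nonempty ((A ⧸ (RingHom.ker (algebraMap R S)).map (algebraMap R A)) ≃ₐ[A] B) := by
  set I := RingHom.ker (algebraMap R S) with hI
  have : Algebra.IsPushout R A S B := Algebra.IsPushout.symm inferInstance
  let e0 : (R ⧸ I) ≃ₐ[R] S := Ideal.quotientKerAlgEquivOfSurjective (f := Algebra.ofId R S) hsurj
  let e1 : (A ⧸ I.map (algebraMap R A)) ≃ₐ[A] A ⊗[R] (R ⧸ I) :=
    Algebra.TensorProduct.quotIdealMapEquivTensorQuot A I
  let e2 : A ⊗[R] (R ⧸ I) ≃ₐ[A] A ⊗[R] S := Algebra.TensorProduct.congr AlgEquiv.refl e0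
  let e3 : A ⊗[R] S ≃ₐ[A] B := Algebra.IsPushout.equiv R A S B
  exact ⟨(e1.trans e2).trans e3⟩

theorem ker_eq_map_and_surjective {R S A B : Type u} [CommRing R] [CommRing S]
    [CommRing A] [CommRing B] [Algebra R S] [Algebra R A] [Algebra R B] [Algebra S B] [Algebra A B]
    [IsScalarTower R S B] [IsScalarTower R A B] [Algebra.IsPushout R S A B]
    (hsurj : Function.Surjective (algebraMap R S)) :
    RingHom.ker (algebraMap A B) = (RingHom.ker (algebraMap R S)).map (algebraMap R A) ∧
      Function.Surjective (algebraMap A B) := by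
  obtain ⟨e⟩ := exists_quot_equiv (R := R) (S := S) (A := A) (B := B) hsurj
  constructor
  · ext a
    rw [RingHom.mem_ker, ← e.commutes a, map_eq_zero_iff e e.injective,
      Ideal.Quotient.algebraMap_eq, Ideal.Quotient.eq_zero_iff_mem]
  · intro b
    obtain ⟨a, ha⟩ := Ideal.Quotient.mk_surjective (e.symm b)
    refine ⟨a, ?_⟩
    rw [← e.commutes a, Ideal.Quotient.algebraMap_eq, ha, AlgEquiv.apply_symm_apply]

theorem finiteType_of_pow_ker {R S A B : Type u} [CommRing R] [CommRing S]
    [CommRing A] [CommRing B] [Algebra R S] [Algebra R A] [Algebra R B] [Algebra S B] [Algebra A B]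
    [IsScalarTower R S B] [IsScalarTower R A B] [Algebra.IsPushout R S A B]
    (hsurj : Function.Surjective (algebraMap R S)) (n : ℕ)
    (hpow : RingHom.ker (algebraMap A B) ^ (n + 1) = ⊥) [Algebra.FiniteType S B] :
    Algebra.FiniteType R A := by
  obtain ⟨hK, hAB⟩ := ker_eq_map_and_surjective (R := R) (S := S) (A := A) (B := B) hsurj
  set I := RingHom.ker (algebraMap R S) with hI
  have hRS : Algebra.FiniteType R S := Algebra.FiniteType.of_surjective (Algebra.ofId R S) hsurj
  have hRB : Algebra.FiniteType R B := Algebra.FiniteType.trans hRS inferInstance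
  obtain ⟨m, φ, hφ⟩ := Algebra.FiniteType.iff_quotient_mvPolynomial''.1 hRB
  choose a ha using fun k : Fin m => hAB (φ (MvPolynomial.X k))
  let g : MvPolynomial (Fin m) R →ₐ[R] A := MvPolynomial.aeval a
  have hg : (IsScalarTower.toAlgHom R A B).comp g = φ := by
    apply MvPolynomial.algHom_ext
    intro k
    simp [g, ha]
  refine Algebra.FiniteType.of_surjective g ?_
  rw [← AlgHom.range_eq_top, eq_top_iff]
  set M : Submodule R A := Subalgebra.toSubmodule g.range with hM
  -- the base step
  have h1 : (⊤ : Submodule R A) ≤ M ⊔ I • (⊤ : Submodule R A) := by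
    intro x _
    obtain ⟨p, hp⟩ := hφ (algebraMap A B x)
    have hx : x - g p ∈ RingHom.ker (algebraMap A B) := by
      rw [RingHom.mem_ker, map_sub, ← hp, ← hg]
      simp
    rw [hK] at hx
    have hx' : x - g p ∈ I • (⊤ : Submodule R A) := by
      rw [Ideal.smul_top_eq_map]
      exact hx
    have : x = g p + (x - g p) := by ring
    rw [this]
    exact Submodule.add_mem_sup (by rw [hM]; exact ⟨p, rfl⟩) hx'
  have hk : ∀ k : ℕ, (⊤ : Submodule R A) ≤ M ⊔ (I ^ k) • (⊤ : Submodule R A) := by
    intro k
    induction k with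
    | zero =>
      rw [pow_zero, Ideal.one_eq_top, Submodule.top_smul]
      exact le_sup_right
    | succ k ih =>
      refine ih.trans (sup_le le_sup_left ?_)
      calc (I ^ k) • (⊤ : Submodule R A) ≤ (I ^ k) • (M ⊔ I • (⊤ : Submodule R A)) :=
            Submodule.smul_mono le_rfl h1
        _ = (I ^ k) • M ⊔ (I ^ k) • (I • (⊤ : Submodule R A)) := Submodule.smul_sup _ _ _
        _ ≤ M ⊔ (I ^ (k + 1)) • (⊤ : Submodule R A) := by
            refine sup_le_sup Submodule.smul_le_right ?_
            rw [pow_succ, Submodule.mul_smul]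
  have hz : (I ^ (n + 1)) • (⊤ : Submodule R A) = ⊥ := by
    rw [Ideal.smul_top_eq_map, Ideal.map_pow, ← hK, hpow]
    rfl
  have := hk (n + 1)
  rw [hz, sup_bot_eq] at this
  intro x hx
  exact this hx

end Groth.Agent.Helper2.LftThick
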