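import Mathlib
import Groth.Agent.Lib.Helper2.Sch.LftThickRing

/-!
# Base change and flat descent of "the ideal has vanishing (n+1)-st power" for closed immersions
into affine schemes (helper2)
-/

set_option autoImplicit false
set_option linter.style.haveILetI false
universe u
open CategoryTheory CategoryTheory.Limits AlgebraicGeometry

namespace Groth.Agent.Helper2.PowZeroBC

/-- A global section vanishing on a jointly surjective family of flat morphisms vanishes. -/
theorem eq_zero_of_flat_family {V : Scheme.{u}} {ι : Type*} (T : ι → Scheme.{u})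
    (t : ∀ k, T k ⟶ V) (hflat : ∀ k, Flat (t k))
    (hsurj : ∀ v : V, ∃ k, v ∈ Set.range (t k)) (a : Γ(V, ⊤))
    (h : ∀ k, (t k).appTop.hom a = 0) : a = 0 := by
  refine TopCat.Presheaf.section_ext V.sheaf ⊤ a 0 ?_
  intro y hy
  obtain ⟨k, x, rfl⟩ := hsurj y
  haveI := hflat k
  have hinj : Function.Injective ((t k).stalkMap x).hom := by
    algebraize [((t k).stalkMap x).hom]
    have : Module.FaithfullyFlat (V.presheaf.stalk ((t k) x)) ((T k).presheaf.stalk x) :=
      @Module.FaithfullyFlat.of_flat_of_isLocalHom _ _ _ _ _ _ _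
        (Flat.stalkMap (t k) x) ((t k).toLRSHom.prop x)
    exact ‹RingHom.FaithfullyFlat _›.injective
  apply hinj
  have h1 := Scheme.Hom.germ_stalkMap_apply (t k) ⊤ x hy a
  have h2 := Scheme.Hom.germ_stalkMap_apply (t k) ⊤ x hy 0
  erw [h1, h2]
  have : (t k).app ⊤ a = (t k).app ⊤ 0 := by
    rw [map_zero]; exact h k
  rw [this]

/-- For a morphism to an affine scheme, the power of the kernel ideal sheaf vanishes iff the power
of the kernel of the map on global sections does. -/
theorem ker_pow_eq_bot_iff {W V : Scheme.{u}} [IsAffine V] (j : W ⟶ V) [QuasiCompact j] (n : ℕ) :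
    j.ker ^ (n + 1) = ⊥ ↔ RingHom.ker j.appTop.hom ^ (n + 1) = ⊥ := by
  constructor
  · intro hpow
    have h1 := congrArg (fun I => I.ideal ⟨⊤, isAffineOpen_top V⟩) hpow
    simp only [Scheme.IdealSheafData.ideal_pow, Pi.pow_apply, Scheme.Hom.ker_apply,
      Scheme.IdealSheafData.ideal_bot, Pi.bot_apply] at h1
    exact h1
  · intro h
    apply Scheme.IdealSheafData.ext_of_isAffine
    simp only [Scheme.IdealSheafData.ideal_pow, Pi.pow_apply, Scheme.Hom.ker_apply,
      Scheme.IdealSheafData.ideal_bot, Pi.bot_apply]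
    exact h

/-- The kernel of the base change of a surjective ring map, for a pushout square in
`CommRingCat`. -/
theorem ker_of_isPushout {R S A B : CommRingCat.{u}} (σ : R ⟶ S) (α : R ⟶ A) (β : S ⟶ B)
    (τ : A ⟶ B) (po : IsPushout σ α β τ) (hσ : Function.Surjective σ.hom) :
    RingHom.ker τ.hom = (RingHom.ker σ.hom).map α.hom := by
  let _ : Algebra R S := σ.hom.toAlgebra
  let _ : Algebra R A := α.hom.toAlgebra
  let _ : Algebra S B := β.hom.toAlgebra
  let _ : Algebra A B := τ.hom.toAlgebra
  let _ : Algebra R B := (β.hom.comp σ.hom).toAlgebra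
  have : IsScalarTower R S B := .of_algebraMap_eq' rfl
  have : IsScalarTower R A B := .of_algebraMap_eq' (by
    have := congrArg CommRingCat.Hom.hom po.w
    exact this)
  have : Algebra.IsPushout R S A B := CommRingCat.isPushout_iff_isPushout.mp po
  exact (Groth.Agent.Helper2.LftThick.ker_eq_map_and_surjective (R := R) (S := S) (A := A)
    (B := B) hσ).1

/-- Base change of a closed immersion with nilpotent ideal along a morphism of affine schemes. -/
theorem powZero_of_isPullback_affine {W V W' V' : Scheme.{u}} [IsAffine V] [IsAffine V']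
    (j : W ⟶ V) [IsClosedImmersion j] (g : V' ⟶ V) (j' : W' ⟶ V') (g' : W' ⟶ W)
    (sq : IsPullback g' j' j g) (n : ℕ) (hj : j.ker ^ (n + 1) = ⊥) : j'.ker ^ (n + 1) = ⊥ := by
  haveI : IsAffine W := isAffine_of_isAffineHom j
  have po := isPushout_appTop_of_isPullback sq
  have hsurj : Function.Surjective j.appTop.hom :=
    (IsClosedImmersion.isAffine_surjective_of_isAffine (f := j)).2
  have hker := ker_of_isPushout _ _ _ _ po hsurj
  haveI : IsClosedImmersion j' := MorphismProperty.of_isPullback sq inferInstance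
  rw [ker_pow_eq_bot_iff] at hj ⊢
  rw [hker, ← Ideal.map_pow, hj, Ideal.map_bot]

/-- Flat descent of nilpotency of the ideal of a closed immersion into an affine scheme. -/
theorem powZero_of_flat_family {W V : Scheme.{u}} [IsAffine V] (j : W ⟶ V) [IsClosedImmersion j]
    {ι : Type*} (T : ι → Scheme.{u}) (t : ∀ k, T k ⟶ V) (hT : ∀ k, IsAffine (T k))
    (hflat : ∀ k, Flat (t k)) (hsurj : ∀ v : V, ∃ k, v ∈ Set.range (t k))
    (WT : ι → Scheme.{u}) (jT : ∀ k, WT k ⟶ T k) (tW : ∀ k, WT k ⟶ W)
    (sq : ∀ k, IsPullback (tW k) (jT k) j (t k)) (n : ℕ)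
    (h : ∀ k, (jT k).ker ^ (n + 1) = ⊥) : j.ker ^ (n + 1) = ⊥ := by
  haveI : IsAffine W := isAffine_of_isAffineHom j
  have hjs : Function.Surjective j.appTop.hom :=
    (IsClosedImmersion.isAffine_surjective_of_isAffine (f := j)).2
  rw [ker_pow_eq_bot_iff]
  rw [eq_bot_iff]
  intro a ha
  rw [Ideal.mem_bot]
  refine eq_zero_of_flat_family T t hflat hsurj a fun k => ?_
  haveI := hT k
  have po := isPushout_appTop_of_isPullback (sq k)
  have hker := ker_of_isPushout _ _ _ _ po hjs
  haveI : IsClosedImmersion (jT k) := MorphismProperty.of_isPullback (sq k) inferInstance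
  have hk := (ker_pow_eq_bot_iff (jT k) n).mp (h k)
  rw [hker, ← Ideal.map_pow] at hk
  have hmem : (t k).appTop.hom a ∈ (RingHom.ker j.appTop.hom ^ (n + 1)).map (t k).appTop.hom :=
    Ideal.mem_map_of_mem _ ha
  rw [hk] at hmem
  exact hmem

end Groth.Agent.Helper2.PowZeroBC
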