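import Mathlib
import Groth.Agent.Lib.Helper4.DomDVR3
import Groth.Agent.Lib.Helper4.FlatDesc

/-!
# Discrete valuation rings through points of the closure of the image (helper2)
-/

set_option autoImplicit false
set_option linter.style.haveILetI false

open CategoryTheory CategoryTheory.Limits AlgebraicGeometry Opposite TopologicalSpace

universe u

namespace Groth.Agent.Helper2.DvrClosure

/-- A point of the closure of the image of a finite type morphism to a locally Noetherian scheme
is the image of the closed point of a discrete valuation ring whose generic point lifts. -/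
theorem exists_dvr_of_mem_closure_range {U V : Scheme.{u}} [IsLocallyNoetherian V] (h : U ⟶ V)
    [LocallyOfFiniteType h] [QuasiCompact h] (v : V) (hv : v ∈ closure (Set.range h.base)) :
    ∃ (A : Type u) (_ : CommRing A) (_ : IsDomain A) (_ : IsDiscreteValuationRing A)
      (x : Spec (CommRingCat.of (FractionRing A)) ⟶ U) (y : Spec (CommRingCat.of A) ⟶ V),
      x ≫ h = Spec.map (CommRingCat.ofHom (algebraMap A (FractionRing A))) ≫ y ∧
        y.base (IsLocalRing.closedPoint A) = v := by
  obtain ⟨u, -, hu⟩ := Groth.Agent.Lib.Helper4.FlatDesc.exists_specializes_of_mem_closure_image h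
    Set.univ isClosed_univ v (by rwa [Set.image_univ])
  by_cases hne : v = h.base u
  · -- a power series ring over the residue field
    let κ := U.residueField u
    let A := PowerSeries κ
    let c : Spec (CommRingCat.of A) ⟶ Spec (U.residueField u) :=
      Spec.map (CommRingCat.ofHom (algebraMap κ A))
    refine ⟨A, inferInstance, inferInstance, inferInstance,
      Spec.map (CommRingCat.ofHom (algebraMap A (FractionRing A))) ≫ c ≫
        U.fromSpecResidueField u,
      c ≫ U.fromSpecResidueField u ≫ h, by simp only [Category.assoc], ?_⟩
    rw [hne]
    have h1 : (c ≫ U.fromSpecResidueField u).base (IsLocalRing.closedPoint A) = u := by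
      have : (c ≫ U.fromSpecResidueField u).base (IsLocalRing.closedPoint A) ∈
          Set.range (U.fromSpecResidueField u).base := ⟨c.base _, rfl⟩
      rw [Scheme.range_fromSpecResidueField] at this
      exact this
    rw [← Category.assoc, Scheme.Hom.comp_base, TopCat.comp_app, h1]
  · obtain ⟨A, hA, hdvr, hcl, hgen⟩ :=
      Groth.Agent.Lib.Helper4.DomDVR.S4450_main h u v hu hne
    let e : FractionRing A ≃ₐ[A] U.residueField u := FractionRing.algEquiv A (U.residueField u)
    have he : (CommRingCat.ofHom (algebraMap A (FractionRing A))) =
        CommRingCat.ofHom A.subtype ≫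
          CommRingCat.ofHom (e.symm : U.residueField u →+* FractionRing A) := by
      ext a
      change algebraMap A (FractionRing A) a = e.symm (algebraMap A (U.residueField u) a)
      rw [e.symm.commutes]
    refine ⟨A, inferInstance, inferInstance, hdvr,
      Spec.map (CommRingCat.ofHom (e.symm : U.residueField u →+* FractionRing A)) ≫
        U.fromSpecResidueField u, hA, ?_, hcl⟩
    rw [Category.assoc, ← hgen, he, Spec.map_comp, Category.assoc]

end Groth.Agent.Helper2.DvrClosure
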