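import Mathlib
import Groth.Agent.Lib.Helper2.Sch.DimFormula
import Groth.Agent.Lib.Helper2.AlgSp.ChartIndep

/-!
# Dimension and integral morphisms
-/

set_option autoImplicit false

universe u

open CategoryTheory AlgebraicGeometry TopologicalSpace Topology

namespace Groth.Agent.Helper2.DimIntegral

theorem ringKrullDim_le_of_integral_of_surjective {A B : Type*} [CommRing A] [CommRing B]
    [Algebra A B] [Algebra.IsIntegral A B]
    (hs : Function.Surjective (PrimeSpectrum.comap (algebraMap A B))) :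
    ringKrullDim A ≤ ringKrullDim B := by
  unfold ringKrullDim Order.krullDim
  refine iSup_le fun l => ?_
  obtain ⟨P, hP⟩ := hs l.head
  haveI : P.asIdeal.LiesOver l.head.asIdeal := ⟨(congrArg PrimeSpectrum.asIdeal hP).symm⟩
  obtain ⟨L, hL, -, -⟩ := Ideal.exists_ltSeries_of_hasGoingUp l P.asIdeal
  rw [← hL]
  exact le_iSup (fun p : LTSeries (PrimeSpectrum B) => (p.length : WithBot ℕ∞)) L

theorem strictMono_SpecMap {A B : CommRingCat.{u}} (φ : A ⟶ B) (hφ : φ.hom.IsIntegral) :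
    StrictMono (Spec.map φ : ↥(Spec B) → ↥(Spec A)) := by
  intro q₁ q₂ hlt
  have h1 : q₂ ⤳ q₁ := hlt.le
  have h2 : ¬ q₁ ⤳ q₂ := hlt.not_ge
  refine lt_of_le_not_ge (h1.map (Spec.map φ).continuous) ?_
  intro h3
  apply h2
  have h1' : q₂.asIdeal ≤ q₁.asIdeal := (PrimeSpectrum.le_iff_specializes q₂ q₁).mpr h1
  algebraize [φ.hom]
  haveI : Algebra.IsIntegral ↑A ↑B := ⟨hφ⟩
  by_contra hne
  have hlt' : q₂.asIdeal < q₁.asIdeal := by
    refine lt_of_le_of_ne h1' ?_
    intro heq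
    apply hne
    have : q₂ = q₁ := PrimeSpectrum.ext heq
    rw [this]
  have h4 := Ideal.IsIntegral.comap_lt_comap (R := ↑A) hlt'
  have h5 : (PrimeSpectrum.comap φ.hom q₁) ≤ (PrimeSpectrum.comap φ.hom q₂) :=
    (PrimeSpectrum.le_iff_specializes _ _).mpr h3
  exact absurd h5 (not_le_of_gt h4)

theorem ringKrullDim_stalk_le_SpecMap {A B : CommRingCat.{u}} (φ : A ⟶ B) (hφ : φ.hom.IsIntegral)
    (q : ↥(Spec B)) :
    ringKrullDim ↥((Spec B).presheaf.stalk q) ≤
      ringKrullDim ↥((Spec A).presheaf.stalk (Spec.map φ q)) := by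
  rw [DimFormula.ringKrullDim_stalk_eq_coheight, DimFormula.ringKrullDim_stalk_eq_coheight]
  exact WithBot.coe_le_coe.mpr
    (Order.coheight_le_coheight_apply_of_strictMono _ (strictMono_SpecMap φ hφ) q)

theorem ringKrullDim_stalk_le_of_integral_affine {W V : Scheme.{u}} [IsAffine W] [IsAffine V]
    (i : W ⟶ V) [IsIntegralHom i] (w : ↥W) :
    ringKrullDim ↥(W.presheaf.stalk w) ≤ ringKrullDim ↥(V.presheaf.stalk (i w)) := by
  have hint : RingHom.IsIntegral (i.app ⊤).hom :=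
    ((HasAffineProperty.iff_of_isAffine (P := @IsIntegralHom)).mp ‹IsIntegralHom i›).2
  have h1 := ChartIndep.ringKrullDim_stalk_eq_of_etale W.isoSpec.hom w
  have h2 := ChartIndep.ringKrullDim_stalk_eq_of_etale V.isoSpec.hom (i w)
  have h3 := ringKrullDim_stalk_le_SpecMap i.appTop hint (W.isoSpec.hom w)
  have e : Spec.map i.appTop (W.isoSpec.hom w) = V.isoSpec.hom (i w) := by
    have := Scheme.isoSpec_hom_naturality i
    rw [← Scheme.Hom.comp_apply, ← Scheme.Hom.comp_apply, this]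
  rw [e] at h3
  rw [h1, h2]
  exact h3

theorem topologicalKrullDim_le_of_integral_surjective_affine {W V : Scheme.{u}} [IsAffine W]
    [IsAffine V] (i : W ⟶ V) [IsIntegralHom i] [Surjective i] :
    topologicalKrullDim ↥V ≤ topologicalKrullDim ↥W := by
  have hint : RingHom.IsIntegral (i.app ⊤).hom :=
    ((HasAffineProperty.iff_of_isAffine (P := @IsIntegralHom)).mp ‹IsIntegralHom i›).2
  have hV : topologicalKrullDim ↥V = ringKrullDim ↑Γ(V, ⊤) := by
    rw [← PrimeSpectrum.topologicalKrullDim_eq_ringKrullDim]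
    exact IsHomeomorph.topologicalKrullDim_eq _ (V.isoSpec.hom.homeomorph).isHomeomorph
  have hW : topologicalKrullDim ↥W = ringKrullDim ↑Γ(W, ⊤) := by
    rw [← PrimeSpectrum.topologicalKrullDim_eq_ringKrullDim]
    exact IsHomeomorph.topologicalKrullDim_eq _ (W.isoSpec.hom.homeomorph).isHomeomorph
  rw [hV, hW]
  letI : Algebra ↑Γ(V, ⊤) ↑Γ(W, ⊤) := (i.app ⊤).hom.toAlgebra
  haveI : Algebra.IsIntegral ↑Γ(V, ⊤) ↑Γ(W, ⊤) := ⟨hint⟩
  apply ringKrullDim_le_of_integral_of_surjective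
  intro p
  let p' : ↥(Spec Γ(V, ⊤)) := p
  obtain ⟨w, hw⟩ := i.surjective (V.isoSpec.inv p')
  refine ⟨W.isoSpec.hom w, ?_⟩
  have e : Spec.map i.appTop (W.isoSpec.hom w) = V.isoSpec.hom (i w) := by
    have := Scheme.isoSpec_hom_naturality i
    rw [← Scheme.Hom.comp_apply, ← Scheme.Hom.comp_apply, this]
  have e2 : V.isoSpec.hom (V.isoSpec.inv p') = p' := by
    rw [← Scheme.Hom.comp_apply, Iso.inv_hom_id]
    rfl
  rw [hw, e2] at e
  exact e

end Groth.Agent.Helper2.DimIntegral
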