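import Mathlib
import Groth.Agent.Lib.Helper2.Sch.DvrClosure

/-!
# Discrete valuation rings through points of the closure of the image of a closed set (helper2)
-/

set_option autoImplicit false
set_option linter.style.haveILetI false

open CategoryTheory CategoryTheory.Limits AlgebraicGeometry Opposite TopologicalSpace

universe u

namespace Groth.Agent.Helper2.DvrClosure

theorem exists_dvr_of_mem_closure_image {U V : Scheme.{u}} [IsLocallyNoetherian V] (h : U ⟶ V)
    [LocallyOfFiniteType h] [QuasiCompact h] (Z : Set U) (hZ : IsClosed Z) (v : V)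
    (hv : v ∈ closure (h.base '' Z)) :
    ∃ (A : Type u) (_ : CommRing A) (_ : IsDomain A) (_ : IsDiscreteValuationRing A)
      (x : Spec (CommRingCat.of (FractionRing A)) ⟶ U) (y : Spec (CommRingCat.of A) ⟶ V),
      x ≫ h = Spec.map (CommRingCat.ofHom (algebraMap A (FractionRing A))) ≫ y ∧
        y.base (IsLocalRing.closedPoint A) = v ∧ ∀ pt, x.base pt ∈ Z := by
  obtain ⟨u, huZ, hu⟩ := Groth.Agent.Lib.Helper4.FlatDesc.exists_specializes_of_mem_closure_image h
    Z hZ v hv
  have hmem : ∀ {W : Scheme.{u}} (g : W ⟶ Spec (U.residueField u)) (pt : W),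
      (g ≫ U.fromSpecResidueField u).base pt ∈ Z := by
    intro W g pt
    have : (g ≫ U.fromSpecResidueField u).base pt ∈
        Set.range (U.fromSpecResidueField u).base := ⟨g.base pt, rfl⟩
    rw [Scheme.range_fromSpecResidueField] at this
    rw [this]
    exact huZ
  by_cases hne : v = h.base u
  · let κ := U.residueField u
    let A := PowerSeries κ
    let c : Spec (CommRingCat.of A) ⟶ Spec (U.residueField u) :=
      Spec.map (CommRingCat.ofHom (algebraMap κ A))
    refine ⟨A, inferInstance, inferInstance, inferInstance,
      Spec.map (CommRingCat.ofHom (algebraMap A (FractionRing A))) ≫ c ≫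
        U.fromSpecResidueField u,
      c ≫ U.fromSpecResidueField u ≫ h, by simp only [Category.assoc], ?_, ?_⟩
    · rw [hne]
      have h1 : (c ≫ U.fromSpecResidueField u).base (IsLocalRing.closedPoint A) = u := by
        have : (c ≫ U.fromSpecResidueField u).base (IsLocalRing.closedPoint A) ∈
            Set.range (U.fromSpecResidueField u).base := ⟨c.base _, rfl⟩
        rw [Scheme.range_fromSpecResidueField] at this
        exact this
      rw [← Category.assoc, Scheme.Hom.comp_base, TopCat.comp_app, h1]
    · intro pt
      rw [← Category.assoc]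
      exact hmem _ pt
  · obtain ⟨A, hA, hdvr, hcl, hgen⟩ :=
      Groth.Agent.Lib.Helper4.DomDVR.S4450_main h u v hu hne
    let e : FractionRing A ≃ₐ[A] U.residueField u := FractionRing.algEquiv A (U.residueField u)
    have he : (CommRingCat.ofHom (algebraMap A (FractionRing A))) =
        CommRingCat.ofHom A.subtype ≫
          CommRingCat.ofHom (e.symm : U.residueField u →+* FractionRing A) := by
      ext a
      change algebraMap A (FractionRing A) a = e.symm (algebraMap A (U.residueField u) a)
      rw [e.symm.commutes]
    refine ⟨A, inferInstance, inferInstance, hdvr,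
      Spec.map (CommRingCat.ofHom (e.symm : U.residueField u →+* FractionRing A)) ≫
        U.fromSpecResidueField u, hA, ?_, hcl, fun pt => hmem _ pt⟩
    rw [Category.assoc, ← hgen, he, Spec.map_comp, Category.assoc]

end Groth.Agent.Helper2.DvrClosure
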