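import Mathlib
import Groth.Agent.Lib.Helper2.Alg.UnrLocus
import Groth.Agent.Lib.Helper2.EtaleLocal

set_option autoImplicit false
set_option linter.style.haveILetI false
universe u
open CategoryTheory CategoryTheory.Limits AlgebraicGeometry TopologicalSpace Topology

namespace Groth.Agent.Helper2.UnrAt

/-- The unramified-at predicate of the statements. -/
abbrev UnrQ : ∀ (U V : Scheme.{u}), (U ⟶ V) → ↥U → Prop :=
  fun U _ h u => ∃ W : U.Opens, u ∈ W ∧ LocallyOfFiniteType (W.ι ≫ h) ∧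
    FormallyUnramified (W.ι ≫ h)

theorem unrQ_comp_right_iff {U V V' : Scheme.{u}} (h : U ⟶ V) (q : V ⟶ V')
    [LocallyOfFiniteType q] [FormallyUnramified q] (u : U) :
    UnrQ U V' (h ≫ q) u ↔ UnrQ U V h u := by
  constructor
  · rintro ⟨W, hu, h1, h2⟩
    rw [← Category.assoc] at h1 h2
    exact ⟨W, hu, locallyOfFiniteType_of_comp (W.ι ≫ h) q, FormallyUnramified.of_comp (W.ι ≫ h) q⟩
  · rintro ⟨W, hu, h1, h2⟩
    refine ⟨W, hu, ?_, ?_⟩
    · rw [← Category.assoc]; infer_instance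
    · rw [← Category.assoc]
      exact MorphismProperty.comp_mem @FormallyUnramified _ _ h2 inferInstance

theorem unrQ_precomp_of_etale {U' U V : Scheme.{u}} (p : U' ⟶ U) [Etale p] (h : U ⟶ V) (u' : U')
    (hq : UnrQ U V h (p u')) : UnrQ U' V (p ≫ h) u' := by
  obtain ⟨W, hu, h1, h2⟩ := hq
  refine ⟨p ⁻¹ᵁ W, hu, ?_, ?_⟩
  · have e : (p ⁻¹ᵁ W).ι ≫ p ≫ h = (p ∣_ W) ≫ W.ι ≫ h := by
      rw [← Category.assoc, ← morphismRestrict_ι, Category.assoc]
    rw [e]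
    haveI : Etale (p ∣_ W) := MorphismProperty.of_isPullback (isPullback_morphismRestrict p W).flip inferInstance
    infer_instance
  · have e : (p ⁻¹ᵁ W).ι ≫ p ≫ h = (p ∣_ W) ≫ W.ι ≫ h := by
      rw [← Category.assoc, ← morphismRestrict_ι, Category.assoc]
    rw [e]
    haveI : Etale (p ∣_ W) := MorphismProperty.of_isPullback (isPullback_morphismRestrict p W).flip inferInstance
    exact MorphismProperty.comp_mem @FormallyUnramified _ _ inferInstance h2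

theorem unrQ_of_isPullback {P X Y Z : Scheme.{u}} {fst : P ⟶ X} {snd : P ⟶ Y}
    {f : X ⟶ Z} {g : Y ⟶ Z} (sq : IsPullback fst snd f g) (p : P)
    (hq : UnrQ X Z f (fst p)) : UnrQ P Y snd p := by
  obtain ⟨W, hu, h1, h2⟩ := hq
  have sq1 : IsPullback (fst ∣_ W) (fst ⁻¹ᵁ W).ι W.ι fst := isPullback_morphismRestrict fst W
  have sq2 : IsPullback (fst ∣_ W) ((fst ⁻¹ᵁ W).ι ≫ snd) (W.ι ≫ f) g := sq1.paste_vert sq
  exact ⟨fst ⁻¹ᵁ W, hu, MorphismProperty.of_isPullback (P := @LocallyOfFiniteType) sq2 h1,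
    MorphismProperty.of_isPullback (P := @FormallyUnramified) sq2 h2⟩

/-- etale descent on the source. -/
theorem unrQ_of_etale_comp {U' U V : Scheme.{u}} (p : U' ⟶ U) [Etale p] (h : U ⟶ V) (u' : U')
    (hq : UnrQ U' V (p ≫ h) u') : UnrQ U V h (p u') := by
  obtain ⟨W', hu, h1, h2⟩ := hq
  have hopen : IsOpen (p '' (W' : Set U')) := p.isOpenMap _ W'.2
  let W : U.Opens := ⟨p '' (W' : Set U'), hopen⟩
  have hr : Set.range (W'.ι ≫ p) ⊆ Set.range W.ι := by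
    rintro _ ⟨w, rfl⟩
    rw [Scheme.Opens.range_ι]
    exact ⟨w.1, w.2, rfl⟩
  let p' : (W' : Scheme.{u}) ⟶ W := IsOpenImmersion.lift W.ι (W'.ι ≫ p) hr
  have hp' : p' ≫ W.ι = W'.ι ≫ p := IsOpenImmersion.lift_fac _ _ _
  haveI : Etale p' := by
    have : Etale (p' ≫ W.ι) := by rw [hp']; infer_instance
    exact MorphismProperty.of_postcomp (W := @Etale) (W' := @Etale) p' W.ι inferInstance this
  haveI : Surjective p' := by
    refine ⟨fun w => ?_⟩
    obtain ⟨w', hw', e⟩ := w.2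
    refine ⟨⟨w', hw'⟩, ?_⟩
    apply W.ι.isOpenEmbedding.injective
    have e2 : W.ι (p' ⟨w', hw'⟩) = (W'.ι ≫ p) ⟨w', hw'⟩ := by
      rw [← hp']; rfl
    rw [e2]
    exact e
  have e : p' ≫ W.ι ≫ h = W'.ι ≫ p ≫ h := by rw [← Category.assoc, hp', Category.assoc]
  refine ⟨W, ⟨u', hu, rfl⟩, ?_, ?_⟩
  · exact EtaleLocal.locallyOfFiniteType_of_comp_etale_surjective p' (W.ι ≫ h) (e ▸ h1)
  · exact EtaleLocal.formallyUnramified_of_comp_etale_surjective p' (W.ι ≫ h) (e ▸ h2)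

theorem unrQ_etale_comp_iff {U' U V : Scheme.{u}} (p : U' ⟶ U) [Etale p] (h : U ⟶ V) (u' : U') :
    UnrQ U' V (p ≫ h) u' ↔ UnrQ U V h (p u') :=
  ⟨unrQ_of_etale_comp p h u', unrQ_precomp_of_etale p h u'⟩

/-- etale square. -/
theorem unrQ_square_iff {U' U V' V : Scheme.{u}} (p : U' ⟶ U) [Etale p] (q : V' ⟶ V) [Etale q]
    (h' : U' ⟶ V') (h : U ⟶ V) (w : p ≫ h = h' ≫ q) (u' : U') :
    UnrQ U' V' h' u' ↔ UnrQ U V h (p u') := by
  rw [← unrQ_etale_comp_iff p h u', w, unrQ_comp_right_iff]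

end Groth.Agent.Helper2.UnrAt
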