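import Mathlib
import Groth.Agent.Lib.Helper2.Sch.UnrAt

set_option autoImplicit false
set_option linter.style.haveILetI false
universe u
open CategoryTheory CategoryTheory.Limits AlgebraicGeometry TopologicalSpace Topology

namespace Groth.Agent.Helper2.UnrAt

theorem unrQ_of_global {U V : Scheme.{u}} (h : U ⟶ V) [LocallyOfFiniteType h]
    [FormallyUnramified h] (u : U) : UnrQ U V h u :=
  ⟨⊤, trivial, inferInstance, MorphismProperty.comp_mem @FormallyUnramified _ _ inferInstance inferInstance⟩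

/-- unramified locus of a ring hom. -/
def unrLocus {A B : Type u} [CommRing A] [CommRing B] (φ : A →+* B) : Set (PrimeSpectrum B) :=
  @Algebra.unramifiedLocus A B _ _ φ.toAlgebra

theorem unrQ_Spec_iff {A B : CommRingCat.{u}} (φ : A ⟶ B) (hφ : φ.hom.FiniteType) (x : Spec B) :
    UnrQ (Spec B) (Spec A) (Spec.map φ) x ↔ x ∈ unrLocus φ.hom := by
  algebraize [φ.hom]
  have key : ∀ b : B, Spec.map (CommRingCat.ofHom (algebraMap B (Localization.Away b))) ≫ Spec.map φ =
      Spec.map (CommRingCat.ofHom (algebraMap A (Localization.Away b))) := by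
    intro b
    rw [← Spec.map_comp]
    congr 1
  have key2 : ∀ b : B, FormallyUnramified (Spec.map (CommRingCat.ofHom (algebraMap A (Localization.Away b)))) ↔
      Algebra.FormallyUnramified A (Localization.Away b) := by
    intro b
    rw [HasRingHomProperty.Spec_iff (P := @FormallyUnramified)]
    exact RingHom.formallyUnramified_algebraMap
  have hrange : ∀ b : B, Set.range (Spec.map (CommRingCat.ofHom (algebraMap B (Localization.Away b)))) =
      (PrimeSpectrum.basicOpen b : Set (PrimeSpectrum B)) := by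
    intro b
    exact PrimeSpectrum.localization_away_comap_range (Localization.Away b) b
  constructor
  · rintro ⟨W, hxW, -, h2⟩
    obtain ⟨_, ⟨_, ⟨b, rfl⟩, rfl⟩, hxb, hbW⟩ := PrimeSpectrum.isBasis_basic_opens.exists_subset_of_mem_open hxW W.2
    let j := Spec.map (CommRingCat.ofHom (algebraMap B (Localization.Away b)))
    have hr : Set.range j ⊆ Set.range W.ι := by
      rw [Scheme.Opens.range_ι, hrange b]
      exact hbW
    let l := IsOpenImmersion.lift W.ι j hr
    have hl : l ≫ W.ι = j := IsOpenImmersion.lift_fac _ _ _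
    haveI : FormallyUnramified l := by
      haveI : FormallyUnramified (l ≫ W.ι) := by rw [hl]; infer_instance
      exact FormallyUnramified.of_comp l W.ι
    have h3 : FormallyUnramified (l ≫ W.ι ≫ Spec.map φ) :=
      MorphismProperty.comp_mem @FormallyUnramified _ _ inferInstance h2
    rw [← Category.assoc, hl, key b, key2 b] at h3
    exact (Algebra.basicOpen_subset_unramifiedLocus_iff.mpr h3) hxb
  · intro hx
    haveI : Algebra.FiniteType A B := hφ
    let x' : PrimeSpectrum B := x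
    haveI : x'.asIdeal.IsPrime := x'.isPrime
    haveI : Algebra.IsUnramifiedAt A x'.asIdeal := hx
    obtain ⟨b, hb, hfu⟩ := Algebra.exists_formallyUnramified_of_isUnramifiedAt (R := A) x'.asIdeal
    let j := Spec.map (CommRingCat.ofHom (algebraMap B (Localization.Away b)))
    have hxr : x ∈ Set.range j := by
      rw [hrange b]
      exact hb
    obtain ⟨y, rfl⟩ := hxr
    apply unrQ_of_etale_comp j (Spec.map φ) y
    rw [key b]
    haveI : FormallyUnramified (Spec.map (CommRingCat.ofHom (algebraMap A (Localization.Away b)))) :=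
      (key2 b).mpr hfu
    haveI : LocallyOfFiniteType (Spec.map (CommRingCat.ofHom (algebraMap A (Localization.Away b)))) := by
      rw [HasRingHomProperty.Spec_iff (P := @LocallyOfFiniteType)]
      refine RingHom.finiteType_algebraMap.mpr ?_
      haveI : Algebra.FiniteType B (Localization.Away b) := IsLocalization.finiteType_of_monoid_fg (Submonoid.powers b) _
      exact Algebra.FiniteType.trans (R := A) (S := B) (A := Localization.Away b) inferInstance inferInstance
    exact unrQ_of_global _ y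


theorem unrLocus_of_isPushout {A A' B B' : CommRingCat.{u}} {f : A ⟶ B} {g : A ⟶ A'}
    {inl : B ⟶ B'} {inr : A' ⟶ B'} (h : IsPushout f g inl inr) (hf : f.hom.FiniteType) :
    unrLocus inr.hom = PrimeSpectrum.comap inl.hom ⁻¹' unrLocus f.hom := by
  algebraize [f.hom, g.hom, inl.hom, inr.hom, inl.hom.comp f.hom]
  have : IsScalarTower A A' B' := .of_algebraMap_eq' <| congr($(h.1.1).hom)
  have h1 : Algebra.IsPushout A B A' B' := CommRingCat.isPushout_iff_isPushout.mp h
  haveI : Algebra.IsPushout A A' B B' := h1.symm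
  haveI : Algebra.FiniteType A B := hf
  exact UnrLocus.unramifiedLocus_baseChange A A' B B'

theorem unrQ_affine_iff {X Z : Scheme.{u}} [IsAffine X] [IsAffine Z] (f : X ⟶ Z)
    [LocallyOfFiniteType f] (x : X) :
    UnrQ X Z f x ↔ X.isoSpec.hom x ∈ unrLocus f.appTop.hom := by
  have hft : f.appTop.hom.FiniteType :=
    (HasRingHomProperty.iff_of_isAffine (P := @LocallyOfFiniteType)).mp inferInstance
  rw [← unrQ_Spec_iff f.appTop hft, ← unrQ_etale_comp_iff X.isoSpec.hom,
    Scheme.isoSpec_hom_naturality, unrQ_comp_right_iff]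

theorem unrQ_of_isPullback_affine {P X Y Z : Scheme.{u}} [IsAffine X] [IsAffine Y] [IsAffine Z]
    {fst : P ⟶ X} {snd : P ⟶ Y} {f : X ⟶ Z} {g : Y ⟶ Z} (sq : IsPullback fst snd f g)
    [LocallyOfFiniteType f] (p : P) (hq : UnrQ P Y snd p) : UnrQ X Z f (fst p) := by
  haveI : IsAffine P := .of_isPullback sq
  haveI : LocallyOfFiniteType snd := MorphismProperty.of_isPullback sq inferInstance
  have hft : f.appTop.hom.FiniteType :=
    (HasRingHomProperty.iff_of_isAffine (P := @LocallyOfFiniteType)).mp inferInstance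
  have po := isPushout_appTop_of_isPullback sq
  rw [unrQ_affine_iff] at hq ⊢
  rw [unrLocus_of_isPushout po hft] at hq
  have e : X.isoSpec.hom (fst p) = Spec.map fst.appTop (P.isoSpec.hom p) := by
    rw [← Scheme.Hom.comp_apply, ← Scheme.Hom.comp_apply, Scheme.isoSpec_hom_naturality]
  rw [e]
  exact hq


theorem exists_affineOpens_mem_le {X : Scheme.{u}} (x : X) (V : X.Opens) (hx : x ∈ V) :
    ∃ O : X.affineOpens, x ∈ O.1 ∧ O.1 ≤ V := by
  obtain ⟨_, ⟨O, hO, rfl⟩, hxO, hle⟩ :=
    X.isBasis_affineOpens.exists_subset_of_mem_open hx V.isOpen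
  exact ⟨⟨O, hO⟩, hxO, hle⟩

theorem unrQ_of_isPullback' {P X Y Z : Scheme.{u}}
    {fst : P ⟶ X} {snd : P ⟶ Y} {f : X ⟶ Z} {g : Y ⟶ Z} (sq : IsPullback fst snd f g)
    [LocallyOfFiniteType f] (p : P) (hq : UnrQ P Y snd p) : UnrQ X Z f (fst p) := by
  -- affine neighbourhoods
  obtain ⟨⟨Z0, hZ0⟩, hzZ0, -⟩ := exists_affineOpens_mem_le (f (fst p)) ⊤ trivial
  obtain ⟨⟨X0, hX0⟩, hxX0, hX0le⟩ := exists_affineOpens_mem_le (fst p) (f ⁻¹ᵁ Z0) hzZ0
  have hgz : g (snd p) ∈ Z0 := by
    have : g (snd p) = f (fst p) := by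
      rw [← Scheme.Hom.comp_apply, ← Scheme.Hom.comp_apply, sq.w]
    rw [this]; exact hzZ0
  obtain ⟨⟨Y0, hY0⟩, hyY0, hY0le⟩ := exists_affineOpens_mem_le (snd p) (g ⁻¹ᵁ Z0) hgz
  haveI : IsAffine (X0 : Scheme.{u}) := hX0
  haveI : IsAffine (Y0 : Scheme.{u}) := hY0
  haveI : IsAffine (Z0 : Scheme.{u}) := hZ0
  let f0 : (X0 : Scheme.{u}) ⟶ Z0 := f.resLE Z0 X0 hX0le
  let g0 : (Y0 : Scheme.{u}) ⟶ Z0 := g.resLE Z0 Y0 hY0le
  have hf0 : f0 ≫ Z0.ι = X0.ι ≫ f := Scheme.Hom.resLE_comp_ι _ _
  have hg0 : g0 ≫ Z0.ι = Y0.ι ≫ g := Scheme.Hom.resLE_comp_ι _ _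
  haveI : LocallyOfFiniteType f0 := by
    haveI : LocallyOfFiniteType (f0 ≫ Z0.ι) := by rw [hf0]; infer_instance
    exact locallyOfFiniteType_of_comp f0 Z0.ι
  let m := pullback.map f0 g0 f g X0.ι Y0.ι Z0.ι hf0 hg0
  let j : pullback f0 g0 ⟶ P := m ≫ sq.isoPullback.inv
  have hj1 : j ≫ fst = pullback.fst f0 g0 ≫ X0.ι := by
    simp only [j, m, Category.assoc, IsPullback.isoPullback_inv_fst, pullback.lift_fst]
  have hj2 : j ≫ snd = pullback.snd f0 g0 ≫ Y0.ι := by
    simp only [j, m, Category.assoc, IsPullback.isoPullback_inv_snd, pullback.lift_snd]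
  have hpr : sq.isoPullback.hom p ∈ Set.range m := by
    rw [Scheme.Pullback.range_map]
    constructor
    · show pullback.fst f g (sq.isoPullback.hom p) ∈ Set.range X0.ι
      rw [← Scheme.Hom.comp_apply, IsPullback.isoPullback_hom_fst, Scheme.Opens.range_ι]
      exact hxX0
    · show pullback.snd f g (sq.isoPullback.hom p) ∈ Set.range Y0.ι
      rw [← Scheme.Hom.comp_apply, IsPullback.isoPullback_hom_snd, Scheme.Opens.range_ι]
      exact hyY0
  obtain ⟨p0, hp0⟩ := hpr
  have hjp : j p0 = p := by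
    show (m ≫ sq.isoPullback.inv) p0 = p
    rw [Scheme.Hom.comp_apply, hp0, ← Scheme.Hom.comp_apply, Iso.hom_inv_id]
    rfl
  subst hjp
  -- transfer
  have h1 : UnrQ _ _ (j ≫ snd) p0 := unrQ_precomp_of_etale j snd p0 hq
  rw [hj2, unrQ_comp_right_iff] at h1
  have h2 : UnrQ _ _ f0 (pullback.fst f0 g0 p0) :=
    unrQ_of_isPullback_affine (IsPullback.of_hasPullback f0 g0) p0 h1
  rw [← unrQ_comp_right_iff f0 Z0.ι, hf0, unrQ_etale_comp_iff] at h2
  have e : fst (j p0) = X0.ι (pullback.fst f0 g0 p0) := by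
    rw [← Scheme.Hom.comp_apply, ← Scheme.Hom.comp_apply, hj1]
  rw [e]
  exact h2

theorem unrQ_isPullback_iff {P X Y Z : Scheme.{u}}
    {fst : P ⟶ X} {snd : P ⟶ Y} {f : X ⟶ Z} {g : Y ⟶ Z} (sq : IsPullback fst snd f g)
    [LocallyOfFiniteType f] (p : P) : UnrQ P Y snd p ↔ UnrQ X Z f (fst p) :=
  ⟨unrQ_of_isPullback' sq p, unrQ_of_isPullback sq p⟩

end Groth.Agent.Helper2.UnrAt
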