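import Mathlib
import Groth.Prelude.Def_CInt
import Groth.Agent.Lib.Helper1.SchImgRed

/-!
# Density of an immersion in its scheme theoretic image (helper2)
-/

set_option autoImplicit false
set_option backward.isDefEq.respectTransparency false
set_option linter.style.haveILetI false
universe u
open CategoryTheory CategoryTheory.Limits AlgebraicGeometry Opposite TopologicalSpace

namespace Groth.Agent.Helper2.ToImageDense

theorem toImage_app_injective_of_isReduced {A B : Scheme.{u}} (s : A ⟶ B) [IsReduced A]
    (U : B.affineOpens) : Function.Injective (s.toImage.app (s.imageι ⁻¹ᵁ U.1)) := by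
  simp only [s.toImage_app U, CommRingCat.hom_comp, CommRingCat.hom_ofHom, RingHom.coe_comp]
  exact (RingHom.lift_injective_of_ker_le_ideal _ _ (by
    rw [Groth.Agent.Helper1.SchImgRed.ker_apply_of_isReduced])).comp
    (s.ker.subschemeObjIso U).commRingCatIsoToRingEquiv.injective

/-- If pulling functions back along `t` is injective on a basis of opens, then every open containing
the range of `t` is scheme theoretically dense. -/
theorem isSchematicallyDense_of_app_injective {A B : Scheme.{u}} (t : A ⟶ B) (R : B.Opens)
    (hR : Set.range t ⊆ (R : Set B)) (𝓑 : Set B.Opens) (hB : Opens.IsBasis 𝓑)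
    (hinj : ∀ N ∈ 𝓑, Function.Injective (t.app N)) : CInt.IsSchematicallyDense R := by
  intro V
  rw [injective_iff_map_eq_zero]
  intro s hs
  have hloc : ∀ x : ↥V, ∃ (N : B.Opens) (hN : N ≤ V), x.1 ∈ N ∧
      B.presheaf.map (homOfLE hN).op s = 0 := by
    intro x
    obtain ⟨N, hNB, hxN, hNV⟩ := (Opens.isBasis_iff_nbhd.mp hB) x.2
    refine ⟨N, hNV, hxN, ?_⟩
    apply hinj N hNB
    rw [map_zero]
    have heq : t ⁻¹ᵁ N ≤ t ⁻¹ᵁ (N ⊓ R) := by
      intro a ha
      exact ⟨ha, hR ⟨a, rfl⟩⟩
    have hnat := t.naturality (homOfLE (inf_le_left : N ⊓ R ≤ N)).op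
    have h1 : (B.presheaf.map (homOfLE (inf_le_left : N ⊓ R ≤ N)).op ≫ t.app (N ⊓ R))
        (B.presheaf.map (homOfLE hNV).op s) = 0 := by
      have h2 : B.presheaf.map (homOfLE (inf_le_left : N ⊓ R ≤ N)).op
          (B.presheaf.map (homOfLE hNV).op s) =
          B.presheaf.map (homOfLE (inf_le_inf_right R hNV)).op
            (B.presheaf.map (homOfLE (inf_le_left : V ⊓ R ≤ V)).op s) := by
        show (B.presheaf.map _ ≫ B.presheaf.map _) s = (B.presheaf.map _ ≫ B.presheaf.map _) s
        rw [← B.presheaf.map_comp, ← B.presheaf.map_comp]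
        rfl
      rw [CommRingCat.comp_apply, h2, hs, map_zero, map_zero]
    rw [hnat, CommRingCat.comp_apply] at h1
    have h3 := congrArg (A.presheaf.map (homOfLE heq).op) h1
    rw [map_zero] at h3
    rw [← h3]
    show _ = (A.presheaf.map _ ≫ A.presheaf.map _) _
    rw [← A.presheaf.map_comp]
    have : ((Opens.map t.base).map (homOfLE (inf_le_left : N ⊓ R ≤ N)).op.unop).op ≫
        (homOfLE heq).op = 𝟙 _ := rfl
    rw [this, A.presheaf.map_id]
    rfl
  choose N hN hxN h0 using hloc
  apply B.sheaf.eq_of_locally_eq' N V (fun x => homOfLE (hN x)) (fun x hx => by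
    rw [Opens.mem_iSup]
    exact ⟨⟨x, hx⟩, hxN ⟨x, hx⟩⟩)
  intro x
  exact (h0 x).trans (map_zero (B.presheaf.map (homOfLE (hN x)).op).hom).symm

/-- An immersion which is quasi-compact or has reduced source is an open immersion into its scheme
theoretic image, and every open of the image containing its range is scheme theoretically dense. -/
theorem toImage_props {A B : Scheme.{u}} (s : A ⟶ B) [IsImmersion s]
    (h : QuasiCompact s ∨ IsReduced A) :
    IsOpenImmersion s.toImage ∧
      ∀ R : s.image.Opens, Set.range s.toImage ⊆ (R : Set s.image) →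
        CInt.IsSchematicallyDense R := by
  have hB := (B.isBasis_affineOpens.of_isInducing s.imageι.isEmbedding.isInducing)
  rcases h with h | h
  · haveI := h
    refine ⟨inferInstance, fun R hR => ?_⟩
    refine isSchematicallyDense_of_app_injective s.toImage R hR _ hB ?_
    rintro _ ⟨U, hU, rfl⟩
    exact s.toImage_app_injective ⟨U, hU⟩
  · haveI := h
    refine ⟨Groth.Agent.Helper1.SchImgRed.isOpenImmersion_toImage_of_isReduced s,
      fun R hR => ?_⟩
    refine isSchematicallyDense_of_app_injective s.toImage R hR _ hB ?_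
    rintro _ ⟨U, hU, rfl⟩
    exact toImage_app_injective_of_isReduced s ⟨U, hU⟩

end Groth.Agent.Helper2.ToImageDense
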