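import Mathlib
import Groth.Prelude.Def_CInt
import Groth.Agent.Lib.Helper2.Sch.KerFlat

set_option autoImplicit false
set_option backward.isDefEq.respectTransparency false
set_option linter.style.haveILetI false
universe u
open CategoryTheory CategoryTheory.Limits AlgebraicGeometry TopologicalSpace

namespace Groth.Agent.Helper2.SchDenseFlat
open Groth.Agent.Helper2.KerFlat

theorem exists_affineOpens_mem_le' {X : Scheme.{u}} (x : X) (V : X.Opens) (hx : x ∈ V) :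
    ∃ O : X.affineOpens, x ∈ O.1 ∧ O.1 ≤ V := by
  obtain ⟨_, ⟨O, hO, rfl⟩, hxO, hle⟩ :=
    X.isBasis_affineOpens.exists_subset_of_mem_open hx V.isOpen
  exact ⟨⟨O, hO⟩, hxO, hle⟩

theorem id_appLE_eq {X : Scheme.{u}} (O O' : X.Opens) (e : O' ≤ (𝟙 X) ⁻¹ᵁ O) :
    (𝟙 X : X ⟶ X).appLE O O' e = X.presheaf.map (homOfLE (show O' ≤ O from e)).op := by
  simp [Scheme.Hom.appLE]

/-- Flat local statement: restriction to the preimage of a quasi-compact schematically dense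
open is injective on small affine opens. -/
theorem injective_res_of_flat {X' X : Scheme.{u}} (p : X' ⟶ X) [Flat p] (U : X.Opens)
    (hU : CInt.IsSchematicallyDense U) (O : X.affineOpens) (O' : X'.affineOpens)
    (hOO' : O'.1 ≤ p ⁻¹ᵁ O.1) (hc : IsCompact ((O.1 ⊓ U : X.Opens) : Set X))
    (N : X'.Opens) (hN : N = p ⁻¹ᵁ (O.1 ⊓ U) ⊓ O'.1) (hNO' : N ≤ O'.1) :
    Function.Injective (X'.presheaf.map (homOfLE hNO').op) := by
  have H : IsPullback p (𝟙 X') (𝟙 X) p := IsPullback.id_vert p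
  have hUST : O'.1 ≤ p ⁻¹ᵁ O.1 := hOO'
  have hUSX : O.1 ⊓ U ≤ (𝟙 X) ⁻¹ᵁ O.1 := inf_le_left
  have hUY : N = p ⁻¹ᵁ (O.1 ⊓ U) ⊓ (𝟙 X') ⁻¹ᵁ O'.1 := hN
  have hmono := mono_pushoutSection_of_isCompact_of_flat_right H hUST hUSX hUY O.2 O'.2 hc
  have hinj : Function.Injective (pushoutSection H hUST hUSX hUY).hom :=
    (ConcreteCategory.mono_iff_injective_of_preservesPullback _).mp hmono
  have hpo := IsPushout.of_hasPushout ((𝟙 X : X ⟶ X).appLE O.1 (O.1 ⊓ U) hUSX)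
    (p.appLE O.1 O'.1 hUST)
  have hk := ker_of_isPushout_cat _ _ _ _ hpo (p.flat_appLE O.2 O'.2 hUST)
  have h0 : RingHom.ker ((𝟙 X : X ⟶ X).appLE O.1 (O.1 ⊓ U) hUSX).hom = ⊥ := by
    rw [← RingHom.injective_iff_ker_eq_bot, id_appLE_eq]
    exact hU O.1
  rw [h0, Ideal.map_bot, ← RingHom.injective_iff_ker_eq_bot] at hk
  have h1 : pushout.inr ((𝟙 X : X ⟶ X).appLE O.1 (O.1 ⊓ U) hUSX) (p.appLE O.1 O'.1 hUST) ≫
      pushoutSection H hUST hUSX hUY = (𝟙 X' : X' ⟶ X').appLE O'.1 N (by simp [hUY]) :=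
    pushout.inr_desc _ _ _
  replace h1 := h1.trans (id_appLE_eq O'.1 N _)
  have h2 : (X'.presheaf.map (homOfLE hNO').op).hom =
      (pushoutSection H hUST hUSX hUY).hom.comp
        (pushout.inr ((𝟙 X : X ⟶ X).appLE O.1 (O.1 ⊓ U) hUSX) (p.appLE O.1 O'.1 hUST)).hom := by
    rw [← CommRingCat.hom_comp, h1]
  show Function.Injective (X'.presheaf.map (homOfLE hNO').op).hom
  rw [h2]
  exact hinj.comp hk


/-- The preimage of a quasi-compact schematically dense open under a flat morphism is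
schematically dense. -/
theorem isSchematicallyDense_preimage_of_flat {X' X : Scheme.{u}} (p : X' ⟶ X) [Flat p]
    (U : X.Opens) (hUc : ∀ O : X.affineOpens, IsCompact ((O.1 ⊓ U : X.Opens) : Set X))
    (hU : CInt.IsSchematicallyDense U) : CInt.IsSchematicallyDense (p ⁻¹ᵁ U) := by
  intro V'
  rw [injective_iff_map_eq_zero]
  intro s hs
  have hloc : ∀ x : ↥V', ∃ (N : X'.Opens) (hN : N ≤ V'), x.1 ∈ N ∧
      X'.presheaf.map (homOfLE hN).op s = 0 := by
    intro x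
    obtain ⟨O, hxO, -⟩ := exists_affineOpens_mem_le' (p x.1) ⊤ trivial
    have hx' : x.1 ∈ V' ⊓ p ⁻¹ᵁ O.1 := ⟨x.2, hxO⟩
    obtain ⟨O', hxO', hO'le⟩ := exists_affineOpens_mem_le' x.1 (V' ⊓ p ⁻¹ᵁ O.1) hx'
    have hO'V' : O'.1 ≤ V' := hO'le.trans inf_le_left
    have hOO' : O'.1 ≤ p ⁻¹ᵁ O.1 := hO'le.trans inf_le_right
    refine ⟨O'.1, hO'V', hxO', ?_⟩
    have hNO' : p ⁻¹ᵁ (O.1 ⊓ U) ⊓ O'.1 ≤ O'.1 := inf_le_right
    apply injective_res_of_flat p U hU O O' hOO' (hUc O) _ rfl hNO'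
    rw [map_zero]
    have hle : p ⁻¹ᵁ (O.1 ⊓ U) ⊓ O'.1 ≤ V' ⊓ p ⁻¹ᵁ U :=
      le_inf (inf_le_right.trans hO'V') (inf_le_left.trans (fun y hy => hy.2))
    have h1 : X'.presheaf.map (homOfLE hNO').op (X'.presheaf.map (homOfLE hO'V').op s) =
        X'.presheaf.map (homOfLE hle).op
          (X'.presheaf.map (homOfLE (inf_le_left : V' ⊓ p ⁻¹ᵁ U ≤ V')).op s) := by
      show (X'.presheaf.map _ ≫ X'.presheaf.map _) s = (X'.presheaf.map _ ≫ X'.presheaf.map _) s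
      rw [← X'.presheaf.map_comp, ← X'.presheaf.map_comp]
      rfl
    rw [h1, hs, map_zero]
  choose N hN hxN h0 using hloc
  apply X'.sheaf.eq_of_locally_eq' N V' (fun x => homOfLE (hN x)) (fun x hx => by
    rw [Opens.mem_iSup]
    exact ⟨⟨x, hx⟩, hxN ⟨x, hx⟩⟩)
  intro x
  exact (h0 x).trans (map_zero (X'.presheaf.map (homOfLE (hN x)).op).hom).symm

end Groth.Agent.Helper2.SchDenseFlat
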