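import Mathlib
import Groth.Prelude.Def_Hensel
import Groth.Agent.Lib.Helper2.Ring.HensLocalEtale

/-!
# Henselization of the local ring of a scheme is insensitive to etale maps with trivial
residue field extension (helper2)
-/

set_option autoImplicit false

open CategoryTheory AlgebraicGeometry

namespace Groth.Agent.Helper2.HensEtaleStalk

universe u

/-- The stalk map of an etale morphism sends the maximal ideal to a generating set of the maximal
ideal. -/
theorem map_maximalIdeal_stalkMap {U' U : Scheme.{u}} (f : U' ⟶ U) [Etale f] (u' : ↥U') :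
    (IsLocalRing.maximalIdeal ↥(U.presheaf.stalk (f u'))).map (f.stalkMap u').hom =
      IsLocalRing.maximalIdeal ↥(U'.presheaf.stalk u') := by
  have h1 : (f.stalkMap u').hom.FormallyUnramified := FormallyUnramified.stalkMap f u'
  have h2 : (f.stalkMap u').hom.EssFiniteType := LocallyOfFiniteType.stalkMap f u'
  algebraize [(f.stalkMap u').hom]
  haveI : IsLocalHom (algebraMap ↥(U.presheaf.stalk (f u')) ↥(U'.presheaf.stalk u')) :=
    inferInstanceAs (IsLocalHom (f.stalkMap u').hom)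
  exact Algebra.FormallyUnramified.map_maximalIdeal

theorem isHenselization_stalk_of_etale {U' U : Scheme.{u}} (f : U' ⟶ U) [Etale f] (u' : ↥U')
    (hres : Function.Surjective (IsLocalRing.ResidueField.map (f.stalkMap u').hom))
    (R : Type u) [CommRing R] [IsLocalRing R] [Algebra ↥(U'.presheaf.stalk u') R]
    [IsLocalHom (algebraMap ↥(U'.presheaf.stalk u') R)]
    [Hensel.IsHenselization ↥(U'.presheaf.stalk u') R] :
    letI : Algebra ↥(U.presheaf.stalk (f u')) R :=
      ((algebraMap ↥(U'.presheaf.stalk u') R).comp (f.stalkMap u').hom).toAlgebra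
    ∃ (_ : IsLocalHom (algebraMap ↥(U.presheaf.stalk (f u')) R)),
      Hensel.IsHenselization ↥(U.presheaf.stalk (f u')) R := by
  obtain ⟨V, hV, hfV⟩ : ∃ V : U.Opens, IsAffineOpen V ∧ f u' ∈ V := by
    obtain ⟨V, hV, h1, -⟩ := (TopologicalSpace.Opens.isBasis_iff_nbhd.1 U.isBasis_affineOpens)
      (show f u' ∈ (⊤ : U.Opens) from trivial)
    exact ⟨V, hV, h1⟩
  obtain ⟨W, hW, hu'W, hWV⟩ : ∃ W : U'.Opens, IsAffineOpen W ∧ u' ∈ W ∧ W ≤ f ⁻¹ᵁ V := by
    obtain ⟨W, hW, h1, h2⟩ := (TopologicalSpace.Opens.isBasis_iff_nbhd.1 U'.isBasis_affineOpens)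
      (show u' ∈ (f ⁻¹ᵁ V : U'.Opens) from hfV)
    exact ⟨W, hW, h1, h2⟩
  letI algAE : Algebra Γ(U, V) Γ(U', W) := (f.appLE V W hWV).hom.toAlgebra
  haveI : Algebra.Etale Γ(U, V) Γ(U', W) :=
    HasRingHomProperty.appLE (P := @Etale) f inferInstance ⟨V, hV⟩ ⟨W, hW⟩ hWV
  letI algA : Algebra Γ(U, V) ↥(U.presheaf.stalk (f u')) :=
    TopCat.Presheaf.algebra_section_stalk U.presheaf ⟨f u', hfV⟩
  letI algB : Algebra Γ(U', W) ↥(U'.presheaf.stalk u') :=
    TopCat.Presheaf.algebra_section_stalk U'.presheaf ⟨u', hu'W⟩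
  haveI hlocA : IsLocalization.AtPrime ↥(U.presheaf.stalk (f u'))
      (hV.primeIdealOf ⟨f u', hfV⟩).asIdeal := hV.isLocalization_stalk ⟨f u', hfV⟩
  haveI hlocB : IsLocalization.AtPrime ↥(U'.presheaf.stalk u')
      (hW.primeIdealOf ⟨u', hu'W⟩).asIdeal := hW.isLocalization_stalk ⟨u', hu'W⟩
  have hφ : (f.stalkMap u').hom.comp (algebraMap Γ(U, V) ↥(U.presheaf.stalk (f u'))) =
      (algebraMap Γ(U', W) ↥(U'.presheaf.stalk u')).comp (algebraMap Γ(U, V) Γ(U', W)) := by
    ext s
    show (f.stalkMap u').hom ((U.presheaf.germ V (f u') hfV).hom s) =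
      (U'.presheaf.germ W u' hu'W).hom ((f.appLE V W hWV).hom s)
    have := Scheme.Hom.germ_stalkMap_apply f V u' hfV s
    rw [this]
    rw [Scheme.Hom.appLE]
    simp only [CommRingCat.hom_comp, RingHom.comp_apply]
    exact (TopCat.Presheaf.germ_res_apply U'.presheaf (homOfLE hWV) u' hu'W _).symm
  exact HensLocalEtale.isHenselization_comp (hW.primeIdealOf ⟨u', hu'W⟩).asIdeal
    (hV.primeIdealOf ⟨f u', hfV⟩).asIdeal (f.stalkMap u').hom hφ hres
    (map_maximalIdeal_stalkMap f u') R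

end Groth.Agent.Helper2.HensEtaleStalk
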