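import Mathlib
import Groth.Prelude.Def_QuotSh
import Groth.Prelude.Def_AlgSp
import Groth.Agent.Lib.Helper2.Grpd.QuotFppf

/-!
# Epimorphisms of representable fppf sheaves (helper2)

If `h_G ⟶ h_H` is an epimorphism of fppf sheaves then `H` has an fppf covering family whose members
lift to `G`; flatness and surjectivity of `f : G ⟶ H` then follow from flatness of
`G ×_H G ⟶ G`.
-/

set_option backward.isDefEq.respectTransparency.types false
set_option synthInstance.maxHeartbeats 400000
set_option autoImplicit false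
set_option linter.unusedSectionVars false
set_option linter.style.haveILetI false
universe u
open CategoryTheory CategoryTheory.Limits AlgebraicGeometry Opposite AlgSp
open Groth.Agent.Helper2.AlgSpBasic Groth.Agent.Helper2.QuotEff

namespace Groth.Agent.Helper2.EpiFppf

variable {S : Scheme.{u}}

/-- An epimorphism of representable fppf sheaves admits local lifts on an fppf covering family. -/
theorem exists_cover_of_epi {G H : Over S} (f : G ⟶ H)
    (hf : Epi (QuotSh.repMap Scheme.fppfPrecoverage f)) :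
    ∃ R : Presieve H.left, R ∈ Scheme.fppfPrecoverage H.left ∧
      ∀ ⦃T : Scheme.{u}⦄ (t : T ⟶ H.left), R t → ∃ g : T ⟶ G.left, g ≫ f.left = t := by
  have h1 : (yon S).map f = (QuotSh.repIsoUliftYoneda Scheme.fppfPrecoverage G).inv ≫
      QuotSh.repMap Scheme.fppfPrecoverage f ≫
        (QuotSh.repIsoUliftYoneda Scheme.fppfPrecoverage H).hom := by
    rw [repMap_repIso, Iso.inv_hom_id_assoc]
  haveI : Epi ((yon S).map f) := by
    rw [h1]; infer_instance
  haveI : Sheaf.IsLocallySurjective ((yon S).map f) :=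
    (Sheaf.isLocallySurjective_iff_epi ((yon S).map f)).mpr inferInstance
  have h2 := (inferInstance : Presheaf.IsLocallySurjective (J S)
    ((yon S).map f).hom).imageSieve_mem (U := H) (ULift.up (𝟙 H))
  obtain ⟨Sv, hSv⟩ : ∃ Sv, Sv = Presheaf.imageSieve ((yon S).map f).hom
    (ULift.up (𝟙 H) : ((yon S).obj H).obj.obj (op H)) := ⟨_, rfl⟩
  have h2' : Sv ∈ (Scheme.fppfTopology.over S) H := by rw [hSv]; exact h2
  haveI : Scheme.fppfPrecoverage.{u}.HasIsos := by
    unfold Scheme.fppfPrecoverage; infer_instance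
  rw [GrothendieckTopology.mem_over_iff,
    Precoverage.mem_toGrothendieck_iff_of_isStableUnderComposition] at h2'
  obtain ⟨R, hR, hle⟩ := h2'
  refine ⟨R, hR, ?_⟩
  intro T t ht
  have h3 := hle _ _ ht
  rw [Sieve.overEquiv_iff, hSv] at h3
  obtain ⟨y, hy⟩ := h3
  refine ⟨y.down.left, ?_⟩
  have h4 : y.down ≫ f = Over.homMk t ≫ 𝟙 H := congrArg ULift.down hy
  have h5 := congrArg CommaMorphism.left h4
  simpa using h5

/-- Flatness of `f ≫ g` and of `f` at a point gives flatness of `g` at its image. -/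
theorem flat_stalkMap_of_flat_comp {U X Y : Scheme.{u}} (a : U ⟶ X) (f : X ⟶ Y) [Flat a]
    [Flat (a ≫ f)] (u : U) : (f.stalkMap (a u)).hom.Flat := by
  have h1 : ((a ≫ f).stalkMap u).hom.Flat := Flat.stalkMap _ u
  have h2 : (a.stalkMap u).hom.Flat := Flat.stalkMap _ u
  rw [Scheme.Hom.stalkMap_comp] at h1
  let φ : Y.presheaf.stalk (f (a u)) →+* X.presheaf.stalk (a u) := (f.stalkMap (a u)).hom
  let ψ : X.presheaf.stalk (a u) →+* U.presheaf.stalk u := (a.stalkMap u).hom
  letI := φ.toAlgebra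
  letI := ψ.toAlgebra
  letI := (ψ.comp φ).toAlgebra
  haveI : IsScalarTower (Y.presheaf.stalk (f (a u))) (X.presheaf.stalk (a u))
      (U.presheaf.stalk u) := IsScalarTower.of_algebraMap_eq' rfl
  haveI : Module.Flat (Y.presheaf.stalk (f (a u))) (U.presheaf.stalk u) := h1
  haveI : Module.Flat (X.presheaf.stalk (a u)) (U.presheaf.stalk u) := h2
  haveI : IsLocalHom (algebraMap (X.presheaf.stalk (a u)) (U.presheaf.stalk u)) :=
    inferInstanceAs (IsLocalHom (a.stalkMap u).hom)
  haveI : Module.FaithfullyFlat (X.presheaf.stalk (a u)) (U.presheaf.stalk u) :=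
    Module.FaithfullyFlat.of_flat_of_isLocalHom
  exact Module.Flat.of_flat_comp_faithfullyFlat (Y.presheaf.stalk (f (a u)))
    (X.presheaf.stalk (a u)) (U.presheaf.stalk u)

/-- If `f : G ⟶ H` has local lifts on an fppf covering family of `H`, then `f` is surjective. -/
theorem surjective_of_local_lifts {G H : Scheme.{u}} (f : G ⟶ H) (R : Presieve H)
    (hR : R ∈ Scheme.fppfPrecoverage H)
    (hlift : ∀ ⦃T : Scheme.{u}⦄ (t : T ⟶ H), R t → ∃ g : T ⟶ G, g ≫ f = t) : Surjective f := by
  obtain ⟨I, X, t, rfl⟩ := R.exists_eq_ofArrows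
  unfold Scheme.fppfPrecoverage at hR
  rw [Scheme.ofArrows_mem_precoverage_iff] at hR
  constructor
  intro h
  obtain ⟨j, z, hz⟩ := hR.1 h
  obtain ⟨g, hg⟩ := hlift (t j) ⟨j⟩
  refine ⟨g z, ?_⟩
  rw [← Scheme.Hom.comp_apply, hg]
  exact hz

/-- If `f : G ⟶ H` has local lifts on an fppf covering family of `H` and `G ×_H G ⟶ G` is flat,
then `f` is flat. -/
theorem flat_of_local_lifts {G H : Scheme.{u}} (f : G ⟶ H) (R : Presieve H)
    (hR : R ∈ Scheme.fppfPrecoverage H)
    (hlift : ∀ ⦃T : Scheme.{u}⦄ (t : T ⟶ H), R t → ∃ g : T ⟶ G, g ≫ f = t)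
    (hpb : Flat (pullback.fst f f)) : Flat f := by
  obtain ⟨I, X, t', rfl⟩ := R.exists_eq_ofArrows
  unfold Scheme.fppfPrecoverage at hR
  rw [Scheme.ofArrows_mem_precoverage_iff] at hR
  rw [Flat.iff_flat_stalkMap]
  intro x
  obtain ⟨j, z, hz⟩ := hR.1 (f x)
  obtain ⟨g, hg⟩ := hlift (t' j) ⟨j⟩
  haveI : Flat (t' j) := (hR.2 j).1
  obtain ⟨t, ht⟩ : ∃ t, t = t' j := ⟨_, rfl⟩
  rw [← ht] at hg hz
  haveI : Flat t := by rw [ht]; infer_instance
  obtain ⟨w, hw1, hw2⟩ := Scheme.Pullback.exists_preimage_pullback (f := t) (g := f) z x hz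
  -- `b : T ×_H G ⟶ T` is a base change of `G ×_H G ⟶ G`
  have hκ : (pullback.fst t f ≫ g) ≫ f = pullback.snd t f ≫ f := by
    rw [Category.assoc, hg, pullback.condition]
  have sqBig : IsPullback (pullback.lift (pullback.fst t f ≫ g) (pullback.snd t f) hκ ≫
      pullback.snd f f) (pullback.fst t f) f (g ≫ f) := by
    rw [pullback.lift_snd, hg]
    exact (IsPullback.of_hasPullback t f).flip
  have sqL := IsPullback.of_right sqBig (pullback.lift_fst _ _ hκ)
    (IsPullback.of_hasPullback f f).flip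
  haveI : Flat (pullback.fst t f) := MorphismProperty.of_isPullback (P := @Flat) sqL hpb
  haveI : Flat (pullback.snd t f ≫ f) := by
    rw [← pullback.condition]; infer_instance
  have := flat_stalkMap_of_flat_comp (pullback.snd t f) f w
  rwa [hw2] at this

end Groth.Agent.Helper2.EpiFppf
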