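import Mathlib
import Groth.Agent.Lib.Helper2.Sch.EpiFppf

/-!
# Descent of properties along an fppf covering family with local lifts (helper2)

If `f : G ⟶ H` has local lifts on an fppf covering family of `H` and `G ×_H G ⟶ G` has a property
`P` which is stable under base change, Zariski-local on the target and descends along fppf
coverings, then `f` has `P`.
-/

set_option backward.isDefEq.respectTransparency.types false
set_option synthInstance.maxHeartbeats 400000
set_option autoImplicit false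
set_option linter.unusedSectionVars false
set_option linter.style.haveILetI false
universe u
open CategoryTheory CategoryTheory.Limits AlgebraicGeometry Opposite

namespace Groth.Agent.Helper2.EpiFppf

/-- If `τ = γ ≫ f` then `W ×_H G ⟶ W` is a base change of `G ×_H G ⟶ G`. -/
theorem prop_fst_of_lift (P : MorphismProperty Scheme.{u}) [P.IsStableUnderBaseChange]
    {W G H : Scheme.{u}} (τ : W ⟶ H) (γ : W ⟶ G) (f : G ⟶ H) (hγ : γ ≫ f = τ)
    (hpb : P (pullback.fst f f)) : P (pullback.fst τ f) := by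
  have hκ : (pullback.fst τ f ≫ γ) ≫ f = pullback.snd τ f ≫ f := by
    rw [Category.assoc, hγ, pullback.condition]
  have sqBig : IsPullback (pullback.lift (pullback.fst τ f ≫ γ) (pullback.snd τ f) hκ ≫
      pullback.snd f f) (pullback.fst τ f) f (γ ≫ f) := by
    rw [pullback.lift_snd, hγ]
    exact (IsPullback.of_hasPullback τ f).flip
  have sqL := IsPullback.of_right sqBig (pullback.lift_fst _ _ hκ)
    (IsPullback.of_hasPullback f f).flip
  exact MorphismProperty.of_isPullback (P := P) sqL hpb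

theorem prop_of_local_lifts (P : MorphismProperty Scheme.{u}) [P.IsStableUnderBaseChange]
    [IsZariskiLocalAtTarget P]
    [P.DescendsAlong (@Surjective ⊓ @Flat ⊓ @LocallyOfFinitePresentation)]
    {G H : Scheme.{u}} (f : G ⟶ H) (R : Presieve H)
    (hR : R ∈ Scheme.fppfPrecoverage H)
    (hlift : ∀ ⦃T : Scheme.{u}⦄ (t : T ⟶ H), R t → ∃ g : T ⟶ G, g ≫ f = t)
    (hpb : P (pullback.fst f f)) : P f := by
  obtain ⟨I, X, t, rfl⟩ := R.exists_eq_ofArrows
  unfold Scheme.fppfPrecoverage at hR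
  rw [Scheme.ofArrows_mem_precoverage_iff] at hR
  have hopen : ∀ j, IsOpen (Set.range (t j)) := fun j => by
    haveI : Flat (t j) := (hR.2 j).1
    haveI : LocallyOfFinitePresentation (t j) := (hR.2 j).2
    exact (t j).isOpenMap.isOpen_range
  let V : I → H.Opens := fun j => ⟨Set.range (t j), hopen j⟩
  apply IsZariskiLocalAtTarget.of_iSup_eq_top (P := P) V
  · refine eq_top_iff.2 (fun x _ => ?_)
    obtain ⟨j, hj⟩ := hR.1 x
    exact TopologicalSpace.Opens.mem_iSup.2 ⟨j, hj⟩
  · intro j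
    haveI : Flat (t j) := (hR.2 j).1
    haveI : LocallyOfFinitePresentation (t j) := (hR.2 j).2
    obtain ⟨g, hg⟩ := hlift (t j) ⟨j⟩
    -- the covering `c : t⁻¹ V ⟶ V`
    have hc1 : Flat (t j ∣_ V j) := IsZariskiLocalAtTarget.restrict (P := @Flat) inferInstance _
    have hc2 : LocallyOfFinitePresentation (t j ∣_ V j) :=
      IsZariskiLocalAtTarget.restrict (P := @LocallyOfFinitePresentation) inferInstance _
    have hc3 : Surjective (t j ∣_ V j) := by
      constructor
      rintro ⟨y, x, rfl⟩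
      have hx : x ∈ (t j ⁻¹ᵁ V j) := ⟨x, rfl⟩
      refine ⟨⟨x, hx⟩, ?_⟩
      apply Subtype.ext
      simp
    have hτ : ((t j ⁻¹ᵁ V j).ι ≫ g) ≫ f = (t j ∣_ V j) ≫ (V j).ι := by
      rw [Category.assoc, hg, morphismRestrict_ι]
    have h1 : P (pullback.fst ((t j ∣_ V j) ≫ (V j).ι) f) :=
      prop_fst_of_lift P _ ((t j ⁻¹ᵁ V j).ι ≫ g) f hτ hpb
    have sqR := isPullback_morphismRestrict f (V j)
    -- factor the base change of `f` through `f ∣_ V`
    have hw : pullback.fst ((t j ∣_ V j) ≫ (V j).ι) f ≫ (t j ∣_ V j) ≫ (V j).ι =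
        pullback.snd ((t j ∣_ V j) ≫ (V j).ι) f ≫ f := pullback.condition
    obtain ⟨B', hB', hB''⟩ : ∃ B' : pullback ((t j ∣_ V j) ≫ (V j).ι) f ⟶ ↑(f ⁻¹ᵁ V j),
        B' ≫ (f ⁻¹ᵁ V j).ι = pullback.snd ((t j ∣_ V j) ≫ (V j).ι) f ∧
        B' ≫ (f ∣_ V j) = pullback.fst ((t j ∣_ V j) ≫ (V j).ι) f ≫ (t j ∣_ V j) :=
      ⟨sqR.lift (pullback.fst _ f ≫ (t j ∣_ V j)) (pullback.snd _ f)
        (by rw [Category.assoc]; exact hw), sqR.lift_snd _ _ _, sqR.lift_fst _ _ _⟩
    have big : IsPullback (pullback.fst ((t j ∣_ V j) ≫ (V j).ι) f) (B' ≫ (f ⁻¹ᵁ V j).ι)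
        ((t j ∣_ V j) ≫ (V j).ι) f := by
      rw [hB']; exact IsPullback.of_hasPullback _ _
    have sq' := IsPullback.of_bot big hB''.symm sqR
    exact MorphismProperty.of_isPullback_of_descendsAlong (P := P)
      (Q := @Surjective ⊓ @Flat ⊓ @LocallyOfFinitePresentation) sq' ⟨⟨hc3, hc1⟩, hc2⟩ h1

end Groth.Agent.Helper2.EpiFppf
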