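import Mathlib
import Groth.Prelude.Def_QuotSh
import Groth.Prelude.Def_AlgSp
import Groth.Agent.Lib.Helper2.AlgSp.QuotEff
import Groth.Agent.Lib.Helper4.GrpKer2

/-!
# Effectivity of equivalence relations in the quotient sheaf, for a subcanonical topology (helper2)

A `K`-generic version of `Groth.Agent.Helper2.QuotEff` (which is written for the fppf topology).
-/

set_option backward.isDefEq.respectTransparency.types false
set_option synthInstance.maxHeartbeats 400000
set_option autoImplicit false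
set_option linter.unusedSectionVars false
set_option linter.style.haveILetI false
universe u
open CategoryTheory CategoryTheory.Limits AlgebraicGeometry Opposite AlgSp
open Groth.Agent.Helper2.QuotEff

namespace Groth.Agent.Helper2.QuotEffK

variable (K : Precoverage Scheme.{u}) {S : Scheme.{u}} [(QuotSh.J K S).Subcanonical]

/-- `U ↦ h_U` for the topology `K`. -/
abbrev yonK : Over S ⥤ QuotSh.Sh K S := (QuotSh.J K S).uliftYoneda.{u + 1}

theorem repMap_repIso {V W : Over S} (g : V ⟶ W) :
    QuotSh.repMap K g ≫ (QuotSh.repIsoUliftYoneda K W).hom =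
      (QuotSh.repIsoUliftYoneda K V).hom ≫ (yonK K).map g := by
  have := (sheafificationNatIso (QuotSh.J K S) (Type (u+1))).inv.naturality ((yonK K).map g)
  exact this

theorem repIso_inv_repMap {V W : Over S} (g : V ⟶ W) :
    (QuotSh.repIsoUliftYoneda K V).inv ≫ QuotSh.repMap K g =
      (yonK K).map g ≫ (QuotSh.repIsoUliftYoneda K W).inv := by
  rw [Iso.inv_comp_eq, ← Category.assoc, Iso.eq_comp_inv, repMap_repIso]

variable {R U : Over S} (s t : R ⟶ U)

/-- The quotient map from `h_U`. -/
noncomputable abbrev qπ : (yonK K).obj U ⟶ QuotSh.quot K s t :=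
  (QuotSh.repIsoUliftYoneda K U).inv ≫ QuotSh.quotπ K s t

theorem exists_glue_sieve {T V : Over S} (Sv : Sieve T) (hSv : Sv ∈ QuotSh.J K S T)
    (r : ∀ ⦃T' : Over S⦄ (f : T' ⟶ T), Sv f → (T' ⟶ V))
    (hr : ∀ ⦃T' T'' : Over S⦄ (f : T' ⟶ T) (g : T'' ⟶ T') (hf : Sv f),
      g ≫ r f hf = r (g ≫ f) (Sv.downward_closed hf g)) :
    ∃ r0 : T ⟶ V, ∀ ⦃T' : Over S⦄ (f : T' ⟶ T) (hf : Sv f), f ≫ r0 = r f hf := by
  have hsh : Presieve.IsSheaf (QuotSh.J K S) (yoneda.obj V) :=
    GrothendieckTopology.Subcanonical.isSheaf_of_isRepresentable _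
  let fam : Presieve.FamilyOfElements (yoneda.obj V) Sv.arrows := fun T' f hf => r f hf
  have hcompat : fam.Compatible := by
    rw [Presieve.compatible_iff_sieveCompatible]
    intro T' T'' f g hf
    exact (hr f g hf).symm
  refine ⟨(hsh Sv hSv).amalgamate fam hcompat, fun T' f hf => ?_⟩
  exact (hsh Sv hSv).valid_glue hcompat f hf

theorem hom_ext_sieve {T V : Over S} (Sv : Sieve T) (hSv : Sv ∈ QuotSh.J K S T) (a b : T ⟶ V)
    (hab : ∀ ⦃T' : Over S⦄ (f : T' ⟶ T), Sv f → f ≫ a = f ≫ b) : a = b := by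
  have hsh : Presieve.IsSheaf (QuotSh.J K S) (yoneda.obj V) :=
    GrothendieckTopology.Subcanonical.isSheaf_of_isRepresentable _
  exact (hsh Sv hSv).isSeparatedFor.ext (fun T' f hf => hab f hf)

/-- The presentation of `qπ` through the presheaf coequalizer. -/
theorem exists_iso_sheafify :
    ∃ e : (presheafToSheaf (QuotSh.J K S) (Type (u+1))).obj (coequalizer (pshMap s) (pshMap t)) ≅
        QuotSh.quot K s t,
      ∀ (T : Over S) (x : (psh U).obj (op T)),
        (qπ K s t).hom.app (op T) x = e.hom.hom.app (op T)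
          ((toSheafify (QuotSh.J K S) (coequalizer (pshMap s) (pshMap t))).app (op T)
            ((coequalizer.π (pshMap s) (pshMap t)).app (op T) x)) := by
  let A := presheafToSheaf (QuotSh.J K S) (Type (u+1))
  have hcolA := isColimitCoforkMapOfIsColimit A (coequalizer.condition (pshMap s) (pshMap t))
    (coequalizerIsCoequalizer (pshMap s) (pshMap t))
  have hcolQ := coequalizerIsCoequalizer (A.map (pshMap s)) (A.map (pshMap t))
  let e0 := hcolA.coconePointUniqueUpToIso hcolQ
  have he0 : A.map (coequalizer.π (pshMap s) (pshMap t)) ≫ e0.hom =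
      coequalizer.π (A.map (pshMap s)) (A.map (pshMap t)) :=
    hcolA.comp_coconePointUniqueUpToIso_hom hcolQ WalkingParallelPair.one
  refine ⟨e0, fun T x => ?_⟩
  have h1 : (qπ K s t) = (QuotSh.repIsoUliftYoneda K U).inv ≫
      A.map (coequalizer.π (pshMap s) (pshMap t)) ≫ e0.hom := by
    rw [he0]
    rfl
  have h2 : coequalizer.π (pshMap s) (pshMap t) ≫
      toSheafify (QuotSh.J K S) (coequalizer (pshMap s) (pshMap t)) =
      toSheafify (QuotSh.J K S) (psh U) ≫ (A.map (coequalizer.π (pshMap s) (pshMap t))).hom :=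
    toSheafify_naturality (QuotSh.J K S) (coequalizer.π (pshMap s) (pshMap t))
  have h3 := congrArg (fun m => m.app (op T) x) h2
  rw [h1]
  show e0.hom.hom.app (op T) ((A.map (coequalizer.π (pshMap s) (pshMap t))).hom.app (op T)
    ((toSheafify (QuotSh.J K S) (psh U)).app (op T) x)) = _
  congr 1
  exact h3.symm

/-- Effectivity of the equivalence relation, on sections. -/
theorem rel_of_qπ_app_eq (h : IsEqvRel s t) {T : Over S} (a b : T ⟶ U)
    (hab : (qπ K s t).hom.app (op T) (ULift.up a) = (qπ K s t).hom.app (op T) (ULift.up b)) :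
    ∃ r : T ⟶ R, r ≫ t = a ∧ r ≫ s = b := by
  classical
  obtain ⟨e, he⟩ := exists_iso_sheafify K s t
  let P := coequalizer (pshMap s) (pshMap t)
  let π := coequalizer.π (pshMap s) (pshMap t)
  have h1 := he T (ULift.up a)
  have h2 := he T (ULift.up b)
  rw [h1, h2] at hab
  have hinj : Function.Injective (e.hom.hom.app (op T)) :=
    (((sheafToPresheaf (QuotSh.J K S) (Type (u+1))).mapIso e).app (op T)).toEquiv.injective
  have hab' := hinj hab
  have hmem := Presheaf.equalizerSieve_mem (QuotSh.J K S) (toSheafify (QuotSh.J K S) P) _ _ hab'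
  have hloc : ∀ ⦃T' : Over S⦄ (f : T' ⟶ T),
      Presheaf.equalizerSieve (F := P) (X := op T) (π.app (op T) (ULift.up a))
        (π.app (op T) (ULift.up b)) f →
      ∃ r : T' ⟶ R, r ≫ t = f ≫ a ∧ r ≫ s = f ≫ b := by
    intro T' f hf
    have hf' : P.map f.op (π.app (op T) (ULift.up a)) = P.map f.op (π.app (op T) (ULift.up b)) := hf
    have na : π.app (op T') ((psh U).map f.op (ULift.up a)) =
        P.map f.op (π.app (op T) (ULift.up a)) := NatTrans.naturality_apply π f.op _
    have nb : π.app (op T') ((psh U).map f.op (ULift.up b)) =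
        P.map f.op (π.app (op T) (ULift.up b)) := NatTrans.naturality_apply π f.op _
    have hf'' : π.app (op T') ((psh U).map f.op (ULift.up a)) =
        π.app (op T') ((psh U).map f.op (ULift.up b)) := na.trans (hf'.trans nb.symm)
    exact rel_of_π_eq s t h T' _ _ hf''
  choose r hr1 hr2 using hloc
  obtain ⟨r0, hr0⟩ := exists_glue_sieve K _ hmem r (by
    intro T' T'' f g hf
    apply h.injective
    · rw [Category.assoc, hr1, hr1, Category.assoc]
    · rw [Category.assoc, hr2, hr2, Category.assoc])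
  refine ⟨r0, ?_, ?_⟩
  · apply hom_ext_sieve K _ hmem
    intro T' f hf
    rw [← Category.assoc, hr0 f hf, hr1]
  · apply hom_ext_sieve K _ hmem
    intro T' f hf
    rw [← Category.assoc, hr0 f hf, hr2]

theorem rel_of_qπ_eq (h : IsEqvRel s t) {T : Over S} (a b : T ⟶ U)
    (hab : (yonK K).map a ≫ qπ K s t = (yonK K).map b ≫ qπ K s t) :
    ∃ r : T ⟶ R, r ≫ t = a ∧ r ≫ s = b := by
  apply rel_of_qπ_app_eq K s t h
  have h1 := congrArg (fun m => m.hom.app (op T) (ULift.up (𝟙 T))) hab
  have ha : ((yonK K).map a).hom.app (op T) (ULift.up (𝟙 T)) = ULift.up a := by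
    show ULift.up (𝟙 T ≫ a) = _
    rw [Category.id_comp]
  have hb : ((yonK K).map b).hom.app (op T) (ULift.up (𝟙 T)) = ULift.up b := by
    show ULift.up (𝟙 T ≫ b) = _
    rw [Category.id_comp]
  rw [← ha, ← hb]
  exact h1

variable {s t} {Y : Over S} (q : U ⟶ Y)

theorem quotπ_quotDesc (w : s ≫ q = t ≫ q) :
    QuotSh.quotπ K s t ≫ QuotSh.quotDesc K q w = QuotSh.repMap K q := by
  unfold QuotSh.quotπ QuotSh.quotDesc
  exact coequalizer.π_desc _ _

theorem epi_repMap_of_isQuotient (hq : QuotSh.IsQuotient K s t q) :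
    Epi (QuotSh.repMap K q) := by
  obtain ⟨w, hiso⟩ := hq
  rw [← quotπ_quotDesc K q w]
  haveI : Epi (QuotSh.quotπ K s t) := by
    unfold QuotSh.quotπ; exact coequalizer.π_epi
  infer_instance

/-- If `Y` represents the quotient sheaf `U/R` of an equivalence relation, then `R` is the kernel
pair of `U ⟶ Y`. -/
theorem isPullback_of_isQuotient (h : AlgSp.IsEqvRel s t)
    (hq : QuotSh.IsQuotient K s t q) : IsPullback s t q q := by
  obtain ⟨w, hiso⟩ := hq
  have key : qπ K s t ≫ QuotSh.quotDesc K q w =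
      (yonK K).map q ≫ (QuotSh.repIsoUliftYoneda K Y).inv := by
    unfold qπ
    rw [Category.assoc, quotπ_quotDesc, repIso_inv_repMap]
  refine Groth.Agent.Lib.Helper4.GrpKer2.isPullback_of_points _ _ _ _ w ?_ ?_
  · intro T a b hab
    have h1 : (yonK K).map b ≫ qπ K s t = (yonK K).map a ≫ qπ K s t := by
      apply (cancel_mono (QuotSh.quotDesc K q w)).1
      calc ((yonK K).map b ≫ qπ K s t) ≫ QuotSh.quotDesc K q w
          = (yonK K).map b ≫ (qπ K s t ≫ QuotSh.quotDesc K q w) :=
            Category.assoc _ _ _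
        _ = (yonK K).map b ≫ (yonK K).map q ≫
              (QuotSh.repIsoUliftYoneda K Y).inv := by rw [key]
        _ = (yonK K).map a ≫ (yonK K).map q ≫
              (QuotSh.repIsoUliftYoneda K Y).inv := by
            rw [← Category.assoc, ← Functor.map_comp, ← hab, Functor.map_comp, Category.assoc]
        _ = (yonK K).map a ≫ (qπ K s t ≫ QuotSh.quotDesc K q w) := by rw [key]
        _ = ((yonK K).map a ≫ qπ K s t) ≫ QuotSh.quotDesc K q w :=
            (Category.assoc _ _ _).symm
    obtain ⟨r, hr1, hr2⟩ := rel_of_qπ_eq K s t h b a h1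
    exact ⟨r, hr2, hr1⟩
  · intro T r r' h1 h2
    exact h.injective T r r' h2 h1

/-- An epimorphism of representable sheaves has local lifts on a covering sieve. -/
theorem exists_sieve_of_epi {G H : Over S} (f : G ⟶ H) (hf : Epi (QuotSh.repMap K f)) :
    ∃ Sv : Sieve H, Sv ∈ QuotSh.J K S H ∧
      ∀ ⦃T : Over S⦄ (t : T ⟶ H), Sv t → ∃ g : T ⟶ G, g ≫ f = t := by
  have h1 : (yonK K).map f = (QuotSh.repIsoUliftYoneda K G).inv ≫
      QuotSh.repMap K f ≫ (QuotSh.repIsoUliftYoneda K H).hom := by
    rw [repMap_repIso, Iso.inv_hom_id_assoc]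
  haveI : Epi ((yonK K).map f) := by
    rw [h1]; infer_instance
  haveI : Sheaf.IsLocallySurjective ((yonK K).map f) :=
    (Sheaf.isLocallySurjective_iff_epi ((yonK K).map f)).mpr inferInstance
  have h2 := (inferInstance : Presheaf.IsLocallySurjective (QuotSh.J K S)
    ((yonK K).map f).hom).imageSieve_mem (U := H) (ULift.up (𝟙 H))
  refine ⟨_, h2, ?_⟩
  rintro T t ⟨y, hy⟩
  refine ⟨y.down, ?_⟩
  have h4 : y.down ≫ f = t ≫ 𝟙 H := congrArg ULift.down hy
  rw [h4, Category.comp_id]

end Groth.Agent.Helper2.QuotEffK
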