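import Mathlib
import Groth.Prelude.Def_FDesc
import Groth.Agent.Lib.Helper2.Sch.Reduced

/-!
# Geometric reducedness at a point is etale local
-/

universe u

open CategoryTheory CategoryTheory.Limits AlgebraicGeometry

namespace Groth.Agent.Helper2.GeomReducedEtale

open Groth.Agent.Helper2.SchLib

/-- The canonical morphism from the spectrum of a local ring of a scheme is flat. -/
instance flat_fromSpecStalk (X : Scheme.{u}) (x : X) : Flat (X.fromSpecStalk x) := by
  obtain ⟨U, hU, hxU, -⟩ := exists_isAffineOpen_mem_and_subset (show x ∈ (⊤ : X.Opens) from trivial)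
  rw [← hU.fromSpecStalk_eq_fromSpecStalk hxU, IsAffineOpen.fromSpecStalk]
  have h1 : Flat (Spec.map (X.presheaf.germ U x hxU)) := by
    rw [HasRingHomProperty.Spec_iff (P := @Flat)]
    let := X.presheaf.algebra_section_stalk ⟨x, hxU⟩
    have := hU.isLocalization_stalk ⟨x, hxU⟩
    have hfl : Module.Flat Γ(X, U) ↥(X.presheaf.stalk x) :=
      IsLocalization.flat _ (hU.primeIdealOf ⟨x, hxU⟩).asIdeal.primeCompl
    exact (RingHom.flat_algebraMap_iff.mpr hfl)
  infer_instance

/-- Etale morphisms: reducedness of the local ring at the image gives reducedness of the local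
ring at the point. -/
theorem isReduced_stalk_of_etale {W U : Scheme.{u}} (h : W ⟶ U) [Etale h] (w : W)
    (hred : _root_.IsReduced ↥(U.presheaf.stalk (h w))) :
    _root_.IsReduced ↥(W.presheaf.stalk w) := by
  let ι := U.fromSpecStalk (h w)
  have hsm : Smooth (pullback.snd h ι) := inferInstance
  haveI : IsReduced (Spec (U.presheaf.stalk (h w))) := inferInstance
  haveI : IsReduced (pullback h ι) := isReduced_of_smooth (pullback.snd h ι)
  obtain ⟨t, ht1, -⟩ := Scheme.Pullback.exists_preimage_pullback (f := h) (g := ι) w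
    (IsLocalRing.closedPoint _) (Scheme.fromSpecStalk_closedPoint).symm
  have hinj := stalkMap_injective_of_flat (pullback.fst h ι) t
  have : _root_.IsReduced ↥(W.presheaf.stalk (pullback.fst h ι t)) :=
    isReduced_of_injective ((pullback.fst h ι).stalkMap t).hom hinj
  exact ht1 ▸ this

/-- Flat morphisms: reducedness of the local ring at a point gives reducedness of the local
ring at the image. -/
theorem isReduced_stalk_of_flat {W U : Scheme.{u}} (h : W ⟶ U) [Flat h] (w : W)
    (hred : _root_.IsReduced ↥(W.presheaf.stalk w)) :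
    _root_.IsReduced ↥(U.presheaf.stalk (h w)) :=
  isReduced_of_injective (h.stalkMap w).hom (stalkMap_injective_of_flat h w)


section bc

variable {k : Type u} [Field k] {W U : Scheme.{u}} (fU : U ⟶ Spec (CommRingCat.of k)) (g : W ⟶ U)
  (K : Type u) [Field K] [Algebra k K]

/-- The morphism between the base changes to `K` induced by a morphism of `k`-schemes. -/
noncomputable def bcMap : FBase.bc (g ≫ fU) K ⟶ FBase.bc fU K :=
  pullback.lift (pullback.fst _ _ ≫ g) (pullback.snd _ _)
    ((Category.assoc _ _ _).trans pullback.condition)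

theorem bcMap_fst : bcMap fU g K ≫ FBase.bcπ fU K = FBase.bcπ (g ≫ fU) K ≫ g :=
  pullback.lift_fst _ _ _

theorem isPullback_bcMap :
    IsPullback (bcMap fU g K) (FBase.bcπ (g ≫ fU) K) (FBase.bcπ fU K) g := by
  refine IsPullback.of_right ?_ (bcMap_fst fU g K)
    (IsPullback.of_hasPullback fU (Spec.map (CommRingCat.ofHom (algebraMap k K)))).flip
  have h : bcMap fU g K ≫ pullback.snd fU (Spec.map (CommRingCat.ofHom (algebraMap k K))) =
      pullback.snd (g ≫ fU) (Spec.map (CommRingCat.ofHom (algebraMap k K))) :=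
    pullback.lift_snd _ _ _
  rw [h]
  exact (IsPullback.of_hasPullback (g ≫ fU) (Spec.map (CommRingCat.ofHom (algebraMap k K)))).flip

theorem etale_bcMap [Etale g] : Etale (bcMap fU g K) :=
  MorphismProperty.of_isPullback (P := @Etale) (isPullback_bcMap fU g K).flip inferInstance

theorem exists_point_bcMap (w : W) (u' : ↥(FBase.bc fU K)) (h : (FBase.bcπ fU K) u' = g w) :
    ∃ w' : ↥(FBase.bc (g ≫ fU) K), (FBase.bcπ (g ≫ fU) K) w' = w ∧ (bcMap fU g K) w' = u' := by
  have sq := isPullback_bcMap fU g K
  obtain ⟨t, ht1, ht2⟩ := Scheme.Pullback.exists_preimage_pullback (f := FBase.bcπ fU K) (g := g)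
    u' w h
  refine ⟨sq.isoPullback.inv t, ?_, ?_⟩
  · rw [← Scheme.Hom.comp_apply, sq.isoPullback_inv_snd]
    exact ht2
  · rw [← Scheme.Hom.comp_apply, sq.isoPullback_inv_fst]
    exact ht1

end bc

/-- Geometric reducedness at a point can be tested after an etale morphism. -/
theorem isGeomReducedAt_iff_of_etale {k : Type u} [Field k] {W U : Scheme.{u}}
    (fU : U ⟶ Spec (CommRingCat.of k)) (g : W ⟶ U) [Etale g] (w : W) :
    FBase.IsGeomReducedAt (g ≫ fU) w ↔ FBase.IsGeomReducedAt fU (g w) := by
  constructor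
  · intro H K _ _ u' hu'
    obtain ⟨w', hw1, hw2⟩ := exists_point_bcMap fU g K w u' hu'
    haveI : Etale (bcMap fU g K) := etale_bcMap fU g K
    have h1 := H K w' hw1
    have h2 := isReduced_stalk_of_flat (bcMap fU g K) w' h1
    exact hw2 ▸ h2
  · intro H K _ _ w' hw'
    haveI : Etale (bcMap fU g K) := etale_bcMap fU g K
    apply isReduced_stalk_of_etale (bcMap fU g K) w'
    apply H K
    have h := congrArg (fun φ : FBase.bc (g ≫ fU) K ⟶ U => φ w') (bcMap_fst fU g K)
    simp only [Scheme.Hom.comp_apply] at h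
    rw [h, hw']

end Groth.Agent.Helper2.GeomReducedEtale
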