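import Mathlib
import Groth.Agent.Lib.Lead.CritFib19
import Groth.Agent.S0392

/-!
# The fibrewise criterion of flatness for locally Noetherian schemes (helper2)
-/

set_option autoImplicit false
set_option linter.style.haveILetI false
universe u

open AlgebraicGeometry CategoryTheory CategoryTheory.Limits TopologicalSpace IsLocalRing
open Groth.Agent.Lead.CritFib

namespace Groth.Agent.Helper2.CritFibNoeth

variable {X Y S : Scheme.{u}}

set_option maxHeartbeats 800000 in
/-- Noetherian form of the fibre criterion at a point of the fibre. -/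
theorem flat_stalkMap_of_fibre_noeth (f : X ⟶ Y) (g : Y ⟶ S)
    [IsLocallyNoetherian X] [IsLocallyNoetherian Y] [IsLocallyNoetherian S] (s : S)
    (x' : (f ≫ g).fiber s)
    (h1 : ((f ≫ g).stalkMap ((f ≫ g).fiberι s x')).hom.Flat)
    (h2 : ((MoreMor.fiberMap f g s).stalkMap x').hom.Flat) :
    (f.stalkMap ((f ≫ g).fiberι s x')).hom.Flat := by
  have h2' := (flat_fiberMap_iff f g s x').mp h2
  obtain ⟨x, hx⟩ : ∃ x, x = (f ≫ g).fiberι s x' := ⟨_, rfl⟩
  rw [← hx] at h1 h2' ⊢
  letI algRS : Algebra (S.presheaf.stalk (g (f x))) (Y.presheaf.stalk (f x)) :=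
    (g.stalkMap (f x)).hom.toAlgebra
  letI algST : Algebra (Y.presheaf.stalk (f x)) (X.presheaf.stalk x) :=
    (f.stalkMap x).hom.toAlgebra
  letI algRT : Algebra (S.presheaf.stalk (g (f x))) (X.presheaf.stalk x) :=
    ((f ≫ g).stalkMap x).hom.toAlgebra
  haveI : IsLocalHom (algebraMap (Y.presheaf.stalk (f x)) (X.presheaf.stalk x)) :=
    inferInstanceAs (IsLocalHom (f.stalkMap x).hom)
  haveI : IsLocalHom (algebraMap (S.presheaf.stalk (g (f x))) (Y.presheaf.stalk (f x))) :=
    inferInstanceAs (IsLocalHom (g.stalkMap (f x)).hom)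
  haveI tRS : IsScalarTower (S.presheaf.stalk (g (f x))) (Y.presheaf.stalk (f x))
      (X.presheaf.stalk x) :=
    IsScalarTower.of_algebraMap_eq fun r => by
      change ((f ≫ g).stalkMap x).hom r = (f.stalkMap x).hom ((g.stalkMap (f x)).hom r)
      rw [Scheme.Hom.stalkMap_comp]
      rfl
  haveI : Module.Flat (S.presheaf.stalk (g (f x))) (X.presheaf.stalk x) := h1
  exact (Groth.Agent.S0392.result (R := S.presheaf.stalk (g (f x)))
    (S := Y.presheaf.stalk (f x)) (S' := X.presheaf.stalk x) (M := X.presheaf.stalk x) h2').2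

/-- Noetherian form of the fibre criterion: flat on fibres and flat over the base implies flat. -/
theorem flat_stalkMap_of_flat_fibres_noeth (f : X ⟶ Y) (g : Y ⟶ S)
    [IsLocallyNoetherian X] [IsLocallyNoetherian Y] [IsLocallyNoetherian S] [Flat (f ≫ g)]
    (hf : ∀ s : S, Flat (pullback.snd f (g.fiberι s))) (x : X) :
    (g.stalkMap (f x)).hom.Flat ∧ (f.stalkMap x).hom.Flat := by
  haveI := hf (g (f x))
  haveI := flat_fiberMap_of_flat_snd f g (g (f x))
  have hx : (f ≫ g).fiberι (g (f x)) ((f ≫ g).asFiber x) = x := (f ≫ g).fiberι_asFiber x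
  have h3 := flat_stalkMap_of_fibre_noeth f g (g (f x)) ((f ≫ g).asFiber x)
    (Flat.stalkMap (f ≫ g) _) (Flat.stalkMap (MoreMor.fiberMap f g (g (f x))) _)
  rw [flat_stalkMap_iff_of_eq f hx] at h3
  exact ⟨flat_stalkMap_base_of_flat f g x (Flat.stalkMap (f ≫ g) x) h3, h3⟩

end Groth.Agent.Helper2.CritFibNoeth
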