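import Mathlib
import Groth.Agent.Lib.Helper2.Sch.FlatAtBC
import Groth.Agent.Lib.Lead.CritFib19

/-!
# Flatness at a point of a morphism over a base descends along base change of the base (helper2)
-/

set_option backward.isDefEq.respectTransparency.types false
set_option autoImplicit false
set_option linter.unusedSectionVars false
set_option linter.style.haveILetI false
universe u
open CategoryTheory CategoryTheory.Limits AlgebraicGeometry TopologicalSpace
open Groth.Agent.Lead.CritFib

namespace Groth.Agent.Helper2.FlatPt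

/-- Cancellation of an etale morphism on the right, for flatness at a point. -/
theorem FlatAt.of_postcomp_etale {X Y Z : Scheme.{u}} {f : X ⟶ Y} {g : Y ⟶ Z} [Etale g] {x : X}
    (h : FlatAt (f ≫ g) x) : FlatAt f x := by
  obtain ⟨Γ, hΓ⟩ : ∃ Γ : X ⟶ pullback (f ≫ g) g, Γ = pullback.lift (𝟙 X) f (by simp) := ⟨_, rfl⟩
  have h1 : Γ ≫ pullback.fst (f ≫ g) g = 𝟙 X := by rw [hΓ, pullback.lift_fst]
  have h2 : Γ ≫ pullback.snd (f ≫ g) g = f := by rw [hΓ, pullback.lift_snd]
  have he : Etale (Γ ≫ pullback.fst (f ≫ g) g) := by rw [h1]; infer_instance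
  haveI hΓe : Etale Γ := MorphismProperty.of_postcomp (W := @Etale) (W' := @Etale) Γ
    (pullback.fst (f ≫ g) g) inferInstance he
  have hpt : pullback.fst (f ≫ g) g (Γ x) = x := by
    rw [← Scheme.Hom.comp_apply, h1]; rfl
  have h3 : FlatAt (pullback.snd (f ≫ g) g) (Γ x) :=
    flatAt_of_isPullback' (f ≫ g) g (pullback.snd (f ≫ g) g) (pullback.fst (f ≫ g) g)
      (IsPullback.of_hasPullback _ _) (Γ x) (by rw [hpt]; exact h)
  have h4 : FlatAt (Γ ≫ pullback.snd (f ≫ g) g) x := FlatAt.comp (flatAt_of_flat Γ x) h3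
  exact (flatAt_congr h2 x).mp h4

/-- The spectrum of a homomorphism of fields is flat. -/
theorem flat_SpecMap_of_isField {K L : CommRingCat.{u}} (hK : IsField ↑K) (φ : K ⟶ L) :
    Flat (Spec.map φ) := by
  rw [HasRingHomProperty.Spec_iff (P := @Flat)]
  letI := hK.toField
  letI : Algebra K L := φ.hom.toAlgebra
  have : Module.Flat K L := inferInstance
  exact this

variable {X Y S X' Y' S' : Scheme.{u}}

set_option maxHeartbeats 800000 in
/-- Descent of flatness at a point along a base change of the base. -/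
theorem flatAt_of_flatAt_baseChange (f : X ⟶ Y) (g : Y ⟶ S)
    [LocallyOfFinitePresentation (f ≫ g)] [LocallyOfFiniteType g] [Flat (f ≫ g)]
    (h : S' ⟶ S) (gY : Y' ⟶ Y) (g' : Y' ⟶ S') (hY : IsPullback gY g' g h)
    (gX : X' ⟶ X) (f' : X' ⟶ Y') (hX : IsPullback gX f' f gY) (x' : X')
    (hx' : FlatAt f' x') : FlatAt f (gX x') := by
  obtain ⟨s', hs'⟩ : ∃ s', s' = (f' ≫ g') x' := ⟨_, rfl⟩
  obtain ⟨ξ', hξ'⟩ : ∃ ξ' : (f' ≫ g').fiber s', (f' ≫ g').fiberι s' ξ' = x' := by
    subst hs'
    exact ⟨(f' ≫ g').asFiber x', (f' ≫ g').fiberι_asFiber x'⟩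
  -- the map of fibres upstairs is flat at `ξ'`
  have hφ' : FlatAt (MoreMor.fiberMap f' g' s') ξ' :=
    flatAt_of_isPullback' f' (g'.fiberι s') (MoreMor.fiberMap f' g' s') ((f' ≫ g').fiberι s')
      (isPullback_fiberMap f' g' s') ξ' (by rw [hξ']; exact hx')
  -- the comparison of the fibres of `g`
  have hcY : (g'.fiberι s' ≫ gY) ≫ g =
      (g'.fiberToSpecResidueField s' ≫ Spec.map (h.residueFieldMap s')) ≫
        S.fromSpecResidueField (h s') := by
    rw [Category.assoc, hY.w, ← Category.assoc, g'.fiber_fac s', Category.assoc, Category.assoc,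
      Scheme.Hom.SpecMap_residueFieldMap_fromSpecResidueField]
  obtain ⟨νY, hνY⟩ : ∃ νY : g'.fiber s' ⟶ g.fiber (h s'), νY = pullback.lift _ _ hcY := ⟨_, rfl⟩
  have hνY1 : νY ≫ g.fiberι (h s') = g'.fiberι s' ≫ gY := by
    rw [hνY]; exact pullback.lift_fst _ _ _
  have hνY2 : νY ≫ g.fiberToSpecResidueField (h s') =
      g'.fiberToSpecResidueField s' ≫ Spec.map (h.residueFieldMap s') := by
    rw [hνY]; exact pullback.lift_snd _ _ _
  have sqνY : IsPullback νY (g'.fiberToSpecResidueField s') (g.fiberToSpecResidueField (h s'))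
      (Spec.map (h.residueFieldMap s')) := by
    refine IsPullback.of_right ?_ hνY2 (IsPullback.of_hasPullback g (S.fromSpecResidueField (h s')))
    have e1 : νY ≫ pullback.fst g (S.fromSpecResidueField (h s')) = g'.fiberι s' ≫ gY := hνY1
    rw [e1, Scheme.Hom.SpecMap_residueFieldMap_fromSpecResidueField]
    exact (IsPullback.of_hasPullback g' (S'.fromSpecResidueField s')).paste_horiz hY
  haveI : Flat (Spec.map (h.residueFieldMap s')) :=
    flat_SpecMap_of_isField (Field.toIsField _) _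
  haveI hνYfl : Flat νY := MorphismProperty.of_isPullback (P := @Flat) sqνY.flip inferInstance
  -- the comparison of the fibres of `f ≫ g`
  have hcX : ((f' ≫ g').fiberι s' ≫ gX) ≫ f =
      (MoreMor.fiberMap f' g' s' ≫ νY) ≫ g.fiberι (h s') := by
    rw [Category.assoc, hX.w, ← Category.assoc, ← fiberMap_comp_fiberι f' g' s', Category.assoc,
      Category.assoc, hνY1]
  obtain ⟨νX, hνX⟩ : ∃ νX, νX = (isPullback_fiberMap f g (h s')).lift _ _ hcX := ⟨_, rfl⟩
  have hνX1 : νX ≫ (f ≫ g).fiberι (h s') = (f' ≫ g').fiberι s' ≫ gX := by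
    rw [hνX, IsPullback.lift_fst]
  have hνX2 : νX ≫ MoreMor.fiberMap f g (h s') = MoreMor.fiberMap f' g' s' ≫ νY := by
    rw [hνX, IsPullback.lift_snd]
  have sqν : IsPullback νX (MoreMor.fiberMap f' g' s') (MoreMor.fiberMap f g (h s')) νY := by
    refine IsPullback.of_right ?_ hνX2 (isPullback_fiberMap f g (h s'))
    rw [hνX1, hνY1]
    exact (isPullback_fiberMap f' g' s').paste_horiz hX
  have hφ : FlatAt (MoreMor.fiberMap f g (h s')) (νX ξ') :=
    flatAt_of_isPullback_of_flat (MoreMor.fiberMap f g (h s')) νY (MoreMor.fiberMap f' g' s') νX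
      sqν ξ' hφ'
  have hres := ((critere_fibre_point f g (h s') (νX ξ')).mp ⟨Flat.stalkMap (f ≫ g) _, hφ⟩).2
  have hpt : (f ≫ g).fiberι (h s') (νX ξ') = gX x' := by
    rw [← Scheme.Hom.comp_apply, hνX1, Scheme.Hom.comp_apply, hξ']
  rw [hpt] at hres
  exact hres

end Groth.Agent.Helper2.FlatPt
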