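import Mathlib
import Groth.Prelude.Def_FDesc
import Groth.Agent.Lib.Helper2.Sch.GeomReducedEtale
import Groth.Agent.S2549

/-!
# The locus of points with geometrically reduced fibre: scheme-level lemmas (helper2)
-/

set_option autoImplicit false
set_option linter.style.haveILetI false
universe u
open CategoryTheory CategoryTheory.Limits AlgebraicGeometry

namespace Groth.Agent.Helper2.GeomRedLocus

/-- A `k`-scheme is geometrically reduced iff it is geometrically reduced at every point. -/
theorem geometricallyReduced_iff_forall_at {k : Type u} [Field k] {Z : Scheme.{u}}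
    (g : Z ⟶ Spec (CommRingCat.of k)) :
    GeometricallyReduced g ↔ ∀ z : Z, FBase.IsGeomReducedAt g z := by
  rw [geometricallyReduced_iff]
  constructor
  · intro H z K _ _ x' _
    haveI : IsReduced (FBase.bc g K) := pullback_of_geometrically H K _
    show _root_.IsReduced ((FBase.bc g K).presheaf.stalk x')
    infer_instance
  · intro H
    rw [geometrically_iff_of_commRing_of_isClosedUnderIsomorphisms]
    intro K _ _
    show IsReduced (FBase.bc g K)
    haveI : ∀ x' : ↥(FBase.bc g K), _root_.IsReduced ((FBase.bc g K).presheaf.stalk x') :=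
      fun x' => H ((FBase.bcπ g K) x') K x' rfl
    exact isReduced_of_isReduced_stalk _

variable {R U V : Scheme.{u}}

/-- `u` is a point at which the fibre of `h` through `u` is geometrically reduced. -/
def Good (h : U ⟶ V) (u : U) : Prop :=
  ∀ (v : V) (z : h.fiber v), h.fiberι v z = u →
    FBase.IsGeomReducedAt (h.fiberToSpecResidueField v) z

theorem good_iff (h : U ⟶ V) (u : U) :
    Good h u ↔ FBase.IsGeomReducedAt (h.fiberToSpecResidueField (h u)) (h.asFiber u) := by
  constructor
  · intro H
    exact H (h u) (h.asFiber u) (h.fiberι_asFiber u)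
  · intro H v z hz
    have hv : h u = v := by
      have : u ∈ Set.range (h.fiberι v) := ⟨z, hz⟩
      rw [h.range_fiberι] at this
      exact this
    subst hv
    have : z = h.asFiber u := by
      apply (h.fiberι (h u)).isEmbedding.injective
      rw [hz, h.fiberι_asFiber]
    rw [this]
    exact H

theorem isOpen_good (h : U ⟶ V) [Flat h] [LocallyOfFinitePresentation h] :
    IsOpen {u : U | Good h u} := by
  have := Groth.Agent.S2549.result h
  convert this using 1
  ext u
  exact good_iff h u

theorem forall_good_iff (h : U ⟶ V) (v : V) :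
    (∀ u : U, h u = v → Good h u) ↔ GeometricallyReduced (h.fiberToSpecResidueField v) := by
  refine Iff.trans ?_ (geometricallyReduced_iff_forall_at (k := V.residueField v)
    (h.fiberToSpecResidueField v)).symm
  constructor
  · intro H z
    have hz : h (h.fiberι v z) = v := by
      have : h.fiberι v z ∈ Set.range (h.fiberι v) := ⟨z, rfl⟩
      rw [h.range_fiberι] at this
      exact this
    exact H _ hz v z rfl
  · intro H u hu v' z hz
    have hv : h u = v' := by
      have : u ∈ Set.range (h.fiberι v') := ⟨z, hz⟩
      rw [h.range_fiberι] at this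
      exact this
    have : v = v' := hu.symm.trans hv
    subst this
    exact H z

theorem isGeomReducedAt_iff_of_etale' {k : Type u} [Field k] {W U : Scheme.{u}}
    (fU : U ⟶ Spec (CommRingCat.of k)) (g : W ⟶ U) [Etale g]
    (fW : W ⟶ Spec (CommRingCat.of k)) (e : g ≫ fU = fW) (w : W) :
    FBase.IsGeomReducedAt fW w ↔ FBase.IsGeomReducedAt fU (g w) := by
  subst e
  exact Groth.Agent.Helper2.GeomReducedEtale.isGeomReducedAt_iff_of_etale fU g w

section Etale

variable (g : R ⟶ U) (h : U ⟶ V) (v : V)

/-- The map between fibres induced by a morphism over `V`. -/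
noncomputable def fibMap : (g ≫ h).fiber v ⟶ h.fiber v :=
  pullback.map (g ≫ h) (V.fromSpecResidueField v) h (V.fromSpecResidueField v) g (𝟙 _) (𝟙 _)
    (by simp) (by simp)

theorem fibMap_fiberι : fibMap g h v ≫ h.fiberι v = (g ≫ h).fiberι v ≫ g :=
  pullback.lift_fst _ _ _

theorem fibMap_toSpec :
    fibMap g h v ≫ h.fiberToSpecResidueField v = (g ≫ h).fiberToSpecResidueField v := by
  exact (pullback.lift_snd (f := h) (g := V.fromSpecResidueField v)
    (pullback.fst (g ≫ h) (V.fromSpecResidueField v) ≫ g)
    (pullback.snd (g ≫ h) (V.fromSpecResidueField v) ≫ 𝟙 _) _).trans (Category.comp_id _)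

theorem isPullback_fibMap :
    IsPullback (fibMap g h v) ((g ≫ h).fiberι v) (h.fiberι v) g := by
  refine IsPullback.of_right ?_ (fibMap_fiberι g h v)
    (IsPullback.of_hasPullback h (V.fromSpecResidueField v)).flip
  have e : fibMap g h v ≫ pullback.snd h (V.fromSpecResidueField v) =
      pullback.snd (g ≫ h) (V.fromSpecResidueField v) := fibMap_toSpec g h v
  rw [e]
  exact (IsPullback.of_hasPullback (g ≫ h) (V.fromSpecResidueField v)).flip

theorem etale_fibMap [Etale g] : Etale (fibMap g h v) :=
  MorphismProperty.of_isPullback (P := @Etale) (isPullback_fibMap g h v).flip inferInstance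

theorem isGeomReducedAt_fibMap_iff [Etale g] (z : (g ≫ h).fiber v) :
    FBase.IsGeomReducedAt ((g ≫ h).fiberToSpecResidueField v) z ↔
      FBase.IsGeomReducedAt (h.fiberToSpecResidueField v) (fibMap g h v z) := by
  haveI := etale_fibMap g h v
  exact isGeomReducedAt_iff_of_etale' (k := V.residueField v) (h.fiberToSpecResidueField v)
    (fibMap g h v) ((g ≫ h).fiberToSpecResidueField v) (fibMap_toSpec g h v) z

/-- The good locus is compatible with étale maps on the source. -/
theorem good_comp_iff [Etale g] (r : R) : Good (g ≫ h) r ↔ Good h (g r) := by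
  constructor
  · intro H v z hz
    obtain ⟨t, ht1, ht2⟩ := Scheme.Pullback.exists_preimage_pullback (f := h.fiberι v) (g := g)
      z r hz
    have sq := isPullback_fibMap g h v
    let z' : ↥((g ≫ h).fiber v) := sq.isoPullback.inv t
    have hz'1 : fibMap g h v z' = z := by
      show (fibMap g h v) (sq.isoPullback.inv t) = z
      rw [← Scheme.Hom.comp_apply, sq.isoPullback_inv_fst]
      exact ht1
    have hz'2 : (g ≫ h).fiberι v z' = r := by
      show ((g ≫ h).fiberι v) (sq.isoPullback.inv t) = r
      rw [← Scheme.Hom.comp_apply, sq.isoPullback_inv_snd]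
      exact ht2
    have := (isGeomReducedAt_fibMap_iff g h v z').1 (H v z' hz'2)
    rw [hz'1] at this
    exact this
  · intro H v z' hz'
    rw [isGeomReducedAt_fibMap_iff]
    apply H v
    rw [← Scheme.Hom.comp_apply, fibMap_fiberι, Scheme.Hom.comp_apply, hz']

end Etale

end Groth.Agent.Helper2.GeomRedLocus
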