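import Mathlib
import Groth.Prelude.Def_Dual3
import Groth.Agent.S0342
import Groth.Agent.S3627
import Groth.Agent.Lib.Helper2.Sch.EtaleField
import Groth.Agent.Lib.Helper2.Sch.FlatAtFibreBC

/-!
# Gorenstein morphisms of schemes and etale morphisms (helper2)
-/

set_option autoImplicit false
set_option linter.style.haveILetI false

open CategoryTheory CategoryTheory.Limits AlgebraicGeometry

universe u

namespace Groth.Agent.Helper2.GorSch

open Groth.Agent.Helper2.FlatPt

/-- A field is a Gorenstein local ring. -/
theorem isGorensteinLocalRing_of_isField {A : Type u} [CommRing A] (h : IsField A) :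
    LocCoh.IsGorensteinLocalRing A := by
  letI := h.toField
  exact Groth.Agent.S0342.result A

variable {X Y Z : Scheme.{u}}

/-- The fibres of a morphism locally of finite type are locally Noetherian. -/
theorem isLocallyNoetherian_fiber_of_lft (f : X ⟶ Y) [LocallyOfFiniteType f] (y : Y) :
    IsLocallyNoetherian (f.fiber y) := by
  haveI : LocallyOfFiniteType (f.fiberToSpecResidueField y) :=
    MorphismProperty.pullback_snd _ _ inferInstance
  exact LocallyOfFiniteType.isLocallyNoetherian (f.fiberToSpecResidueField y)

/-- An etale morphism is Gorenstein at every point. -/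
theorem isGorensteinAt_of_etale (e : X ⟶ Y) [Etale e] (x : X) : Dual3.IsGorensteinAt e x := by
  refine ⟨Flat.stalkMap e x, ?_⟩
  haveI : Etale (e.fiberToSpecResidueField (e x)) :=
    MorphismProperty.pullback_snd _ _ inferInstance
  have hF : EtaleField.IsFieldLike (e.fiber (e x)) :=
    EtaleField.isFieldLike_of_etale (K := ↑(Y.residueField (e x)))
      (e.fiberToSpecResidueField (e x))
  exact isGorensteinLocalRing_of_isField (hF.isField _)

/-- Precomposition with an etale morphism does not change being Gorenstein at a point. -/
theorem gor_precomp_etale_iff (e : X ⟶ Y) [Etale e] (h : Y ⟶ Z)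
    (hfh : ∀ z, IsLocallyNoetherian (h.fiber z))
    (hfeh : ∀ z, IsLocallyNoetherian ((e ≫ h).fiber z)) (x : X) :
    Dual3.IsGorensteinAt (e ≫ h) x ↔ Dual3.IsGorensteinAt h (e x) := by
  have key := Groth.Agent.S3627.result X Y Z e h
    (fun y => isLocallyNoetherian_fiber_of_lft e y) hfh hfeh x
  constructor
  · intro hg
    exact (key.2 hg (Flat.stalkMap e x)).2
  · intro hg
    exact key.1 (isGorensteinAt_of_etale e x) hg

/-- Postcomposition with an etale morphism does not change being Gorenstein at a point. -/
theorem gor_postcomp_etale_iff (h : X ⟶ Y) (e : Y ⟶ Z) [Etale e]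
    (hfh : ∀ y, IsLocallyNoetherian (h.fiber y))
    (hfhe : ∀ z, IsLocallyNoetherian ((h ≫ e).fiber z)) (x : X) :
    Dual3.IsGorensteinAt (h ≫ e) x ↔ Dual3.IsGorensteinAt h x := by
  have key := Groth.Agent.S3627.result X Y Z h e hfh
    (fun y => isLocallyNoetherian_fiber_of_lft e y) hfhe x
  constructor
  · intro hg
    have hfl : FlatAt h x := FlatAt.of_postcomp_etale (g := e) hg.1
    exact (key.2 hg hfl).1
  · intro hg
    exact key.1 hg (isGorensteinAt_of_etale e (h x))

end Groth.Agent.Helper2.GorSch
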