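import Mathlib
import Groth.Agent.Lib.Helper2.Sch.GorEtale
import Groth.Agent.S3624

/-!
# Gorenstein schemes and etale morphisms (helper2)
-/

set_option autoImplicit false
set_option linter.style.haveILetI false

open CategoryTheory CategoryTheory.Limits AlgebraicGeometry

universe u

namespace Groth.Agent.Helper2.GorSch

variable {W U : Scheme.{u}}

/-- A scheme etale over a Gorenstein scheme is Gorenstein. -/
theorem isGorenstein_of_etale (e : W ⟶ U) [Etale e] (hU : Dual3.IsGorenstein U) :
    Dual3.IsGorenstein W := by
  haveI := hU.1
  haveI : IsLocallyNoetherian W := LocallyOfFiniteType.isLocallyNoetherian e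
  refine ⟨inferInstance, fun w => ?_⟩
  exact (Groth.Agent.Helper3.FibStalk.gor_stalk_iff e w (Flat.stalkMap e w)).mpr
    ⟨hU.2 (e w), (isGorensteinAt_of_etale e w).2⟩

/-- The local rings of a locally Noetherian scheme at points in the image of a flat morphism from a
Gorenstein scheme are Gorenstein. -/
theorem gor_stalk_of_flat_of_isGorenstein (e : W ⟶ U) [Flat e] [IsLocallyNoetherian U]
    (hW : Dual3.IsGorenstein W) (w : W) :
    LocCoh.IsGorensteinLocalRing (U.presheaf.stalk (e w)) :=
  (Groth.Agent.S3624.result W U e hW).2 w

/-- A locally Noetherian scheme with a surjective flat morphism from a Gorenstein scheme is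
Gorenstein. -/
theorem isGorenstein_of_flat_surjective (e : W ⟶ U) [Flat e] [Surjective e]
    [IsLocallyNoetherian U] (hW : Dual3.IsGorenstein W) : Dual3.IsGorenstein U := by
  refine ⟨inferInstance, fun z => ?_⟩
  obtain ⟨w, rfl⟩ := e.surjective z
  exact gor_stalk_of_flat_of_isGorenstein e hW w

end Groth.Agent.Helper2.GorSch
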