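import Mathlib
import Groth.Agent.Lib.Helper2.Sch.QfAt

/-!
# Points of a scheme over a field coming from schemes etale over the field are closed (helper2)
-/

set_option autoImplicit false

open CategoryTheory AlgebraicGeometry

namespace Groth.Agent.Helper2.ClosedAlgPoint

universe u

/-- The image of a point of a scheme etale over a field `k` under a `k`-morphism is a closed
point. -/
theorem isClosed_singleton_of_etale {k : Type u} [Field k] {F U : Scheme.{u}}
    (c : F ⟶ Spec (CommRingCat.of k)) [Etale c] (g : F ⟶ U) (f : U ⟶ Spec (CommRingCat.of k))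
    (hc : g ≫ f = c) (w : ↥F) : IsClosed ({g w} : Set ↥U) := by
  -- the finite morphism `Spec κ(w) ⟶ Spec k`
  haveI : LocallyQuasiFinite c := QfAt.locallyQuasiFinite_of_etale c
  haveI : LocallyQuasiFinite (F.fromSpecResidueField w ≫ c) := inferInstance
  haveI : IsAffineHom (F.fromSpecResidueField w ≫ c) := isAffineHom_of_isAffine _
  haveI : IsFinite (F.fromSpecResidueField w ≫ c) := IsFinite.of_locallyQuasiFinite _
  rw [TopologicalSpace.IsOpenCover.isClosed_iff_coe_preimage (iSup_affineOpens_eq_top U)]
  rintro ⟨V, hV⟩
  by_cases hy : g w ∈ V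
  · haveI : IsAffine ↑V := hV
    have hrange : Set.range (F.fromSpecResidueField w ≫ g) ⊆ Set.range V.ι := by
      rintro _ ⟨x, rfl⟩
      rw [Scheme.Opens.range_ι]
      show (F.fromSpecResidueField w ≫ g) x ∈ V
      rw [Scheme.Hom.comp_apply, Scheme.fromSpecResidueField_apply]
      exact hy
    let qV : Spec (F.residueField w) ⟶ ↑V := IsOpenImmersion.lift V.ι _ hrange
    have hqV : qV ≫ V.ι = F.fromSpecResidueField w ≫ g := IsOpenImmersion.lift_fac _ _ _
    haveI : IsSeparated (V.ι ≫ f) := by
      haveI : IsAffineHom (V.ι ≫ f) := isAffineHom_of_isAffine _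
      infer_instance
    haveI : UniversallyClosed (qV ≫ (V.ι ≫ f)) := by
      rw [← Category.assoc, hqV, Category.assoc, hc]
      infer_instance
    haveI : UniversallyClosed qV := UniversallyClosed.of_comp_of_isSeparated qV (V.ι ≫ f)
    have hcl : IsClosed (Set.range qV) := qV.isClosedMap.isClosed_range
    have hset : ((Subtype.val : ↥V → ↥U) ⁻¹' {g w}) = (Set.range qV : Set ↥V) := ?_
    · rw [hset]
      exact hcl
    ext ⟨v, hv⟩
    simp only [Set.mem_preimage, Set.mem_singleton_iff, Set.mem_range]
    constructor
    · intro h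
      refine ⟨default, ?_⟩
      apply Subtype.ext
      show (qV ≫ V.ι) default = v
      rw [hqV, Scheme.Hom.comp_apply, Scheme.fromSpecResidueField_apply]
      exact h.symm
    · rintro ⟨x, hx⟩
      have : (qV ≫ V.ι) x = v := by
        rw [Scheme.Hom.comp_apply, hx]; rfl
      rw [hqV, Scheme.Hom.comp_apply, Scheme.fromSpecResidueField_apply] at this
      exact this.symm
  · convert isClosed_empty using 1
    ext ⟨v, hv⟩
    simp only [Set.mem_preimage, Set.mem_singleton_iff, Set.mem_empty_iff_false, iff_false]
    intro h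
    exact hy (h ▸ hv)

end Groth.Agent.Helper2.ClosedAlgPoint
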