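import Mathlib
set_option backward.isDefEq.respectTransparency false
namespace Groth.Agent.Helper2.LocConstr
open CategoryTheory CategoryTheory.Limits AlgebraicGeometry Topology TopologicalSpace
open Set.Notation
universe u

/-- Preimages of locally constructible sets under arbitrary scheme morphisms are locally
constructible. -/
theorem preimage {W U : Scheme.{u}} (g : W ⟶ U) {E : Set U}
    (hE : IsLocallyConstructible E) : IsLocallyConstructible (g ⁻¹' E) := by
  intro x
  obtain ⟨U₀, hxU₀, hU₀, hc⟩ := hE (g x)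
  let O : U.Opens := ⟨U₀, hU₀⟩
  refine ⟨g ⁻¹' U₀, g.continuous.continuousAt.preimage_mem_nhds hxU₀, hU₀.preimage g.continuous, ?_⟩
  have h1 : IsConstructible ((g ∣_ O) ⁻¹' ((Subtype.val : O → U) ⁻¹' E)) :=
    (g ∣_ O).isConstructible_preimage hc
  have h2 : ((g ∣_ O) ⁻¹' ((Subtype.val : O → U) ⁻¹' E)) =
      ((Subtype.val : (g ⁻¹ᵁ O) → W) ⁻¹' (g ⁻¹' E)) := by
    ext ⟨w, hw⟩
    simp only [Set.mem_preimage]
    rw [morphismRestrict_base_coe]
  rw [h2] at h1
  exact h1


/-- Descent of local constructibility along a surjective open morphism locally of finite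
presentation. -/
theorem of_preimage {W U : Scheme.{u}} (g : W ⟶ U)
    [LocallyOfFinitePresentation g] (hopen : IsOpenMap g) (hsurj : Function.Surjective g)
    {E : Set U} (hE : IsLocallyConstructible (g ⁻¹' E)) : IsLocallyConstructible E := by
  refine IsLocallyConstructible.of_isOpenCover (U := fun i : U.affineOpens => (i : U.Opens))
    (AlgebraicGeometry.iSup_affineOpens_eq_top U) ?_
  rintro ⟨U', hU'⟩
  -- choose affine opens
  have key : ∀ x : U, x ∈ U' → ∃ V : W.Opens, IsAffineOpen V ∧ (V : Set W) ⊆ g ⁻¹' U' ∧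
      x ∈ g '' (V : Set W) := by
    intro x hx
    obtain ⟨w, rfl⟩ := hsurj x
    obtain ⟨V, hV, hwV, hVU⟩ := exists_isAffineOpen_mem_and_subset (x := w) (U := g ⁻¹ᵁ U') hx
    exact ⟨V, hV, hVU, w, hwV, rfl⟩
  choose! V hV1 hV2 hV3 using key
  obtain ⟨t, ht1, ht2⟩ := hU'.isCompact.elim_nhds_subcover (fun x => g '' (V x : Set W))
    (fun x hx => (hopen _ (V x).isOpen).mem_nhds (hV3 x hx))
  obtain ⟨W', hW'def⟩ : ∃ W' : W.Opens, W' = ⨆ x ∈ t, V x := ⟨_, rfl⟩
  have hW'coe : (W' : Set W) = ⋃ x ∈ t, (V x : Set W) := by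
    rw [hW'def]; simp
  have hW'c : IsCompact (W' : Set W) := by
    rw [hW'coe]
    exact t.isCompact_biUnion (fun x hx => (hV1 x (ht1 x hx)).isCompact)
  have e : W' ≤ g ⁻¹ᵁ U' := by
    intro w hw
    have hw' : w ∈ (W' : Set W) := hw
    rw [hW'coe] at hw'
    simp only [Set.mem_iUnion] at hw'
    obtain ⟨x, hx, hwx⟩ := hw'
    exact hV2 x (ht1 x hx) hwx
  have hcov : ∀ x : U, x ∈ U' → ∃ w : W, w ∈ W' ∧ g w = x := by
    intro x hx
    have := ht2 hx
    simp only [Set.mem_iUnion] at this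
    obtain ⟨y, hy, w, hw, rfl⟩ := this
    refine ⟨w, ?_, rfl⟩
    show w ∈ (W' : Set W)
    rw [hW'coe]
    simp only [Set.mem_iUnion]
    exact ⟨y, hy, hw⟩
  have : IsAffine U'.toScheme := hU'
  have : CompactSpace W'.toScheme := isCompact_iff_compactSpace.mp hW'c
  have : QuasiCompact (g.resLE U' W' e) := HasAffineProperty.iff_of_isAffine.mpr ‹_›
  have h1 : IsLocallyConstructible (W'.ι ⁻¹' (g ⁻¹' E)) := preimage W'.ι hE
  have h2 := (g.resLE U' W' e).isLocallyConstructible_image h1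
  have h3 : (g.resLE U' W' e) '' (W'.ι ⁻¹' (g ⁻¹' E)) = ((Subtype.val : U' → U) ⁻¹' E) := by
    ext ⟨x, hx⟩
    constructor
    · rintro ⟨w, hw, hwx⟩
      have : (g.resLE U' W' e w).1 = x := by rw [hwx]
      rw [Scheme.Hom.coe_resLE_apply] at this
      show x ∈ E
      rw [← this]
      exact hw
    · intro hxE
      obtain ⟨w, hwW', rfl⟩ := hcov x hx
      refine ⟨⟨w, hwW'⟩, hxE, ?_⟩
      apply Subtype.ext
      rw [Scheme.Hom.coe_resLE_apply]
  rw [h3] at h2
  exact h2

theorem of_preimage_etale {W U : Scheme.{u}} (g : W ⟶ U) [Etale g] [Surjective g]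
    {E : Set U} (hE : IsLocallyConstructible (g ⁻¹' E)) : IsLocallyConstructible E :=
  of_preimage g g.isOpenMap g.surjective hE

end Groth.Agent.Helper2.LocConstr
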