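import Mathlib
import Groth.Agent.Lib.Helper6.FppfComp.Main

/-!
# Local finiteness of irreducible components ascends along flat morphisms locally of finite type
(helper2; the proof of Helper6's fppf version only uses finite type)
-/

set_option autoImplicit false
universe u

namespace Groth.Agent.Helper2.LocFinIrred

open AlgebraicGeometry CategoryTheory TopologicalSpace Groth.Agent.Lib.Helper6.FppfComp

variable {X Y : Scheme.{u}}

theorem finite_irreducibleComponents_of_flat_lft (f : Y ⟶ X) [Flat f]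
    [LocallyOfFiniteType f]
    (hX : ∀ U : X.Opens, IsCompact (U : Set X) → (irreducibleComponents ↥U).Finite)
    (V : Y.Opens) (hV : IsCompact (V : Set Y)) : (irreducibleComponents ↥V).Finite := by
  have : QuasiSober ↥V := V.isOpenEmbedding'.quasiSober
  apply finite_irreducibleComponents_of_finite_gen
  have hcov : ∀ v : ↥V, ∃ (D : Y.Opens) (U : X.Opens), IsAffineOpen D ∧ IsAffineOpen U ∧
      D ≤ f ⁻¹ᵁ U ∧ v.1 ∈ D := by
    intro v
    obtain ⟨U, hU, hvU, -⟩ := exists_isAffineOpen_mem_and_subset (x := f v.1) (U := ⊤) trivial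
    obtain ⟨D, hD, hvD, hDle⟩ :=
      exists_isAffineOpen_mem_and_subset (x := v.1) (U := f ⁻¹ᵁ U) hvU
    exact ⟨D, U, hD, hU, hDle, hvD⟩
  choose D U hD hU hDU hvD using hcov
  obtain ⟨t, ht⟩ := hV.elim_finite_subcover (fun v : ↥V => (D v : Set Y)) (fun v => (D v).2)
    (fun y hy => Set.mem_iUnion.mpr ⟨⟨y, hy⟩, hvD ⟨y, hy⟩⟩)
  have hfin : {ξ : Y | ξ ∈ V ∧ ∀ ξ', ξ' ⤳ ξ → ξ' = ξ}.Finite := by
    have h1 : ∀ v ∈ t, {ξ : Y | ξ ∈ D v ∧ ∀ ξ', ξ' ⤳ ξ → ξ' = ξ}.Finite := by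
      intro v _
      have hUfin := finite_gen_of_finite_irreducibleComponents (U v)
        (hX (U v) (hU v).isCompact)
      have hsub : {ξ : Y | ξ ∈ D v ∧ ∀ ξ', ξ' ⤳ ξ → ξ' = ξ} ⊆
          ⋃ η ∈ {x : X | x ∈ U v ∧ ∀ x', x' ⤳ x → x' = x},
            {ξ : Y | ξ ∈ D v ∧ f ξ = η ∧ ∀ ξ', ξ' ⤳ ξ → ξ' = ξ} := by
        rintro ξ ⟨hξD, hξ⟩
        exact Set.mem_biUnion (show f ξ ∈ {x : X | x ∈ U v ∧ ∀ x', x' ⤳ x → x' = x} from
          ⟨hDU v hξD, gen_map_of_flat f hξ⟩) ⟨hξD, rfl, hξ⟩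
      exact (hUfin.biUnion fun η _ => finite_gen_fiber f (hD v) (hU v) (hDU v) η).subset hsub
    refine (t.finite_toSet.biUnion h1).subset ?_
    rintro ξ ⟨hξV, hξ⟩
    obtain ⟨v, hv, hξv⟩ := Set.mem_iUnion₂.mp (ht hξV)
    exact Set.mem_biUnion hv ⟨hξv, hξ⟩
  refine (hfin.preimage (Subtype.val_injective.injOn)).subset ?_
  intro z hz
  exact ⟨z.2, (forall_specializes_subtype_iff V.2 z).mp hz⟩

end Groth.Agent.Helper2.LocFinIrred
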