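import Mathlib
import Groth.Agent.Lib.Helper6.GenFin.Fiber

/-!
# Étale separated morphisms with finite fibres over a Noetherian base are quasi-compact (helper2)

Let `f : W ⟶ Y` be étale and separated with finite fibres and `Y` Noetherian.  Then `W` is
quasi-compact.  The proof is Noetherian induction on closed subsets of `Y`, using generic finiteness
(`Groth.Agent.Lib.Helper6.GenFin`) and the fact that a quasi-compact open of the source which is
finite over an open of the base is closed over it (separatedness) and dense (flatness).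
-/

set_option backward.isDefEq.respectTransparency.types false
set_option autoImplicit false
set_option synthInstance.maxHeartbeats 400000
set_option maxHeartbeats 4000000
set_option linter.style.haveILetI false
set_option linter.unusedSectionVars false
set_option linter.unusedVariables false
set_option linter.unusedSimpArgs false
set_option linter.unnecessarySimpa false

open CategoryTheory CategoryTheory.Limits AlgebraicGeometry TopologicalSpace Topology

universe u

namespace Groth.Agent.Helper2.EtSepQc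

open Groth.Agent.Lib.Helper6

/-- A finite set of points of a scheme lies in a quasi-compact open. -/
theorem exists_compact_open_superset {Z : Scheme.{u}} {A : Set Z} (hA : A.Finite) :
    ∃ W : Z.Opens, IsCompact (W : Set Z) ∧ A ⊆ W := by
  classical
  have key : ∀ F : Finset Z, ∃ W : Z.Opens, IsCompact (W : Set Z) ∧ (F : Set Z) ⊆ W := by
    intro F
    induction F using Finset.induction_on with
    | empty => exact ⟨⊥, by simp, by simp⟩
    | insert a F _ ih =>
      obtain ⟨W, hW, hFW⟩ := ih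
      obtain ⟨V, hV, haV, -⟩ := exists_isAffineOpen_mem_and_subset (x := a) (U := ⊤) trivial
      refine ⟨W ⊔ V, ?_, ?_⟩
      · rw [TopologicalSpace.Opens.coe_sup]; exact hW.union hV.isCompact
      · rw [Finset.coe_insert]
        intro x hx
        rcases hx with rfl | hx
        · exact Or.inr haV
        · exact Or.inl (hFW hx)
  obtain ⟨W, hW, h⟩ := key hA.toFinset
  exact ⟨W, hW, by simpa using h⟩

/-- A point with no proper generization: the generic point of an irreducible component. -/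
theorem exists_maximal_point (Y : Type*) [TopologicalSpace Y] [QuasiSober Y] [T0Space Y]
    [NoetherianSpace Y] [Nonempty Y] :
    ∃ (η : Y) (o : Set Y), IsOpen o ∧ η ∈ o ∧ (∀ y : Y, y ⤳ η → y = η) ∧
      ∀ y ∈ o, η ⤳ y := by
  obtain ⟨y₀⟩ := ‹Nonempty Y›
  have hZ₁ : irreducibleComponent y₀ ∈ irreducibleComponents Y :=
    irreducibleComponent_mem_irreducibleComponents y₀
  have hirr : IsIrreducible (irreducibleComponent y₀) := isIrreducible_irreducibleComponent
  have hcl : IsClosed (irreducibleComponent y₀) := isClosed_irreducibleComponent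
  obtain ⟨η, hη⟩ : ∃ η : Y, IsGenericPoint η (irreducibleComponent y₀) :=
    ⟨_, hirr.isGenericPoint_genericPoint hcl⟩
  obtain ⟨o, ho, hone, hoZ⟩ :=
    NoetherianSpace.exists_isOpen_nonempty_subset_irreducibleComponent _ hZ₁
  refine ⟨η, o, ho, ?_, ?_, ?_⟩
  · rw [hη.mem_open_set_iff ho]
    obtain ⟨z, hz⟩ := hone
    exact ⟨z, hoZ hz, hz⟩
  · intro y hy
    have h1 : irreducibleComponent y₀ ⊆ closure {y} := by
      rw [← hη.def]
      exact specializes_iff_closure_subset.mp hy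
    have h2 : closure ({y} : Set Y) ⊆ irreducibleComponent y₀ :=
      hZ₁.le_of_ge isIrreducible_singleton.closure h1
    have h3 : IsGenericPoint y (irreducibleComponent y₀) := h2.antisymm h1
    exact h3.eq hη
  · intro y hy
    rw [specializes_iff_mem_closure, hη.def]
    exact hoZ hy

variable {W Y : Scheme.{u}}

/-- One step: over some nonempty open of the base the source is quasi-compact. -/
theorem exists_open_isCompact_preimage (g : W ⟶ Y) [IsNoetherian Y] [Nonempty Y] [Etale g]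
    [IsSeparated g] (hfin : ∀ y : Y, (g ⁻¹' {y}).Finite) :
    ∃ O : Y.Opens, (O : Set Y).Nonempty ∧ IsCompact (g ⁻¹' (O : Set Y)) := by
  classical
  obtain ⟨η, o, ho, hηo, hmax, hgen⟩ := exists_maximal_point Y
  obtain ⟨W', hW'c, hW'⟩ := exists_compact_open_superset (hfin η)
  haveI hcW' : CompactSpace ↥(W' : Scheme.{u}) := isCompact_iff_compactSpace.mp hW'c
  haveI : QuasiSeparatedSpace ↥Y := inferInstance
  obtain ⟨g', hg'⟩ : ∃ g' : (W' : Scheme.{u}) ⟶ Y, g' = W'.ι ≫ g := ⟨_, rfl⟩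
  haveI : Etale g' := by rw [hg']; infer_instance
  haveI : IsSeparated g' := by rw [hg']; infer_instance
  haveI : LocallyOfFiniteType g' := inferInstance
  haveI : QuasiCompact g' := inferInstance
  haveI : QuasiSeparated g' := inferInstance
  have hfin' : (g' ⁻¹' {η}).Finite := by
    refine ((hfin η).preimage W'.ι.isOpenEmbedding.injective.injOn).subset fun x hx => ?_
    change g (W'.ι x) = η
    rw [← Scheme.Hom.comp_apply, ← hg']
    exact hx
  obtain ⟨V, hVaff, hηV, hVfin⟩ :=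
    GenFin.exists_isFinite_morphismRestrict_of_qcqs g' η hmax hfin'
  obtain ⟨O, hO⟩ : ∃ O : Y.Opens, O = V ⊓ ⟨o, ho⟩ := ⟨_, rfl⟩
  have hηO : η ∈ O := by rw [hO]; exact ⟨hηV, hηo⟩
  have hOV : O ≤ V := by rw [hO]; exact inf_le_left
  have hOo : ∀ y ∈ O, η ⤳ y := by
    intro y hy
    rw [hO] at hy
    exact hgen y hy.2
  have hOfin : IsFinite (g' ∣_ O) := GenFin.isFinite_morphismRestrict_of_le g' hOV hVfin
  refine ⟨O, ⟨η, hηO⟩, ?_⟩
  haveI : IsLocallyNoetherian (W' : Scheme.{u}) := LocallyOfFiniteType.isLocallyNoetherian g'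
  haveI : IsNoetherian (W' : Scheme.{u}) :=
    { toIsLocallyNoetherian := inferInstance, toCompactSpace := hcW' }
  -- the comparison of the two restrictions
  have hrange : Set.range ((g' ⁻¹ᵁ O).ι ≫ W'.ι) ⊆ Set.range (g ⁻¹ᵁ O).ι := by
    rintro _ ⟨x, rfl⟩
    rw [Scheme.Opens.range_ι]
    have hx : (g' ⁻¹ᵁ O).ι x ∈ g' ⁻¹ᵁ O := by
      have := Set.mem_range_self (f := (g' ⁻¹ᵁ O).ι) x
      rwa [Scheme.Opens.range_ι] at this
    change g (((g' ⁻¹ᵁ O).ι ≫ W'.ι) x) ∈ O
    rw [← Scheme.Hom.comp_apply, Category.assoc, ← hg']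
    exact hx
  obtain ⟨j, hj⟩ : ∃ j : ((g' ⁻¹ᵁ O : (W' : Scheme.{u}).Opens) : Scheme.{u}) ⟶
      ((g ⁻¹ᵁ O : W.Opens) : Scheme.{u}), j ≫ (g ⁻¹ᵁ O).ι = (g' ⁻¹ᵁ O).ι ≫ W'.ι :=
    ⟨IsOpenImmersion.lift (g ⁻¹ᵁ O).ι ((g' ⁻¹ᵁ O).ι ≫ W'.ι) hrange,
      IsOpenImmersion.lift_fac _ _ _⟩
  have hjg : j ≫ (g ∣_ O) = g' ∣_ O := by
    rw [← cancel_mono O.ι, Category.assoc, morphismRestrict_ι, ← Category.assoc, hj,
      Category.assoc, ← hg', morphismRestrict_ι]
  haveI : IsSeparated (g ∣_ O) := IsZariskiLocalAtTarget.restrict ‹IsSeparated g› O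
  haveI : UniversallyClosed (j ≫ (g ∣_ O)) := by rw [hjg]; infer_instance
  haveI : UniversallyClosed j := UniversallyClosed.of_comp_of_isSeparated j (g ∣_ O)
  have hclosed : IsClosed (Set.range j) := j.isClosedMap.isClosed_range
  -- the key inclusion
  have hsub : g ⁻¹' (O : Set Y) ⊆ (W' : Set W) := by
    intro w hw
    have hsp : η ⤳ g w := hOo _ hw
    obtain ⟨w', hw'w, hgw'⟩ := Flat.generalizingMap g hsp
    have hw'W : w' ∈ W' := hW' (by simpa using hgw')
    have hwG : w ∈ g ⁻¹ᵁ O := hw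
    have hw'G : w' ∈ g ⁻¹ᵁ O := by
      change g w' ∈ O
      rw [hgw']; exact hηO
    obtain ⟨a', ha'⟩ : ∃ a' : ↥((g ⁻¹ᵁ O : W.Opens) : Scheme.{u}), (g ⁻¹ᵁ O).ι a' = w' :=
      ⟨⟨w', hw'G⟩, rfl⟩
    obtain ⟨a, ha⟩ : ∃ a : ↥((g ⁻¹ᵁ O : W.Opens) : Scheme.{u}), (g ⁻¹ᵁ O).ι a = w :=
      ⟨⟨w, hwG⟩, rfl⟩
    have hsp' : a' ⤳ a := by
      rw [← (g ⁻¹ᵁ O).ι.isOpenEmbedding.isInducing.specializes_iff, ha', ha]
      exact hw'w
    have ha'r : a' ∈ Set.range j := by
      obtain ⟨c, hc⟩ : ∃ c : ↥(W' : Scheme.{u}), W'.ι c = w' := ⟨⟨w', hw'W⟩, rfl⟩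
      have hcO : c ∈ g' ⁻¹ᵁ O := by
        change g' c ∈ O
        rw [hg', Scheme.Hom.comp_apply, hc, hgw']; exact hηO
      obtain ⟨b, hb⟩ : ∃ b : ↥((g' ⁻¹ᵁ O : (W' : Scheme.{u}).Opens) : Scheme.{u}),
          (g' ⁻¹ᵁ O).ι b = c := ⟨⟨c, hcO⟩, rfl⟩
      refine ⟨b, ?_⟩
      apply (g ⁻¹ᵁ O).ι.isOpenEmbedding.injective
      rw [← Scheme.Hom.comp_apply, hj, Scheme.Hom.comp_apply, hb, hc, ha']
    have har : a ∈ Set.range j := hsp'.mem_closed hclosed ha'r
    obtain ⟨b, hb⟩ := har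
    have hwb : w = W'.ι ((g' ⁻¹ᵁ O).ι b) := by
      rw [← ha, ← hb, ← Scheme.Hom.comp_apply, hj, Scheme.Hom.comp_apply]
    rw [hwb]
    have := Set.mem_range_self (f := W'.ι) ((g' ⁻¹ᵁ O).ι b)
    rwa [Scheme.Opens.range_ι] at this
  -- compactness
  have hrw : g ⁻¹' (O : Set Y) = W'.ι '' (W'.ι ⁻¹' (g ⁻¹' (O : Set Y))) := by
    rw [Set.image_preimage_eq_of_subset]
    rw [Scheme.Opens.range_ι]
    exact hsub
  rw [hrw]
  exact (NoetherianSpace.isCompact _).image W'.ι.continuous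

/-- Noetherian induction: preimages of closed subsets are quasi-compact. -/
theorem isCompact_preimage_closeds (f : W ⟶ Y) [IsNoetherian Y] [Etale f] [IsSeparated f]
    (hfin : ∀ y : Y, (f ⁻¹' {y}).Finite) (Z : Closeds Y) : IsCompact (f ⁻¹' (Z : Set Y)) := by
  refine WellFoundedLT.induction (motive := fun Z : Closeds Y => IsCompact (f ⁻¹' (Z : Set Y))) Z ?_
  intro Z ih
  by_cases hZe : (Z : Set Y) = ∅
  · rw [hZe, Set.preimage_empty]; exact isCompact_empty
  obtain ⟨z₀, hz₀⟩ := Set.nonempty_iff_ne_empty.mpr hZe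
  obtain ⟨I, hI⟩ : ∃ I : Scheme.IdealSheafData Y, (I.support : Set Y) = Z :=
    ⟨Scheme.IdealSheafData.vanishingIdeal Z, Scheme.IdealSheafData.coe_support_vanishingIdeal _⟩
  have hrι : Set.range I.subschemeι = (Z : Set Y) := by rw [I.range_subschemeι, hI]
  obtain ⟨g, hg⟩ : ∃ g : pullback f I.subschemeι ⟶ I.subscheme, g = pullback.snd f I.subschemeι :=
    ⟨_, rfl⟩
  obtain ⟨q, hq⟩ : ∃ q : pullback f I.subschemeι ⟶ W, q = pullback.fst f I.subschemeι :=
    ⟨_, rfl⟩
  have hw : q ≫ f = g ≫ I.subschemeι := by rw [hq, hg]; exact pullback.condition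
  have hrq : Set.range q = f ⁻¹' (Z : Set Y) := by
    rw [hq, Scheme.Pullback.range_fst, hrι]
  haveI : IsClosedImmersion q := by rw [hq]; infer_instance
  haveI : Etale g := by rw [hg]; infer_instance
  haveI : IsSeparated g := by rw [hg]; infer_instance
  haveI : IsLocallyNoetherian I.subscheme :=
    LocallyOfFiniteType.isLocallyNoetherian I.subschemeι
  haveI : CompactSpace ↥I.subscheme := I.subschemeι.isClosedEmbedding.compactSpace
  haveI : IsNoetherian I.subscheme :=
    { toIsLocallyNoetherian := inferInstance, toCompactSpace := inferInstance }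
  haveI : Nonempty ↥I.subscheme := by
    have : z₀ ∈ Set.range I.subschemeι := by rw [hrι]; exact hz₀
    obtain ⟨y, -⟩ := this
    exact ⟨y⟩
  have hfing : ∀ y : ↥I.subscheme, (g ⁻¹' {y}).Finite := by
    intro y
    have h1 : g ⁻¹' {y} ⊆ q ⁻¹' (f ⁻¹' {I.subschemeι y}) := by
      intro p hp
      change f (q p) = I.subschemeι y
      rw [← Scheme.Hom.comp_apply, hw, Scheme.Hom.comp_apply]
      exact congrArg _ hp
    exact ((hfin _).preimage q.isClosedEmbedding.injective.injOn).subset h1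
  obtain ⟨O, hOne, hOc⟩ := exists_open_isCompact_preimage g hfing
  -- the smaller closed set
  obtain ⟨Z₁, hZ₁⟩ : ∃ Z₁ : Closeds Y, (Z₁ : Set Y) = I.subschemeι '' ((O : Set ↥I.subscheme)ᶜ) :=
    ⟨⟨_, I.subschemeι.isClosedEmbedding.isClosedMap _ O.isOpen.isClosed_compl⟩, rfl⟩
  have hZ₁le : Z₁ ≤ Z := by
    intro y hy
    have hy' : y ∈ (Z₁ : Set Y) := hy
    rw [hZ₁] at hy'
    obtain ⟨p, -, rfl⟩ := hy'
    change I.subschemeι p ∈ (Z : Set Y)
    rw [← hrι]; exact ⟨p, rfl⟩
  have hZ₁ne : Z₁ ≠ Z := by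
    intro heq
    obtain ⟨o₀, ho₀⟩ := hOne
    have h1 : I.subschemeι o₀ ∈ (Z : Set Y) := by rw [← hrι]; exact ⟨o₀, rfl⟩
    rw [← heq] at h1
    have h1' : I.subschemeι o₀ ∈ (Z₁ : Set Y) := h1
    rw [hZ₁] at h1'
    obtain ⟨p, hp, hpe⟩ := h1'
    have := I.subschemeι.isClosedEmbedding.injective hpe
    rw [this] at hp
    exact hp ho₀
  have hlt : Z₁ < Z := lt_of_le_of_ne hZ₁le hZ₁ne
  have hc₁ : IsCompact (f ⁻¹' (Z₁ : Set Y)) := ih Z₁ hlt
  have hc₂ : IsCompact (q '' (g ⁻¹' (O : Set ↥I.subscheme))) := hOc.image q.continuous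
  have hcl : IsClosed (f ⁻¹' (Z : Set Y)) := Z.isClosed.preimage f.continuous
  refine (hc₂.union hc₁).of_isClosed_subset hcl ?_
  intro w hwZ
  rw [← hrq] at hwZ
  obtain ⟨p, rfl⟩ := hwZ
  by_cases hp : g p ∈ O
  · exact Or.inl ⟨p, hp, rfl⟩
  · right
    change f (q p) ∈ (Z₁ : Set Y)
    rw [hZ₁, ← Scheme.Hom.comp_apply, hw, Scheme.Hom.comp_apply]
    exact ⟨g p, hp, rfl⟩

/-- **An étale separated morphism with finite fibres to a Noetherian scheme has quasi-compact
source.** -/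
theorem compactSpace_of_etale_separated_finite_fibres (f : W ⟶ Y) [IsNoetherian Y] [Etale f]
    [IsSeparated f] (hfin : ∀ y : Y, (f ⁻¹' {y}).Finite) : CompactSpace ↥W := by
  have h := isCompact_preimage_closeds f hfin ⊤
  rw [Closeds.coe_top, Set.preimage_univ] at h
  exact isCompact_univ_iff.mp h

end Groth.Agent.Helper2.EtSepQc
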