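import Mathlib
import Groth.Agent.Lib.Helper2.Ring.ResFieldFactor

/-!
# Local factorization of a morphism from a reduced scheme through a field-valued point (helper2)
-/

set_option autoImplicit false

universe u

open CategoryTheory CategoryTheory.Limits AlgebraicGeometry

namespace Groth.Agent.Helper2.ResFieldFactor

/-- Let `h : T ⟶ U` be a morphism from a reduced scheme to a locally Noetherian scheme whose
image lies in a set `E` of points without specialization relations.  Then Zariski locally on `T`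
the morphism factors through the spectrum of a field. -/
theorem exists_local_factor {T U : Scheme.{u}} [IsReduced T] [IsLocallyNoetherian U] (h : T ⟶ U)
    (E : Set U) (hE : ∀ u ∈ E, ∀ u' ∈ E, u ⤳ u' → u = u') (hh : ∀ t, h t ∈ E) (t : T) :
    ∃ (W : Scheme.{u}) (w : W ⟶ T) (_ : IsOpenImmersion w) (_ : t ∈ Set.range w)
      (K : Type u) (_ : Field K) (φ : W ⟶ Spec (CommRingCat.of K))
      (j : Spec (CommRingCat.of K) ⟶ U), w ≫ h = φ ≫ j := by
  obtain ⟨U₀, hU₀, hxU₀, -⟩ :=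
    exists_isAffineOpen_mem_and_subset (x := h t) (U := (⊤ : U.Opens)) trivial
  obtain ⟨T₁, hT₁, htT₁, hle⟩ :=
    exists_isAffineOpen_mem_and_subset (x := t) (U := h ⁻¹ᵁ U₀) hxU₀
  have hNoeth : IsNoetherianRing Γ(U, U₀) := IsLocallyNoetherian.component_noetherian ⟨U₀, hU₀⟩
  have hRed : IsReduced Γ(T, T₁) := inferInstance
  have hcomm : Spec.map (h.appLE U₀ T₁ hle) ≫ hU₀.fromSpec = hT₁.fromSpec ≫ h :=
    IsAffineOpen.SpecMap_appLE_fromSpec h hU₀ hT₁ hle
  obtain ⟨ψ, hψdef⟩ : ∃ ψ : Γ(U, U₀) →+* Γ(T, T₁), ψ = (h.appLE U₀ T₁ hle).hom := ⟨_, rfl⟩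
  let E' : Set (PrimeSpectrum Γ(U, U₀)) := hU₀.fromSpec ⁻¹' E
  have hE' : ∀ p ∈ E', ∀ p' ∈ E', p.asIdeal ≤ p'.asIdeal → p = p' := by
    intro p hp p' hp' hle'
    have hsp : p ⤳ p' := (PrimeSpectrum.le_iff_specializes p p').1 hle'
    have hsp' : hU₀.fromSpec p ⤳ hU₀.fromSpec p' := hsp.map hU₀.fromSpec.continuous
    have := hE _ hp _ hp' hsp'
    exact hU₀.fromSpec.isOpenEmbedding.injective this
  have hψ : ∀ q : PrimeSpectrum Γ(T, T₁), PrimeSpectrum.comap ψ q ∈ E' := by
    intro q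
    change hU₀.fromSpec (PrimeSpectrum.comap ψ q) ∈ E
    have h1 : hU₀.fromSpec (PrimeSpectrum.comap ψ q) =
        (Spec.map (h.appLE U₀ T₁ hle) ≫ hU₀.fromSpec) q := by
      rw [hψdef]; rfl
    rw [h1, hcomm]
    exact hh _
  obtain ⟨s, hs, θ, hθ⟩ := exists_factor ψ E' hE' hψ (hT₁.primeIdealOf ⟨t, htT₁⟩)
  refine ⟨Spec (CommRingCat.of (Localization.Away s)),
    Spec.map (CommRingCat.ofHom (algebraMap Γ(T, T₁) (Localization.Away s))) ≫ hT₁.fromSpec,
    inferInstance, ?_, _, inferInstance, Spec.map (CommRingCat.ofHom θ),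
    Spec.map (CommRingCat.ofHom (algebraMap Γ(U, U₀) _)) ≫ hU₀.fromSpec, ?_⟩
  · have hr : hT₁.primeIdealOf ⟨t, htT₁⟩ ∈ Set.range
        (PrimeSpectrum.comap (algebraMap Γ(T, T₁) (Localization.Away s))) := by
      rw [PrimeSpectrum.localization_away_comap_range (Localization.Away s) s]
      exact hs
    obtain ⟨y, hy⟩ := hr
    refine ⟨y, ?_⟩
    rw [Scheme.Hom.comp_apply]
    have : (Spec.map (CommRingCat.ofHom (algebraMap Γ(T, T₁) (Localization.Away s)))) y =
        hT₁.primeIdealOf ⟨t, htT₁⟩ := hy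
    rw [this]
    exact hT₁.fromSpec_primeIdealOf ⟨t, htT₁⟩
  · rw [Category.assoc, ← hcomm, ← Category.assoc, ← Category.assoc, ← Spec.map_comp,
      ← Spec.map_comp]
    congr 2
    ext a
    have := congrArg (fun f => f a) hθ
    simp only [RingHom.comp_apply] at this
    change algebraMap _ _ (h.appLE U₀ T₁ hle a) = θ (algebraMap _ _ a)
    rw [this, hψdef]

/-- The data of a local factorization of a morphism through the spectrum of a field. -/
structure LocalFactor {T U : Scheme.{u}} (h : T ⟶ U) (t : T) where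
  W : Scheme.{u}
  w : W ⟶ T
  isOpenImmersion : IsOpenImmersion w
  mem : t ∈ Set.range w
  K : Type u
  [field : Field K]
  φ : W ⟶ Spec (CommRingCat.of K)
  j : Spec (CommRingCat.of K) ⟶ U
  comm : w ≫ h = φ ≫ j

attribute [instance] LocalFactor.field LocalFactor.isOpenImmersion

theorem nonempty_localFactor {T U : Scheme.{u}} [IsReduced T] [IsLocallyNoetherian U] (h : T ⟶ U)
    (E : Set U) (hE : ∀ u ∈ E, ∀ u' ∈ E, u ⤳ u' → u = u') (hh : ∀ t, h t ∈ E) (t : T) :
    Nonempty (LocalFactor h t) := by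
  obtain ⟨W, w, h1, h2, K, _, φ, j, h3⟩ := exists_local_factor h E hE hh t
  exact ⟨⟨W, w, h1, h2, K, φ, j, h3⟩⟩

end Groth.Agent.Helper2.ResFieldFactor
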