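import Mathlib
import Groth.Prelude.Def_CInt
import Groth.Agent.Lib.Helper2.Alg.DenseFree

set_option autoImplicit false
set_option backward.isDefEq.respectTransparency false
set_option linter.style.haveILetI false
universe u
open CategoryTheory CategoryTheory.Limits AlgebraicGeometry Opposite TopologicalSpace

/-!
# Etale pullback of scheme theoretically dense opens (helper2)
-/

namespace Groth.Agent.Helper2.SchDenseEtale
open Groth.Agent.Helper2.DenseFree

theorem exists_standardEtale_nbhd {A B : Scheme.{u}} (p : A ⟶ B) [Etale p] (y : A) (V' : A.Opens)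
    (hy : y ∈ V') :
    ∃ (N : B.Opens) (_ : IsAffineOpen N) (N' : A.Opens) (_ : IsAffineOpen N')
      (e : N' ≤ p ⁻¹ᵁ N), y ∈ N' ∧ N' ≤ V' ∧
        @Algebra.IsStandardEtale Γ(B, N) Γ(A, N') _ _ (p.appLE N N' e).hom.toAlgebra := by
  obtain ⟨_, ⟨N, hN, rfl⟩, hxN, -⟩ :=
    B.isBasis_affineOpens.exists_subset_of_mem_open (Set.mem_univ (p y)) isOpen_univ
  obtain ⟨_, ⟨V, hV, rfl⟩, hyV, hVle⟩ :=
    A.isBasis_affineOpens.exists_subset_of_mem_open (show y ∈ (p ⁻¹ᵁ N) ⊓ V' from ⟨hxN, hy⟩)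
      ((p ⁻¹ᵁ N) ⊓ V').isOpen
  have hVN : V ≤ p ⁻¹ᵁ N := fun z hz => (hVle hz).1
  have hVV' : V ≤ V' := fun z hz => (hVle hz).2
  have het := p.etale_appLE hN hV hVN
  algebraize [(p.appLE N V hVN).hom]
  have : Algebra.IsEtaleAt Γ(B, N) (hV.primeIdealOf ⟨y, hyV⟩).asIdeal := by
    have h1 : Algebra.etaleLocus Γ(B, N) Γ(A, V) = Set.univ :=
      Algebra.etaleLocus_eq_univ_iff.mpr inferInstance
    have h2 : hV.primeIdealOf ⟨y, hyV⟩ ∈ Algebra.etaleLocus Γ(B, N) Γ(A, V) := h1 ▸ Set.mem_univ _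
    exact h2
  obtain ⟨r, hrx, hr⟩ := Algebra.IsEtaleAt.exists_isStandardEtale (R := Γ(B, N))
    (hV.primeIdealOf ⟨y, hyV⟩).asIdeal
  refine ⟨N, hN, A.basicOpen r, hV.basicOpen r, (A.basicOpen_le r).trans hVN, ?_,
    (A.basicOpen_le r).trans hVV', ?_⟩
  · rwa [← PrimeSpectrum.mem_basicOpen, IsAffineOpen.primeIdealOf,
      ← hV.fromSpec_preimage_basicOpen, Scheme.Hom.mem_preimage, ← Scheme.Hom.comp_apply,
      IsAffineOpen.isoSpec_hom, IsAffineOpen.toSpecΓ_fromSpec] at hrx
  · letI : Algebra Γ(B, N) Γ(A, A.basicOpen r) :=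
      (p.appLE N (A.basicOpen r) ((A.basicOpen_le r).trans hVN)).hom.toAlgebra
    have hst : IsScalarTower Γ(B, N) Γ(A, V) Γ(A, A.basicOpen r) := by
      refine IsScalarTower.of_algebraMap_eq' ?_
      ext x
      simp only [RingHom.algebraMap_toAlgebra, RingHom.comp_apply]
      rw [← CommRingCat.comp_apply, Scheme.Hom.appLE_map]
    have := hV.isLocalization_basicOpen r
    exact Algebra.IsStandardEtale.of_equiv ((IsLocalization.algEquiv (.powers r)
      (Localization.Away r) Γ(A, A.basicOpen r)).restrictScalars Γ(B, N))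

theorem res_eq_zero_of_pow_mul_eq_zero {B : Scheme.{u}} {N : B.Opens} (f t : Γ(B, N)) (m : ℕ)
    (h : f ^ m * t = 0) : B.presheaf.map (homOfLE (B.basicOpen_le f)).op t = 0 := by
  have hu : IsUnit (B.presheaf.map (homOfLE (B.basicOpen_le f)).op f) :=
    RingedSpace.isUnit_res_basicOpen B.toRingedSpace f
  have h1 := congrArg (B.presheaf.map (homOfLE (B.basicOpen_le f)).op) h
  rw [map_mul, map_pow, map_zero] at h1
  exact (hu.pow m).mul_right_eq_zero.mp h1

theorem denseAt_of_isSchematicallyDense {B : Scheme.{u}} (W : B.Opens)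
    (hW : CInt.IsSchematicallyDense W) (N : B.Opens) (hN : IsAffineOpen N) :
    DenseAt {a : Γ(B, N) | B.basicOpen a ≤ W} := by
  intro r t ht
  have h0 : B.presheaf.map (homOfLE (B.basicOpen_le r)).op t = 0 := by
    apply hW (B.basicOpen r)
    rw [map_zero]
    have hloc : ∀ z : ↥(B.basicOpen r ⊓ W), ∃ (M : B.Opens) (hM : M ≤ B.basicOpen r ⊓ W),
        z.1 ∈ M ∧ B.presheaf.map (homOfLE hM).op
          (B.presheaf.map (homOfLE (inf_le_left : B.basicOpen r ⊓ W ≤ B.basicOpen r)).op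
            (B.presheaf.map (homOfLE (B.basicOpen_le r)).op t)) = 0 := by
      intro z
      obtain ⟨a, haW, hza⟩ := hN.exists_basicOpen_le (V := W) ⟨z.1, z.2.2⟩
        (B.basicOpen_le r z.2.1)
      obtain ⟨m, hm⟩ := ht a haW
      have hle : B.basicOpen (r * a) ≤ B.basicOpen r ⊓ W := by
        rw [Scheme.basicOpen_mul]
        exact inf_le_inf le_rfl haW
      refine ⟨B.basicOpen (r * a), hle, ?_, ?_⟩
      · rw [Scheme.basicOpen_mul]
        exact ⟨z.2.1, hza⟩
      · have h1 := res_eq_zero_of_pow_mul_eq_zero (r * a) t m hm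
        rw [← h1]
        show (B.presheaf.map _ ≫ B.presheaf.map _ ≫ B.presheaf.map _) t = _
        rw [← B.presheaf.map_comp, ← B.presheaf.map_comp]
        rfl
    choose M hM hzM h0 using hloc
    apply B.sheaf.eq_of_locally_eq' M _ (fun z => homOfLE (hM z)) (fun z hz => by
      rw [Opens.mem_iSup]
      exact ⟨⟨z, hz⟩, hzM ⟨z, hz⟩⟩)
    intro z
    exact (h0 z).trans (map_zero (B.presheaf.map (homOfLE (hM z)).op).hom).symm
  exact exists_pow_mul_eq_zero_of_res_basicOpen_eq_zero_of_isAffineOpen B hN t r h0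

/-- Scheme theoretic density (in the strong sense) of an open is preserved by pullback along an
etale morphism, without any quasi-compactness assumption. -/
theorem isSchematicallyDense_preimage_of_etale {A B : Scheme.{u}} (p : A ⟶ B) [Etale p]
    (W : B.Opens) (hW : CInt.IsSchematicallyDense W) : CInt.IsSchematicallyDense (p ⁻¹ᵁ W) := by
  intro V'
  rw [injective_iff_map_eq_zero]
  intro s hs
  have hloc : ∀ y : ↥V', ∃ (N' : A.Opens) (hN' : N' ≤ V'), y.1 ∈ N' ∧
      A.presheaf.map (homOfLE hN').op s = 0 := by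
    intro y
    obtain ⟨N, hN, N', hN'a, e, hyN', hN'V', hst⟩ := exists_standardEtale_nbhd p y.1 V' y.2
    refine ⟨N', hN'V', hyN', ?_⟩
    letI := (p.appLE N N' e).hom.toAlgebra
    haveI := hst
    apply eq_zero_of_isStandardEtale {a : Γ(B, N) | B.basicOpen a ≤ W}
      (denseAt_of_isSchematicallyDense W hW N hN)
    intro a ha
    have hb : A.basicOpen (p.appLE N N' e a) = N' ⊓ p ⁻¹ᵁ (B.basicOpen a) :=
      Scheme.basicOpen_appLE p N' N e a
    have hle : A.basicOpen (p.appLE N N' e a) ≤ V' ⊓ p ⁻¹ᵁ W := by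
      rw [hb]
      exact inf_le_inf hN'V' (fun z hz => ha hz)
    have hres : A.presheaf.map (homOfLE (A.basicOpen_le (p.appLE N N' e a))).op
        (A.presheaf.map (homOfLE hN'V').op s) = 0 := by
      have h1 := congrArg (A.presheaf.map (homOfLE hle).op) hs
      rw [map_zero] at h1
      rw [← h1]
      show (A.presheaf.map _ ≫ A.presheaf.map _) s = (A.presheaf.map _ ≫ A.presheaf.map _) s
      rw [← A.presheaf.map_comp, ← A.presheaf.map_comp]
      rfl
    obtain ⟨m, hm⟩ := exists_pow_mul_eq_zero_of_res_basicOpen_eq_zero_of_isAffineOpen A hN'a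
      _ _ hres
    exact ⟨m, hm⟩
  choose N' hN' hyN' h0 using hloc
  apply A.sheaf.eq_of_locally_eq' N' V' (fun y => homOfLE (hN' y)) (fun y hy => by
    rw [Opens.mem_iSup]
    exact ⟨⟨y, hy⟩, hyN' ⟨y, hy⟩⟩)
  intro y
  exact (h0 y).trans (map_zero (A.presheaf.map (homOfLE (hN' y)).op).hom).symm

end Groth.Agent.Helper2.SchDenseEtale
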