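import Mathlib
import Groth.Prelude.Def_CInt
import Groth.Agent.Lib.Helper2.Sch.Reduced
import Groth.Agent.Lib.Helper2.Sch.SchDenseEtale

/-!
# Descent of scheme theoretic density along flat surjective morphisms (helper2)
-/

set_option autoImplicit false
set_option backward.isDefEq.respectTransparency false
set_option linter.style.haveILetI false
universe u
open CategoryTheory CategoryTheory.Limits AlgebraicGeometry Opposite TopologicalSpace

namespace Groth.Agent.Helper2.SchDenseEtale

/-- Pullback of functions on any open along a flat surjective morphism is injective. -/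
theorem app_injective_of_flat_of_surjective {W' W : Scheme.{u}} (r : W' ⟶ W) [Flat r]
    [Surjective r] (U : W.Opens) : Function.Injective (r.app U).hom := by
  rw [injective_iff_map_eq_zero]
  intro s hs
  apply TopCat.Presheaf.section_ext W.sheaf U
  intro y hy
  obtain ⟨x, rfl⟩ := r.surjective y
  apply Groth.Agent.Helper2.SchLib.stalkMap_injective_of_flat r x
  rw [map_zero, map_zero]
  have h1 := Scheme.Hom.germ_stalkMap_apply r U x hy s
  refine h1.trans ?_
  show (W'.presheaf.germ (r ⁻¹ᵁ U) x hy).hom ((r.app U).hom s) = 0
  rw [hs, map_zero]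

/-- Scheme theoretic density descends along flat surjective morphisms. -/
theorem isSchematicallyDense_of_preimage {T V : Scheme.{u}} (q : T ⟶ V) [Flat q] [Surjective q]
    (W : V.Opens) (h : CInt.IsSchematicallyDense (q ⁻¹ᵁ W)) : CInt.IsSchematicallyDense W := by
  intro V'
  rw [injective_iff_map_eq_zero]
  intro s hs
  apply app_injective_of_flat_of_surjective q V'
  rw [map_zero]
  apply h (q ⁻¹ᵁ V')
  rw [map_zero]
  have hnat := q.naturality (homOfLE (inf_le_left : V' ⊓ W ≤ V')).op
  have h1 : (V.presheaf.map (homOfLE (inf_le_left : V' ⊓ W ≤ V')).op ≫ q.app (V' ⊓ W)) s = 0 := by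
    rw [CommRingCat.comp_apply, hs, map_zero]
  rw [hnat, CommRingCat.comp_apply] at h1
  exact h1

end Groth.Agent.Helper2.SchDenseEtale
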