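import Mathlib

/-!
# Formally unramified morphisms and thickenings of the base (helper2)
-/

set_option autoImplicit false
universe u
open TensorProduct CategoryTheory AlgebraicGeometry MorphismProperty

namespace Groth.Agent.Helper2.UnrThick

theorem formallyUnramified_of_nil_quotient {R S A B : Type u} [CommRing R] [CommRing S]
    [CommRing A] [CommRing B] [Algebra R S] [Algebra R A] [Algebra R B] [Algebra S B] [Algebra A B]
    [IsScalarTower R S B] [IsScalarTower R A B] [Algebra.IsPushout R S A B]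
    [Algebra.FiniteType R A]
    (hsurj : Function.Surjective (algebraMap R S))
    (hnil : RingHom.ker (algebraMap R S) ≤ nilradical R) [Algebra.FormallyUnramified S B] :
    Algebra.FormallyUnramified R A := by
  constructor
  set I := RingHom.ker (algebraMap R S) with hI
  -- `S ⊗ Ω = 0`
  have h1 : Subsingleton (S ⊗[R] Ω[A⁄R]) :=
    (KaehlerDifferential.tensorKaehlerEquivBase R S A B).toEquiv.subsingleton
  -- `(R ⧸ I) ⊗ Ω = 0`
  let e : (R ⧸ I) ≃ₐ[R] S := Ideal.quotientKerAlgEquivOfSurjective (f := Algebra.ofId R S) hsurj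
  have h2 : Subsingleton ((R ⧸ I) ⊗[R] Ω[A⁄R]) :=
    (TensorProduct.congr e.toLinearEquiv (LinearEquiv.refl R Ω[A⁄R])).toEquiv.subsingleton
  have h3 : Subsingleton (Ω[A⁄R] ⧸ (I • (⊤ : Submodule R Ω[A⁄R]))) :=
    (TensorProduct.quotTensorEquivQuotSMul Ω[A⁄R] I).symm.toEquiv.subsingleton
  have h4 : I • (⊤ : Submodule R Ω[A⁄R]) = ⊤ := Submodule.Quotient.subsingleton_iff.mp h3
  have h5 : (⊤ : Submodule A Ω[A⁄R]) ≤ (I.map (algebraMap R A)) • (⊤ : Submodule A Ω[A⁄R]) := by
    intro m _
    have hm : m ∈ I • (⊤ : Submodule R Ω[A⁄R]) := by rw [h4]; trivial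
    refine Submodule.smul_induction_on hm ?_ ?_
    · intro r hr n _
      rw [← algebraMap_smul A r n]
      exact Submodule.smul_mem_smul (Ideal.mem_map_of_mem _ hr) trivial
    · intro x y hx hy
      exact add_mem hx hy
  have h6 : I.map (algebraMap R A) ≤ Ideal.jacobson ⊥ := by
    rw [Ideal.jacobson_bot]
    refine le_trans ?_ (nilradical_le_jacobson A)
    rw [Ideal.map_le_iff_le_comap]
    intro r hr
    have := hnil hr
    rw [Ideal.mem_comap]
    exact IsNilpotent.map this (algebraMap R A)
  have h7 : (⊤ : Submodule A Ω[A⁄R]) = ⊥ :=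
    Submodule.eq_bot_of_le_smul_of_le_jacobson_bot _ _ Module.Finite.fg_top h5 h6
  exact (Submodule.subsingleton_iff A).mp (subsingleton_of_bot_eq_top h7.symm)



open CategoryTheory.Limits

theorem ker_le_nilradical_of_surjective_comap {R S : Type u} [CommRing R] [CommRing S]
    (φ : R →+* S) (h : Function.Surjective (PrimeSpectrum.comap φ)) :
    RingHom.ker φ ≤ nilradical R := by
  intro r hr
  rw [nilradical_eq_sInf, Ideal.mem_sInf]
  intro p hp
  obtain ⟨q, hq⟩ := h ⟨p, hp⟩
  have : p = q.asIdeal.comap φ := congrArg PrimeSpectrum.asIdeal hq.symm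
  rw [this, Ideal.mem_comap, (RingHom.mem_ker).1 hr]
  exact Ideal.zero_mem _

/-- The affine case. -/
theorem formallyUnramified_of_thickening_affine {U U' V V' : Scheme.{u}} (h' : U' ⟶ V')
    (t : V ⟶ V') (h : U ⟶ V) (s : U ⟶ U') (sq : IsPullback s h h' t) [IsAffine U'] [IsAffine V']
    [LocallyOfFiniteType h'] [IsClosedImmersion t] [Surjective t] [FormallyUnramified h] :
    FormallyUnramified h' := by
  have hV : IsAffine V := isAffine_of_isAffineHom t
  have hU : IsAffine U := .of_isPullback sq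
  have po := isPushout_appTop_of_isPullback sq
  rw [HasRingHomProperty.iff_of_isAffine (P := @FormallyUnramified)]
  have hfu : RingHom.FormallyUnramified h.appTop.hom :=
    (HasRingHomProperty.iff_of_isAffine (P := @FormallyUnramified)).1 inferInstance
  have hft : RingHom.FiniteType h'.appTop.hom :=
    (HasRingHomProperty.iff_of_isAffine (P := @LocallyOfFiniteType)).1 inferInstance
  have hts : Function.Surjective t.appTop.hom :=
    (IsClosedImmersion.isAffine_surjective_of_isAffine (f := t)).2
  let _ : Algebra Γ(V', ⊤) Γ(U', ⊤) := h'.appTop.hom.toAlgebra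
  let _ : Algebra Γ(V', ⊤) Γ(V, ⊤) := t.appTop.hom.toAlgebra
  let _ : Algebra Γ(U', ⊤) Γ(U, ⊤) := s.appTop.hom.toAlgebra
  let _ : Algebra Γ(V, ⊤) Γ(U, ⊤) := h.appTop.hom.toAlgebra
  let _ : Algebra Γ(V', ⊤) Γ(U, ⊤) := (s.appTop.hom.comp h'.appTop.hom).toAlgebra
  have : IsScalarTower Γ(V', ⊤) Γ(U', ⊤) Γ(U, ⊤) := .of_algebraMap_eq' rfl
  have : IsScalarTower Γ(V', ⊤) Γ(V, ⊤) Γ(U, ⊤) := .of_algebraMap_eq' (by
    have := congrArg CommRingCat.Hom.hom po.w
    exact this)
  have : Algebra.IsPushout Γ(V', ⊤) Γ(U', ⊤) Γ(V, ⊤) Γ(U, ⊤) :=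
    CommRingCat.isPushout_iff_isPushout.mp po
  have : Algebra.IsPushout Γ(V', ⊤) Γ(V, ⊤) Γ(U', ⊤) Γ(U, ⊤) := Algebra.IsPushout.symm inferInstance
  have : Algebra.FiniteType Γ(V', ⊤) Γ(U', ⊤) := hft
  have : Algebra.FormallyUnramified Γ(V, ⊤) Γ(U, ⊤) := hfu
  have hnil : RingHom.ker (algebraMap Γ(V', ⊤) Γ(V, ⊤)) ≤ nilradical Γ(V', ⊤) := by
    apply ker_le_nilradical_of_surjective_comap
    have e : Spec.map t.appTop = V.isoSpec.inv ≫ t ≫ V'.isoSpec.hom := by
      rw [← Scheme.isoSpec_hom_naturality, Iso.inv_hom_id_assoc]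
    have hs : Surjective (Spec.map t.appTop) := by rw [e]; infer_instance
    exact hs.surj
  exact formallyUnramified_of_nil_quotient (S := Γ(V, ⊤)) (B := Γ(U, ⊤)) hts hnil

/-- Restriction of the thickened square to compatible monomorphisms into source and target. -/
theorem formallyUnramified_restrict {U U' V V' U₀ V₀ : Scheme.{u}} (h' : U' ⟶ V')
    (t : V ⟶ V') (h : U ⟶ V) (s : U ⟶ U') (sq : IsPullback s h h' t) (a : U₀ ⟶ U') (b : V₀ ⟶ V')
    (h₀ : U₀ ⟶ V₀) (comm : a ≫ h' = h₀ ≫ b) [Mono a] [Mono b] [FormallyUnramified h] :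
    FormallyUnramified (pullback.snd h₀ (pullback.snd t b)) := by
  have hw : (pullback.fst h₀ (pullback.snd t b) ≫ a) ≫ h' =
      (pullback.snd h₀ (pullback.snd t b) ≫ pullback.fst t b) ≫ t := by
    rw [Category.assoc, comm, ← Category.assoc, pullback.condition, Category.assoc,
      Category.assoc, pullback.condition]
  let m : pullback h₀ (pullback.snd t b) ⟶ U := sq.lift _ _ hw
  have hm1 : m ≫ s = pullback.fst h₀ (pullback.snd t b) ≫ a := sq.lift_fst _ _ hw
  have hm2 : m ≫ h = pullback.snd h₀ (pullback.snd t b) ≫ pullback.fst t b :=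
    sq.lift_snd _ _ hw
  have hmono : Mono m := by
    refine ⟨fun {T} x y hxy => ?_⟩
    apply pullback.hom_ext
    · rw [← cancel_mono a, Category.assoc, Category.assoc, ← hm1, ← Category.assoc,
        ← Category.assoc, hxy]
    · rw [← cancel_mono (pullback.fst t b), Category.assoc, Category.assoc, ← hm2,
        ← Category.assoc, ← Category.assoc, hxy]
  have h1 : FormallyUnramified m := inferInstance
  have h2 : FormallyUnramified (pullback.snd h₀ (pullback.snd t b) ≫ pullback.fst t b) := by
    rw [← hm2]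
    exact MorphismProperty.comp_mem (@FormallyUnramified) m h h1 inferInstance
  exact FormallyUnramified.of_comp _ (pullback.fst t b)

/-- The case of an affine target. -/
theorem formallyUnramified_of_thickening_affineTarget {U U' V V' : Scheme.{u}} (h' : U' ⟶ V')
    (t : V ⟶ V') (h : U ⟶ V) (s : U ⟶ U') (sq : IsPullback s h h' t) [IsAffine V']
    [LocallyOfFiniteType h'] [IsClosedImmersion t] [Surjective t] [FormallyUnramified h] :
    FormallyUnramified h' := by
  rw [IsZariskiLocalAtSource.iff_of_openCover (P := @FormallyUnramified) U'.affineCover]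
  intro i
  have key := formallyUnramified_restrict h' t h s sq (U'.affineCover.f i) (𝟙 V')
    (U'.affineCover.f i ≫ h') (by rw [Category.comp_id])
  exact formallyUnramified_of_thickening_affine (U'.affineCover.f i ≫ h')
    (pullback.snd t (𝟙 V')) _ _ (IsPullback.of_hasPullback _ _)

theorem formallyUnramified_of_thickening {U U' V V' : Scheme.{u}} (h' : U' ⟶ V')
    (t : V ⟶ V') (h : U ⟶ V) (s : U ⟶ U') (sq : IsPullback s h h' t)
    [LocallyOfFiniteType h'] [IsClosedImmersion t] [Surjective t] [FormallyUnramified h] :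
    FormallyUnramified h' := by
  rw [IsZariskiLocalAtTarget.iff_of_openCover (P := @FormallyUnramified) V'.affineCover]
  intro i
  have key := formallyUnramified_restrict h' t h s sq (pullback.fst h' (V'.affineCover.f i))
    (V'.affineCover.f i) (pullback.snd h' (V'.affineCover.f i)) pullback.condition
  exact formallyUnramified_of_thickening_affineTarget (pullback.snd h' (V'.affineCover.f i))
    (pullback.snd t (V'.affineCover.f i)) _ _ (IsPullback.of_hasPullback _ _)

end Groth.Agent.Helper2.UnrThick
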