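import Mathlib
import Groth.Agent.Lib.Helper2.Sch.LftThickRing

/-!
# Finite type along finite order thickenings: schemes, the affine case (helper2)
-/

set_option autoImplicit false
universe u
open TensorProduct CategoryTheory CategoryTheory.Limits AlgebraicGeometry MorphismProperty

namespace Groth.Agent.Helper2.LftThick

/-- The affine case: a cartesian square with `t` a closed immersion, `s` of nilpotent kernel. -/
theorem locallyOfFiniteType_of_finThick_affine {U U' V V' : Scheme.{u}} (h' : U' ⟶ V')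
    (t : V ⟶ V') (h : U ⟶ V) (s : U ⟶ U') (sq : IsPullback s h h' t) [IsAffine U'] [IsAffine V']
    [IsClosedImmersion t] (n : ℕ) (hpow : s.ker ^ (n + 1) = ⊥) [LocallyOfFiniteType h] :
    LocallyOfFiniteType h' := by
  have hV : IsAffine V := isAffine_of_isAffineHom t
  have hU : IsAffine U := .of_isPullback sq
  have hs : IsClosedImmersion s := MorphismProperty.of_isPullback sq.flip inferInstance
  have po := isPushout_appTop_of_isPullback sq
  rw [HasRingHomProperty.iff_of_isAffine (P := @LocallyOfFiniteType)]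
  have hft : RingHom.FiniteType h.appTop.hom :=
    (HasRingHomProperty.iff_of_isAffine (P := @LocallyOfFiniteType)).1 inferInstance
  have hts : Function.Surjective t.appTop.hom :=
    (IsClosedImmersion.isAffine_surjective_of_isAffine (f := t)).2
  have hker : RingHom.ker s.appTop.hom ^ (n + 1) = ⊥ := by
    have h1 := congrArg (fun I => I.ideal ⟨⊤, isAffineOpen_top U'⟩) hpow
    simp only [Scheme.IdealSheafData.ideal_pow, Pi.pow_apply, Scheme.Hom.ker_apply,
      Scheme.IdealSheafData.ideal_bot, Pi.bot_apply] at h1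
    exact h1
  let _ : Algebra Γ(V', ⊤) Γ(U', ⊤) := h'.appTop.hom.toAlgebra
  let _ : Algebra Γ(V', ⊤) Γ(V, ⊤) := t.appTop.hom.toAlgebra
  let _ : Algebra Γ(U', ⊤) Γ(U, ⊤) := s.appTop.hom.toAlgebra
  let _ : Algebra Γ(V, ⊤) Γ(U, ⊤) := h.appTop.hom.toAlgebra
  let _ : Algebra Γ(V', ⊤) Γ(U, ⊤) := (s.appTop.hom.comp h'.appTop.hom).toAlgebra
  have : IsScalarTower Γ(V', ⊤) Γ(U', ⊤) Γ(U, ⊤) := .of_algebraMap_eq' rfl
  have : IsScalarTower Γ(V', ⊤) Γ(V, ⊤) Γ(U, ⊤) := .of_algebraMap_eq' (by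
    have := congrArg CommRingCat.Hom.hom po.w
    exact this)
  have : Algebra.IsPushout Γ(V', ⊤) Γ(U', ⊤) Γ(V, ⊤) Γ(U, ⊤) :=
    CommRingCat.isPushout_iff_isPushout.mp po
  have : Algebra.IsPushout Γ(V', ⊤) Γ(V, ⊤) Γ(U', ⊤) Γ(U, ⊤) := Algebra.IsPushout.symm inferInstance
  have : Algebra.FiniteType Γ(V, ⊤) Γ(U, ⊤) := hft
  exact finiteType_of_pow_ker (S := Γ(V, ⊤)) (B := Γ(U, ⊤)) hts n hker

end Groth.Agent.Helper2.LftThick
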