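import Mathlib
import Groth.Agent.Lib.Helper2.Sch.LftThickRing
import Groth.Agent.Lib.Helper2.Sch.UnrThick

/-!
# Finite type along thickenings of finite presentation: schemes, the affine case (helper2)
-/

set_option autoImplicit false
universe u
open TensorProduct CategoryTheory CategoryTheory.Limits AlgebraicGeometry MorphismProperty

namespace Groth.Agent.Helper2.LftThick

theorem finiteType_of_pow_ker_base {R S A B : Type u} [CommRing R] [CommRing S]
    [CommRing A] [CommRing B] [Algebra R S] [Algebra R A] [Algebra R B] [Algebra S B] [Algebra A B]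
    [IsScalarTower R S B] [IsScalarTower R A B] [Algebra.IsPushout R S A B]
    (hsurj : Function.Surjective (algebraMap R S)) (n : ℕ)
    (hpow : RingHom.ker (algebraMap R S) ^ (n + 1) = ⊥) [Algebra.FiniteType S B] :
    Algebra.FiniteType R A := by
  obtain ⟨hK, -⟩ := ker_eq_map_and_surjective (R := R) (S := S) (A := A) (B := B) hsurj
  refine finiteType_of_pow_ker (S := S) (B := B) hsurj n ?_
  rw [hK, ← Ideal.map_pow, hpow, Ideal.map_bot]

/-- A finitely generated ideal inside the nilradical has a vanishing power. -/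
theorem exists_pow_eq_bot_of_fg {R : Type u} [CommRing R] (I : Ideal R) (hfg : I.FG)
    (hnil : I ≤ nilradical R) : ∃ n : ℕ, I ^ (n + 1) = ⊥ := by
  obtain ⟨n, hn⟩ := (Ideal.FG.isNilpotent_iff_le_nilradical hfg).2 hnil
  refine ⟨n, ?_⟩
  rw [pow_succ, hn, Ideal.zero_eq_bot, Ideal.bot_mul]

/-- The affine case: a cartesian square with `t` a surjective closed immersion of finite
presentation. -/
theorem locallyOfFiniteType_of_thick_lfp_affine {U U' V V' : Scheme.{u}} (h' : U' ⟶ V')
    (t : V ⟶ V') (h : U ⟶ V) (s : U ⟶ U') (sq : IsPullback s h h' t) [IsAffine U'] [IsAffine V']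
    [IsClosedImmersion t] [Surjective t] [LocallyOfFinitePresentation t]
    [LocallyOfFiniteType h] : LocallyOfFiniteType h' := by
  have hV : IsAffine V := isAffine_of_isAffineHom t
  have hU : IsAffine U := .of_isPullback sq
  have po := isPushout_appTop_of_isPullback sq
  rw [HasRingHomProperty.iff_of_isAffine (P := @LocallyOfFiniteType)]
  have hft : RingHom.FiniteType h.appTop.hom :=
    (HasRingHomProperty.iff_of_isAffine (P := @LocallyOfFiniteType)).1 inferInstance
  have hfp : RingHom.FinitePresentation t.appTop.hom :=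
    (HasRingHomProperty.iff_of_isAffine (P := @LocallyOfFinitePresentation)).1 inferInstance
  have hts : Function.Surjective t.appTop.hom :=
    (IsClosedImmersion.isAffine_surjective_of_isAffine (f := t)).2
  let _ : Algebra Γ(V', ⊤) Γ(U', ⊤) := h'.appTop.hom.toAlgebra
  let _ : Algebra Γ(V', ⊤) Γ(V, ⊤) := t.appTop.hom.toAlgebra
  let _ : Algebra Γ(U', ⊤) Γ(U, ⊤) := s.appTop.hom.toAlgebra
  let _ : Algebra Γ(V, ⊤) Γ(U, ⊤) := h.appTop.hom.toAlgebra
  let _ : Algebra Γ(V', ⊤) Γ(U, ⊤) := (s.appTop.hom.comp h'.appTop.hom).toAlgebra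
  have : IsScalarTower Γ(V', ⊤) Γ(U', ⊤) Γ(U, ⊤) := .of_algebraMap_eq' rfl
  have : IsScalarTower Γ(V', ⊤) Γ(V, ⊤) Γ(U, ⊤) := .of_algebraMap_eq' (by
    have := congrArg CommRingCat.Hom.hom po.w
    exact this)
  have : Algebra.IsPushout Γ(V', ⊤) Γ(U', ⊤) Γ(V, ⊤) Γ(U, ⊤) :=
    CommRingCat.isPushout_iff_isPushout.mp po
  have : Algebra.IsPushout Γ(V', ⊤) Γ(V, ⊤) Γ(U', ⊤) Γ(U, ⊤) := Algebra.IsPushout.symm inferInstance
  have : Algebra.FiniteType Γ(V, ⊤) Γ(U, ⊤) := hft
  have : Algebra.FinitePresentation Γ(V', ⊤) Γ(V, ⊤) := hfp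
  have hnil : RingHom.ker (algebraMap Γ(V', ⊤) Γ(V, ⊤)) ≤ nilradical Γ(V', ⊤) := by
    apply Groth.Agent.Helper2.UnrThick.ker_le_nilradical_of_surjective_comap
    have e : Spec.map t.appTop = V.isoSpec.inv ≫ t ≫ V'.isoSpec.hom := by
      rw [← Scheme.isoSpec_hom_naturality, Iso.inv_hom_id_assoc]
    have hs : Surjective (Spec.map t.appTop) := by rw [e]; infer_instance
    exact hs.surj
  have hfg : (RingHom.ker (algebraMap Γ(V', ⊤) Γ(V, ⊤))).FG :=
    Algebra.FinitePresentation.ker_fG_of_surjective (Algebra.ofId Γ(V', ⊤) Γ(V, ⊤)) hts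
  obtain ⟨n, hn⟩ := exists_pow_eq_bot_of_fg _ hfg hnil
  exact finiteType_of_pow_ker_base (S := Γ(V, ⊤)) (B := Γ(U, ⊤)) hts n hn

end Groth.Agent.Helper2.LftThick
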