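import Mathlib
import Groth.Prelude.Def_AlgGrp
import Groth.Prelude.Def_NonAbH2
import Groth.Prelude.Def_AlgSp
import Groth.Agent.Lib.Helper2.AlgSp.QuotEff

/-!
# Checking equalities fppf-locally along a locally trivial morphism (helper2)
-/

set_option backward.isDefEq.respectTransparency.types false
set_option synthInstance.maxHeartbeats 400000
set_option autoImplicit false
set_option linter.unusedSectionVars false
set_option linter.style.haveILetI false
universe u
open CategoryTheory CategoryTheory.Limits AlgebraicGeometry TopologicalSpace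

namespace Groth.Agent.Helper2.LocTrivLift

variable {S : Scheme.{u}}

/-- The sieve on `Q` of morphisms lifting through `π : G ⟶ Q`. -/
def liftSieve {G Q : Over S} (π : G ⟶ Q) : Sieve Q where
  arrows := fun Z f => ∃ g₀ : Z ⟶ G, g₀ ≫ π = f
  downward_closed := by
    rintro Y Z f ⟨g₀, hg₀⟩ e
    exact ⟨e ≫ g₀, by rw [Category.assoc, hg₀]⟩

theorem liftSieve_mem {G Q : Over S} (π : G ⟶ Q)
    (hloc : NonAbH1.IsLocallyTrivialFor Scheme.fppfPrecoverage (Over.mk π.left : Over Q.left)) :
    liftSieve π ∈ AlgSp.J S Q := by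
  obtain ⟨R, hR, hsec⟩ := hloc
  rw [AlgSp.J_eq, GrothendieckTopology.mem_over_iff]
  refine GrothendieckTopology.superset_covering _ ?_
    (Precoverage.generate_mem_toGrothendieck hR)
  rintro Z f ⟨Y', e, f', hf', rfl⟩
  obtain ⟨s, hs⟩ := hsec f' hf'
  rw [Sieve.overEquiv_iff]
  have hs' : s ≫ π.left = f' := hs
  refine ⟨Over.homMk (e ≫ s) ?_, ?_⟩
  · change (e ≫ s) ≫ G.hom = (e ≫ f') ≫ Q.hom
    rw [← Over.w π, Category.assoc, Category.assoc, ← Category.assoc s, hs']
  · apply Over.OverMorphism.ext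
    change (e ≫ s) ≫ π.left = e ≫ f'
    rw [Category.assoc, hs']

/-- Equality of morphisms out of `T` can be checked after fppf-localizing so that a given point
of `Q` lifts along the locally trivial morphism `π`. -/
theorem hom_ext_of_isLocallyTrivialFor {G Q T Y : Over S} (π : G ⟶ Q)
    (hloc : NonAbH1.IsLocallyTrivialFor Scheme.fppfPrecoverage (Over.mk π.left : Over Q.left))
    (x : T ⟶ Q) (a b : T ⟶ Y)
    (hab : ∀ ⦃T' : Over S⦄ (f : T' ⟶ T) (g₀ : T' ⟶ G), g₀ ≫ π = f ≫ x → f ≫ a = f ≫ b) :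
    a = b := by
  have h1 : (liftSieve π).pullback x ∈ AlgSp.J S T :=
    (AlgSp.J S).pullback_stable x (liftSieve_mem π hloc)
  refine Groth.Agent.Helper2.QuotEff.hom_ext_sieve _ h1 a b ?_
  rintro T' f ⟨g₀, hg₀⟩
  exact hab f g₀ hg₀

end Groth.Agent.Helper2.LocTrivLift
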