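import Mathlib
import Groth.Agent.Lib.Helper8.SmallExt7

/-!
# Smoothness at a maximal ideal via lifting along small extensions of finite type (helper2)
-/

set_option autoImplicit false
set_option linter.style.haveILetI false

namespace Groth.Agent.Helper2.SmallExtFT

open IsLocalRing Groth.Agent.Helper8.SmallExt

universe u

/-- If `A/(t)` is of finite type over `R`, with `A` local and `t` killed by the maximal ideal,
then `A` is of finite type over `R`. -/
theorem finiteType_of_quotient_span {R A : Type u} [CommRing R] [CommRing A] [IsLocalRing A]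
    [Algebra R A] (t : A) (ht : ∀ a ∈ maximalIdeal A, a * t = 0) (htm : t ∈ maximalIdeal A)
    (hft : Algebra.FiniteType R (A ⧸ Ideal.span {t})) : Algebra.FiniteType R A := by
  classical
  obtain ⟨s, hs⟩ := hft.out
  -- lift generators
  have hsurj : Function.Surjective (Ideal.Quotient.mkₐ R (Ideal.span {t})) :=
    Ideal.Quotient.mkₐ_surjective R _
  choose l hl using hsurj
  let s' : Finset A := s.image l
  have himg : (Algebra.adjoin R (s' : Set A)).map (Ideal.Quotient.mkₐ R (Ideal.span {t})) = ⊤ := by
    rw [AlgHom.map_adjoin, ← hs]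
    congr 1
    ext x
    simp only [s', Finset.coe_image, Set.mem_image, Finset.mem_coe]
    constructor
    · rintro ⟨_, ⟨y, hy, rfl⟩, rfl⟩
      rw [hl]; exact hy
    · intro hx
      exact ⟨l x, ⟨x, hx, rfl⟩, hl x⟩
  have key : ∀ a : A, ∃ a₀ ∈ Algebra.adjoin R (s' : Set A), ∃ c : A, a - a₀ = c * t := by
    intro a
    have : Ideal.Quotient.mkₐ R (Ideal.span {t}) a ∈
        (Algebra.adjoin R (s' : Set A)).map (Ideal.Quotient.mkₐ R (Ideal.span {t})) := by
      rw [himg]; exact Algebra.mem_top
    obtain ⟨a₀, ha₀, he⟩ := this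
    refine ⟨a₀, ha₀, ?_⟩
    have h1 : Ideal.Quotient.mk (Ideal.span {t}) (a - a₀) = 0 := by
      rw [map_sub]
      have : Ideal.Quotient.mk (Ideal.span {t}) a₀ = Ideal.Quotient.mk (Ideal.span {t}) a := he
      rw [this, sub_self]
    rw [Ideal.Quotient.eq_zero_iff_mem, Ideal.mem_span_singleton'] at h1
    obtain ⟨c, hc⟩ := h1
    exact ⟨c, hc.symm⟩
  refine ⟨⟨insert t s', ?_⟩⟩
  rw [eq_top_iff]
  intro a _
  obtain ⟨a₀, ha₀, c, hc⟩ := key a
  obtain ⟨c₀, hc₀, c', hc'⟩ := key c
  have htt : t * t = 0 := ht t htm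
  have h2 : a = a₀ + c₀ * t := by
    have : c = c₀ + c' * t := by linear_combination hc'
    have h3 : a = a₀ + c * t := by linear_combination hc
    rw [h3, this]
    linear_combination c' * htt
  rw [h2]
  have hle : Algebra.adjoin R (s' : Set A) ≤ Algebra.adjoin R ((insert t s' : Finset A) : Set A) :=
    Algebra.adjoin_mono (by simp)
  have htmem : t ∈ Algebra.adjoin R ((insert t s' : Finset A) : Set A) :=
    Algebra.subset_adjoin (by simp)
  exact add_mem (hle ha₀) (mul_mem (hle hc₀) htmem)

section

variable {R S : Type u} [CommRing R] [IsNoetherianRing R] [CommRing S] [Algebra R S]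
  [Algebra.FiniteType R S] (q : Ideal S) [hq : q.IsMaximal]

/-- A map from `S` to an Artinian local ring, pulling the maximal ideal back to the maximal ideal
`q`, whose extension to `S_q` is surjective, is surjective. -/
theorem surjective_of_surjective_localization {B : Type u} [CommRing B] [IsLocalRing B]
    [IsArtinianRing B] [Algebra R B]
    (ψ : Localization.AtPrime q →ₐ[R] B) (hψ : Function.Surjective ψ) :
    Function.Surjective (ψ.comp (IsScalarTower.toAlgHom R S (Localization.AtPrime q))) := by
  set g : S →ₐ[R] B := ψ.comp (IsScalarTower.toAlgHom R S (Localization.AtPrime q)) with hg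
  have hgdef : ∀ s : S, g s = ψ (algebraMap S (Localization.AtPrime q) s) := fun s => rfl
  haveI hloc : IsLocalHom ψ.toRingHom := IsLocalHom.of_surjective ψ.toRingHom hψ
  have hgq : ∀ w ∈ q, g w ∈ maximalIdeal B := by
    intro w hw
    rw [hgdef]
    have h1 : algebraMap S (Localization.AtPrime q) w ∈ maximalIdeal (Localization.AtPrime q) := by
      rw [← IsLocalization.AtPrime.under_maximalIdeal (Localization.AtPrime q) q] at hw
      exact hw
    have : ψ.toRingHom (algebraMap S (Localization.AtPrime q) w) ∈ maximalIdeal B := by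
      rw [← IsLocalRing.maximalIdeal_comap ψ.toRingHom] at h1
      exact h1
    exact this
  obtain ⟨k, hk⟩ : ∃ k : ℕ, maximalIdeal B ^ k = ⊥ := by
    have := IsArtinianRing.isNilpotent_jacobson_bot (R := B)
    rw [IsLocalRing.jacobson_eq_maximalIdeal ⊥ bot_ne_top] at this
    exact this
  -- inverses of images of elements outside `q`
  have hinv : ∀ u : S, u ∉ q → ∃ s' : S, g u * g s' = 1 := by
    intro u hu
    obtain ⟨v, hv⟩ : ∃ v : S, u * v - 1 ∈ q := by
      have hfield : IsField (S ⧸ q) := (Ideal.Quotient.maximal_ideal_iff_isField_quotient q).mp hq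
      have hne : Ideal.Quotient.mk q u ≠ 0 := by
        rwa [Ne, Ideal.Quotient.eq_zero_iff_mem]
      obtain ⟨v', hv'⟩ := hfield.mul_inv_cancel hne
      obtain ⟨v, rfl⟩ := Ideal.Quotient.mk_surjective v'
      refine ⟨v, ?_⟩
      rw [← Ideal.Quotient.eq_zero_iff_mem, map_sub, map_mul, hv', map_one, sub_self]
    set w : S := u * v - 1 with hw
    have hnil : (-(g w)) ^ k = 0 := by
      have h1 : g w ∈ maximalIdeal B := hgq w hv
      have h2 : (g w) ^ k ∈ maximalIdeal B ^ k := Ideal.pow_mem_pow h1 k
      rw [hk, Ideal.mem_bot] at h2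
      rw [neg_pow, h2, mul_zero]
    refine ⟨v * ∑ i ∈ Finset.range k, (-w) ^ i, ?_⟩
    have h3 : g u * g v = 1 - (-(g w)) := by
      rw [← map_mul, hw, map_sub, map_one]; ring
    have h4 : g (∑ i ∈ Finset.range k, (-w) ^ i) = ∑ i ∈ Finset.range k, (-(g w)) ^ i := by
      rw [map_sum]
      refine Finset.sum_congr rfl fun i _ => ?_
      rw [map_pow, map_neg]
    rw [map_mul, ← mul_assoc, h3, h4, mul_comm, geom_sum_mul_neg, hnil, sub_zero]
  intro y
  obtain ⟨x, rfl⟩ := hψ y
  obtain ⟨s, u, rfl⟩ := IsLocalization.exists_mk'_eq q.primeCompl x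
  obtain ⟨s', hs'⟩ := hinv u u.2
  refine ⟨s * s', ?_⟩
  have h5 : ψ (IsLocalization.mk' (Localization.AtPrime q) s u) * g u = g s := by
    rw [hgdef, hgdef, ← map_mul, IsLocalization.mk'_spec]
  rw [map_mul, ← h5, mul_assoc, hs', mul_one]

/-- **Smoothness at a maximal ideal from lifting along small extensions of finite type.** -/
theorem isSmoothAt_of_forall_lift_ft
    (h : ∀ (A : Type u) [CommRing A] [IsLocalRing A] [IsArtinianRing A] [Algebra R A]
        [Algebra.FiniteType R A] (t : A) [IsLocalRing (A ⧸ Ideal.span {t})],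
        (∀ a ∈ maximalIdeal A, a * t = 0) →
        ∀ g : S →ₐ[R] A ⧸ Ideal.span {t},
          (maximalIdeal (A ⧸ Ideal.span {t})).comap g = q →
          ∃ g' : S →ₐ[R] A, (Ideal.Quotient.mkₐ R (Ideal.span {t})).comp g' = g) :
    Algebra.IsSmoothAt R q := by
  haveI : IsNoetherianRing S := Algebra.FiniteType.isNoetherianRing R S
  haveI : IsNoetherianRing (Localization.AtPrime q) :=
    IsLocalization.isNoetherianRing q.primeCompl _ inferInstance
  apply Groth.Agent.Helper8.AdicFS.isSmoothAt_of_isAdicFormallySmooth R S q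
  apply isAdicFormallySmooth_of_smallLift
  intro A _ _ _ _ J hJ hlen _ ψ hψ
  haveI hloc : IsLocalHom ψ.toRingHom := IsLocalHom.of_surjective ψ.toRingHom hψ
  obtain ⟨t, ht, htk⟩ := exists_generator_of_length_eq_one J hlen
  subst ht
  let g : S →ₐ[R] A ⧸ Ideal.span {t} :=
    ψ.comp (IsScalarTower.toAlgHom R S (Localization.AtPrime q))
  have hg : ∀ s : S, g s = ψ (algebraMap S (Localization.AtPrime q) s) := fun s => rfl
  have hgq : (maximalIdeal (A ⧸ Ideal.span {t})).comap g = q := by
    have h1 : (maximalIdeal (A ⧸ Ideal.span {t})).comap g =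
        ((maximalIdeal (A ⧸ Ideal.span {t})).comap ψ.toRingHom).comap
          (algebraMap S (Localization.AtPrime q)) := rfl
    rw [h1, IsLocalRing.maximalIdeal_comap ψ.toRingHom]
    exact IsLocalization.AtPrime.under_maximalIdeal (Localization.AtPrime q) q
  have hgs : Function.Surjective g := surjective_of_surjective_localization q ψ hψ
  have htm : t ∈ maximalIdeal A := by
    rw [IsLocalRing.mem_maximalIdeal]
    intro hu
    have h1 : Ideal.span {t} = ⊤ := Ideal.span_singleton_eq_top.2 hu
    have h2 : (1 : A ⧸ Ideal.span {t}) = 0 := by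
      rw [← map_one (Ideal.Quotient.mk (Ideal.span {t})), Ideal.Quotient.eq_zero_iff_mem, h1]
      exact Submodule.mem_top
    exact one_ne_zero h2
  haveI hft1 : Algebra.FiniteType R (A ⧸ Ideal.span {t}) := Algebra.FiniteType.of_surjective g hgs
  haveI hft : Algebra.FiniteType R A := finiteType_of_quotient_span t htk htm hft1
  obtain ⟨g', hg'⟩ := h A t htk g hgq
  have hg'' : ∀ s : S, Ideal.Quotient.mk (Ideal.span {t}) (g' s) = g s :=
    fun s => AlgHom.congr_fun hg' s
  haveI : IsLocalHom (Ideal.Quotient.mk (Ideal.span {t})) :=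
    IsLocalHom.of_surjective (Ideal.Quotient.mk (Ideal.span {t})) Ideal.Quotient.mk_surjective
  have hunit : ∀ y : q.primeCompl, IsUnit (g' y) := by
    intro y
    apply isUnit_of_map_unit (Ideal.Quotient.mk (Ideal.span {t}))
    rw [hg'', hg]
    exact (IsLocalization.map_units (Localization.AtPrime q) y).map ψ
  refine ⟨IsLocalization.liftAlgHom (M := q.primeCompl) (S := Localization.AtPrime q) hunit, ?_⟩
  apply IsLocalization.algHom_ext q.primeCompl
  apply AlgHom.ext
  intro s
  show Ideal.Quotient.mk (Ideal.span {t})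
      (IsLocalization.lift hunit (algebraMap S (Localization.AtPrime q) s)) =
    ψ (algebraMap S (Localization.AtPrime q) s)
  rw [IsLocalization.lift_eq]
  exact hg'' s

end

end Groth.Agent.Helper2.SmallExtFT
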