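import Mathlib
import Groth.Agent.Lib.Helper2.Sch.SmallExtFT

/-!
# Smoothness of morphisms of schemes via lifting along small extensions (helper2)
-/

set_option autoImplicit false
set_option linter.style.haveILetI false

namespace Groth.Agent.Helper2.SmallExtSch

open IsLocalRing AlgebraicGeometry CategoryTheory

universe u

theorem subsingleton_primeSpectrum (B : Type u) [CommRing B] [IsLocalRing B] [IsArtinianRing B] :
    Subsingleton (PrimeSpectrum B) := by
  refine ⟨fun p q => PrimeSpectrum.ext ?_⟩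
  have hp : p.asIdeal.IsMaximal := IsArtinianRing.isMaximal_of_isPrime p.asIdeal
  have hq : q.asIdeal.IsMaximal := IsArtinianRing.isMaximal_of_isPrime q.asIdeal
  rw [IsLocalRing.eq_maximalIdeal hp, IsLocalRing.eq_maximalIdeal hq]

/-- A morphism from the spectrum of an Artinian local ring whose point lands in an affine open
factors through it. -/
theorem exists_ringHom_of_hom_spec {X : Scheme.{u}} {V : X.Opens} (hV : IsAffineOpen V)
    (B : Type u) [CommRing B] [IsLocalRing B] [IsArtinianRing B]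
    (γ : Spec (CommRingCat.of B) ⟶ X) (p : ↥(Spec (CommRingCat.of B))) (h : γ p ∈ V) :
    ∃ ρ : Γ(X, V) ⟶ CommRingCat.of B, γ = Spec.map ρ ≫ hV.fromSpec := by
  haveI := subsingleton_primeSpectrum B
  have hr : Set.range γ ⊆ Set.range hV.fromSpec := by
    rintro _ ⟨p', rfl⟩
    rw [hV.range_fromSpec]
    have : p' = p := Subsingleton.elim (α := PrimeSpectrum B) _ _
    rw [this]; exact h
  let γ' := IsOpenImmersion.lift hV.fromSpec γ hr
  have hγ' : γ' ≫ hV.fromSpec = γ := IsOpenImmersion.lift_fac _ _ _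
  obtain ⟨ρ, hρ⟩ := Spec.map_surjective γ'
  exact ⟨ρ, by rw [hρ, hγ']⟩


/-- The lifting property along small extensions of Artinian local rings. -/
def LiftProp {X S : Scheme.{u}} (f : X ⟶ S) : Prop :=
  ∀ (B B' : Type u) [CommRing B] [CommRing B'] [IsArtinianRing B] [IsArtinianRing B']
      [IsLocalRing B] [IsLocalRing B'] (φ : B' →+* B) (ε : B'), Function.Surjective φ →
      RingHom.ker φ = Ideal.span {ε} → (∀ m ∈ IsLocalRing.maximalIdeal B', ε * m = 0) →
      ∀ (α : Spec (CommRingCat.of B) ⟶ X) (β : Spec (CommRingCat.of B') ⟶ S),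
        LocallyOfFiniteType β →
        Spec.map (CommRingCat.ofHom φ) ≫ β = α ≫ f →
        ∃ γ : Spec (CommRingCat.of B') ⟶ X,
          Spec.map (CommRingCat.ofHom φ) ≫ γ = α ∧ γ ≫ f = β

/-- The lifting property on affine charts. -/
theorem chart_lift {X S : Scheme.{u}} (f : X ⟶ S) (H : LiftProp f) {U : S.Opens}
    (hU : IsAffineOpen U) {V : X.Opens} (hV : IsAffineOpen V) (hVU : V ≤ f ⁻¹ᵁ U)
    (A : Type u) [CommRing A] [IsLocalRing A] [IsArtinianRing A] (r : Γ(S, U) →+* A)
    (hr : r.FiniteType) (t : A) [IsLocalRing (A ⧸ Ideal.span {t})]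
    (htk : ∀ a ∈ maximalIdeal A, a * t = 0) (g : Γ(X, V) →+* A ⧸ Ideal.span {t})
    (hcomp : g.comp (f.appLE U V hVU).hom = (Ideal.Quotient.mk (Ideal.span {t})).comp r) :
    ∃ g' : Γ(X, V) →+* A, (Ideal.Quotient.mk (Ideal.span {t})).comp g' = g ∧
      g'.comp (f.appLE U V hVU).hom = r := by
  let φ : A →+* A ⧸ Ideal.span {t} := Ideal.Quotient.mk (Ideal.span {t})
  let α : Spec (CommRingCat.of (A ⧸ Ideal.span {t})) ⟶ X :=
    Spec.map (CommRingCat.ofHom g) ≫ hV.fromSpec
  let β : Spec (CommRingCat.of A) ⟶ S := Spec.map (CommRingCat.ofHom r) ≫ hU.fromSpec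
  have hβ : LocallyOfFiniteType β := by
    have h1 : LocallyOfFiniteType (Spec.map (CommRingCat.ofHom r)) := by
      rw [HasRingHomProperty.Spec_iff (P := @LocallyOfFiniteType)]
      exact hr
    infer_instance
  have hcompat : Spec.map (CommRingCat.ofHom φ) ≫ β = α ≫ f := by
    show Spec.map (CommRingCat.ofHom φ) ≫ Spec.map (CommRingCat.ofHom r) ≫ hU.fromSpec =
      (Spec.map (CommRingCat.ofHom g) ≫ hV.fromSpec) ≫ f
    rw [Category.assoc, ← IsAffineOpen.SpecMap_appLE_fromSpec f hU hV hVU, ← Spec.map_comp_assoc,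
      ← Spec.map_comp_assoc]
    congr 2
    ext x
    exact (RingHom.congr_fun hcomp x).symm
  have hartB : IsArtinianRing (A ⧸ Ideal.span {t}) := inferInstance
  obtain ⟨γ, hγ1, hγ2⟩ := H (A ⧸ Ideal.span {t}) A φ t Ideal.Quotient.mk_surjective
    Ideal.mk_ker (fun m hm => by rw [mul_comm]; exact htk m hm) α β hβ hcompat
  -- the point
  let p₀ : ↥(Spec (CommRingCat.of (A ⧸ Ideal.span {t}))) := closedPoint (A ⧸ Ideal.span {t})
  have hpt : γ (Spec.map (CommRingCat.ofHom φ) p₀) ∈ V := by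
    rw [← Scheme.Hom.comp_apply, hγ1]
    show (Spec.map (CommRingCat.ofHom g) ≫ hV.fromSpec) p₀ ∈ V
    rw [Scheme.Hom.comp_apply]
    have : hV.fromSpec (Spec.map (CommRingCat.ofHom g) p₀) ∈ Set.range hV.fromSpec := ⟨_, rfl⟩
    rw [hV.range_fromSpec] at this
    exact this
  obtain ⟨ρ, hρ⟩ := exists_ringHom_of_hom_spec hV A γ _ hpt
  refine ⟨ρ.hom, ?_, ?_⟩
  · have h1 : Spec.map (CommRingCat.ofHom φ) ≫ Spec.map ρ ≫ hV.fromSpec =
        Spec.map (CommRingCat.ofHom g) ≫ hV.fromSpec := by rw [← hρ, hγ1]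
    rw [← Category.assoc, cancel_mono, ← Spec.map_comp] at h1
    have h2 := Spec.map_injective h1
    ext x
    have := congrArg (fun k => k.hom x) h2
    exact this
  · have h1 : Spec.map ρ ≫ Spec.map (f.appLE U V hVU) ≫ hU.fromSpec =
        Spec.map (CommRingCat.ofHom r) ≫ hU.fromSpec := by
      rw [IsAffineOpen.SpecMap_appLE_fromSpec f hU hV hVU, ← Category.assoc, ← hρ, hγ2]
    rw [← Category.assoc, cancel_mono, ← Spec.map_comp] at h1
    have h2 := Spec.map_injective h1
    ext x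
    have := congrArg (fun k => k.hom x) h2
    exact this


/-- The lifting property along small extensions implies smoothness. -/
theorem smooth_of_liftProp {X S : Scheme.{u}} (f : X ⟶ S) [IsLocallyNoetherian S]
    [LocallyOfFiniteType f] (H : LiftProp f) : Smooth f := by
  haveI : LocallyOfFinitePresentation f :=
    LocallyOfFinitePresentation.iff_locallyOfFiniteType.mpr inferInstance
  rw [← Scheme.Hom.smoothLocus_eq_top_iff, ← top_le_iff]
  rintro x -
  obtain ⟨_, ⟨U, hU, rfl⟩, hxU, -⟩ :=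
    S.isBasis_affineOpens.exists_subset_of_mem_open (Set.mem_univ (f x)) isOpen_univ
  obtain ⟨_, ⟨V, hV, rfl⟩, hxV, hVU⟩ :=
    X.isBasis_affineOpens.exists_subset_of_mem_open hxU (U.2.preimage f.continuous)
  have hft := f.finiteType_appLE hU hV hVU
  have hfp := f.finitePresentation_appLE hU hV hVU
  haveI : IsNoetherianRing Γ(S, U) := IsLocallyNoetherian.component_noetherian ⟨U, hU⟩
  algebraize [(f.appLE U V hVU).hom]
  rw [Scheme.Hom.mem_smoothLocus, formallySmooth_stalkMap_iff U hU V hV hVU hxV]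
  suffices h : Algebra.smoothLocus Γ(S, U) Γ(X, V) = Set.univ by rw [h]; trivial
  by_contra hne
  have hopen : IsOpen (Algebra.smoothLocus Γ(S, U) Γ(X, V)) := Algebra.isOpen_smoothLocus
  obtain ⟨I, hI⟩ := (PrimeSpectrum.isClosed_iff_zeroLocus_ideal _).mp hopen.isClosed_compl
  have hI_ne : I ≠ ⊤ := by
    intro h
    rw [h, Submodule.top_coe, PrimeSpectrum.zeroLocus_univ, Set.compl_empty_iff] at hI
    exact hne hI
  obtain ⟨m, hm, hIm⟩ := Ideal.exists_le_maximal I hI_ne
  have hmZ : (⟨m, hm.isPrime⟩ : PrimeSpectrum Γ(X, V)) ∈ (Algebra.smoothLocus Γ(S, U) Γ(X, V))ᶜ := by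
    rw [hI, PrimeSpectrum.mem_zeroLocus]
    exact hIm
  apply hmZ
  show Algebra.IsSmoothAt Γ(S, U) m
  apply Groth.Agent.Helper2.SmallExtFT.isSmoothAt_of_forall_lift_ft m
  intro A _ _ _ _ hftA t _ htk g hgq
  obtain ⟨g', h1, h2⟩ := chart_lift f H hU hV hVU A (algebraMap Γ(S, U) A)
    ((RingHom.finiteType_algebraMap).mpr hftA) t htk g.toRingHom (by
      ext r
      have := g.commutes r
      simpa [RingHom.algebraMap_toAlgebra] using this)
  refine ⟨⟨g', fun r => ?_⟩, ?_⟩
  · have := RingHom.congr_fun h2 r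
    simpa [RingHom.algebraMap_toAlgebra] using this
  · ext x
    exact RingHom.congr_fun h1 x

/-- A smooth morphism has the lifting property along small extensions. -/
theorem liftProp_of_smooth {X S : Scheme.{u}} (f : X ⟶ S) [Smooth f] : LiftProp f := by
  intro B B' _ _ _ _ _ _ φ ε hφ hker hε α β _ hcompat
  obtain ⟨b₀, hb₀⟩ : ∃ b₀ : ↥(Spec (CommRingCat.of B)), b₀ = closedPoint B := ⟨_, rfl⟩
  obtain ⟨_, ⟨U, hU, rfl⟩, hxU, -⟩ :=
    S.isBasis_affineOpens.exists_subset_of_mem_open (Set.mem_univ (f (α b₀))) isOpen_univ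
  obtain ⟨_, ⟨V, hV, rfl⟩, hxV, hVU⟩ :=
    X.isBasis_affineOpens.exists_subset_of_mem_open hxU (U.2.preimage f.continuous)
  obtain ⟨a, ha⟩ := exists_ringHom_of_hom_spec hV B α b₀ hxV
  have hβpt : β (Spec.map (CommRingCat.ofHom φ) b₀) ∈ U := by
    rw [← Scheme.Hom.comp_apply, hcompat, Scheme.Hom.comp_apply]; exact hxU
  obtain ⟨b, hb⟩ := exists_ringHom_of_hom_spec hU B' β _ hβpt
  have hring : f.appLE U V hVU ≫ a = b ≫ CommRingCat.ofHom φ := by
    have h1 : Spec.map (CommRingCat.ofHom φ) ≫ Spec.map b ≫ hU.fromSpec =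
        (Spec.map a ≫ hV.fromSpec) ≫ f := by rw [← hb, ← ha, hcompat]
    rw [Category.assoc, ← IsAffineOpen.SpecMap_appLE_fromSpec f hU hV hVU, ← Category.assoc,
      ← Category.assoc, cancel_mono, ← Spec.map_comp, ← Spec.map_comp] at h1
    exact (Spec.map_injective h1).symm
  have hsm := f.smooth_appLE hU hV hVU
  algebraize [(f.appLE U V hVU).hom]
  letI : Algebra Γ(S, U) B' := b.hom.toAlgebra
  letI : Algebra Γ(S, U) B := (φ.comp b.hom).toAlgebra
  let φA : B' →ₐ[Γ(S, U)] B := ⟨φ, fun r => rfl⟩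
  let aA : Γ(X, V) →ₐ[Γ(S, U)] B := ⟨a.hom, fun r => by
    have := congrArg (fun k => k.hom r) hring
    exact this⟩
  have hεm : ε ∈ maximalIdeal B' := by
    by_contra hne
    have hu : IsUnit ε := by
      by_contra h'
      exact hne ((IsLocalRing.mem_maximalIdeal _).mpr h')
    have h0 : φ ε = 0 := by
      rw [← RingHom.mem_ker, hker]; exact Ideal.subset_span rfl
    have := hu.map φ
    rw [h0] at this
    exact not_isUnit_zero this
  have hnil : IsNilpotent (RingHom.ker (φA : B' →+* B)) := by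
    refine ⟨2, ?_⟩
    show (RingHom.ker φ) ^ 2 = ⊥
    rw [hker, Ideal.span_singleton_pow, pow_two, hε ε hεm]
    simp
  haveI : Algebra.FormallySmooth Γ(S, U) Γ(X, V) := hsm.formallySmooth
  let g' : Γ(X, V) →ₐ[Γ(S, U)] B' := Algebra.FormallySmooth.liftOfSurjective aA φA hφ hnil
  have hg' : φA.comp g' = aA := Algebra.FormallySmooth.comp_liftOfSurjective aA φA hφ hnil
  refine ⟨Spec.map (CommRingCat.ofHom g'.toRingHom) ≫ hV.fromSpec, ?_, ?_⟩
  · rw [ha, ← Category.assoc, ← Spec.map_comp]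
    congr 2
    ext x
    exact AlgHom.congr_fun hg' x
  · rw [hb, Category.assoc, ← IsAffineOpen.SpecMap_appLE_fromSpec f hU hV hVU, ← Category.assoc,
      ← Spec.map_comp]
    congr 2
    ext r
    exact g'.commutes r

end Groth.Agent.Helper2.SmallExtSch
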