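import Mathlib
import Groth.Agent.Lib.Helper2.Sch.SmallExtSch
import Groth.Agent.Lib.Helper8.SmallExt7
import Groth.Agent.Lib.Helper4.StalkEtale1

/-!
# Smoothness at a point of a morphism of schemes via lifting along small extensions (helper2)
-/

set_option autoImplicit false
set_option linter.style.haveILetI false
set_option linter.unusedVariables false
set_option maxHeartbeats 1000000

namespace Groth.Agent.Helper2.SmallExtAt

open IsLocalRing AlgebraicGeometry CategoryTheory
open Groth.Agent.Helper2.SmallExtSch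

universe u

/-- The lifting property along small extensions of Artinian local rings, for maps sending the
closed point to `x`. -/
def LiftPropAt {X S : Scheme.{u}} (f : X ⟶ S) (x : X) : Prop :=
  ∀ (B B' : Type u) [CommRing B] [CommRing B'] [IsArtinianRing B] [IsArtinianRing B']
      [IsLocalRing B] [IsLocalRing B'] (φ : B' →+* B) (ε : B'), Function.Surjective φ →
      RingHom.ker φ = Ideal.span {ε} → (∀ m ∈ IsLocalRing.maximalIdeal B', m * ε = 0) →
      ∀ (α : Spec (CommRingCat.of B) ⟶ X) (β : Spec (CommRingCat.of B') ⟶ S),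
        α (closedPoint B : ↥(Spec (CommRingCat.of B))) = x →
        Spec.map (CommRingCat.ofHom φ) ≫ β = α ≫ f →
        ∃ γ : Spec (CommRingCat.of B') ⟶ X,
          Spec.map (CommRingCat.ofHom φ) ≫ γ = α ∧ γ ≫ f = β

/-- The pointed lifting property on affine charts. -/
theorem chart_lift_at {X S : Scheme.{u}} (f : X ⟶ S) (x : X) (H : LiftPropAt f x) {U : S.Opens}
    (hU : IsAffineOpen U) {V : X.Opens} (hV : IsAffineOpen V) (hVU : V ≤ f ⁻¹ᵁ U) (hxV : x ∈ V)
    (B' B : Type u) [CommRing B'] [CommRing B] [IsLocalRing B'] [IsLocalRing B]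
    [IsArtinianRing B'] [IsArtinianRing B] (φ : B' →+* B) (hφ : Function.Surjective φ) (t : B')
    (hker : RingHom.ker φ = Ideal.span {t}) (htk : ∀ a ∈ maximalIdeal B', a * t = 0)
    (r : Γ(S, U) →+* B') (g : Γ(X, V) →+* B)
    (hg : (maximalIdeal B).comap g = (hV.primeIdealOf ⟨x, hxV⟩).asIdeal)
    (hcomp : g.comp (f.appLE U V hVU).hom = φ.comp r) :
    ∃ g' : Γ(X, V) →+* B', φ.comp g' = g ∧ g'.comp (f.appLE U V hVU).hom = r := by
  obtain ⟨α, hα⟩ : ∃ α : Spec (CommRingCat.of B) ⟶ X,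
      α = Spec.map (CommRingCat.ofHom g) ≫ hV.fromSpec := ⟨_, rfl⟩
  obtain ⟨β, hβ⟩ : ∃ β : Spec (CommRingCat.of B') ⟶ S,
      β = Spec.map (CommRingCat.ofHom r) ≫ hU.fromSpec := ⟨_, rfl⟩
  have hcompat : Spec.map (CommRingCat.ofHom φ) ≫ β = α ≫ f := by
    rw [hα, hβ, Category.assoc, ← IsAffineOpen.SpecMap_appLE_fromSpec f hU hV hVU,
      ← Spec.map_comp_assoc, ← Spec.map_comp_assoc]
    congr 2
    ext y
    exact (RingHom.congr_fun hcomp y).symm
  have hαx : α (closedPoint B : ↥(Spec (CommRingCat.of B))) = x := by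
    rw [hα, Scheme.Hom.comp_apply]
    have h1 : Spec.map (CommRingCat.ofHom g) (closedPoint B : ↥(Spec (CommRingCat.of B))) =
        hV.primeIdealOf ⟨x, hxV⟩ := PrimeSpectrum.ext hg
    rw [h1, hV.fromSpec_primeIdealOf]
  obtain ⟨γ, hγ1, hγ2⟩ := H B B' φ t hφ hker htk α β hαx hcompat
  have hpt : γ (Spec.map (CommRingCat.ofHom φ) (closedPoint B : ↥(Spec (CommRingCat.of B)))) ∈
      V := by
    rw [← Scheme.Hom.comp_apply, hγ1, hαx]
    exact hxV
  obtain ⟨ρ, hρ⟩ := exists_ringHom_of_hom_spec hV B' γ _ hpt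
  refine ⟨ρ.hom, ?_, ?_⟩
  · have h1 : Spec.map (CommRingCat.ofHom φ) ≫ Spec.map ρ ≫ hV.fromSpec =
        Spec.map (CommRingCat.ofHom g) ≫ hV.fromSpec := by rw [← hρ, hγ1, hα]
    rw [← Category.assoc, cancel_mono, ← Spec.map_comp] at h1
    have h2 := Spec.map_injective h1
    ext y
    have := congrArg (fun k => k.hom y) h2
    exact this
  · have h1 : Spec.map ρ ≫ Spec.map (f.appLE U V hVU) ≫ hU.fromSpec =
        Spec.map (CommRingCat.ofHom r) ≫ hU.fromSpec := by
      rw [IsAffineOpen.SpecMap_appLE_fromSpec f hU hV hVU, ← Category.assoc, ← hρ, hγ2, hβ]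
    rw [← Category.assoc, cancel_mono, ← Spec.map_comp] at h1
    have h2 := Spec.map_injective h1
    ext y
    have := congrArg (fun k => k.hom y) h2
    exact this

/-- The pointed lifting property along small extensions implies smoothness near the point. -/
theorem exists_smooth_nhd_of_liftPropAt {X S : Scheme.{u}} (f : X ⟶ S) [IsLocallyNoetherian S]
    [LocallyOfFiniteType f] (x : X) (H : LiftPropAt f x) :
    ∃ W : X.Opens, x ∈ W ∧ Smooth (W.ι ≫ f) := by
  haveI : LocallyOfFinitePresentation f :=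
    LocallyOfFinitePresentation.iff_locallyOfFiniteType.mpr inferInstance
  rw [Groth.Agent.Lib.Helper4.StalkEtale1.exists_smooth_nhd_iff]
  obtain ⟨_, ⟨U, hU, rfl⟩, hxU, -⟩ :=
    S.isBasis_affineOpens.exists_subset_of_mem_open (Set.mem_univ (f x)) isOpen_univ
  obtain ⟨_, ⟨V, hV, rfl⟩, hxV, hVU⟩ :=
    X.isBasis_affineOpens.exists_subset_of_mem_open hxU (U.2.preimage f.continuous)
  have hft := f.finiteType_appLE hU hV hVU
  haveI : IsNoetherianRing Γ(S, U) := IsLocallyNoetherian.component_noetherian ⟨U, hU⟩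
  algebraize [(f.appLE U V hVU).hom]
  rw [formallySmooth_stalkMap_iff U hU V hV hVU hxV]
  show Algebra.IsSmoothAt Γ(S, U) (hV.primeIdealOf ⟨x, hxV⟩).asIdeal
  apply Groth.Agent.Helper8.SmallExt.isSmoothAt_of_forall_lift
  intro B' B _ _ _ _ _ _ _ _ π hπ ht g hg
  obtain ⟨t, hker, hkill⟩ := ht
  obtain ⟨g', h1, h2⟩ := chart_lift_at f x H hU hV hVU hxV B' B π.toRingHom hπ t hker hkill
    (algebraMap Γ(S, U) B') g.toRingHom hg (by
      ext r
      have e1 := g.commutes r
      have e2 := π.commutes r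
      simp only [RingHom.algebraMap_toAlgebra] at e1
      show g ((f.appLE U V hVU).hom r) = π (algebraMap Γ(S, U) B' r)
      rw [e1, e2])
  refine ⟨⟨g', fun r => ?_⟩, ?_⟩
  · have := RingHom.congr_fun h2 r
    simpa [RingHom.algebraMap_toAlgebra] using this
  · ext y
    exact RingHom.congr_fun h1 y

end Groth.Agent.Helper2.SmallExtAt
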