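import Mathlib
import Groth.Prelude.Def_QuotSh
import Groth.Prelude.Def_AlgSp
import Groth.Agent.Lib.Helper2.AlgSp.QuotEff
import Groth.Agent.Lib.Helper2.Grpd.QuotFppf
import Groth.Agent.Lib.Helper4.GrpKer2

/-!
# A scheme representing an fppf quotient sheaf `U/R` has `R` as kernel pair (helper2)
-/

set_option backward.isDefEq.respectTransparency.types false
set_option synthInstance.maxHeartbeats 400000
set_option autoImplicit false
set_option linter.unusedSectionVars false
set_option linter.style.haveILetI false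
universe u
open CategoryTheory CategoryTheory.Limits AlgebraicGeometry Opposite AlgSp
open Groth.Agent.Helper2.AlgSpBasic Groth.Agent.Helper2.QuotEff

namespace Groth.Agent.Helper2.QuotKerPair

variable {S : Scheme.{u}} {R U Y : Over S} (s t : R ⟶ U)

/-- Mathlib's internal equivalence relations give the prelude's `IsEqvRel`. -/
theorem isEqvRel_of_isEquivalenceRelation [IsEquivalenceRelation s t] : AlgSp.IsEqvRel s t := by
  obtain ⟨e⟩ := (inferInstance : IsEquivalenceRelation s t).nonempty_equivalenceRelation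
  refine ⟨fun T r r' h1 h2 => e.right_cancellation r r' h2 h1, fun T => ⟨?_, ?_, ?_⟩⟩
  · intro a
    exact ⟨a ≫ e.r, by rw [Category.assoc, e.reflexivity₂, Category.comp_id],
      by rw [Category.assoc, e.reflexivity₁, Category.comp_id]⟩
  · rintro a b ⟨r, h1, h2⟩
    exact ⟨r ≫ e.s, by rw [Category.assoc, e.symmetry₂, h2],
      by rw [Category.assoc, e.symmetry₁, h1]⟩
  · rintro a b c ⟨r₁, h1, h2⟩ ⟨r₂, h3, h4⟩
    have hc : r₂ ≫ t = r₁ ≫ s := by rw [h3, h2]
    refine ⟨PullbackCone.IsLimit.lift e.isLimit r₂ r₁ hc ≫ e.t, ?_, ?_⟩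
    · rw [Category.assoc, e.transitivity₂, ← Category.assoc,
        PullbackCone.IsLimit.lift_snd, h1]
    · rw [Category.assoc, e.transitivity₁, ← Category.assoc,
        PullbackCone.IsLimit.lift_fst, h4]

variable {s t} (q : U ⟶ Y)

theorem quotπ_quotDesc (w : s ≫ q = t ≫ q) :
    QuotSh.quotπ Scheme.fppfPrecoverage s t ≫ QuotSh.quotDesc Scheme.fppfPrecoverage q w =
      QuotSh.repMap Scheme.fppfPrecoverage q := by
  unfold QuotSh.quotπ QuotSh.quotDesc
  exact coequalizer.π_desc _ _

theorem epi_repMap_of_isQuotient (hq : QuotSh.IsQuotient Scheme.fppfPrecoverage s t q) :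
    Epi (QuotSh.repMap Scheme.fppfPrecoverage q) := by
  obtain ⟨w, hiso⟩ := hq
  rw [← quotπ_quotDesc q w]
  infer_instance

/-- If `Y` represents the fppf quotient sheaf `U/R` of an equivalence relation, then `R` is the
kernel pair of `U ⟶ Y`. -/
theorem isPullback_of_isQuotient (h : AlgSp.IsEqvRel s t)
    (hq : QuotSh.IsQuotient Scheme.fppfPrecoverage s t q) : IsPullback s t q q := by
  obtain ⟨w, hiso⟩ := hq
  have key : qπ s t ≫ QuotSh.quotDesc Scheme.fppfPrecoverage q w =
      (yon S).map q ≫ (QuotSh.repIsoUliftYoneda Scheme.fppfPrecoverage Y).inv := by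
    unfold qπ
    rw [Category.assoc, quotπ_quotDesc, repIso_inv_repMap]
  refine Groth.Agent.Lib.Helper4.GrpKer2.isPullback_of_points _ _ _ _ w ?_ ?_
  · intro T a b hab
    have h1 : (yon S).map b ≫ qπ s t = (yon S).map a ≫ qπ s t := by
      apply (cancel_mono (QuotSh.quotDesc Scheme.fppfPrecoverage q w)).1
      calc ((yon S).map b ≫ qπ s t) ≫ QuotSh.quotDesc Scheme.fppfPrecoverage q w
          = (yon S).map b ≫ (qπ s t ≫ QuotSh.quotDesc Scheme.fppfPrecoverage q w) :=
            Category.assoc _ _ _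
        _ = (yon S).map b ≫ (yon S).map q ≫
              (QuotSh.repIsoUliftYoneda Scheme.fppfPrecoverage Y).inv := by rw [key]
        _ = (yon S).map a ≫ (yon S).map q ≫
              (QuotSh.repIsoUliftYoneda Scheme.fppfPrecoverage Y).inv := by
            rw [← Category.assoc, ← Functor.map_comp, ← hab, Functor.map_comp, Category.assoc]
        _ = (yon S).map a ≫ (qπ s t ≫ QuotSh.quotDesc Scheme.fppfPrecoverage q w) := by rw [key]
        _ = ((yon S).map a ≫ qπ s t) ≫ QuotSh.quotDesc Scheme.fppfPrecoverage q w :=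
            (Category.assoc _ _ _).symm
    obtain ⟨r, hr1, hr2⟩ := rel_of_qπ_eq s t h b a h1
    exact ⟨r, hr2, hr1⟩
  · intro T r r' h1 h2
    exact h.injective T r r' h2 h1

end Groth.Agent.Helper2.QuotKerPair
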