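import Mathlib
import Groth.Prelude.Def_CGrpSh

/-!
# Exactness of abelian sheaves on the big site gives local lifts (helper2)
-/

set_option autoImplicit false
set_option linter.unusedSectionVars false
set_option linter.style.haveILetI false
universe u
open CategoryTheory CategoryTheory.Limits AlgebraicGeometry Opposite

namespace Groth.Agent.Helper2.AbShExact

variable {S : Scheme.{u}} (K : Precoverage Scheme.{u})

theorem exists_sieve_of_exact (Sc : ShortComplex (BigSite.Ab K S)) (hS : Sc.Exact)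
    (T : (Over S)ᵒᵖ) (x : Sc.X₂.obj.obj T) (hx : Sc.g.hom.app T x = 0) :
    ∃ Sv : Sieve T.unop, Sv ∈ QuotSh.J K S T.unop ∧ ∀ ⦃T' : Over S⦄ (t : T' ⟶ T.unop), Sv t →
      ∃ y : Sc.X₁.obj.obj (op T'), Sc.f.hom.app (op T') y = Sc.X₂.obj.map t.op x := by
  let Kc : ShortComplex (BigSite.Ab K S) :=
    ShortComplex.mk (kernel.ι Sc.g) Sc.g (kernel.condition _)
  have hK : Kc.Exact := ShortComplex.exact_kernel Sc.g
  let F : BigSite.Ab K S ⥤ AddCommGrpCat.{u+1} :=
    sheafToPresheaf _ _ ⋙ (evaluation _ _).obj T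
  haveI : F.PreservesZeroMorphisms := ⟨fun _ _ => rfl⟩
  have hKF : (Kc.map F).Exact :=
    hK.map_of_mono_of_preservesKernel F (inferInstanceAs (Mono (kernel.ι Sc.g))) inferInstance
  obtain ⟨k, hk⟩ := (ShortComplex.ab_exact_iff _).1 hKF x hx
  haveI : Epi (kernel.lift Sc.g Sc.f Sc.zero) := hS.epi_kernelLift
  haveI : Sheaf.IsLocallySurjective (kernel.lift Sc.g Sc.f Sc.zero) :=
    (Sheaf.isLocallySurjective_iff_epi' (A := AddCommGrpCat.{u+1})
      (φ := kernel.lift Sc.g Sc.f Sc.zero)).mpr inferInstance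
  have h2 := (inferInstance : Presheaf.IsLocallySurjective (QuotSh.J K S)
    (kernel.lift Sc.g Sc.f Sc.zero).hom).imageSieve_mem (U := T.unop) k
  refine ⟨_, h2, ?_⟩
  rintro T' t ⟨y, hy⟩
  refine ⟨y, ?_⟩
  have e1 : Sc.f = kernel.lift Sc.g Sc.f Sc.zero ≫ kernel.ι Sc.g := (kernel.lift_ι _ _ _).symm
  have e2 : Sc.f.hom.app (op T') = (kernel.lift Sc.g Sc.f Sc.zero).hom.app (op T') ≫
      (kernel.ι Sc.g).hom.app (op T') := congrArg (fun z => z.hom.app (op T')) e1
  have e3 : (kernel Sc.g).obj.map t.op ≫ (kernel.ι Sc.g).hom.app (op T') =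
      (kernel.ι Sc.g).hom.app T ≫ Sc.X₂.obj.map t.op := (kernel.ι Sc.g).hom.naturality t.op
  have e4 : (kernel.ι Sc.g).hom.app T k = x := hk
  calc Sc.f.hom.app (op T') y
      = (kernel.ι Sc.g).hom.app (op T') ((kernel.lift Sc.g Sc.f Sc.zero).hom.app (op T') y) := by
        rw [e2]; rfl
    _ = (kernel.ι Sc.g).hom.app (op T') ((kernel Sc.g).obj.map t.op k) := by rw [hy]
    _ = ((kernel Sc.g).obj.map t.op ≫ (kernel.ι Sc.g).hom.app (op T')) k := rfl
    _ = Sc.X₂.obj.map t.op ((kernel.ι Sc.g).hom.app T k) := by rw [e3]; rfl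
    _ = _ := by rw [e4]

end Groth.Agent.Helper2.AbShExact
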