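import Mathlib
import Groth.Agent.Lib.Helper2.Sch.OrbitFlat
import Groth.Agent.Lib.Helper2.Sch.SubGrpMono
import Groth.Agent.Lib.Helper4.GrpKer2

/-!
# The stabilizer of a point: group structure and the torsor square (helper2)
-/

set_option autoImplicit false
set_option linter.unusedSectionVars false
set_option linter.style.haveILetI false
universe u
open CategoryTheory CategoryTheory.Limits
open MonoidalCategory CartesianMonoidalCategory MonObj GrpObj
open Groth.Agent.Helper2.Orbit

namespace Groth.Agent.Helper2.Stab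

section Cat

variable {C : Type*} [Category C] [CartesianMonoidalCategory C] {G X N : C} [GrpObj G]
  (act : G ⊗ X ⟶ X)
  (one_act : (η[G] ▷ X) ≫ act = (λ_ X).hom)
  (mul_act : (μ[G] ▷ X) ≫ act = (α_ G G X).hom ≫ (G ◁ act) ≫ act)
  (o : 𝟙_ C ⟶ X) (i : N ⟶ G)
  (h : IsPullback i (toUnit N) (orbit act o) o)

include mul_act in
lemma mul_orbit {T : C} (a b : T ⟶ G) :
    (a * b) ≫ orbit act o = lift a (b ≫ orbit act o) ≫ act := by
  rw [comp_orbit, Groth.Agent.Helper4.Act.mul_smul' act mul_act, ← comp_orbit]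

include one_act in
lemma one_orbit {T : C} : (1 : T ⟶ G) ≫ orbit act o = toUnit T ≫ o := by
  rw [comp_orbit, Groth.Agent.Helper4.Act.one_smul' act one_act]

include mul_act in
/-- if `b` fixes `o` then `a b` and `a` have the same image under the orbit map -/
lemma mul_orbit_of_fix {T : C} (a b : T ⟶ G) (hb : b ≫ orbit act o = toUnit T ≫ o) :
    (a * b) ≫ orbit act o = a ≫ orbit act o := by
  rw [mul_orbit act mul_act, hb, ← comp_orbit]

include h in
lemma comp_i_orbit {T : C} (n : T ⟶ N) : (n ≫ i) ≫ orbit act o = toUnit T ≫ o := by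
  rw [Category.assoc, h.w, ← Category.assoc]
  congr 1
  exact toUnit_unique _ _

include h in
lemma exists_lift_of_fix {T : C} (a : T ⟶ G) (ha : a ≫ orbit act o = toUnit T ≫ o) :
    ∃ n : T ⟶ N, n ≫ i = a :=
  ⟨h.lift a (toUnit T) ha, h.lift_fst _ _ _⟩

include h in
lemma mono_i : Mono i := by
  haveI : Mono o := by
    constructor
    intro Z a b _
    exact (toUnit_unique a (toUnit Z)).trans (toUnit_unique b (toUnit Z)).symm
  exact PullbackCone.mono_fst_of_is_pullback_of_mono h.isLimit

include one_act mul_act h in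
/-- The stabilizer is a subgroup: it carries a group structure making the inclusion a
homomorphism. -/
theorem exists_grpObj : ∃ (_ : GrpObj N), IsMonHom i := by
  haveI := mono_i act o i h
  -- unit
  obtain ⟨e, he⟩ := exists_lift_of_fix act o i h (η[G]) (by
    have := one_orbit act one_act o (T := 𝟙_ C)
    rw [Hom.one_def, toUnit_unique (toUnit (𝟙_ C)) (𝟙 _), Category.id_comp] at this
    rw [this, toUnit_unique (toUnit (𝟙_ C)) (𝟙 _)])
  -- multiplication
  obtain ⟨m, hm⟩ := exists_lift_of_fix act o i h ((i ⊗ₘ i) ≫ μ[G]) (by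
    have e1 : (i ⊗ₘ i) ≫ μ[G] = (fst N N ≫ i) * (snd N N ≫ i) := by
      rw [Hom.mul_def]
      congr 1
      apply CartesianMonoidalCategory.hom_ext <;> simp
    rw [e1, mul_orbit_of_fix act mul_act o _ _ (comp_i_orbit act o i h _),
      comp_i_orbit act o i h])
  -- inverse
  obtain ⟨v, hv⟩ := exists_lift_of_fix act o i h (i ≫ ι[G]) (by
    have e1 : i ≫ ι[G] = (𝟙 N ≫ i)⁻¹ := by
      rw [Hom.inv_def, Category.id_comp]
    have e2 : ((𝟙 N ≫ i)⁻¹ * (𝟙 N ≫ i)) ≫ orbit act o = (𝟙 N ≫ i)⁻¹ ≫ orbit act o :=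
      mul_orbit_of_fix act mul_act o _ _ (comp_i_orbit act o i h _)
    rw [inv_mul_cancel, one_orbit act one_act] at e2
    rw [e1, ← e2])
  exact ⟨Groth.Agent.Helper2.SubGrp.grpObjOfMono i e he m hm v hv,
    Groth.Agent.Helper2.SubGrp.isMonHom_of_mono i e he m hm⟩

include mul_act one_act h in
/-- The torsor square: `G × G_o ≅ G ×_X G` via `(g, n) ↦ (g, g n)`. -/
theorem isPullback_shear :
    IsPullback (fst G N) (fst G N * (snd G N ≫ i)) (orbit act o) (orbit act o) := by
  haveI := mono_i act o i h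
  refine Groth.Agent.Lib.Helper4.GrpKer2.isPullback_of_points _ _ _ _ ?_ ?_ ?_
  · exact (mul_orbit_of_fix act mul_act o _ _ (comp_i_orbit act o i h _)).symm
  · intro T a b hab
    have h1 : (a⁻¹ * b) ≫ orbit act o = toUnit T ≫ o := by
      rw [mul_orbit act mul_act, ← hab, ← mul_orbit act mul_act, inv_mul_cancel,
        one_orbit act one_act]
    obtain ⟨n, hn⟩ := exists_lift_of_fix act o i h _ h1
    refine ⟨lift a n, lift_fst _ _, ?_⟩
    rw [MonObj.comp_mul, lift_fst, lift_snd_assoc, hn, mul_inv_cancel_left]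
  · intro T s t h1 h2
    rw [MonObj.comp_mul, MonObj.comp_mul, h1] at h2
    have h3 := mul_left_cancel h2
    rw [← Category.assoc, ← Category.assoc, cancel_mono] at h3
    exact CartesianMonoidalCategory.hom_ext _ _ h1 h3

end Cat

end Groth.Agent.Helper2.Stab
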