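import Mathlib
import Groth.Prelude.Def_AlgGrp
import Groth.Agent.Lib.Helper2.Sch.Stabilizer

/-!
# Descent of morphisms along quotient maps (S8014, S8038) (helper2)
-/

set_option backward.isDefEq.respectTransparency.types false
set_option synthInstance.maxHeartbeats 400000
set_option autoImplicit false
set_option linter.unusedSectionVars false
set_option linter.style.haveILetI false
universe u
open CategoryTheory CategoryTheory.Limits AlgebraicGeometry TopologicalSpace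
open MonoidalCategory CartesianMonoidalCategory MonObj GrpObj
open Groth.Agent.Helper2.Orbit

namespace Groth.Agent.Helper2.QuotDesc

section Cat

variable {C : Type*} [Category C]

/-- Two effective epimorphisms with the same kernel relation have isomorphic targets. -/
theorem exists_iso_of_effectiveEpi {G Y Z : C} (e₁ : G ⟶ Y) (e₂ : G ⟶ Z) [EffectiveEpi e₁]
    [EffectiveEpi e₂]
    (h12 : ∀ {T : C} (g₁ g₂ : T ⟶ G), g₁ ≫ e₁ = g₂ ≫ e₁ → g₁ ≫ e₂ = g₂ ≫ e₂)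
    (h21 : ∀ {T : C} (g₁ g₂ : T ⟶ G), g₁ ≫ e₂ = g₂ ≫ e₂ → g₁ ≫ e₁ = g₂ ≫ e₁) :
    ∃ φ : Y ≅ Z, e₁ ≫ φ.hom = e₂ := by
  refine ⟨⟨EffectiveEpi.desc e₁ e₂ h12, EffectiveEpi.desc e₂ e₁ h21, ?_, ?_⟩,
    EffectiveEpi.fac e₁ e₂ h12⟩
  · rw [← cancel_epi e₁, EffectiveEpi.fac_assoc, EffectiveEpi.fac, Category.comp_id]
  · rw [← cancel_epi e₂, EffectiveEpi.fac_assoc, EffectiveEpi.fac, Category.comp_id]

end Cat

section Over

variable {S : Scheme.{u}} {G Y W : Over S}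

/-- Promote a kernel-relation statement over `S` to schemes. -/
theorem cond_left (q : G ⟶ Y) (e : G ⟶ W)
    (h : ∀ {T : Over S} (g₁ g₂ : T ⟶ G), g₁ ≫ q = g₂ ≫ q → g₁ ≫ e = g₂ ≫ e) :
    ∀ {Z : Scheme.{u}} (g₁ g₂ : Z ⟶ G.left), g₁ ≫ q.left = g₂ ≫ q.left →
      g₁ ≫ e.left = g₂ ≫ e.left := by
  intro Z g₁ g₂ hg
  have h2 : g₂ ≫ G.hom = g₁ ≫ G.hom := by
    rw [← Over.w q, ← Category.assoc, ← hg, Category.assoc]
  have := h (T := Over.mk (g₁ ≫ G.hom)) (Over.homMk g₁ rfl) (Over.homMk g₂ h2)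
    (Over.OverMorphism.ext hg)
  exact congrArg (fun z => z.left) this

/-- Descent of a morphism along an effective epimorphism, over a base. -/
theorem exists_desc_over (q : G ⟶ Y) [EffectiveEpi q.left] (e : G ⟶ W)
    (h : ∀ {T : Over S} (g₁ g₂ : T ⟶ G), g₁ ≫ q = g₂ ≫ q → g₁ ≫ e = g₂ ≫ e) :
    ∃ φ : Y ⟶ W, q ≫ φ = e := by
  have hcond : ∀ {Z : Scheme.{u}} (g₁ g₂ : Z ⟶ G.left), g₁ ≫ q.left = g₂ ≫ q.left →
      g₁ ≫ e.left = g₂ ≫ e.left := fun g₁ g₂ hg => cond_left q e h g₁ g₂ hg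
  have hfac : q.left ≫ EffectiveEpi.desc q.left e.left hcond = e.left :=
    EffectiveEpi.fac q.left e.left hcond
  have hw : EffectiveEpi.desc q.left e.left hcond ≫ W.hom = Y.hom := by
    rw [← cancel_epi q.left, ← Category.assoc, hfac, Over.w e, Over.w q]
  exact ⟨Over.homMk _ hw, Over.OverMorphism.ext hfac⟩

/-- Two effective epimorphisms over a base with the same kernel relation have isomorphic
targets. -/
theorem exists_iso_over {Z : Over S} (q : G ⟶ Y) (p : G ⟶ Z) [EffectiveEpi q.left]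
    [EffectiveEpi p.left]
    (h12 : ∀ {T : Over S} (g₁ g₂ : T ⟶ G), g₁ ≫ q = g₂ ≫ q → g₁ ≫ p = g₂ ≫ p)
    (h21 : ∀ {T : Over S} (g₁ g₂ : T ⟶ G), g₁ ≫ p = g₂ ≫ p → g₁ ≫ q = g₂ ≫ q) :
    ∃ φ : Y ≅ Z, q ≫ φ.hom = p := by
  obtain ⟨φ, hφ⟩ := exists_iso_of_effectiveEpi q.left p.left
    (fun g₁ g₂ hg => cond_left q p h12 g₁ g₂ hg) (fun g₁ g₂ hg => cond_left p q h21 g₁ g₂ hg)
  have hw : φ.hom ≫ Z.hom = Y.hom := by
    rw [← cancel_epi q.left, ← Category.assoc, hφ, Over.w p, Over.w q]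
  exact ⟨Over.isoMk φ hw, Over.OverMorphism.ext hφ⟩

end Over

section Kernel

variable {C : Type*} [Category C] [CartesianMonoidalCategory C] {G H Y : C} [GrpObj G]
  (i : H ⟶ G) (q : G ⟶ Y)
  (hq : IsPullback (fst G H) ((G ◁ i) ≫ μ[G]) q q)

include hq in
/-- The kernel relation of a quotient map by `H`. -/
theorem exists_of_comp_eq {T : C} (g₁ g₂ : T ⟶ G) (h : g₁ ≫ q = g₂ ≫ q) :
    ∃ n : T ⟶ H, g₂ = g₁ * (n ≫ i) := by
  obtain ⟨l, h1, h2⟩ : ∃ l : T ⟶ G ⊗ H, l ≫ fst G H = g₁ ∧ l ≫ (G ◁ i) ≫ μ[G] = g₂ :=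
    ⟨hq.lift g₁ g₂ h, hq.lift_fst _ _ _, hq.lift_snd _ _ _⟩
  refine ⟨l ≫ snd G H, ?_⟩
  rw [← h2, Hom.mul_def, ← h1, ← Category.assoc l]
  congr 1
  apply CartesianMonoidalCategory.hom_ext
  · rw [Category.assoc, whiskerLeft_fst, lift_fst]
  · rw [Category.assoc, whiskerLeft_snd, lift_snd, Category.assoc]

include hq in
theorem comp_eq_of_mul {T : C} (g : T ⟶ G) (n : T ⟶ H) : (g * (n ≫ i)) ≫ q = g ≫ q := by
  have e : g * (n ≫ i) = lift g n ≫ (G ◁ i) ≫ μ[G] := by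
    rw [Hom.mul_def, ← Category.assoc]
    congr 1
    apply CartesianMonoidalCategory.hom_ext
    · rw [Category.assoc, whiskerLeft_fst, lift_fst, lift_fst]
    · rw [Category.assoc, whiskerLeft_snd, lift_snd, lift_snd_assoc]
  have hw := hq.w
  rw [Category.assoc] at hw
  rw [e, Category.assoc, Category.assoc, ← hw, lift_fst_assoc]

end Kernel

end Groth.Agent.Helper2.QuotDesc
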