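import Mathlib
import Groth.Prelude.Def_AlgGrp
import Groth.Agent.Lib.Helper2.Sch.QuotientDesc
import Groth.Agent.Lib.Helper4.GrpKer2

/-!
# fppf-local lifting of points through monomorphisms (S8013, S8037, S8035) (helper2)
-/

set_option backward.isDefEq.respectTransparency.types false
set_option synthInstance.maxHeartbeats 400000
set_option autoImplicit false
set_option linter.unusedSectionVars false
set_option linter.style.haveILetI false
universe u
open CategoryTheory CategoryTheory.Limits AlgebraicGeometry TopologicalSpace
open MonoidalCategory CartesianMonoidalCategory MonObj GrpObj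
open Groth.Agent.Helper2.QuotDesc

namespace Groth.Agent.Helper2.FppfLift

variable {S : Scheme.{u}}

/-- A morphism between schemes locally of finite type over a locally noetherian base is locally
of finite presentation. -/
theorem lfp_left [IsLocallyNoetherian S] {X Y : Over S} (f : X ⟶ Y) [LocallyOfFiniteType X.hom]
    [LocallyOfFiniteType Y.hom] : LocallyOfFinitePresentation f.left := by
  haveI : LocallyOfFiniteType (f.left ≫ Y.hom) := by rw [Over.w]; infer_instance
  haveI : LocallyOfFiniteType f.left := locallyOfFiniteType_of_comp f.left Y.hom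
  haveI : IsLocallyNoetherian Y.left := LocallyOfFiniteType.isLocallyNoetherian Y.hom
  exact LocallyOfFinitePresentation.iff_locallyOfFiniteType.2 inferInstance

/-- fppf-local lifting along a flat surjective finitely presented morphism. -/
theorem exists_cover_lift {H Hb T : Over S} (p : H ⟶ Hb) [Flat p.left] [Surjective p.left]
    [LocallyOfFinitePresentation p.left] (b : T ⟶ Hb) :
    ∃ (T' : Over S) (π : T' ⟶ T) (h' : T' ⟶ H), Flat π.left ∧ Surjective π.left ∧
      LocallyOfFinitePresentation π.left ∧ h' ≫ p = π ≫ b := by
  have sq : IsPullback (pullback.fst b p) (pullback.snd b p) b p := IsPullback.of_hasPullback b p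
  have sq' := sq.map (Over.forget S)
  simp only [Over.forget_obj, Over.forget_map] at sq'
  refine ⟨pullback b p, pullback.fst b p, pullback.snd b p, ?_, ?_, ?_, sq.w.symm⟩
  · exact MorphismProperty.of_isPullback (P := @Flat) sq'.flip inferInstance
  · exact MorphismProperty.of_isPullback (P := @Surjective) sq'.flip inferInstance
  · exact MorphismProperty.of_isPullback (P := @LocallyOfFinitePresentation) sq'.flip
      inferInstance

/-- Descent of a lift through a monomorphism along an fppf cover. -/
theorem exists_lift_of_cover {A B T T' : Over S} (i : A ⟶ B) [Mono i] (g : T ⟶ B) (π : T' ⟶ T)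
    [Flat π.left] [Surjective π.left] [LocallyOfFinitePresentation π.left] (a' : T' ⟶ A)
    (h : a' ≫ i = π ≫ g) : ∃ a : T ⟶ A, a ≫ i = g := by
  haveI : EffectiveEpi π.left := inferInstance
  haveI : Epi π.left := inferInstance
  haveI : Epi π := Over.epi_of_epi_left π
  obtain ⟨φ, hφ⟩ := exists_desc_over π a' (by
    intro T'' g₁ g₂ hg
    rw [← cancel_mono i, Category.assoc, Category.assoc, h, ← Category.assoc, hg,
      Category.assoc])
  refine ⟨φ, ?_⟩
  rw [← cancel_epi π, ← Category.assoc, hφ, h]

/-- To lift a point `g` through a monomorphism `i`, it suffices to do so fppf-locally, after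
lifting an auxiliary point `b` along an fppf cover `p`. -/
theorem exists_lift_of_fppf_local {H Hb A B T : Over S} (p : H ⟶ Hb) [Flat p.left]
    [Surjective p.left] [LocallyOfFinitePresentation p.left] (i : A ⟶ B) [Mono i] (g : T ⟶ B)
    (b : T ⟶ Hb)
    (hloc : ∀ (T' : Over S) (π : T' ⟶ T) (h' : T' ⟶ H), h' ≫ p = π ≫ b →
      ∃ a' : T' ⟶ A, a' ≫ i = π ≫ g) : ∃ a : T ⟶ A, a ≫ i = g := by
  obtain ⟨T', π, h', h1, h2, h3, h4⟩ := exists_cover_lift p b
  obtain ⟨a', ha'⟩ := hloc T' π h' h4
  exact exists_lift_of_cover i g π a' ha'

/-- A group scheme over a base has surjective structure morphism. -/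
theorem surjective_hom_of_grpObj (N : Over S) [GrpObj N] : Surjective N.hom := by
  have h1 : η[N].left ≫ N.hom = 𝟙 S := by
    have := Over.w η[N]
    rw [this]; rfl
  have : Surjective (η[N].left ≫ N.hom) := by
    rw [h1]; exact ⟨fun x => ⟨x, rfl⟩⟩
  exact Surjective.of_comp η[N].left N.hom

end Groth.Agent.Helper2.FppfLift
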