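import Mathlib
import Groth.Prelude.Def_AlgGrp
import Groth.Prelude.Def_ChGrp
import Groth.Agent.Lib.Helper2.Sch.FppfCov
import Groth.Agent.Lib.Helper4.GrpKer2

/-!
# Equivariant maps of principal bundles are cartesian (helper2)

If `q : P ⟶ Q` and `q' : P' ⟶ Q'` are principal `H`-bundles (fppf covering, `H × P ≅ P ×_Q P`),
`f : P ⟶ P'` is equivariant and lies over `m : Q ⟶ Q'`, then `P = Q ×_{Q'} P'`.
-/

set_option backward.isDefEq.respectTransparency.types false
set_option synthInstance.maxHeartbeats 400000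
set_option autoImplicit false
set_option linter.unusedSectionVars false
set_option linter.style.haveILetI false
universe u
open CategoryTheory CategoryTheory.Limits AlgebraicGeometry TopologicalSpace
open MonoidalCategory CartesianMonoidalCategory MonObj GrpObj
open Groth.Agent.Helper2.FppfCov
open Groth.Agent.Lib.Helper4.GrpKer2

namespace Groth.Agent.Helper2.TorsorMap

variable {S : Scheme.{u}}

theorem over_isPullback_of_left {A B C D : Over S} (f : A ⟶ B) (g : A ⟶ C) (h : B ⟶ D) (i : C ⟶ D)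
    (H : IsPullback f.left g.left h.left i.left) : IsPullback f g h i :=
  IsPullback.of_map (Over.forget S) (Over.OverMorphism.ext H.w) H

section principal

variable {H P Q : Over S} [GrpObj H] (b : AlgGrp.Action H P) (q : P ⟶ Q)
  (pbq : IsPullback b.act (snd H P) q q)

include pbq in
/-- Two points with the same image differ by a unique point of `H`. -/
theorem exists_act_eq {T : Over S} (x y : T ⟶ P) (hxy : x ≫ q = y ≫ q) :
    ∃ h : T ⟶ H, lift h y ≫ b.act = x := by
  refine ⟨pbq.lift x y hxy ≫ fst H P, ?_⟩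
  have e : lift (pbq.lift x y hxy ≫ fst H P) y = pbq.lift x y hxy := by
    apply CartesianMonoidalCategory.hom_ext
    · rw [lift_fst]
    · rw [lift_snd, pbq.lift_snd]
  rw [e, pbq.lift_fst]

include pbq in
theorem act_comp {T : Over S} (h : T ⟶ H) (x : T ⟶ P) : (lift h x ≫ b.act) ≫ q = x ≫ q := by
  rw [Category.assoc, pbq.w, lift_snd_assoc]

include pbq in
/-- The action is free. -/
theorem eq_one_of_act_eq {T : Over S} (h : T ⟶ H) (x : T ⟶ P) (hx : lift h x ≫ b.act = x) :
    h = 1 := by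
  have e : lift h x = lift 1 x := by
    apply pbq.hom_ext
    · rw [hx, AlgGrp.Action.lift_one_act]
    · rw [lift_snd, lift_snd]
  have := congrArg (· ≫ fst H P) e
  simpa using this

end principal

variable {H P P' Q Q' : Over S} [GrpObj H]
  (b : AlgGrp.Action H P) (c : AlgGrp.Action H P')
  (q : P ⟶ Q) (hq : IsCov q) (pbq : IsPullback b.act (snd H P) q q)
  (q' : P' ⟶ Q') (pbq' : IsPullback c.act (snd H P') q' q')
  (f : P ⟶ P') (hf : b.act ≫ f = (H ◁ f) ≫ c.act)
  (m : Q ⟶ Q') (hm : q ≫ m = f ≫ q')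

include hf in
theorem act_comp_f {T : Over S} (h : T ⟶ H) (x : T ⟶ P) :
    (lift h x ≫ b.act) ≫ f = lift h (x ≫ f) ≫ c.act := by
  rw [Category.assoc, hf, lift_whiskerLeft_assoc]

include pbq pbq' hf in
theorem uniq {T : Over S} (w w' : T ⟶ P) (h1 : w ≫ f = w' ≫ f) (h2 : w ≫ q = w' ≫ q) :
    w = w' := by
  obtain ⟨h, hh⟩ := exists_act_eq b q pbq w w' h2
  have e1 : lift h (w' ≫ f) ≫ c.act = w' ≫ f := by
    rw [← act_comp_f b c f hf, hh, h1]
  have e2 := eq_one_of_act_eq c q' pbq' h (w' ≫ f) e1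
  rw [← hh, e2, AlgGrp.Action.lift_one_act]

include hq pbq pbq' hf hm in
/-- An equivariant map of principal bundles is cartesian. -/
theorem isPullback_of_equivariant : IsPullback f q q' m := by
  refine isPullback_of_points _ _ _ _ hm.symm ?_ ?_
  · intro T v u huv
    obtain ⟨T', ϖ, w₀, hϖ, hw₀⟩ := FppfCov.exists_lift q hq u
    haveI := hϖ.epi
    have e1 : (ϖ ≫ v) ≫ q' = (w₀ ≫ f) ≫ q' := by
      rw [Category.assoc, huv, Category.assoc, ← hm, ← Category.assoc w₀, hw₀, Category.assoc]
    obtain ⟨h, hh⟩ := exists_act_eq c q' pbq' _ _ e1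
    have e2 : (lift h w₀ ≫ b.act) ≫ f = ϖ ≫ v := by
      rw [act_comp_f b c f hf, hh]
    have e3 : (lift h w₀ ≫ b.act) ≫ q = ϖ ≫ u := by
      rw [act_comp b q pbq, hw₀]
    obtain ⟨w, hw⟩ := hϖ.exists_desc (lift h w₀ ≫ b.act) (by
      intro Z z₁ z₂ hz
      apply uniq b c q pbq q' pbq' f hf
      · rw [Category.assoc, e2, Category.assoc, e2, ← Category.assoc, hz, Category.assoc]
      · rw [Category.assoc, e3, Category.assoc, e3, ← Category.assoc, hz, Category.assoc])
    refine ⟨w, ?_, ?_⟩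
    · rw [← cancel_epi ϖ, ← Category.assoc, hw, e2]
    · rw [← cancel_epi ϖ, ← Category.assoc, hw, e3]
  · intro T s t h1 h2
    exact uniq b c q pbq q' pbq' f hf s t h1 h2

end Groth.Agent.Helper2.TorsorMap
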