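import Mathlib
import Groth.Prelude.Def_AlgGrp
import Groth.Prelude.Def_ChGrp
import Groth.Prelude.Def_W4bk4git07Quot
import Groth.Agent.Lib.Helper2.Sch.FppfCov
import Groth.Agent.Lib.Helper2.Sch.TorsorMap
import Groth.Agent.Lib.Helper2.Sch.OrbitFlat
import Groth.Agent.Lib.Helper4.GrpKer2

/-!
# Associated bundles `G ×^H X` (helper2)

Conversions from the `GIT.PsiY` form of a principal bundle, and the equivariance of
`G ◁ i : G × X ⟶ G × Y` for the twisted actions `h·(g, x) = (g h⁻¹, h x)`.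
-/

set_option backward.isDefEq.respectTransparency.types false
set_option synthInstance.maxHeartbeats 400000
set_option autoImplicit false
set_option linter.unusedSectionVars false
set_option linter.style.haveILetI false
universe u
open CategoryTheory CategoryTheory.Limits AlgebraicGeometry TopologicalSpace
open MonoidalCategory CartesianMonoidalCategory MonObj GrpObj
open Groth.Agent.Helper2.FppfCov Groth.Agent.Helper2.FppfLift Groth.Agent.Helper2.TorsorMap
open Groth.Agent.Lib.Helper4.GrpKer2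

namespace Groth.Agent.Helper2.AssocBundle

variable {S : Scheme.{u}}

/-- `PsiY` an isomorphism means `G × X = X ×_Y X`. -/
theorem isPullback_of_isIso_psiY {G X Y : Over S} [GrpObj G] (a : AlgGrp.Action G X) (φ : X ⟶ Y)
    (h : GIT.IsInvariant a φ) (hiso : IsIso (GIT.PsiY a φ h)) :
    IsPullback a.act (snd G X) φ φ := by
  apply over_isPullback_of_left
  refine IsPullback.of_iso_pullback ⟨h.left⟩ (asIso (GIT.PsiY a φ h)) ?_ ?_
  · exact pullback.lift_fst _ _ _
  · exact pullback.lift_snd _ _ _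

/-- A flat surjective morphism between schemes locally of finite type over a locally noetherian
base is an fppf covering. -/
theorem isCov_of_flat_surjective [IsLocallyNoetherian S] {X Y : Over S}
    [LocallyOfFiniteType X.hom] [LocallyOfFiniteType Y.hom] (φ : X ⟶ Y)
    (hs : Function.Surjective φ.left.base) (hf : Flat φ.left) : IsCov φ :=
  ⟨hf, ⟨hs⟩, lfp_left φ⟩

instance lft_tensor {X Y : Over S} [LocallyOfFiniteType X.hom] [LocallyOfFiniteType Y.hom] :
    LocallyOfFiniteType (X ⊗ Y).hom := by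
  rw [Over.tensorObj_hom]; infer_instance

theorem hom_ext_lift₃' {A B C W : Over S} {f g : A ⊗ (B ⊗ C) ⟶ W}
    (h : ∀ (T : Over S) (a : T ⟶ A) (b : T ⟶ B) (c : T ⟶ C),
      lift a (lift b c) ≫ f = lift a (lift b c) ≫ g) : f = g := by
  have e : lift (fst A (B ⊗ C)) (lift (snd A (B ⊗ C) ≫ fst B C) (snd A (B ⊗ C) ≫ snd B C)) =
      𝟙 (A ⊗ (B ⊗ C)) := by
    rw [← comp_lift, lift_fst_snd, Category.comp_id, lift_fst_snd]
  simpa [e] using h (A ⊗ (B ⊗ C)) (fst _ _) (snd _ _ ≫ fst B C) (snd _ _ ≫ snd B C)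

/-- `G ◁ i` is equivariant for the twisted actions on `G × X` and `G × Y`. -/
theorem whiskerLeft_equivariant {G H X Y : Over S} [GrpObj G] [GrpObj H] (j : H ⟶ G)
    (aX : AlgGrp.Action H X) (aY : AlgGrp.Action H Y) (i : X ⟶ Y)
    (hi : aX.act ≫ i = (H ◁ i) ≫ aY.act)
    (b : AlgGrp.Action H (G ⊗ X))
    (hb : ∀ (T : Over S) (h : T ⟶ H) (g : T ⟶ G) (x : T ⟶ X),
      lift h (lift g x) ≫ b.act = lift (g * (h ≫ j)⁻¹) (lift h x ≫ aX.act))
    (c : AlgGrp.Action H (G ⊗ Y))
    (hc : ∀ (T : Over S) (h : T ⟶ H) (g : T ⟶ G) (x : T ⟶ Y),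
      lift h (lift g x) ≫ c.act = lift (g * (h ≫ j)⁻¹) (lift h x ≫ aY.act)) :
    b.act ≫ (G ◁ i) = (H ◁ (G ◁ i)) ≫ c.act := by
  apply hom_ext_lift₃'
  intro T h g x
  rw [← Category.assoc, hb, lift_whiskerLeft, lift_whiskerLeft_assoc, lift_whiskerLeft, hc,
    Category.assoc, hi, lift_whiskerLeft_assoc]

end Groth.Agent.Helper2.AssocBundle
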