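import Mathlib
import Groth.Prelude.Def_AlgGrp
import Groth.Prelude.Def_NonAbH2
import Groth.Prelude.Def_AlgSp
import Groth.Agent.Lib.Helper2.Sch.LocTrivLift

/-!
# Descent of morphisms along a morphism with fppf-local sections (helper2)
-/

set_option backward.isDefEq.respectTransparency.types false
set_option synthInstance.maxHeartbeats 400000
set_option autoImplicit false
set_option linter.unusedSectionVars false
set_option linter.style.haveILetI false
universe u
open CategoryTheory CategoryTheory.Limits AlgebraicGeometry TopologicalSpace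

namespace Groth.Agent.Helper2.LocTrivLift

variable {S : Scheme.{u}}

/-- A morphism with fppf-local sections is an epimorphism. -/
theorem epi_of_isLocallyTrivialFor {E Y : Over S} (π : E ⟶ Y)
    (hloc : NonAbH1.IsLocallyTrivialFor Scheme.fppfPrecoverage (Over.mk π.left : Over Y.left)) :
    Epi π := by
  constructor
  intro W a b hab
  apply hom_ext_of_isLocallyTrivialFor π hloc (𝟙 Y) a b
  intro T' f g₀ hg₀
  rw [Category.comp_id] at hg₀
  rw [← hg₀, Category.assoc, Category.assoc, hab]

/-- Descent of a morphism constant on the fibres of a morphism with fppf-local sections. -/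
theorem exists_desc_of_isLocallyTrivialFor {E Y W : Over S} (π : E ⟶ Y)
    (hloc : NonAbH1.IsLocallyTrivialFor Scheme.fppfPrecoverage (Over.mk π.left : Over Y.left))
    (ψ : E ⟶ W)
    (hψ : ∀ {T : Over S} (e₁ e₂ : T ⟶ E), e₁ ≫ π = e₂ ≫ π → e₁ ≫ ψ = e₂ ≫ ψ) :
    ∃ ψ' : Y ⟶ W, π ≫ ψ' = ψ := by
  obtain ⟨ψ', hψ'⟩ := Groth.Agent.Helper2.QuotEff.exists_glue_sieve (liftSieve π)
    (liftSieve_mem π hloc) (fun T' f hf => hf.choose ≫ ψ) (by
      intro T' T'' f g hf
      rw [← Category.assoc]
      apply hψ
      rw [Category.assoc, hf.choose_spec]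
      exact ((liftSieve π).downward_closed hf g).choose_spec.symm)
  refine ⟨ψ', ?_⟩
  have h1 : (liftSieve π).arrows π := ⟨𝟙 E, Category.id_comp _⟩
  rw [hψ' π h1]
  have := hψ h1.choose (𝟙 E) (by rw [h1.choose_spec, Category.id_comp])
  rw [this, Category.id_comp]

end Groth.Agent.Helper2.LocTrivLift
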