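import Mathlib
import Groth.Prelude.Def_AlgGrp
import Groth.Prelude.Def_ChGrp
import Groth.Prelude.Def_NonAbH2
import Groth.Prelude.Def_W4bk4git07Quot
import Groth.Agent.Lib.Helper2.Sch.LocTrivDesc

/-!
# Categorical quotients of a balanced product: `(G ×^H Z)//G ≅ Z//H` (S19679) (helper2)
-/

set_option backward.isDefEq.respectTransparency.types false
set_option synthInstance.maxHeartbeats 400000
set_option autoImplicit false
set_option linter.unusedSectionVars false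
set_option linter.style.haveILetI false
universe u
open CategoryTheory CategoryTheory.Limits AlgebraicGeometry TopologicalSpace
open MonoidalCategory CartesianMonoidalCategory MonObj GrpObj
open Groth.Agent.Helper2.LocTrivLift

namespace Groth.Agent.Helper2.BalProdQuot

variable {S : Scheme.{u}} {G H Z Y P Q : Over S} [GrpObj G] [GrpObj H]
  (i : H ⟶ G) [IsMonHom i]
  (aZ : AlgGrp.Action H Z) (aY : AlgGrp.Action G Y) (j : G ⊗ Z ⟶ Y)
  (hequiv : AlgGrp.Action.IsEquivariant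
    ((NonAbH1.trivialAction G).prod (AlgGrp.Action.trivial G Z)) aY j)
  (hpb : IsPullback (ChGrp.twist i aZ).act (snd H (G ⊗ Z)) j j)
  (hloc : NonAbH1.IsLocallyTrivialFor Scheme.fppfPrecoverage (Over.mk j.left : Over Y.left))

include hequiv in
/-- `j (g' g, z) = g' • j (g, z)`. -/
theorem j_mul {T : Over S} (g' g : T ⟶ G) (z : T ⟶ Z) :
    lift (g' * g) z ≫ j = lift g' (lift g z ≫ j) ≫ aY.act := by
  have h1 := congrArg (fun t => lift g' (lift g z) ≫ t) hequiv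
  simp only [AlgGrp.Action.lift_prod_act_assoc, lift_whiskerLeft_assoc] at h1
  rw [← h1]
  congr 2
  exact (lift_snd g' z).symm

include hpb in
/-- `j (g i(h)⁻¹, h • z) = j (g, z)`. -/
theorem j_twist {T : Over S} (h : T ⟶ H) (g : T ⟶ G) (z : T ⟶ Z) :
    lift (g * (h ≫ i)⁻¹) (lift h z ≫ aZ.act) ≫ j = lift g z ≫ j := by
  rw [← ChGrp.lift_twist_act, Category.assoc, hpb.w, ← Category.assoc, lift_snd]

include hpb in
/-- Two points of `G × Z` with the same image in `Y` differ by the twisted action. -/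
theorem exists_of_comp_j_eq {T : Over S} (e₁ e₂ : T ⟶ G ⊗ Z) (h12 : e₁ ≫ j = e₂ ≫ j) :
    ∃ h : T ⟶ H, e₁ = lift ((e₂ ≫ fst G Z) * (h ≫ i)⁻¹) (lift h (e₂ ≫ snd G Z) ≫ aZ.act) := by
  refine ⟨hpb.lift e₁ e₂ h12 ≫ fst H (G ⊗ Z), ?_⟩
  have e : hpb.lift e₁ e₂ h12 = lift (hpb.lift e₁ e₂ h12 ≫ fst H (G ⊗ Z))
      (lift (e₂ ≫ fst G Z) (e₂ ≫ snd G Z)) := by
    apply CartesianMonoidalCategory.hom_ext
    · rw [lift_fst]
    · rw [lift_snd, hpb.lift_snd]
      apply CartesianMonoidalCategory.hom_ext <;> simp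
  rw [← ChGrp.lift_twist_act, ← e, hpb.lift_fst]

variable (πZ : Z ⟶ P) (hP : GIT.IsCatQuot aZ πZ) (πY : Y ⟶ Q) (hQ : GIT.IsCatQuot aY πY)

theorem inv_points {G X W : Over S} [GrpObj G] {a : AlgGrp.Action G X} {ψ : X ⟶ W}
    (h : GIT.IsInvariant a ψ) {T : Over S} (g : T ⟶ G) (x : T ⟶ X) :
    (lift g x ≫ a.act) ≫ ψ = x ≫ ψ := by
  rw [Category.assoc, h, ← Category.assoc, lift_snd]

include hequiv hpb hloc hP hQ in
/-- S19679 over a general base. -/
theorem exists_iso_catQuot :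
    ∃ (φ : P ⟶ Q) (χ : Q ⟶ P), φ ≫ χ = 𝟙 P ∧ χ ≫ φ = 𝟙 Q ∧
      πZ ≫ φ = lift (toUnit Z ≫ η[G]) (𝟙 Z) ≫ j ≫ πY ∧ j ≫ πY ≫ χ = snd G Z ≫ πZ := by
  have hpt : ∀ {T : Over S} (z : T ⟶ Z),
      z ≫ lift (toUnit Z ≫ η[G]) (𝟙 Z) = lift (1 : T ⟶ G) z := by
    intro T z
    rw [comp_lift, Category.comp_id, ← Category.assoc, toUnit_unique (z ≫ toUnit Z) (toUnit T),
      ← Hom.one_def]
  -- the map `Z → Q`
  have invZ : GIT.IsInvariant aZ (lift (toUnit Z ≫ η[G]) (𝟙 Z) ≫ j ≫ πY) := by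
    apply AlgGrp.Action.hom_ext_lift₂
    intro T h z
    rw [← Category.assoc, ← Category.assoc, hpt, ← Category.assoc (lift h z), lift_snd,
      ← Category.assoc z, hpt]
    have e1 : lift (1 : T ⟶ G) (lift h z ≫ aZ.act) ≫ j = lift (h ≫ i) z ≫ j := by
      rw [← j_twist i aZ j hpb h (h ≫ i) z, mul_inv_cancel]
    have e2 : lift (h ≫ i) z ≫ j = lift (h ≫ i) (lift 1 z ≫ j) ≫ aY.act := by
      rw [← j_mul aY j hequiv, _root_.mul_one]
    rw [← Category.assoc, e1, e2, inv_points hQ.1, Category.assoc]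
  obtain ⟨φ, hφ⟩ := (hP.2 Q _ invZ).exists
  -- the map `Y → P`
  obtain ⟨ψY, hψY⟩ := exists_desc_of_isLocallyTrivialFor j hloc (snd G Z ≫ πZ) (by
    intro T e₁ e₂ h12
    obtain ⟨h, hh⟩ := exists_of_comp_j_eq i aZ j hpb e₁ e₂ h12
    rw [hh, ← Category.assoc, lift_snd, inv_points hP.1, Category.assoc])
  have invY : GIT.IsInvariant aY ψY := by
    apply hom_ext_of_isLocallyTrivialFor j hloc (snd G Y)
    intro T' f g₀ hg₀
    have ef : f = lift (f ≫ fst G Y) (lift (g₀ ≫ fst G Z) (g₀ ≫ snd G Z) ≫ j) := by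
      apply CartesianMonoidalCategory.hom_ext
      · rw [lift_fst]
      · rw [lift_snd, ← hg₀]
        congr 1
        apply CartesianMonoidalCategory.hom_ext <;> simp
    have e1 : f ≫ aY.act = lift ((f ≫ fst G Y) * (g₀ ≫ fst G Z)) (g₀ ≫ snd G Z) ≫ j := by
      rw [j_mul aY j hequiv, ← ef]
    have l1 : f ≫ aY.act ≫ ψY = (g₀ ≫ snd G Z) ≫ πZ := by
      rw [← Category.assoc, e1, Category.assoc, hψY, ← Category.assoc, lift_snd]
    have l2 : f ≫ snd G Y ≫ ψY = (g₀ ≫ snd G Z) ≫ πZ := by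
      rw [← Category.assoc, ← hg₀, Category.assoc, hψY, Category.assoc]
    rw [l1, l2]
  obtain ⟨χ, hχ⟩ := (hQ.2 P ψY invY).exists
  refine ⟨φ, χ, ?_, ?_, hφ, ?_⟩
  · apply (hP.2 P πZ hP.1).unique
    · rw [← Category.assoc, hφ, Category.assoc, Category.assoc, hχ, hψY, ← Category.assoc,
        lift_snd, Category.id_comp]
    · rw [Category.comp_id]
  · apply (hQ.2 Q πY hQ.1).unique
    · rw [← Category.assoc, hχ]
      haveI := epi_of_isLocallyTrivialFor j hloc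
      rw [← cancel_epi j, ← Category.assoc, hψY, Category.assoc, hφ]
      apply AlgGrp.Action.hom_ext_lift₂
      intro T g z
      rw [← Category.assoc, lift_snd, ← Category.assoc, hpt, ← Category.assoc]
      have e2 : lift g z ≫ j = lift g (lift 1 z ≫ j) ≫ aY.act := by
        rw [← j_mul aY j hequiv, _root_.mul_one]
      rw [← Category.assoc (lift g z), e2, inv_points hQ.1]
    · rw [Category.comp_id]
  · rw [hχ, hψY]

end Groth.Agent.Helper2.BalProdQuot
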