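import Mathlib
import Groth.Agent.Lib.Helper5.Misc.EtClosedLift

/-!
# Smooth schemes over a closed subscheme lift locally to the ambient scheme (helper2)
-/

set_option autoImplicit false
set_option linter.style.haveILetI false
set_option linter.unusedVariables false
set_option linter.unusedSimpArgs false
set_option linter.unnecessarySimpa false

universe u
open CategoryTheory CategoryTheory.Limits AlgebraicGeometry

namespace Groth.Agent.Helper2.SmoothClosedLift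

/-- Around every point of the source of a smooth morphism there is a basic open which is standard
smooth over a given affine open of the target. -/
lemma exists_basicOpen_standardSmooth {U X : Scheme.{u}} (g : U ⟶ X) [Smooth g] {X₀ : X.Opens}
    (hX₀ : IsAffineOpen X₀) {U₁ : U.Opens} (hU₁ : IsAffineOpen U₁) (e : U₁ ≤ g ⁻¹ᵁ X₀) (x : U)
    (hx : x ∈ U₁) :
    ∃ r : Γ(U, U₁), x ∈ U.basicOpen r ∧
      (g.appLE X₀ (U.basicOpen r) ((U.basicOpen_le r).trans e)).hom.IsStandardSmooth := by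
  have hsm : (g.appLE X₀ U₁ e).hom.Smooth := g.smooth_appLE hX₀ hU₁ e
  rw [RingHom.smooth_iff_locally_isStandardSmooth,
    RingHom.locally_iff_isLocalization RingHom.isStandardSmooth_respectsIso] at hsm
  obtain ⟨s, hs, hfs⟩ := hsm
  apply iSup_basicOpen_of_span_eq_top at hs
  have h1 : x ∈ (⨆ i ∈ s, U.basicOpen i) := hs.symm ▸ hx
  have h2 : ∃ r ∈ s, x ∈ U.basicOpen r := by simpa using h1
  obtain ⟨r, hr, hrs⟩ := h2
  refine ⟨r, hrs, ?_⟩
  rw [← g.appLE_map e (homOfLE (U.basicOpen_le r)).op]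
  have : IsLocalization.Away r Γ(U, U.basicOpen r) := hU₁.isLocalization_basicOpen r
  exact hfs r hr _

attribute [local instance] MvPolynomial.algebraMvPolynomial

/-- **Local lifting of smooth schemes along a closed immersion.**  For a closed immersion
`f : X ⟶ Y`, a smooth `g : U ⟶ X` and a point `x` of `U` there are a smooth `v : V ⟶ Y`, an open
immersion `t : T ⟶ U` through `x` and a cartesian square identifying `T` with `V ×_Y X`. -/
theorem exists_lift_smooth {X Y : Scheme.{u}} (f : X ⟶ Y) [IsClosedImmersion f]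
    {U : Scheme.{u}} (g : U ⟶ X) [Smooth g] (x : U) :
    ∃ (V : Scheme.{u}) (v : V ⟶ Y) (_ : Smooth v) (T : Scheme.{u}) (t : T ⟶ U)
      (_ : IsOpenImmersion t) (a : T ⟶ V), x ∈ Set.range t.base ∧ IsPullback a (t ≫ g) v f := by
  obtain ⟨Y₀, hY₀, hyY₀, -⟩ := exists_isAffineOpen_mem_and_subset (x := f (g x))
    (U := (⊤ : Y.Opens)) trivial
  have hX₀ : IsAffineOpen (f ⁻¹ᵁ Y₀) := hY₀.preimage f
  obtain ⟨U₁, hU₁, hxU₁, hU₁le⟩ := exists_isAffineOpen_mem_and_subset (x := x)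
    (U := g ⁻¹ᵁ (f ⁻¹ᵁ Y₀)) hyY₀
  obtain ⟨r, hxr, hstd⟩ := exists_basicOpen_standardSmooth g hX₀ hU₁ hU₁le x hxU₁
  have hU₂ : IsAffineOpen (U.basicOpen r) := hU₁.basicOpen r
  have hle : U.basicOpen r ≤ g ⁻¹ᵁ (f ⁻¹ᵁ Y₀) := (U.basicOpen_le r).trans hU₁le
  obtain ⟨n, g', hg'C, hg'et⟩ := hstd.exists_etale_mvPolynomial
  letI algφ : Algebra Γ(Y, Y₀) Γ(X, f ⁻¹ᵁ Y₀) := (f.appLE Y₀ (f ⁻¹ᵁ Y₀) le_rfl).hom.toAlgebra
  have hsurj : Function.Surjective (algebraMap Γ(Y, Y₀) Γ(X, f ⁻¹ᵁ Y₀)) := by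
    have h := f.app_surjective Y₀ hY₀
    rw [Scheme.Hom.app_eq_appLE] at h
    exact h
  have hφ' : Function.Surjective (algebraMap (MvPolynomial (Fin n) Γ(Y, Y₀))
      (MvPolynomial (Fin n) Γ(X, f ⁻¹ᵁ Y₀))) := by
    rw [MvPolynomial.algebraMap_def]
    exact MvPolynomial.map_surjective _ hsurj
  haveI hcl : IsClosedImmersion (Spec.map (CommRingCat.ofHom (algebraMap
      (MvPolynomial (Fin n) Γ(Y, Y₀)) (MvPolynomial (Fin n) Γ(X, f ⁻¹ᵁ Y₀))))) :=
    IsClosedImmersion.spec_of_surjective _ hφ'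
  haveI het : Etale (Spec.map (CommRingCat.ofHom g')) := by
    rw [HasRingHomProperty.Spec_iff (P := @Etale)]
    exact hg'et
  obtain ⟨V, v, hv, T, t', ht', a, ⟨z, hz⟩, hpb⟩ :=
    Groth.Agent.Lib.Helper5.EtClosedLift.exists_lift
      (Spec.map (CommRingCat.ofHom (algebraMap (MvPolynomial (Fin n) Γ(Y, Y₀))
        (MvPolynomial (Fin n) Γ(X, f ⁻¹ᵁ Y₀)))))
      (Spec.map (CommRingCat.ofHom g')) (hU₂.primeIdealOf ⟨x, hxr⟩)
  haveI := hv
  haveI := ht'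
  have hpush := CommRingCat.isPushout_of_isPushout Γ(Y, Y₀) Γ(X, f ⁻¹ᵁ Y₀)
    (MvPolynomial (Fin n) Γ(Y, Y₀)) (MvPolynomial (Fin n) Γ(X, f ⁻¹ᵁ Y₀))
  have poly := isPullback_SpecMap_of_isPushout _ _ _ _ hpush
  have eφ : CommRingCat.ofHom (algebraMap Γ(Y, Y₀) Γ(X, f ⁻¹ᵁ Y₀)) =
      f.appLE Y₀ (f ⁻¹ᵁ Y₀) le_rfl := rfl
  rw [eφ] at poly
  have top := (hpb.flip.paste_horiz poly).flip
  have bot : IsPullback (Spec.map (f.appLE Y₀ (f ⁻¹ᵁ Y₀) le_rfl)) hX₀.fromSpec hY₀.fromSpec f :=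
    IsOpenImmersion.isPullback _ _ _ _
      (IsAffineOpen.SpecMap_appLE_fromSpec f hY₀ hX₀ le_rfl).symm
      (by rw [hY₀.opensRange_fromSpec, hX₀.opensRange_fromSpec])
  have big := top.paste_vert bot
  have e1 : CommRingCat.ofHom (algebraMap Γ(X, f ⁻¹ᵁ Y₀) (MvPolynomial (Fin n) Γ(X, f ⁻¹ᵁ Y₀))) ≫
      CommRingCat.ofHom g' = g.appLE (f ⁻¹ᵁ Y₀) (U.basicOpen r) hle := by
    apply CommRingCat.hom_ext
    rw [CommRingCat.hom_comp, CommRingCat.hom_ofHom, CommRingCat.hom_ofHom, MvPolynomial.algebraMap_eq]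
    exact hg'C
  have e2 : ((t' ≫ Spec.map (CommRingCat.ofHom g')) ≫ Spec.map (CommRingCat.ofHom (algebraMap
      Γ(X, f ⁻¹ᵁ Y₀) (MvPolynomial (Fin n) Γ(X, f ⁻¹ᵁ Y₀))))) ≫ hX₀.fromSpec =
      (t' ≫ hU₂.fromSpec) ≫ g := by
    rw [Category.assoc, Category.assoc, ← Category.assoc (Spec.map (CommRingCat.ofHom g')),
      ← Spec.map_comp, e1, IsAffineOpen.SpecMap_appLE_fromSpec g hX₀ hU₂ hle, Category.assoc]
  rw [e2] at big
  haveI hsA : Smooth (Spec.map (CommRingCat.ofHom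
      (algebraMap Γ(Y, Y₀) (MvPolynomial (Fin n) Γ(Y, Y₀))))) := by
    rw [HasRingHomProperty.Spec_iff (P := @Smooth)]
    exact RingHom.smooth_algebraMap.2 ⟨inferInstance, inferInstance⟩
  refine ⟨V, (v ≫ Spec.map (CommRingCat.ofHom
      (algebraMap Γ(Y, Y₀) (MvPolynomial (Fin n) Γ(Y, Y₀))))) ≫ hY₀.fromSpec, inferInstance,
    T, t' ≫ hU₂.fromSpec, inferInstance, a, ⟨z, ?_⟩, big⟩
  change hU₂.fromSpec (t' z) = x
  rw [hz]
  exact hU₂.fromSpec_primeIdealOf ⟨x, hxr⟩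

end Groth.Agent.Helper2.SmoothClosedLift
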