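import Mathlib
import Groth.Prelude.Def_BigSite
import Groth.Agent.Lib.Helper2.Sch.SmoothClosedLift

/-!
# Base change along a closed immersion is almost cocontinuous on big sites (helper2)
-/

set_option autoImplicit false
set_option maxHeartbeats 4000000
set_option synthInstance.maxHeartbeats 400000
set_option linter.style.haveILetI false
set_option linter.unusedSectionVars false
set_option linter.unusedVariables false
set_option linter.unusedSimpArgs false
set_option linter.unnecessarySimpa false

universe u
open CategoryTheory CategoryTheory.Limits AlgebraicGeometry Opposite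

namespace Groth.Agent.Helper2.BigClosedAlmostCocont

/-- Local lifting property of a class of morphisms along closed immersions. -/
def HasLift (P : MorphismProperty Scheme.{u}) : Prop :=
  ∀ ⦃X Y : Scheme.{u}⦄ (f : X ⟶ Y), IsClosedImmersion f → ∀ ⦃U : Scheme.{u}⦄ (g : U ⟶ X), P g →
    ∀ x : U, ∃ (V : Scheme.{u}) (v : V ⟶ Y) (_ : P v) (T : Scheme.{u}) (t : T ⟶ U)
      (_ : IsOpenImmersion t) (a : T ⟶ V), x ∈ Set.range t.base ∧ IsPullback a (t ≫ g) v f

lemma hasLift_etale : HasLift.{u} @Etale := by
  intro X Y f hf U g hg x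
  haveI := hf
  haveI := hg
  obtain ⟨V, v, hv, T, t, ht, a, hx, hpb⟩ :=
    Groth.Agent.Lib.Helper5.EtClosedLift.exists_lift f g x
  exact ⟨V, v, hv, T, t, ht, a, hx, hpb⟩

lemma hasLift_smooth : HasLift.{u} @Smooth := by
  intro X Y f hf U g hg x
  haveI := hf
  haveI := hg
  obtain ⟨V, v, hv, T, t, ht, a, hx, hpb⟩ :=
    Groth.Agent.Helper2.SmoothClosedLift.exists_lift_smooth f g x
  exact ⟨V, v, hv, T, t, ht, a, hx, hpb⟩

/-- Membership of a sieve of `Over X` tested on the underlying morphism. -/
lemma mem_iff_left {C : Type*} [Category C] {X : C} {Y : Over X} (S : Sieve Y) {Z : Over X}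
    (g : Z ⟶ Y) : S g ↔ (Sieve.overEquiv Y S) g.left := by
  have h : (Sieve.overEquiv Y).symm (Sieve.overEquiv Y S) = S :=
    (Sieve.overEquiv Y).symm_apply_apply S
  have h2 : ((Sieve.overEquiv Y).symm (Sieve.overEquiv Y S)) g ↔ (Sieve.overEquiv Y S) g.left :=
    Sieve.overEquiv_symm_iff _ _
  rw [h] at h2
  exact h2

/-- A presieve which is jointly surjective and consists of `P`-morphisms is a `P`-covering. -/
lemma mem_precoverage_of (P : MorphismProperty Scheme.{u}) {S : Scheme.{u}} (R₁ : Presieve S)
    (h1 : ∀ x : S, ∃ (Y : Scheme.{u}) (g : Y ⟶ S), R₁ g ∧ x ∈ Set.range g.base)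
    (h2 : ∀ ⦃Y : Scheme.{u}⦄ ⦃g : Y ⟶ S⦄, R₁ g → P g) : R₁ ∈ Scheme.precoverage P S := by
  refine ⟨?_, h2⟩
  rw [Presieve.mem_comap_jointlySurjectivePrecoverage_iff]
  intro x
  obtain ⟨Y, g, hg, y, hy⟩ := h1 x
  exact ⟨Y, g, hg, y, hy⟩

/-- The empty sieve covers an empty scheme. -/
lemma bot_mem_of_isEmpty (P : MorphismProperty Scheme.{u}) (E : Scheme.{u}) [IsEmpty E] :
    (⊥ : Sieve E) ∈ (Scheme.precoverage P).toGrothendieck E := by
  have h := Precoverage.generate_mem_toGrothendieck (J := Scheme.precoverage P)
    (Scheme.bot_mem_precoverage P E)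
  refine GrothendieckTopology.superset_covering _ ?_ h
  rw [Sieve.generate_le_iff]
  intro Z g hg
  exact hg.elim

section main

variable (P : MorphismProperty Scheme.{u}) [P.IsStableUnderComposition]
  [P.IsStableUnderBaseChange] [P.ContainsIdentities] [P.RespectsIso] [P.HasPullbacks]
  [Scheme.IsJointlySurjectivePreserving P]

theorem almostCocont (hopen : ∀ ⦃A B : Scheme.{u}⦄ (j : A ⟶ B), IsOpenImmersion j → P j)
    (hlift : HasLift P) {X Y : Scheme.{u}} (f : X ⟶ Y) [IsClosedImmersion f] :
    BigSite.IsAlmostCocontinuous (Over.pullback f) (QuotSh.J (Scheme.precoverage P) Y)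
      (QuotSh.J (Scheme.precoverage P) X) := by
  intro U R hR
  -- the answering sieve
  let R' : Sieve U :=
    { arrows := fun V g => (⊥ : Sieve ((Over.pullback f).obj V)) ∈
          QuotSh.J (Scheme.precoverage P) X ((Over.pullback f).obj V) ∨ R ((Over.pullback f).map g)
      downward_closed := by
        intro V W g hg h
        rcases hg with hbot | hRg
        · left
          have h3 := (QuotSh.J (Scheme.precoverage P) X).pullback_stable
            ((Over.pullback f).map h) hbot
          refine GrothendieckTopology.superset_covering _ ?_ h3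
          intro Z k hk
          exact hk
        · right
          rw [Functor.map_comp]
          exact R.downward_closed hRg _ }
  refine ⟨R', ?_, fun V g hg => hg⟩
  -- unpack the given covering
  have h1 : Sieve.overEquiv ((Over.pullback f).obj U) R ∈
      (Scheme.precoverage P).toGrothendieck ((Over.pullback f).obj U).left :=
    (GrothendieckTopology.mem_over_iff _ _).1 hR
  obtain ⟨R₀, hR₀, hle⟩ :=
    Precoverage.mem_toGrothendieck_iff_of_isStableUnderComposition.1 h1
  obtain ⟨κ, W, w, rfl⟩ := R₀.exists_eq_ofArrows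
  rw [Scheme.ofArrows_mem_precoverage_iff] at hR₀
  obtain ⟨hsurj, hP⟩ := hR₀
  -- the closed immersion
  have hc : IsClosedImmersion (pullback.fst U.hom f) :=
    MorphismProperty.pullback_fst (P := @IsClosedImmersion) _ _ inferInstance
  refine (GrothendieckTopology.mem_over_iff _ _).2 ?_
  refine Precoverage.mem_toGrothendieck_iff_of_isStableUnderComposition.2
    ⟨fun V v => P v ∧ (Sieve.overEquiv U R') v, ?_, fun V v h => h.2⟩
  refine mem_precoverage_of P _ ?_ (fun V v h => h.1)
  intro u
  by_cases hu : u ∈ Set.range (pullback.fst U.hom f).base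
  · obtain ⟨x, hx⟩ := hu
    obtain ⟨i, y, hy⟩ := hsurj x
    obtain ⟨V, v, hv, T, t, ht, a, ⟨z, hz⟩, hpb⟩ :=
      hlift (pullback.fst U.hom f) hc (w i) (hP i) y
    refine ⟨V, v, ⟨hv, ?_⟩, a.base z, ?_⟩
    · rw [Sieve.overEquiv_iff]
      right
      rw [mem_iff_left]
      have comm : pullback.fst (v ≫ U.hom) f ≫ v =
          ((Over.pullback f).map (Over.homMk v rfl : Over.mk (v ≫ U.hom) ⟶ U)).left ≫
            pullback.fst U.hom f := by
        first
          | exact (pullback.lift_fst _ _ _).symm
          | simp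
      have hk : (hpb.lift (pullback.fst (v ≫ U.hom) f)
          ((Over.pullback f).map (Over.homMk v rfl : Over.mk (v ≫ U.hom) ⟶ U)).left comm ≫ t) ≫
            w i = ((Over.pullback f).map (Over.homMk v rfl : Over.mk (v ≫ U.hom) ⟶ U)).left := by
        rw [Category.assoc]
        exact hpb.lift_snd _ _ _
      rw [← hk]
      exact (Sieve.overEquiv ((Over.pullback f).obj U) R).downward_closed
        (hle _ _ (Presieve.ofArrows.mk i)) _
    · have e1 : a ≫ v = (t ≫ w i) ≫ pullback.fst U.hom f := hpb.w
      have e2 : (a ≫ v).base z = ((t ≫ w i) ≫ pullback.fst U.hom f).base z := by rw [e1]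
      simp only [Scheme.Hom.comp_base, TopCat.hom_comp, ContinuousMap.comp_apply] at e2
      rw [e2, hz, hy, hx]
  · -- the open complement of the closed subscheme
    have hcl : IsClosed (Set.range (pullback.fst U.hom f).base) :=
      (pullback.fst U.hom f).isClosedEmbedding.isClosed_range
    let O : U.left.Opens := ⟨(Set.range (pullback.fst U.hom f).base)ᶜ, hcl.isOpen_compl⟩
    refine ⟨O.toScheme, O.ι, ⟨hopen _ inferInstance, ?_⟩, ?_⟩
    · rw [Sieve.overEquiv_iff]
      left
      haveI hE : IsEmpty ↥(pullback (O.ι ≫ U.hom) f) := by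
        refine ⟨fun p => ?_⟩
        have comm : pullback.fst (O.ι ≫ U.hom) f ≫ O.ι =
            ((Over.pullback f).map (Over.homMk O.ι rfl : Over.mk (O.ι ≫ U.hom) ⟶ U)).left ≫
              pullback.fst U.hom f := by
          first
            | exact (pullback.lift_fst _ _ _).symm
            | simp
        have e2 : (pullback.fst (O.ι ≫ U.hom) f ≫ O.ι).base p =
            (((Over.pullback f).map (Over.homMk O.ι rfl : Over.mk (O.ι ≫ U.hom) ⟶ U)).left ≫
              pullback.fst U.hom f).base p := by rw [comm]
        simp only [Scheme.Hom.comp_base, TopCat.hom_comp, ContinuousMap.comp_apply] at e2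
        have h3 : O.ι.base ((pullback.fst (O.ι ≫ U.hom) f).base p) ∈ (O : Set U.left) := by
          have := ((pullback.fst (O.ι ≫ U.hom) f).base p).2
          simpa using this
        exact h3 ⟨_, e2.symm⟩
      refine (GrothendieckTopology.mem_over_iff _ _).2 ?_
      refine GrothendieckTopology.superset_covering _ bot_le ?_
      exact @bot_mem_of_isEmpty P (pullback (O.ι ≫ U.hom) f) hE
    · have : Set.range O.ι.base = (O : Set U.left) := Scheme.Opens.range_ι O
      rw [this]
      exact hu

end main

end Groth.Agent.Helper2.BigClosedAlmostCocont
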