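import Mathlib
import Groth.Prelude.Def_AlgGrp
import Groth.Agent.Lib.Helper2.Sch.FppfCov
import Groth.Agent.Lib.Helper2.Sch.Stabilizer
import Groth.Agent.Lib.Helper4.Act1

/-!
# The kernel of the action of `G` on `G/H` is the largest normal subgroup contained in `H`
(S14641) (helper2)
-/

set_option backward.isDefEq.respectTransparency.types false
set_option synthInstance.maxHeartbeats 400000
set_option autoImplicit false
set_option linter.unusedSectionVars false
set_option linter.style.haveILetI false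
universe u
open CategoryTheory CategoryTheory.Limits AlgebraicGeometry TopologicalSpace
open MonoidalCategory CartesianMonoidalCategory MonObj GrpObj
open Groth.Agent.Helper2.QuotDesc Groth.Agent.Helper2.FppfLift Groth.Agent.Helper2.FppfCov
open Groth.Agent.Helper2.Orbit Groth.Agent.Helper4.Act

namespace Groth.Agent.Helper2.CoreSubgroup

variable {S : Scheme.{u}} {G H Q N : Over S} [GrpObj G] [GrpObj H] [GrpObj N]
  (i : H ⟶ G)
  (act : G ⊗ Q ⟶ Q)
  (one_act : (η[G] ▷ Q) ≫ act = (λ_ Q).hom)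
  (mul_act : (μ[G] ▷ Q) ≫ act = (α_ G G Q).hom ≫ (G ◁ act) ≫ act)
  (o : 𝟙_ (Over S) ⟶ Q)
  (pb : IsPullback (fst G H) ((G ◁ i) ≫ μ[G]) (orbit act o) (orbit act o))
  (n : N ⟶ G) [IsMonHom n]
  (hN : ∀ (T : Over S) (g : T ⟶ G),
    (∃ m : T ⟶ N, m ≫ n = g) ↔
      ∀ (T' : Over S) (s : T' ⟶ T) (x : T' ⟶ Q), lift (s ≫ g) x ≫ act = x)

include one_act mul_act hN in
/-- The kernel of an action is normal. -/
theorem isNormalHom_kernel : AlgGrp.IsNormalHom n := by
  intro T g m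
  obtain ⟨n', hn'⟩ := (hN T (g * (m ≫ n) * g⁻¹)).2 (by
    intro T' s x
    have h1 := (hN T (m ≫ n)).1 ⟨m, rfl⟩ T' s (lift (s ≫ g)⁻¹ x ≫ act)
    rw [MonObj.comp_mul, MonObj.comp_mul, GrpObj.comp_inv, mul_smul' act mul_act,
      mul_smul' act mul_act, h1, ← mul_smul' act mul_act, mul_inv_cancel,
      one_smul' act one_act])
  exact ⟨n', hn'.symm⟩

include one_act pb hN in
/-- The kernel of the action on `G/H` is contained in `H`. -/
theorem exists_le : ∃ f : N ⟶ H, f ≫ i = n := by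
  have h1 := (hN N n).1 ⟨𝟙 N, Category.id_comp _⟩ N (𝟙 N) (toUnit N ≫ o)
  rw [Category.id_comp, ← comp_orbit] at h1
  have h2 : (1 : N ⟶ G) ≫ orbit act o = n ≫ orbit act o := by
    rw [h1, Groth.Agent.Helper2.Stab.one_orbit act one_act o]
  obtain ⟨f, hf⟩ := exists_of_comp_eq i (orbit act o) pb _ _ h2
  exact ⟨f, by rw [hf, _root_.one_mul]⟩

include mul_act pb hN in
/-- Every normal subgroup contained in `H` acts trivially on `G/H`. -/
theorem exists_le_kernel (hπ : IsCov (orbit act o)) {N' : Over S} [GrpObj N'] (n' : N' ⟶ G)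
    [IsMonHom n'] (hn' : AlgGrp.IsNormalHom n') (f : N' ⟶ H) (hf : f ≫ i = n') :
    ∃ f' : N' ⟶ N, f' ≫ n = n' := by
  apply (hN N' n').2
  intro T' s x
  obtain ⟨T'', ϖ, g₀, hϖ, hg₀⟩ := FppfCov.exists_lift (orbit act o) hπ x
  haveI := hϖ.epi
  obtain ⟨c', hc'⟩ := hn' T'' g₀⁻¹ (ϖ ≫ s)
  rw [_root_.inv_inv] at hc'
  have e1 : (ϖ ≫ s ≫ n') * g₀ = g₀ * (c' ≫ f ≫ i) := by
    rw [hf, ← hc', ← _root_.mul_assoc, ← _root_.mul_assoc, mul_inv_cancel, _root_.one_mul,
      Category.assoc]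
  rw [← cancel_epi ϖ, ← Category.assoc, comp_lift, ← hg₀,
    ← Groth.Agent.Helper2.Stab.mul_orbit act mul_act o, e1, ← Category.assoc c',
    comp_eq_of_mul i (orbit act o) pb]

end Groth.Agent.Helper2.CoreSubgroup
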