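import Mathlib
import Groth.Prelude.Def_AlgGrp
import Groth.Agent.Lib.Helper2.Sch.CoreSubgroup
import Groth.Agent.Lib.Helper2.Sch.LocTrivLift

/-!
# The core of `H` in `G` for a homogeneous space with fppf-local sections (S18763) (helper2)
-/

set_option backward.isDefEq.respectTransparency.types false
set_option synthInstance.maxHeartbeats 400000
set_option autoImplicit false
set_option linter.unusedSectionVars false
set_option linter.style.haveILetI false
universe u
open CategoryTheory CategoryTheory.Limits AlgebraicGeometry TopologicalSpace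
open MonoidalCategory CartesianMonoidalCategory MonObj GrpObj
open Groth.Agent.Helper2.QuotDesc
open Groth.Agent.Helper2.Orbit Groth.Agent.Helper4.Act

namespace Groth.Agent.Helper2.CoreSubgroup

variable {S : Scheme.{u}} {G H Q N : Over S} [GrpObj G] [GrpObj H] [GrpObj N]
  (i : H ⟶ G)
  (act : G ⊗ Q ⟶ Q)
  (mul_act : (μ[G] ▷ Q) ≫ act = (α_ G G Q).hom ≫ (G ◁ act) ≫ act)
  (o : 𝟙_ (Over S) ⟶ Q)
  (pb : IsPullback (fst G H) ((G ◁ i) ≫ μ[G]) (orbit act o) (orbit act o))
  (n : N ⟶ G) [IsMonHom n]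
  (hN : ∀ (T : Over S) (g : T ⟶ G),
    (∃ m : T ⟶ N, m ≫ n = g) ↔
      ∀ (T' : Over S) (s : T' ⟶ T) (x : T' ⟶ Q), lift (s ≫ g) x ≫ act = x)

include mul_act pb hN in
/-- Every normal subgroup contained in `H` acts trivially on `G/H` (locally trivial version). -/
theorem exists_le_kernel_of_locTriv
    (hloc : NonAbH1.IsLocallyTrivialFor Scheme.fppfPrecoverage
      (Over.mk (orbit act o).left : Over Q.left))
    {N' : Over S} [GrpObj N'] (n' : N' ⟶ G)
    [IsMonHom n'] (hn' : AlgGrp.IsNormalHom n') (f : N' ⟶ H) (hf : f ≫ i = n') :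
    ∃ f' : N' ⟶ N, f' ≫ n = n' := by
  apply (hN N' n').2
  intro T' s x
  apply Groth.Agent.Helper2.LocTrivLift.hom_ext_of_isLocallyTrivialFor (orbit act o) hloc x
  intro T'' ϖ g₀ hg₀
  obtain ⟨c', hc'⟩ := hn' T'' g₀⁻¹ (ϖ ≫ s)
  rw [_root_.inv_inv] at hc'
  have e1 : (ϖ ≫ s ≫ n') * g₀ = g₀ * (c' ≫ f ≫ i) := by
    rw [hf, ← hc', ← _root_.mul_assoc, ← _root_.mul_assoc, mul_inv_cancel, _root_.one_mul,
      Category.assoc]
  rw [← Category.assoc, comp_lift, ← hg₀,
    ← Groth.Agent.Helper2.Stab.mul_orbit act mul_act o, e1, ← Category.assoc c',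
    comp_eq_of_mul i (orbit act o) pb]

end Groth.Agent.Helper2.CoreSubgroup
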