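import Mathlib
import Groth.Prelude.Def_AlgGrp
import Groth.Agent.Lib.Helper2.Sch.FppfCov
import Groth.Agent.Lib.Helper4.GrpKer2

/-!
# Descent of cartesian squares along an fppf covering (helper2)

A commutative cube whose top face is cartesian, whose vertical faces over `π : G ⟶ B` are
cartesian, and where `π` is an fppf covering, has a cartesian bottom face.
-/

set_option backward.isDefEq.respectTransparency.types false
set_option synthInstance.maxHeartbeats 400000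
set_option autoImplicit false
set_option linter.unusedSectionVars false
set_option linter.style.haveILetI false
universe u
open CategoryTheory CategoryTheory.Limits AlgebraicGeometry TopologicalSpace
open MonoidalCategory CartesianMonoidalCategory MonObj GrpObj
open Groth.Agent.Helper2.FppfCov
open Groth.Agent.Lib.Helper4.GrpKer2

namespace Groth.Agent.Helper2.CubeDescent

variable {S : Scheme.{u}} {PXY PX PY G QXY QX QY B : Over S}
  (tX : PXY ⟶ PX) (tY : PXY ⟶ PY) (sX : PX ⟶ G) (sY : PY ⟶ G)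
  (top : IsPullback tX tY sX sY)
  (qXY : PXY ⟶ QXY) (qX : PX ⟶ QX) (qY : PY ⟶ QY) (π : G ⟶ B) (hπ : IsCov π)
  (fX : QXY ⟶ QX) (fY : QXY ⟶ QY) (pX : QX ⟶ B) (pY : QY ⟶ B)
  (hfX : qXY ≫ fX = tX ≫ qX) (hfY : qXY ≫ fY = tY ≫ qY)
  (w : fX ≫ pX = fY ≫ pY)
  (sq1 : IsPullback sX qX π pX) (sq2 : IsPullback sY qY π pY)
  (sq3 : IsPullback (tX ≫ sX) qXY π (fX ≫ pX))

include top hπ hfX hfY w sq1 sq2 sq3 in
theorem uniq {T : Over S} (w₁ w₂ : T ⟶ QXY) (h1 : w₁ ≫ fX = w₂ ≫ fX) (h2 : w₁ ≫ fY = w₂ ≫ fY) :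
    w₁ = w₂ := by
  obtain ⟨T', ϖ, g, hϖ, hg⟩ := FppfCov.exists_lift π hπ (w₁ ≫ fX ≫ pX)
  haveI := hϖ.epi
  have c1 : g ≫ π = (ϖ ≫ w₁) ≫ fX ≫ pX := by rw [hg, Category.assoc]
  have c2 : g ≫ π = (ϖ ≫ w₂) ≫ fX ≫ pX := by
    rw [hg, Category.assoc, ← Category.assoc w₂, ← h1, Category.assoc]
  have a1 : sq3.lift g (ϖ ≫ w₁) c1 ≫ tX = sq3.lift g (ϖ ≫ w₂) c2 ≫ tX := by
    apply sq1.hom_ext
    · rw [Category.assoc, Category.assoc, sq3.lift_fst, sq3.lift_fst]
    · rw [Category.assoc, Category.assoc, ← hfX, sq3.lift_snd_assoc, sq3.lift_snd_assoc,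
        Category.assoc, Category.assoc, h1]
  have a2 : sq3.lift g (ϖ ≫ w₁) c1 ≫ tY = sq3.lift g (ϖ ≫ w₂) c2 ≫ tY := by
    apply sq2.hom_ext
    · rw [Category.assoc, Category.assoc, ← top.w, sq3.lift_fst, sq3.lift_fst]
    · rw [Category.assoc, Category.assoc, ← hfY, sq3.lift_snd_assoc, sq3.lift_snd_assoc,
        Category.assoc, Category.assoc, h2]
  have a3 : sq3.lift g (ϖ ≫ w₁) c1 = sq3.lift g (ϖ ≫ w₂) c2 := top.hom_ext a1 a2
  rw [← cancel_epi ϖ, ← sq3.lift_snd g (ϖ ≫ w₁) c1, a3, sq3.lift_snd]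

include top hπ hfX hfY w sq1 sq2 sq3 in
/-- Descent of a cartesian square along an fppf covering of the base corner. -/
theorem isPullback_of_cube : IsPullback fX fY pX pY := by
  refine isPullback_of_points _ _ _ _ w ?_ ?_
  · intro T u v huv
    obtain ⟨T', ϖ, g, hϖ, hg⟩ := FppfCov.exists_lift π hπ (u ≫ pX)
    haveI := hϖ.epi
    have c1 : g ≫ π = (ϖ ≫ u) ≫ pX := by rw [hg, Category.assoc]
    have c2 : g ≫ π = (ϖ ≫ v) ≫ pY := by rw [hg, Category.assoc, huv]
    have c3 : sq1.lift g (ϖ ≫ u) c1 ≫ sX = sq2.lift g (ϖ ≫ v) c2 ≫ sY := by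
      rw [sq1.lift_fst, sq2.lift_fst]
    have e1 : (top.lift _ _ c3 ≫ qXY) ≫ fX = ϖ ≫ u := by
      rw [Category.assoc, hfX, top.lift_fst_assoc, sq1.lift_snd]
    have e2 : (top.lift _ _ c3 ≫ qXY) ≫ fY = ϖ ≫ v := by
      rw [Category.assoc, hfY, top.lift_snd_assoc, sq2.lift_snd]
    obtain ⟨t, ht⟩ := hϖ.exists_desc (top.lift _ _ c3 ≫ qXY) (by
      intro Z z₁ z₂ hz
      apply uniq tX tY sX sY top qXY qX qY π hπ fX fY pX pY hfX hfY w sq1 sq2 sq3
      · rw [Category.assoc, e1, Category.assoc, e1, ← Category.assoc, hz, Category.assoc]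
      · rw [Category.assoc, e2, Category.assoc, e2, ← Category.assoc, hz, Category.assoc])
    refine ⟨t, ?_, ?_⟩
    · rw [← cancel_epi ϖ, ← Category.assoc, ht, e1]
    · rw [← cancel_epi ϖ, ← Category.assoc, ht, e2]
  · intro T s t h1 h2
    exact uniq tX tY sX sY top qXY qX qY π hπ fX fY pX pY hfX hfY w sq1 sq2 sq3 s t h1 h2

/-- `G × (X × Y) = (G × X) ×_G (G × Y)`. -/
theorem isPullback_whiskerLeft_prod (G X Y : Over S) :
    IsPullback (G ◁ fst X Y) (G ◁ snd X Y) (fst G X) (fst G Y) := by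
  refine isPullback_of_points _ _ _ _ ?_ ?_ ?_
  · rw [whiskerLeft_fst, whiskerLeft_fst]
  · intro T a b hab
    refine ⟨lift (a ≫ fst G X) (lift (a ≫ snd G X) (b ≫ snd G Y)), ?_, ?_⟩
    · rw [lift_whiskerLeft, lift_fst]
      apply CartesianMonoidalCategory.hom_ext <;> simp
    · rw [lift_whiskerLeft, lift_snd, hab]
      apply CartesianMonoidalCategory.hom_ext <;> simp
  · intro T s t h1 h2
    apply CartesianMonoidalCategory.hom_ext
    · have := congrArg (· ≫ fst G X) h1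
      simpa using this
    · apply CartesianMonoidalCategory.hom_ext
      · have := congrArg (· ≫ snd G X) h1
        simpa using this
      · have := congrArg (· ≫ snd G Y) h2
        simpa using this

end Groth.Agent.Helper2.CubeDescent
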