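import Mathlib
import Groth.Prelude.Def_Flat
import Groth.Prelude.Def_CAlg
import Groth.Agent.Lib.Helper4.RelDim1
import Groth.Agent.Lib.Helper4.FTDim1
import Groth.Agent.Lib.Helper4.GenEqui1
import Groth.Agent.Lib.Helper4.JacDim2
import Groth.Agent.Lib.Helper3.FibStalk
import Groth.Agent.Lib.Helper8.FlatReg6
import Groth.Agent.Lib.Helper2.Sch.ProdLocalDim

/-!
# Flatness of morphisms with equidimensional fibres from a Cohen–Macaulay scheme to a regular
scheme (S10882) (helper2)
-/

set_option backward.isDefEq.respectTransparency.types false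
set_option autoImplicit false
set_option linter.unusedSectionVars false
set_option linter.style.haveILetI false
universe u
open CategoryTheory CategoryTheory.Limits AlgebraicGeometry TopologicalSpace Topology IsLocalRing
open Groth.Agent.Lib.Helper4.FibDim1 Groth.Agent.Lib.Helper4.FibDim2 Groth.Agent.Lib.Helper4.FibDim3
open Groth.Agent.Lib.Helper4.FibDim4 Groth.Agent.Lib.Helper4.RelDim1
open Groth.Agent.Lib.Helper4.JacDim1 Groth.Agent.Lib.Helper4.Chev6
open Groth.Agent.Lib.Helper4.PropDim1 Groth.Agent.Lib.Helper4.FTDim1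

namespace Groth.Agent.Helper2.EquidimFlat

theorem eq_natCast_of_add_natCast_eq {x : WithBot ℕ∞} {t e : ℕ}
    (h : x + (t : WithBot ℕ∞) = (e : WithBot ℕ∞)) : ∃ n : ℕ, x = (n : WithBot ℕ∞) ∧ n + t = e := by
  induction x with
  | bot => simp at h
  | coe m =>
    induction m with
    | top =>
      exfalso
      have h1 : ((⊤ : ℕ∞) : WithBot ℕ∞) + (t : WithBot ℕ∞) = ((⊤ : ℕ∞) : WithBot ℕ∞) := by
        change ((⊤ : ℕ∞) : WithBot ℕ∞) + (((t : ℕ∞)) : WithBot ℕ∞) = _
        rw [← WithBot.coe_add, top_add]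
      rw [h1] at h
      have h2 : ((⊤ : ℕ∞) : WithBot ℕ∞) = (((e : ℕ∞)) : WithBot ℕ∞) := h
      have h3 := WithBot.coe_injective h2
      exact absurd h3 (by simp)
    | coe n =>
      refine ⟨n, rfl, ?_⟩
      exact_mod_cast h

section Fibre

variable {X Y : Scheme.{u}} (f : X ⟶ Y) [LocallyOfFiniteType f]

/-- variant of helper4's `fiber_stalk_dim_add_tr` with the hypothesis on maximal points of the
fibres -/
theorem fiber_stalk_dim_add_tr' [IsLocallyNoetherian Y] (d : ℕ)
    (hd : ∀ z : X, (∀ z' : X, f z' = f z → z' ⤳ z → z' = z) → tr f z = d) (u : X) :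
    ringKrullDim ((f.fiber (f u)).presheaf.stalk (f.asFiber u)) + (tr f u : WithBot ℕ∞) = d := by
  rw [stalk_fiber_dim]
  apply le_antisymm
  · haveI : Nonempty {z : X // f z = f u} := ⟨⟨u, rfl⟩⟩
    have h1 : Order.krullDim {z : X // f z = f u} ≤ d := by
      apply krullDim_fibre_le
      intro z hz
      obtain ⟨zm, hzm, hsp, hmax⟩ := exists_max_ge f z
      rw [← hd zm hmax]
      exact tr_le_of_specializes f zm z hsp hzm
    rw [Order.krullDim_eq_iSup_height_add_coheight_of_nonempty] at h1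
    have h2 : Order.height (⟨u, rfl⟩ : {z : X // f z = f u}) +
        Order.coheight (⟨u, rfl⟩ : {z : X // f z = f u}) ≤
        ⨆ a : {z : X // f z = f u}, Order.height a + Order.coheight a :=
      le_iSup (fun a : {z : X // f z = f u} => Order.height a + Order.coheight a) ⟨u, rfl⟩
    rw [height_fib_eq f u] at h2
    have h3 := (WithBot.coe_le_coe.mpr h2).trans h1
    rw [add_comm]
    push_cast at h3
    exact h3
  · obtain ⟨zm, hzm, hsp, hmax⟩ := exists_max_ge f u
    have h1 := tr_le_coheight_add f u zm hsp hzm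
    rw [hd zm hmax] at h1
    have h2 := WithBot.coe_le_coe.mpr h1
    push_cast at h2
    exact h2

/-- if every irreducible component of every fibre (as a subspace) has dimension `c`, then the
points maximal in their fibre have residual transcendence degree `c` -/
theorem tr_eq_of_max_of_irrComp [IsLocallyNoetherian Y] (c : ℕ)
    (hfib : ∀ y : Y, ∀ Z ∈ irreducibleComponents (f.base ⁻¹' {y}), topologicalKrullDim Z = c)
    (z : X) (hmax : ∀ z' : X, f z' = f z → z' ⤳ z → z' = z) : tr f z = c := by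
  haveI : QuasiSober ↥(⇑f ⁻¹' {f z}) := (f.fiberHomeo (f z)).symm.isClosedEmbedding.quasiSober
  obtain ⟨ω, hω⟩ : ∃ ω : ↥(⇑f ⁻¹' {f z}), ω = ⟨z, rfl⟩ := ⟨_, rfl⟩
  have hω1 : ω.1 = z := by rw [hω]
  have hT : closure ({ω} : Set ↥(⇑f ⁻¹' {f z})) ∈ irreducibleComponents ↥(⇑f ⁻¹' {f z}) := by
    apply Groth.Agent.Lib.Helper4.JacDim2.closure_mem_irreducibleComponents_of_max
    intro b hb
    have h1 : b.1 ⤳ ω.1 := (Topology.IsInducing.subtypeVal.specializes_iff).mpr hb
    rw [hω1] at h1
    have h2 : b.1 = z := hmax b.1 b.2 h1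
    have h3 : b = ω := Subtype.ext (h2.trans hω1.symm)
    rw [h3]
  have h1 := hfib (f z) _ hT
  have himg : Subtype.val '' closure ({ω} : Set ↥(⇑f ⁻¹' {f z})) =
      closure ({z} : Set X) ∩ ⇑f ⁻¹' {f z} := by
    rw [Topology.IsInducing.subtypeVal.closure_eq_preimage_closure_image,
      Set.image_singleton, Subtype.image_preimage_coe, hω1]
    exact Set.inter_comm _ _
  have e1 : ↥(closure ({ω} : Set ↥(⇑f ⁻¹' {f z}))) ≃ₜ
      ↥(Subtype.val '' closure ({ω} : Set ↥(⇑f ⁻¹' {f z}))) :=
    Topology.IsEmbedding.subtypeVal.homeomorphImage _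
  rw [e1.isHomeomorph.topologicalKrullDim_eq, himg, dim_closure_inter_fiber f z (f z) rfl] at h1
  exact_mod_cast h1

/-- the dimension of the quotient of the local ring by the extension of the maximal ideal of the
base is the dimension of the local ring of the fibre -/
theorem quot_dim_eq (u : X) :
    ringKrullDim ((X.presheaf.stalk u) ⧸
      (maximalIdeal (Y.presheaf.stalk (f u))).map (f.stalkMap u).hom) =
      ringKrullDim ((f.fiber (f u)).presheaf.stalk (f.asFiber u)) := by
  have key : ∀ (y : Y) (x' : f.fiber y),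
      ringKrullDim ((X.presheaf.stalk (f.fiberι y x')) ⧸
        (maximalIdeal (Y.presheaf.stalk (f (f.fiberι y x')))).map
          (f.stalkMap (f.fiberι y x')).hom) =
      ringKrullDim ((f.fiber y).presheaf.stalk x') := by
    intro y x'
    rw [← Groth.Agent.Helper3.FibStalk.ker_stalkMap_fiberι f y x']
    exact ringKrullDim_eq_of_ringEquiv
      (RingHom.quotientKerEquivOfSurjective ((f.fiberι y).stalkMap_surjective x'))
  have h := key (f u) (f.asFiber u)
  have e : ∀ a b : X, a = b →
      ringKrullDim ((X.presheaf.stalk a) ⧸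
        (maximalIdeal (Y.presheaf.stalk (f a))).map (f.stalkMap a).hom) =
      ringKrullDim ((X.presheaf.stalk b) ⧸
        (maximalIdeal (Y.presheaf.stalk (f b))).map (f.stalkMap b).hom) := by
    rintro a _ rfl; rfl
  rw [e _ _ (f.fiberι_asFiber u)] at h
  exact h

end Fibre

/-- If all maximal points of a scheme locally of finite type over a field have residue field of
transcendence degree `c`, the scheme has local dimension `c` everywhere. -/
theorem localDim_eq_of_forall_max_tr {W : Scheme.{u}} (K : Type u) [Field K]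
    (g : W ⟶ Spec (.of K)) [LocallyOfFiniteType g] (c : ℕ)
    (hmax : ∀ ξ : W, (∀ b : W, b ⤳ ξ → b = ξ) → tr g ξ = c) (w : W) :
    FlatMor.localDim W w = (c : WithBot ℕ∞) := by
  haveI : Subsingleton ↥(Spec (.of K)) := inferInstanceAs (Subsingleton (PrimeSpectrum K))
  have hgen : ∀ u : W, ∃ ξ : W, ξ ⤳ u ∧ tr g ξ = c := by
    intro u
    obtain ⟨ξ, -, hsp, hm⟩ := exists_max_ge g u
    exact ⟨ξ, hsp, hmax ξ fun b hb => hm b (Subsingleton.elim _ _) hb⟩
  have hU : ∀ U : W.Opens, w ∈ U → topologicalKrullDim ↥(U : Set W) = (c : WithBot ℕ∞) := by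
    intro U hwU
    have htr : ∀ u : ↥U, tr (U.ι ≫ g) u = tr g u.1 := by
      intro u
      rw [Groth.Agent.Lib.Helper4.PropDim1.tr_comp U.ι g u,
        Groth.Agent.Lib.Helper4.Chev10.tr_of_surjectiveOnStalks U.ι u, add_zero]
      rfl
    apply le_antisymm
    · have h := dim_le_of_forall_tr K (U.ι ≫ g) (c : WithBot ℕ∞) (fun u => by
        rw [htr u]
        obtain ⟨ξ, hsp, hξ⟩ := hgen u.1
        rw [← hξ]
        exact_mod_cast tr_le_of_specializes_of_field K g ξ u.1 hsp)
      exact h
    · obtain ⟨ξ, hsp, hξ⟩ := hgen w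
      have hξU : ξ ∈ U := hsp.mem_open U.2 hwU
      have h := tr_le_dim K (U.ι ≫ g) ⟨ξ, hξU⟩
      rw [htr ⟨ξ, hξU⟩, hξ] at h
      exact h
  unfold FlatMor.localDim
  apply le_antisymm
  · exact (iInf_le _ (⟨⊤, trivial⟩ : {U : TopologicalSpace.Opens W // w ∈ U})).trans
      (le_of_eq (hU ⊤ trivial))
  · exact le_iInf fun U => le_of_eq (hU U.1 U.2).symm

/-- S10882 -/
theorem S10882_main (k : Type u) [Field k] {X Y : Scheme.{u}}
    (q : Y ⟶ Spec (CommRingCat.of k)) [LocallyOfFiniteType q] (f : X ⟶ Y)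
    [LocallyOfFiniteType (f ≫ q)]
    (hY : ∀ y : Y, IsRegularLocalRing (Y.presheaf.stalk y))
    (hX : ∀ x : X, LocCoh.IsCohenMacaulayLocalRing (X.presheaf.stalk x))
    (e d : ℕ) (hde : d ≤ e)
    (hXe : ∀ Z ∈ irreducibleComponents (X : Type u), topologicalKrullDim Z = e)
    (hYd : ∀ Z ∈ irreducibleComponents (Y : Type u), topologicalKrullDim Z = d)
    (hfib : ∀ y : Y, ∀ Z ∈ irreducibleComponents (f.base ⁻¹' {y}),
      topologicalKrullDim Z = (e - d : ℕ)) :
    Flat f := by
  haveI : LocallyOfFiniteType f := locallyOfFiniteType_of_comp f q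
  haveI : IsLocallyNoetherian Y := LocallyOfFiniteType.isLocallyNoetherian q
  haveI : IsLocallyNoetherian X := LocallyOfFiniteType.isLocallyNoetherian (f ≫ q)
  rw [Flat.iff_flat_stalkMap]
  intro u
  -- the dimensions
  have hA : FlatMor.localDim X u = (e : WithBot ℕ∞) :=
    localDim_eq_of_forall_max_tr k (f ≫ q) e (fun ξ hξ => by
      have h1 := hXe _ (closure_mem_irreducibleComponents_of_max ξ hξ)
      rw [dim_closure_of_field k (f ≫ q) ξ] at h1
      exact_mod_cast h1) u
  have hB : FlatMor.localDim Y (f u) = (d : WithBot ℕ∞) :=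
    localDim_eq_of_forall_max_tr k q d (fun ξ hξ => by
      have h1 := hYd _ (closure_mem_irreducibleComponents_of_max ξ hξ)
      rw [dim_closure_of_field k q ξ] at h1
      exact_mod_cast h1) (f u)
  rw [Groth.Agent.Helper2.ProdLocalDim.localDim_eq_stalk_add_tr k (f ≫ q) u] at hA
  rw [Groth.Agent.Helper2.ProdLocalDim.localDim_eq_stalk_add_tr k q (f u)] at hB
  have hC := fiber_stalk_dim_add_tr' f (e - d) (tr_eq_of_max_of_irrComp f (e - d) hfib) u
  rw [← quot_dim_eq f u] at hC
  have hT := Groth.Agent.Lib.Helper4.PropDim1.tr_comp f q u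
  obtain ⟨a, ha, ha'⟩ := eq_natCast_of_add_natCast_eq hA
  obtain ⟨b, hb, hb'⟩ := eq_natCast_of_add_natCast_eq hB
  obtain ⟨c, hc, hc'⟩ := eq_natCast_of_add_natCast_eq hC
  -- miracle flatness
  haveI := hY (f u)
  haveI := hX u
  letI : Algebra (Y.presheaf.stalk (f u)) (X.presheaf.stalk u) := (f.stalkMap u).hom.toAlgebra
  haveI : IsLocalHom (algebraMap (Y.presheaf.stalk (f u)) (X.presheaf.stalk u)) :=
    inferInstanceAs (IsLocalHom (f.stalkMap u).hom)
  have hdim : ringKrullDim (X.presheaf.stalk u) = ringKrullDim (Y.presheaf.stalk (f u)) +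
      ringKrullDim ((X.presheaf.stalk u) ⧸
        (maximalIdeal (Y.presheaf.stalk (f u))).map
          (algebraMap (Y.presheaf.stalk (f u)) (X.presheaf.stalk u))) := by
    change _ = _ + ringKrullDim ((X.presheaf.stalk u) ⧸
        (maximalIdeal (Y.presheaf.stalk (f u))).map (f.stalkMap u).hom)
    rw [ha, hb, hc]
    have : a = b + c := by omega
    rw [this]
    push_cast
    rfl
  exact Groth.Agent.Helper8.FlatReg.miracle_flatness hdim

end Groth.Agent.Helper2.EquidimFlat
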