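import Mathlib
import Groth.Prelude.Def_AlgGrp
import Groth.Agent.Lib.Helper2.Sch.OrbitFlat
import Groth.Agent.Lib.Helper6.GrpSch.Field
import Groth.Agent.Lib.Helper7.FibTop.Basic

/-!
# Orbits of rational points are locally closed (S7984) (helper2)
-/

set_option backward.isDefEq.respectTransparency.types false
set_option synthInstance.maxHeartbeats 400000
set_option autoImplicit false
set_option linter.unusedSectionVars false
set_option linter.style.haveILetI false
universe u
open CategoryTheory CategoryTheory.Limits AlgebraicGeometry TopologicalSpace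
open MonoidalCategory CartesianMonoidalCategory MonObj GrpObj
open Groth.Agent.Lib.Helper4.GrpShear1 Groth.Agent.Helper2.FlatPt

namespace Groth.Agent.Helper2.Orbit

section Sch

variable {S : Scheme.{u}} {G X : Over S} [GrpObj G]
  (act : G ⊗ X ⟶ X)
  (one_act : (η[G] ▷ X) ≫ act = (λ_ X).hom)
  (mul_act : (μ[G] ▷ X) ≫ act = (α_ G G X).hom ≫ (G ◁ act) ≫ act)
  (o : 𝟙_ (Over S) ⟶ X)

include mul_act in
/-- The orbit is stable under the action. -/
theorem act_mem_range_orbit {z : (G ⊗ X).left}
    (hz : (snd G X).left z ∈ Set.range (orbit act o).left) :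
    act.left z ∈ Set.range (orbit act o).left := by
  obtain ⟨g, hg⟩ := hz
  have sq := isPullback_whiskerLeft' (G := G) (orbit act o)
  obtain ⟨w, -, hw2⟩ := Scheme.exists_preimage_of_isPullback sq g z hg
  refine ⟨μ[G].left w, ?_⟩
  rw [← hw2, ← Scheme.Hom.comp_apply, ← Over.comp_left, ← Scheme.Hom.comp_apply,
    ← Over.comp_left, whiskerLeft_orbit_act act mul_act]

include mul_act in
/-- Two points of the orbit are related by a point of `G × X`. -/
theorem exists_point_of_mem_range_orbit [Subsingleton S] {y w : X.left}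
    (hy : y ∈ Set.range (orbit act o).left) (hw : w ∈ Set.range (orbit act o).left) :
    ∃ z : (G ⊗ X).left, (snd G X).left z = w ∧ act.left z = y := by
  obtain ⟨g₁, rfl⟩ := hy
  obtain ⟨g₀, rfl⟩ := hw
  have t : IsPullback (fst G G).left (snd G G).left G.hom G.hom :=
    IsPullback.of_hasPullback G.hom G.hom
  obtain ⟨z₀, hz1, hz2⟩ := Scheme.exists_preimage_of_isPullback t g₁ g₀ (Subsingleton.elim _ _)
  obtain ⟨ψ, hψ⟩ : ∃ ψ : G ⊗ G ⟶ G ⊗ G, ψ = lift (fst G G * (snd G G)⁻¹) (snd G G) := ⟨_, rfl⟩
  have h1 : ψ ≫ snd G G = snd G G := by rw [hψ, lift_snd]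
  have h2 : ψ ≫ μ[G] = fst G G := by
    rw [hψ, ← Hom.mul_def, inv_mul_cancel_right]
  refine ⟨(G ◁ orbit act o).left (ψ.left z₀), ?_, ?_⟩
  · rw [← Scheme.Hom.comp_apply, ← Over.comp_left, whiskerLeft_snd, ← Scheme.Hom.comp_apply,
      ← Over.comp_left, ← Category.assoc, h1, Over.comp_left, Scheme.Hom.comp_apply, hz2]
  · rw [← Scheme.Hom.comp_apply, ← Over.comp_left, whiskerLeft_orbit_act act mul_act,
      ← Scheme.Hom.comp_apply, ← Over.comp_left, ← Category.assoc, h2, Over.comp_left,
      Scheme.Hom.comp_apply, hz1]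

include one_act mul_act in
/-- The map `(g, x) ↦ (g⁻¹, g x)` exchanges the action and the second projection. -/
theorem twist_act : lift (fst G X ≫ ι[G]) act ≫ act = snd G X := by
  have h := Groth.Agent.Helper4.Act.mul_smul' act mul_act (fst G X ≫ ι[G]) (fst G X) (snd G X)
  have e : lift (fst G X) (snd G X) = 𝟙 (G ⊗ X) := by
    apply CartesianMonoidalCategory.hom_ext <;> simp
  rw [e, Category.id_comp] at h
  rw [← h, ← Hom.inv_def, inv_mul_cancel, Groth.Agent.Helper4.Act.one_smul' act one_act]

include one_act mul_act in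
/-- The action morphism is open on underlying spaces (over a one-point base). -/
theorem isOpenMap_act [Subsingleton S] : IsOpenMap act.left := by
  haveI : IsIso (actShear act) := isIso_actShear act one_act mul_act
  have h1 : act = actShear act ≫ snd G X := (actShear_snd act).symm
  have h2 : IsOpenMap (actShear act).left :=
    Groth.Agent.Lib.Helper6.GrpSch.Field.isOpenMap_left_of_iso (asIso (actShear act))
  have h3 : IsOpenMap (snd G X).left := Groth.Agent.Lib.Helper6.GrpSch.Field.isOpenMap_snd G X
  have h4 : (act.left : (G ⊗ X).left → X.left) = (snd G X).left ∘ (actShear act).left := by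
    funext z
    have := congrArg (fun t : G ⊗ X ⟶ X => t.left z) h1
    simpa only [Over.comp_left, Scheme.Hom.comp_apply, Function.comp_apply] using this
  rw [h4]
  exact h3.comp h2

include mul_act in
/-- The closure of the orbit is stable under the action. -/
theorem act_mem_closure_range_orbit [Subsingleton S] {z : (G ⊗ X).left}
    (hz : (snd G X).left z ∈ closure (Set.range (orbit act o).left)) :
    act.left z ∈ closure (Set.range (orbit act o).left) := by
  have h3 : IsOpenMap (snd G X).left := Groth.Agent.Lib.Helper6.GrpSch.Field.isOpenMap_snd G X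
  have h1 : z ∈ closure ((snd G X).left ⁻¹' Set.range (orbit act o).left) := by
    rw [← h3.preimage_closure_eq_closure_preimage (snd G X).left.continuous]
    exact hz
  have h2 := image_closure_subset_closure_image act.left.continuous (Set.mem_image_of_mem _ h1)
  refine closure_mono ?_ h2
  rintro _ ⟨z', hz', rfl⟩
  exact act_mem_range_orbit act mul_act o hz'

include one_act mul_act in
/-- The orbit of a section under a group scheme over a one-point base is locally closed as soon as
it is constructible. -/
theorem isLocallyClosed_range_orbit [Subsingleton S]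
    (hcons : Topology.IsConstructible (Set.range (orbit act o).left)) :
    IsLocallyClosed (Set.range (orbit act o).left) := by
  obtain ⟨R, hR⟩ : ∃ R, R = Set.range (orbit act o).left := ⟨_, rfl⟩
  rw [← hR] at hcons ⊢
  obtain ⟨O, hO, hO1, hO2⟩ := Groth.Agent.Helper7.FibTop.exists_open_dense hcons
  by_cases hne : R.Nonempty
  swap
  · rw [Set.not_nonempty_iff_eq_empty.mp hne]
    exact isClosed_empty.isLocallyClosed
  -- a point of the dense open part
  obtain ⟨w, hwO, hwR⟩ : (O ∩ R).Nonempty := by
    obtain ⟨r, hr⟩ := hne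
    have : r ∈ closure (O ∩ R) := hO2 (subset_closure hr)
    exact closure_nonempty_iff.mp ⟨r, this⟩
  have hact : IsOpenMap act.left := isOpenMap_act act one_act mul_act
  -- the relative interior
  obtain ⟨W, hW⟩ : ∃ W : Set X.left, W = act.left '' ((snd G X).left ⁻¹' O) := ⟨_, rfl⟩
  have hWo : IsOpen W := by
    rw [hW]; exact hact _ (hO.preimage (snd G X).left.continuous)
  have hRW : R ⊆ W := by
    intro y hy
    obtain ⟨z, hz1, hz2⟩ := exists_point_of_mem_range_orbit act mul_act o (hR ▸ hy) (hR ▸ hwR)
    rw [hW]
    exact ⟨z, by rw [Set.mem_preimage, hz1]; exact hwO, hz2⟩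
  have hWZ : W ∩ closure R ⊆ R := by
    rintro y' ⟨hy'W, hy'Z⟩
    rw [hW] at hy'W
    obtain ⟨z', hz'O, rfl⟩ := hy'W
    -- `snd z'` lies in the closure
    have hsnd : (snd G X).left z' ∈ closure R := by
      have hu : (snd G X).left ((lift (fst G X ≫ ι[G]) act).left z') ∈ closure R := by
        rw [← Scheme.Hom.comp_apply, ← Over.comp_left, lift_snd]; exact hy'Z
      have := act_mem_closure_range_orbit act mul_act o (hR ▸ hu)
      rw [← Scheme.Hom.comp_apply, ← Over.comp_left, twist_act act one_act mul_act, ← hR] at this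
      exact this
    have hmem : (snd G X).left z' ∈ R := hO1 ⟨hz'O, hsnd⟩
    have := act_mem_range_orbit act mul_act o (hR ▸ hmem)
    rw [hR]; exact this
  have hEq : R = W ∩ closure R :=
    subset_antisymm (fun y hy => ⟨hRW hy, subset_closure hy⟩) hWZ
  rw [hEq]
  exact hWo.isLocallyClosed.inter isClosed_closure.isLocallyClosed

end Sch

end Groth.Agent.Helper2.Orbit
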