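import Mathlib
import Groth.Prelude.Def_Flat
import Groth.Agent.Lib.Helper4.GrpIrr3
import Groth.Agent.Lib.Helper4.FibDimBC2
import Groth.Agent.Lib.Helper4.Chev2
import Groth.Agent.Lib.Helper8.TopDim2
import Groth.Agent.Lib.Helper2.AlgSp.FibreDimField
import Groth.Agent.Lib.Helper2.Sch.ProdLocalDim
import Groth.Agent.Lib.Helper4.JacDim1

/-!
# Group schemes locally of finite type over a field are equidimensional (S5341, S0354) (helper2)
-/

set_option backward.isDefEq.respectTransparency.types false
set_option synthInstance.maxHeartbeats 400000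
set_option autoImplicit false
set_option linter.unusedSectionVars false
set_option linter.style.haveILetI false
universe u
open CategoryTheory CategoryTheory.Limits AlgebraicGeometry TopologicalSpace IsLocalRing Opposite
open MonoidalCategory CartesianMonoidalCategory MonObj GrpObj
open Groth.Agent.Lib.Helper4.GrpShear1 Groth.Agent.Lib.Helper4.GrpIrr1
  Groth.Agent.Lib.Helper4.GrpIrr3

namespace Groth.Agent.Helper2.GrpDim

variable {K : Type u} [Field K] (G : Over (Spec (CommRingCat.of K))) [GrpObj G]
  [LocallyOfFiniteType G.hom]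

/-- Local dimension is invariant under extension of the ground field. -/
theorem localDim_bcπ (L : Type u) [Field L] [Algebra K L] (y : ((bcF L).obj G).left) :
    FlatMor.localDim ((bcF L).obj G).left y = FlatMor.localDim G.left (bcπ G L y) := by
  obtain ⟨g₀, hg₀⟩ : ∃ g₀, g₀ = Spec.map (CommRingCat.ofHom (algebraMap K L)) := ⟨_, rfl⟩
  have hsq : IsPullback (bcπ G L) ((bcF L).obj G).hom G.hom g₀ := by
    rw [hg₀]; exact IsPullback.of_hasPullback G.hom _
  haveI : Subsingleton ↥(Spec (CommRingCat.of K)) :=
    inferInstanceAs (Subsingleton (PrimeSpectrum K))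
  haveI : Subsingleton ↥(Spec (CommRingCat.of L)) :=
    inferInstanceAs (Subsingleton (PrimeSpectrum L))
  have h1 := Groth.Agent.Lib.Helper4.FibDimBC2.fibreDimAt_abs G.hom g₀ (bcπ G L)
    ((bcF L).obj G).hom hsq y
  rw [Groth.Agent.Helper2.FibreDimField.fibreDimAt_eq_localDim_of_subsingleton,
    Groth.Agent.Helper2.FibreDimField.fibreDimAt_eq_localDim_of_subsingleton] at h1
  exact h1

omit [LocallyOfFiniteType G.hom] in
/-- Translation by a rational point preserves local dimensions. -/
theorem localDim_point_eq (a : 𝟙_ (Over (Spec (CommRingCat.of K))) ⟶ G) :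
    FlatMor.localDim G.left (a.left (IsLocalRing.closedPoint K)) =
      FlatMor.localDim G.left (ept G) := by
  have hiso : IsIso (ltrans a).left := inferInstanceAs (IsIso ((Over.forget _).map (ltrans a)))
  have e : (ltrans a).left (ept G) = a.left (IsLocalRing.closedPoint K) := by
    rw [ept, ← Scheme.Hom.comp_apply, ← Over.comp_left, eta_ltrans]
  rw [← e]
  exact (Groth.Agent.Lib.Helper4.Chev2.localDim_homeomorph
    (Scheme.homeoOfIso (asIso (ltrans a).left)) (ept G)).symm

theorem localDim_eq_ept (x : G.left) :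
    FlatMor.localDim G.left x = FlatMor.localDim G.left (ept G) := by
  obtain ⟨φ, hφ⟩ : ∃ φ : CommRingCat.of K ⟶ G.left.residueField x,
      Spec.map φ = G.left.fromSpecResidueField x ≫ G.hom := ⟨Spec.preimage _, Spec.map_preimage _⟩
  letI alg : Algebra K (G.left.residueField x) := φ.hom.toAlgebra
  have hφ' : Spec.map (CommRingCat.ofHom (algebraMap K (G.left.residueField x))) =
      G.left.fromSpecResidueField x ≫ G.hom := by
    rw [← hφ]; rfl
  obtain ⟨σl, hσl⟩ : ∃ σl : Spec (CommRingCat.of (G.left.residueField x)) ⟶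
      ((bcF (G.left.residueField x)).obj G).left,
      σl = pullback.lift (G.left.fromSpecResidueField x) (𝟙 _) (by rw [Category.id_comp, hφ']) :=
    ⟨_, rfl⟩
  have h1 : σl ≫ bcπ G (G.left.residueField x) = G.left.fromSpecResidueField x := by
    rw [hσl, bcπ]; exact pullback.lift_fst _ _ _
  have h2 : σl ≫ ((bcF (G.left.residueField x)).obj G).hom = 𝟙 _ := by
    rw [hσl]; exact pullback.lift_snd _ _ _
  obtain ⟨σ, hσ⟩ : ∃ σ : 𝟙_ (Over (Spec (CommRingCat.of (G.left.residueField x)))) ⟶
      (bcF (G.left.residueField x)).obj G, σ.left = σl := ⟨Over.homMk σl h2, rfl⟩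
  have e : bcπ G (G.left.residueField x)
      (σ.left (IsLocalRing.closedPoint (G.left.residueField x))) = x := by
    rw [hσ, ← Scheme.Hom.comp_apply, h1]
    exact G.left.fromSpecResidueField_apply x _
  haveI : LocallyOfFiniteType ((bcF (G.left.residueField x)).obj G).hom :=
    MorphismProperty.pullback_snd _ _ inferInstance
  have k1 := localDim_point_eq ((bcF (G.left.residueField x)).obj G) σ
  rw [localDim_bcπ G (G.left.residueField x), localDim_bcπ G (G.left.residueField x), e,
    bcπ_ept] at k1
  exact k1

theorem localDim_eq_dim (x : G.left) :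
    FlatMor.localDim G.left x = topologicalKrullDim G.left := by
  rw [Groth.Agent.Helper8.TopDim2.dim_eq_iSup_localDim]
  apply le_antisymm
  · exact le_iSup (fun y => FlatMor.localDim G.left y) x
  · apply iSup_le
    intro y
    rw [localDim_eq_ept G y, localDim_eq_ept G x]

theorem dim_irreducibleComponent_eq (Z : Set G.left) (hZ : Z ∈ irreducibleComponents ↥G.left) :
    topologicalKrullDim ↥Z = topologicalKrullDim ↥G.left := by
  haveI : IsLocallyNoetherian G.left := LocallyOfFiniteType.isLocallyNoetherian G.hom
  have hopen : IsOpen Z := isOpen_of_mem_irreducibleComponents (uniqComp_all G) hZ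
  obtain ⟨ξ, hξ⟩ := hZ.1.nonempty
  apply le_antisymm
  · exact Topology.IsEmbedding.subtypeVal.isInducing.topologicalKrullDim_le
  · have h1 := Groth.Agent.Lib.Helper4.Chev2.localDim_openEmbedding (Subtype.val : Z → G.left)
      hopen.isOpenEmbedding_subtypeVal ⟨ξ, hξ⟩
    rw [localDim_eq_dim G ξ] at h1
    rw [← h1]
    exact Groth.Agent.Helper8.TopDim2.localDim_le_dim _

theorem S5341_main :
    (∀ Z ∈ irreducibleComponents ↥G.left, topologicalKrullDim ↥Z = topologicalKrullDim ↥G.left) ∧
    (∀ g : G.left, FlatMor.localDim ↥G.left g = topologicalKrullDim ↥G.left) :=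
  ⟨fun Z hZ => dim_irreducibleComponent_eq G Z hZ, fun g => localDim_eq_dim G g⟩

theorem S0354_main (g : G.left) (hg : IsClosed ({g} : Set G.left)) :
    ringKrullDim (G.left.presheaf.stalk g) = topologicalKrullDim G.left := by
  haveI : IsLocallyNoetherian (Spec (CommRingCat.of K)) := inferInstance
  rw [← localDim_eq_dim G g,
    Groth.Agent.Helper2.ProdLocalDim.localDim_eq_stalk_add_tr K G.hom g,
    Groth.Agent.Lib.Helper4.JacDim1.tr_eq_zero_of_isClosed G.hom g hg]
  simp

end Groth.Agent.Helper2.GrpDim
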