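import Mathlib
import Groth.Prelude.Def_CAlgX
import Groth.Agent.Lib.Helper2.Sch.SmoothFieldRegular
import Groth.Agent.Lib.Helper8.AdicFS1
import Groth.Agent.S2451
import Groth.Agent.S2453
import Groth.Agent.S4578

/-!
# Over a perfect field the smooth locus is the regular locus (S1561) (helper2)
-/

set_option autoImplicit false
universe u

namespace Groth.Agent.Helper2.SmoothFieldRegular

open CategoryTheory CategoryTheory.Limits AlgebraicGeometry IsLocalRing CAlgX

/-- A regular local algebra essentially of finite type over a field `k`, with residue field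
separable over `k`, is formally smooth over `k`. -/
theorem formallySmooth_of_isRegularLocalRing_of_geomReduced {k B : Type u} [Field k] [CommRing B]
    [Algebra k B] [IsLocalRing B] [Algebra.EssFiniteType k B]
    [Algebra.IsGeometricallyReduced k (ResidueField B)]
    (hregB : IsRegularLocalRing B) : Algebra.FormallySmooth k B := by
  haveI := hregB
  haveI : IsNoetherianRing B := inferInstance
  have hadic : IsAdicFormallySmooth k B (maximalIdeal B) :=
    ((Groth.Agent.S2453.result (k := k) (A := B)).out 0 3).2 hregB
  -- present `B` as the localization of a finite type algebra at a prime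
  let C := Algebra.EssFiniteType.subalgebra k B
  let p : Ideal C := (maximalIdeal B).comap (algebraMap C B)
  haveI : p.IsPrime := Ideal.comap_isPrime _ _
  have hM : Algebra.EssFiniteType.submonoid k B = p.primeCompl := by
    ext x
    show IsUnit (algebraMap C B x) ↔ x ∉ p
    rw [Ideal.mem_comap, mem_maximalIdeal, mem_nonunits_iff, not_not]
  haveI : IsLocalization p.primeCompl B := hM ▸ Algebra.EssFiniteType.isLocalization k B
  let e : Localization.AtPrime p ≃ₐ[k] B :=
    (IsLocalization.algEquiv p.primeCompl (Localization.AtPrime p) B).restrictScalars k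
  have hadic' : IsAdicFormallySmooth k (Localization.AtPrime p)
      (maximalIdeal (Localization.AtPrime p)) := by
    refine Groth.Agent.Helper8.AdicFS.of_algEquiv hadic e (fun x hx => ?_)
    rw [mem_maximalIdeal, mem_nonunits_iff] at hx ⊢
    intro hu
    apply hx
    have := hu.map e
    rwa [AlgEquiv.apply_symm_apply] at this
  haveI : Algebra.FormallySmooth k (Localization.AtPrime p) :=
    ((Groth.Agent.S4578.result (k₀ := k) (k := k) (C := C) p).out 1 0).1 hadic'
  exact Algebra.FormallySmooth.of_equiv e

set_option backward.isDefEq.respectTransparency false in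
/-- Over a perfect field, a point with regular local ring lies in the smooth locus. -/
theorem mem_smoothLocus_of_isRegularLocalRing {K : Type u} [Field K] [PerfectField K]
    {X : Scheme.{u}} (f : X ⟶ Spec (.of K)) [LocallyOfFinitePresentation f] (x : ↥X)
    (hreg : IsRegularLocalRing ↥(X.presheaf.stalk x)) : x ∈ f.smoothLocus := by
  have := LocallyOfFiniteType.stalkMap f x
  rw [Scheme.Hom.mem_smoothLocus]
  algebraize [(f.stalkMap x).hom]
  let K' := (Spec.structureSheaf K).presheaf.stalk (f x)
  let e : K ≃ₐ[K] K' := IsLocalization.atUnits _ (f x).asIdeal.primeCompl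
      (fun x hx ↦ by aesop (add simp IsUnit.mem_submonoid_iff))
  have : Algebra.IsAlgebraic K K' :=
    .of_injective e.symm.toAlgHom e.symm.injective
  let : Field K' := (e.toRingEquiv.symm.isField (Field.toIsField K)).toField
  let : Field ((Spec (.of K)).presheaf.stalk (f x)) := this
  have : PerfectField ((Spec (.of K)).presheaf.stalk (f x)) :=
    Algebra.IsAlgebraic.perfectField (K := K)
      (L := (Spec.structureSheaf K).presheaf.stalk (f x))
  haveI : Algebra.FiniteType ↥(X.presheaf.stalk x) (ResidueField ↥(X.presheaf.stalk x)) :=
    Algebra.FiniteType.of_surjective (Algebra.ofId ↥(X.presheaf.stalk x)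
      (ResidueField ↥(X.presheaf.stalk x))) IsLocalRing.residue_surjective
  haveI : Algebra.EssFiniteType ((Spec (.of K)).presheaf.stalk (f x))
      (ResidueField ↥(X.presheaf.stalk x)) :=
    Algebra.EssFiniteType.comp _ ↥(X.presheaf.stalk x) _
  haveI : Algebra.IsGeometricallyReduced ((Spec (.of K)).presheaf.stalk (f x))
      (ResidueField ↥(X.presheaf.stalk x)) :=
    (Groth.Agent.S2451.result (k := (Spec (.of K)).presheaf.stalk (f x))
      (K := ResidueField ↥(X.presheaf.stalk x))).1 inferInstance
  exact formallySmooth_of_isRegularLocalRing_of_geomReduced hreg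

/-- S1561 -/
theorem S1561_main (k : Type u) [Field k] [PerfectField k] {X : Scheme.{u}}
    (f : X ⟶ Spec (CommRingCat.of k)) [IsReduced X] [LocallyOfFinitePresentation f] :
    (∀ x : ↥X, x ∈ f.smoothLocus ↔ IsRegularLocalRing ↥(X.presheaf.stalk x)) ∧
      Dense (f.smoothLocus : Set ↥X) := by
  haveI : IsLocallyNoetherian X := LocallyOfFiniteType.isLocallyNoetherian f
  refine ⟨fun x => ⟨fun h => isRegularLocalRing_stalk_of_formallySmooth k f x h,
    fun h => mem_smoothLocus_of_isRegularLocalRing f x h⟩, ?_⟩
  exact f.dense_smoothLocus_of_perfectField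

end Groth.Agent.Helper2.SmoothFieldRegular
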