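import Mathlib
import Groth.Prelude.Def_Flat
import Groth.Agent.Lib.Helper2.Sch.GrpDim
import Groth.Agent.Lib.Helper2.Sch.SmoothFieldRegular2
import Groth.Agent.Lib.Helper4.PropDim1
import Groth.Agent.Lib.Helper4.Aff2
import Groth.Agent.Lib.Helper6.GrpSm.Perfect

/-!
# Smoothness of a group scheme over a field and the cotangent space at the unit (S7822) (helper2)
-/

set_option backward.isDefEq.respectTransparency.types false
set_option synthInstance.maxHeartbeats 400000
set_option autoImplicit false
set_option linter.unusedSectionVars false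
set_option linter.style.haveILetI false
universe u
open CategoryTheory CategoryTheory.Limits AlgebraicGeometry TopologicalSpace IsLocalRing Opposite
open MonoidalCategory CartesianMonoidalCategory MonObj GrpObj
open Groth.Agent.Lib.Helper4.GrpShear1 Groth.Agent.Lib.Helper4.GrpIrr1
  Groth.Agent.Lib.Helper4.GrpIrr3

namespace Groth.Agent.Helper2.GrpSmoothUnit

/-- At a point in the image of a section, the residue field is generated by the base. -/
theorem residue_stalkMap_surjective_of_section {X Y : Scheme.{u}} (f : X ⟶ Y) (s : Y ⟶ X)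
    (hs : s ≫ f = 𝟙 Y) (y : Y) :
    Function.Surjective (fun a : Y.presheaf.stalk (f (s y)) =>
      residue (X.presheaf.stalk (s y)) ((f.stalkMap (s y)).hom a)) := by
  have hcomp : (s ≫ f).stalkMap y = f.stalkMap (s y) ≫ s.stalkMap y :=
    Scheme.Hom.stalkMap_comp s f y
  haveI hiso : IsIso ((s ≫ f).stalkMap y) := by
    rw [Scheme.Hom.stalkMap_congr_hom _ _ hs y]
    infer_instance
  have hbij : Function.Bijective ((s ≫ f).stalkMap y).hom :=
    ConcreteCategory.bijective_of_isIso _
  intro c
  obtain ⟨a, rfl⟩ := residue_surjective c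
  obtain ⟨b, hb⟩ := hbij.2 ((s.stalkMap y).hom a)
  refine ⟨b, ?_⟩
  show residue _ ((f.stalkMap (s y)).hom b) = residue _ a
  rw [← sub_eq_zero, ← map_sub, residue_eq_zero_iff]
  by_contra hu
  have hu' : IsUnit ((f.stalkMap (s y)).hom b - a) := by
    by_contra h; exact hu ((mem_maximalIdeal _).2 h)
  have h2 := hu'.map (s.stalkMap y).hom
  rw [map_sub] at h2
  have h3 : (s.stalkMap y).hom ((f.stalkMap (s y)).hom b) = (s.stalkMap y).hom a := by
    rw [← hb, hcomp]; rfl
  rw [h3, sub_self] at h2
  exact not_isUnit_zero h2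

set_option backward.isDefEq.respectTransparency false in
/-- Over a field, a point with regular local ring whose residue field is the base field lies in
the smooth locus. -/
theorem mem_smoothLocus_of_isRegularLocalRing_of_surjective {K : Type u} [Field K]
    {X : Scheme.{u}} (f : X ⟶ Spec (.of K)) [LocallyOfFinitePresentation f] (x : ↥X)
    (hreg : IsRegularLocalRing ↥(X.presheaf.stalk x))
    (hsurj : Function.Surjective (fun a : (Spec (.of K)).presheaf.stalk (f x) =>
      residue (X.presheaf.stalk x) ((f.stalkMap x).hom a))) : x ∈ f.smoothLocus := by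
  have := LocallyOfFiniteType.stalkMap f x
  rw [Scheme.Hom.mem_smoothLocus]
  algebraize [(f.stalkMap x).hom]
  let K' := (Spec.structureSheaf K).presheaf.stalk (f x)
  let e : K ≃ₐ[K] K' := IsLocalization.atUnits _ (f x).asIdeal.primeCompl
      (fun x hx ↦ by aesop (add simp IsUnit.mem_submonoid_iff))
  let : Field K' := (e.toRingEquiv.symm.isField (Field.toIsField K)).toField
  let : Field ((Spec (.of K)).presheaf.stalk (f x)) := this
  haveI : Algebra.FiniteType ↥(X.presheaf.stalk x) (ResidueField ↥(X.presheaf.stalk x)) :=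
    Algebra.FiniteType.of_surjective (Algebra.ofId ↥(X.presheaf.stalk x)
      (ResidueField ↥(X.presheaf.stalk x))) IsLocalRing.residue_surjective
  haveI : Algebra.EssFiniteType ((Spec (.of K)).presheaf.stalk (f x))
      (ResidueField ↥(X.presheaf.stalk x)) :=
    Algebra.EssFiniteType.comp _ ↥(X.presheaf.stalk x) _
  have hbij : Function.Bijective (algebraMap ((Spec (.of K)).presheaf.stalk (f x))
      (ResidueField ↥(X.presheaf.stalk x))) :=
    ⟨RingHom.injective _, hsurj⟩
  let e2 : ((Spec (.of K)).presheaf.stalk (f x)) ≃ₐ[(Spec (.of K)).presheaf.stalk (f x)]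
      ResidueField ↥(X.presheaf.stalk x) :=
    AlgEquiv.ofBijective (Algebra.ofId _ _) hbij
  haveI : Algebra.FormallySmooth ((Spec (.of K)).presheaf.stalk (f x))
      (ResidueField ↥(X.presheaf.stalk x)) := Algebra.FormallySmooth.of_equiv e2
  haveI : Algebra.IsGeometricallyReduced ((Spec (.of K)).presheaf.stalk (f x))
      (ResidueField ↥(X.presheaf.stalk x)) :=
    (Groth.Agent.S2451.result (k := (Spec (.of K)).presheaf.stalk (f x))
      (K := ResidueField ↥(X.presheaf.stalk x))).1 inferInstance
  exact Groth.Agent.Helper2.SmoothFieldRegular.formallySmooth_of_isRegularLocalRing_of_geomReduced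
    hreg

open MonObj in
/-- A group scheme locally of finite type over a field with nonempty smooth locus is smooth. -/
theorem smooth_of_grpObj_of_nonempty_smoothLocus {K : Type u} [Field K] {G : Scheme.{u}}
    (f : G ⟶ Spec (.of K)) [LocallyOfFiniteType f] [GrpObj (Over.mk f)]
    (hne : (f.smoothLocus : Set G).Nonempty) : Smooth f := by
  let Ω : Type u := AlgebraicClosure K
  let g : Spec (.of Ω) ⟶ Spec (.of K) := Spec.map (CommRingCat.ofHom <| algebraMap K Ω)
  apply MorphismProperty.of_pullback_snd_of_descendsAlong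
    (Q := @Surjective ⊓ @Flat ⊓ @QuasiCompact) (g := g)
  · exact ⟨⟨inferInstance, inferInstance⟩, inferInstance⟩
  · let : GrpObj (Over.mk (Limits.pullback.snd f g)) := Over.grpObjMkPullbackSnd
    apply Groth.Agent.Lib.Helper6.GrpSm.smooth_of_grpObj_of_isAlgClosed_of_nonempty
    obtain ⟨y, hy⟩ := hne
    obtain ⟨z, hz⟩ := (Limits.pullback.fst f g).surjective y
    refine ⟨z, ?_⟩
    exact Groth.Agent.Lib.Helper6.EtLoc.mem_smoothLocus_of_isPullback f g
      (Limits.pullback.snd f g) (Limits.pullback.fst f g) (IsPullback.of_hasPullback f g) z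
      (hz ▸ hy)

section Grp

variable {K : Type u} [Field K] (G : Over (Spec (CommRingCat.of K))) [GrpObj G]
  [LocallyOfFiniteType G.hom]

omit [LocallyOfFiniteType G.hom] in
theorem eta_left_hom : η[G].left ≫ G.hom = 𝟙 (Spec (CommRingCat.of K)) := by
  exact Over.w η[G]

/-- A group scheme over a field is smooth as soon as its unit lies in the smooth locus. -/
theorem smooth_of_ept_mem_smoothLocus (h : ept G ∈ G.hom.smoothLocus) : Smooth G.hom := by
  haveI hG : GrpObj (Over.mk G.hom) := inferInstanceAs (GrpObj G)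
  exact smooth_of_grpObj_of_nonempty_smoothLocus G.hom ⟨ept G, h⟩

/-- The transcendence degree of the residue field at the unit is zero. -/
theorem tr_ept : Groth.Agent.Lib.Helper4.FibDim1.tr G.hom (ept G) = 0 := by
  haveI : LocallyOfFiniteType (η[G].left ≫ G.hom) := by
    rw [eta_left_hom]
    haveI : IsIso (𝟙 (Spec (CommRingCat.of K))) := IsIso.id _
    exact locallyOfFiniteType_of_isOpenImmersion _
  haveI : LocallyOfFiniteType η[G].left := locallyOfFiniteType_of_comp η[G].left G.hom
  have h1 := Groth.Agent.Lib.Helper4.PropDim1.tr_comp η[G].left G.hom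
    (IsLocalRing.closedPoint K)
  have h2 : Groth.Agent.Lib.Helper4.FibDim1.tr (η[G].left ≫ G.hom)
      (IsLocalRing.closedPoint K) = 0 := by
    have key : ∀ (g : Spec (CommRingCat.of K) ⟶ Spec (CommRingCat.of K))
        [LocallyOfFiniteType g], g = 𝟙 _ →
        Groth.Agent.Lib.Helper4.FibDim1.tr g (IsLocalRing.closedPoint K) = 0 := by
      intro g _ hg
      subst hg
      exact Groth.Agent.Lib.Helper4.Aff2.tr_eq_zero_of_locallyQuasiFinite _ _
    exact key _ (eta_left_hom G)
  rw [h2] at h1
  have : Groth.Agent.Lib.Helper4.FibDim1.tr G.hom (η[G].left (IsLocalRing.closedPoint K)) = 0 := by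
    omega
  exact this

/-- The dimension of a group scheme is the dimension of its local ring at the unit. -/
theorem dim_eq_ringKrullDim_stalk_ept :
    topologicalKrullDim G.left = ringKrullDim (G.left.presheaf.stalk (ept G)) := by
  rw [← Groth.Agent.Helper2.GrpDim.localDim_eq_dim G (ept G),
    Groth.Agent.Helper2.ProdLocalDim.localDim_eq_stalk_add_tr K G.hom (ept G), tr_ept G]
  simp

theorem cast_eq (n : ℕ) : ((n : ℕ∞) : WithBot ℕ∞) = (n : WithBot ℕ∞) := rfl

/-- S7822 -/
theorem S7822_main :
    (topologicalKrullDim G.left ≤ ((Module.finrank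
        (IsLocalRing.ResidueField (G.left.presheaf.stalk (ept G)))
        (IsLocalRing.CotangentSpace (G.left.presheaf.stalk (ept G))) : ℕ∞) : WithBot ℕ∞)) ∧
    (Smooth G.hom ↔ topologicalKrullDim G.left = ((Module.finrank
        (IsLocalRing.ResidueField (G.left.presheaf.stalk (ept G)))
        (IsLocalRing.CotangentSpace (G.left.presheaf.stalk (ept G))) : ℕ∞) : WithBot ℕ∞)) ∧
    (Smooth G.hom ↔ ∃ U : G.left.Opens, ept G ∈ U ∧ Smooth (U.ι ≫ G.hom)) := by
  haveI : IsLocallyNoetherian G.left := LocallyOfFiniteType.isLocallyNoetherian G.hom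
  haveI : IsNoetherianRing (G.left.presheaf.stalk (ept G)) := inferInstance
  have h0 := dim_eq_ringKrullDim_stalk_ept G
  have hreg_smooth : IsRegularLocalRing (G.left.presheaf.stalk (ept G)) → Smooth G.hom := by
    intro hreg
    apply smooth_of_ept_mem_smoothLocus G
    have hs := residue_stalkMap_surjective_of_section G.hom η[G].left (eta_left_hom G)
      (IsLocalRing.closedPoint K)
    exact mem_smoothLocus_of_isRegularLocalRing_of_surjective G.hom (ept G) hreg hs
  refine ⟨?_, ?_, ?_⟩
  · rw [h0, cast_eq, ← spanFinrank_maximalIdeal_eq_finrank_cotangentSpace]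
    exact ringKrullDim_le_spanFinrank_maximalIdeal _
  · rw [h0, cast_eq]
    constructor
    · intro hsm
      have hreg := Groth.Agent.Helper2.SmoothFieldRegular.S1535_main K G.hom (ept G)
      exact ((IsRegularLocalRing.iff_finrank_cotangentSpace _).1 hreg).symm
    · intro h
      exact hreg_smooth ((IsRegularLocalRing.iff_finrank_cotangentSpace _).2 h.symm)
  · constructor
    · intro hsm
      refine ⟨⊤, trivial, ?_⟩
      infer_instance
    · rintro ⟨U, heU, hU⟩
      apply smooth_of_ept_mem_smoothLocus G
      have h1 : U.ι ⁻¹ᵁ G.hom.smoothLocus = (U.ι ≫ G.hom).smoothLocus :=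
        Scheme.Hom.preimage_smoothLocus_eq U.ι G.hom
      rw [(U.ι ≫ G.hom).smoothLocus_eq_top] at h1
      have h2 : (⟨ept G, heU⟩ : U) ∈ U.ι ⁻¹ᵁ G.hom.smoothLocus := by rw [h1]; trivial
      exact h2

end Grp

end Groth.Agent.Helper2.GrpSmoothUnit
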