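import Mathlib
import Groth.Agent.Lib.Helper6.Cartier.Main
import Groth.Agent.Lib.Helper2.Sch.SmoothFieldRegular2
import Groth.Agent.Lib.Helper2.Sch.GrpSmoothUnit

/-!
# A reduced local ring on a scheme locally of finite type over a perfect field forces a smooth
point nearby (helper2)

* `isReduced_stalk_of_specializes`: generizations of a point with reduced local ring have reduced
  local ring.
* `exists_mem_smoothLocus_of_isReduced_stalk`: if `X` is locally of finite type over a perfect
  field and the local ring at `x` is reduced then the smooth locus of `X` is non-empty (it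
  contains the generic point of any irreducible component through `x`).
* `smooth_of_grpObj_of_isReduced_stalk`: a group scheme locally of finite type over a perfect
  field one of whose local rings is reduced is smooth.
-/

set_option backward.isDefEq.respectTransparency.types false
set_option autoImplicit false
set_option linter.unusedSectionVars false
set_option linter.style.haveILetI false
universe u
open CategoryTheory CategoryTheory.Limits AlgebraicGeometry TopologicalSpace IsLocalRing

namespace Groth.Agent.Helper2.RedStalk

/-- Generizations of a point with reduced local ring have reduced local ring. -/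
theorem isReduced_stalk_of_specializes {X : Scheme.{u}} {ξ x : X} (hsp : ξ ⤳ x)
    (hred : _root_.IsReduced (X.presheaf.stalk x)) : _root_.IsReduced (X.presheaf.stalk ξ) := by
  obtain ⟨U, hU, hxU, -⟩ := exists_isAffineOpen_mem_and_subset (x := x)
    (U := (⊤ : X.Opens)) trivial
  have hξU : ξ ∈ U := hsp.mem_open U.2 hxU
  have hle : (hU.primeIdealOf ⟨ξ, hξU⟩).asIdeal ≤ (hU.primeIdealOf ⟨x, hxU⟩).asIdeal := by
    have h1 : (⟨ξ, hξU⟩ : U) ⤳ ⟨x, hxU⟩ := (subtype_specializes_iff _ _).mpr hsp
    have h2 := h1.map hU.isoSpec.hom.continuous
    exact (PrimeSpectrum.le_iff_specializes _ _).mpr h2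
  let _ := X.presheaf.algebra_section_stalk ⟨ξ, hξU⟩
  let _ := X.presheaf.algebra_section_stalk ⟨x, hxU⟩
  have l1 := hU.isLocalization_stalk ⟨ξ, hξU⟩
  have l2 := hU.isLocalization_stalk ⟨x, hxU⟩
  haveI : _root_.IsReduced (X.presheaf.stalk x) := hred
  exact Groth.Agent.Lib.Helper6.Cartier.isReduced_localization_of_le hle (X.presheaf.stalk ξ)
    (X.presheaf.stalk x)

/-- If the local ring at `x` is reduced, the local ring at the generic point of an irreducible
component through `x` is a field. -/
theorem exists_specializes_isField_stalk {X : Scheme.{u}} (x : X)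
    (hred : _root_.IsReduced (X.presheaf.stalk x)) :
    ∃ ξ : X, ξ ⤳ x ∧ IsField (X.presheaf.stalk ξ) := by
  obtain ⟨Z, hZ, hxZ⟩ : ∃ Z ∈ irreducibleComponents X, x ∈ Z :=
    ⟨irreducibleComponent x, irreducibleComponent_mem_irreducibleComponents _,
      mem_irreducibleComponent⟩
  have hcl : IsClosed Z := isClosed_of_mem_irreducibleComponents _ hZ
  obtain ⟨ξ, hξ⟩ : ∃ ξ, ξ = hZ.1.genericPoint := ⟨_, rfl⟩
  have hgen : IsGenericPoint ξ Z := hξ ▸ hZ.1.isGenericPoint_genericPoint hcl
  have hsp : ξ ⤳ x := by
    rw [specializes_iff_mem_closure, hgen.def]; exact hxZ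
  have h0 : ringKrullDim (X.presheaf.stalk ξ) = 0 := by
    rw [ringKrullDim_stalk_eq_coheight]
    have : Order.coheight ξ = 0 := by
      rw [Order.coheight_eq_zero]
      intro b hb
      have hbξ : b ⤳ ξ := hb
      have hsub : Z ⊆ closure ({b} : Set X) := by
        rw [← hgen.def]
        exact closure_minimal (Set.singleton_subset_iff.mpr hbξ.mem_closure) isClosed_closure
      have hle : closure ({b} : Set X) ⊆ Z := hZ.2 isIrreducible_singleton.closure hsub
      have hbZ : b ∈ closure ({ξ} : Set X) := by
        rw [hgen.def]; exact hle (subset_closure rfl)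
      exact (specializes_iff_mem_closure.mpr hbZ : ξ ⤳ b)
    rw [this]; rfl
  haveI hredξ : _root_.IsReduced (X.presheaf.stalk ξ) := isReduced_stalk_of_specializes hsp hred
  haveI : Ring.KrullDimLE 0 (X.presheaf.stalk ξ) :=
    Ring.krullDimLE_iff.mpr (by rw [h0]; rfl)
  exact ⟨ξ, hsp, Ring.KrullDimLE.isField_of_isReduced⟩

/-- If `X` is locally of finite type over a perfect field and some local ring of `X` is reduced,
then the smooth locus of `X` is non-empty. -/
theorem exists_mem_smoothLocus_of_isReduced_stalk {K : Type u} [Field K] [PerfectField K]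
    {X : Scheme.{u}} (f : X ⟶ Spec (.of K)) [LocallyOfFiniteType f] (x : X)
    (hred : _root_.IsReduced (X.presheaf.stalk x)) : (f.smoothLocus : Set X).Nonempty := by
  haveI : LocallyOfFinitePresentation f :=
    LocallyOfFinitePresentation.iff_locallyOfFiniteType.2 inferInstance
  obtain ⟨ξ, -, hfield⟩ := exists_specializes_isField_stalk x hred
  have hreg : IsRegularLocalRing (X.presheaf.stalk ξ) :=
    Groth.Agent.Helper8.Depth.isRegularLocalRing_of_isField _ hfield
  exact ⟨ξ, Groth.Agent.Helper2.SmoothFieldRegular.mem_smoothLocus_of_isRegularLocalRing f ξ hreg⟩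

/-- A group scheme locally of finite type over a perfect field one of whose local rings is
reduced is smooth. -/
theorem smooth_of_grpObj_of_isReduced_stalk {K : Type u} [Field K] [PerfectField K]
    {G : Scheme.{u}} (f : G ⟶ Spec (.of K)) [LocallyOfFiniteType f] [GrpObj (Over.mk f)] (x : G)
    (hred : _root_.IsReduced (G.presheaf.stalk x)) : Smooth f :=
  Groth.Agent.Helper2.GrpSmoothUnit.smooth_of_grpObj_of_nonempty_smoothLocus f
    (exists_mem_smoothLocus_of_isReduced_stalk f x hred)

end Groth.Agent.Helper2.RedStalk
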