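import Mathlib
import Groth.Prelude.Def_AlgGrp
import Groth.Agent.Lib.Helper2.EtaleLocal
import Groth.Agent.Lib.Helper3.FppfDesc3
import Groth.Agent.Lib.Helper4.GrpKer2
import Groth.Agent.Lib.Helper7.GrpUnram.Tfae

/-!
# A quotient of a flat finitely presented group by an open kernel is étale (S5353) (helper2)
-/

set_option backward.isDefEq.respectTransparency.types false
set_option synthInstance.maxHeartbeats 400000
set_option autoImplicit false
set_option linter.unusedSectionVars false
set_option linter.style.haveILetI false
universe u
open CategoryTheory CategoryTheory.Limits AlgebraicGeometry TopologicalSpace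
open MonoidalCategory CartesianMonoidalCategory MonObj GrpObj
open Groth.Agent.Lib.Helper4.GrpKer1 Groth.Agent.Lib.Helper4.GrpKer2

namespace Groth.Agent.Helper2.EtaleQuotOpenKer

variable {S : Scheme.{u}}

/-- If `p : G → Q` is an fppf homomorphism whose kernel is an open subgroup, with `G` flat and
locally of finite presentation over `S`, then `Q` is étale over `S`. -/
theorem etale_of_open_kernel {G0 G Q : Over S} [GrpObj G] [GrpObj Q] [Flat G.hom]
    [LocallyOfFinitePresentation G.hom] (i : G0 ⟶ G) [IsOpenImmersion i.left]
    (p : G ⟶ Q) [Surjective p.left] [Flat p.left] [LocallyOfFinitePresentation p.left]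
    (hK : IsKer i p) : Etale Q.hom := by
  haveI : Flat (p.left ≫ Q.hom) := by rw [Over.w]; infer_instance
  haveI : LocallyOfFinitePresentation (p.left ≫ Q.hom) := by rw [Over.w]; infer_instance
  haveI : Flat Q.hom := Groth.Agent.Helper2.EtaleLocal.flat_of_flat_comp_of_surjective p.left Q.hom
  haveI : LocallyOfFinitePresentation Q.hom :=
    Groth.Agent.Helper3.FppfDesc.locallyOfFinitePresentation_of_fppf_cover p.left Q.hom
  have sq : IsPullback i.left G0.hom p.left η[Q].left := isKer_isPullback_left hK
  haveI : IsOpenImmersion η[Q].left :=
    MorphismProperty.of_isPullback_of_descendsAlong (P := @IsOpenImmersion)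
      (Q := @Surjective ⊓ @Flat ⊓ @LocallyOfFinitePresentation) sq
      ⟨⟨inferInstance, inferInstance⟩, inferInstance⟩ inferInstance
  haveI : FormallyUnramified Q.hom :=
    (Groth.Agent.Helper7.GrpUnram.formallyUnramified_iff_isOpenImmersion_unit Q).2 inferInstance
  exact Etale.of_formallyUnramified_of_flat Q.hom
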