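import Mathlib
import Groth.Prelude.Def_Flat
import Groth.Prelude.Def_EGA4b
import Groth.Agent.Lib.Helper4.FibDimBC2
import Groth.Agent.Lib.Helper4.DimFT2
import Groth.Agent.Lib.Helper2.FibDim.FieldBC
import Groth.Agent.Lib.Helper3.SkDesc1
import Groth.Agent.Lib.Helper8.FlatReg11
import Groth.Agent.Lib.Helper8.FlatReg12
import Groth.Agent.Lib.Helper8.Fib4
import Groth.Agent.Lib.Helper7.EtCoord.DiffSpan

/-!
# Fibres of a ground field extension on a finite type algebra (S9180) (helper2)
-/

set_option autoImplicit false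
set_option linter.style.haveILetI false
set_option linter.unusedSectionVars false
set_option backward.isDefEq.respectTransparency.types false
universe u

namespace Groth.Agent.Helper2.FieldExtFibre

open CategoryTheory CategoryTheory.Limits AlgebraicGeometry TensorProduct IsLocalRing

/-- The dimension formula for a flat algebra, with the fibre local ring. -/
theorem dim_atPrime_eq_add_fibLocRing (A B : Type u) [CommRing A] [CommRing B]
    [IsNoetherianRing A] [IsNoetherianRing B] [Algebra A B] [Module.Flat A B]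
    (p : Ideal A) [p.IsPrime] (Q : Ideal B) [Q.IsPrime] [Q.LiesOver p] :
    ringKrullDim (Localization.AtPrime Q) =
      ringKrullDim (Localization.AtPrime p) + ringKrullDim (EGA4.FibLocRing A B Q) := by
  letI := Localization.AtPrime.algebraOfLiesOver p Q
  haveI := Groth.Agent.Helper3.SkDesc.isLocalHom_algebraMap A B p Q
  haveI : Module.Flat A (Localization.AtPrime Q) :=
    Module.Flat.trans A B (Localization.AtPrime Q)
  haveI : Module.Flat (Localization.AtPrime p) (Localization.AtPrime Q) :=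
    (Module.flat_iff_of_isLocalization (Localization.AtPrime p) p.primeCompl
      (Localization.AtPrime Q)).mpr inferInstance
  rw [Groth.Agent.Helper8.FlatReg.ringKrullDim_eq_add_of_flat (Localization.AtPrime p)
    (Localization.AtPrime Q), Groth.Agent.Helper3.SkDesc.map_maximalIdeal_eq A B p Q]
  have hover : Q.comap (algebraMap A B) = p := (Ideal.LiesOver.over (p := p) (P := Q)).symm
  unfold EGA4.FibLocRing
  rw [hover]

/-- Base change of the ground field does not change local dimensions (right-handed variant). -/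
theorem localDim_tensor_right_eq {k S K : Type u} [Field k] [CommRing S] [Algebra k S]
    [Algebra.FiniteType k S] [Field K]
    [Algebra k K] (q : Ideal S) [q.IsPrime] (qK : Ideal (S ⊗[k] K)) [qK.IsPrime]
    (hq : qK.comap (algebraMap S (S ⊗[k] K)) = q) :
    FlatMor.localDim (PrimeSpectrum (S ⊗[k] K)) ⟨qK, inferInstance⟩ =
      FlatMor.localDim (PrimeSpectrum S) ⟨q, inferInstance⟩ := by
  have hpb := isPullback_SpecMap_of_isPushout _ _ _ _ (CommRingCat.isPushout_tensorProduct k S K)
  obtain ⟨f, hf⟩ : ∃ f : Spec (CommRingCat.of S) ⟶ Spec (CommRingCat.of k),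
      f = Spec.map (CommRingCat.ofHom (algebraMap k S)) := ⟨_, rfl⟩
  obtain ⟨f', hf'⟩ : ∃ f' : Spec (CommRingCat.of (S ⊗[k] K)) ⟶ Spec (CommRingCat.of K),
      f' = Spec.map (CommRingCat.ofHom
        (Algebra.TensorProduct.includeRight.toRingHom : K →+* S ⊗[k] K)) := ⟨_, rfl⟩
  obtain ⟨g', hg'⟩ : ∃ g' : Spec (CommRingCat.of (S ⊗[k] K)) ⟶ Spec (CommRingCat.of S),
      g' = Spec.map (CommRingCat.ofHom
        (Algebra.TensorProduct.includeLeftRingHom : S →+* S ⊗[k] K)) := ⟨_, rfl⟩
  rw [← hf, ← hf', ← hg'] at hpb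
  haveI : LocallyOfFiniteType f := by
    rw [hf, HasRingHomProperty.Spec_iff (P := @LocallyOfFiniteType)]
    rw [CommRingCat.hom_ofHom, RingHom.finiteType_algebraMap]
    infer_instance
  haveI : LocallyOfFiniteType f' := MorphismProperty.of_isPullback hpb inferInstance
  have h1 := Groth.Agent.Lib.Helper4.FibDimBC2.fibreDimAt_abs f _ g' f' hpb
    (⟨qK, inferInstance⟩ : PrimeSpectrum (S ⊗[k] K))
  rw [Groth.Agent.Helper2.FibDim.fibreDimAt_over_field K f',
    Groth.Agent.Helper2.FibDim.fibreDimAt_over_field k f] at h1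
  refine h1.trans ?_
  congr 1
  rw [hg']
  exact PrimeSpectrum.ext hq

theorem S9180_main (k S K : Type u) [Field k] [CommRing S] [Algebra k S]
    [Algebra.FiniteType k S] [Field K] [Algebra k K] (q : Ideal S) [q.IsPrime] (r : ℕ)
    (hr : Algebra.trdeg k q.ResidueField = r) (qK : Ideal (S ⊗[k] K)) [qK.IsPrime] [qK.LiesOver q]
    (rK : ℕ)
    (hrK : letI : Algebra K (S ⊗[k] K) := Algebra.TensorProduct.rightAlgebra
      Algebra.trdeg K qK.ResidueField = rK) :
    ringKrullDim (EGA4.FibLocRing S (S ⊗[k] K) qK) + ringKrullDim (Localization.AtPrime q) =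
        ringKrullDim (Localization.AtPrime qK) ∧
      ringKrullDim (EGA4.FibLocRing S (S ⊗[k] K) qK) + (rK : WithBot ℕ∞) = (r : WithBot ℕ∞) ∧
      ∃ (q' : Ideal (S ⊗[k] K)) (_ : q'.IsPrime), q'.LiesOver q ∧
        ringKrullDim (EGA4.FibLocRing S (S ⊗[k] K) q') = 0 := by
  letI algK : Algebra K (S ⊗[k] K) := Algebra.TensorProduct.rightAlgebra
  haveI : Algebra.FiniteType K (S ⊗[k] K) :=
    Algebra.FiniteType.equiv (inferInstance : Algebra.FiniteType K (K ⊗[k] S))
      (Algebra.TensorProduct.commRight k K S)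
  haveI : IsNoetherianRing S := Algebra.FiniteType.isNoetherianRing k S
  haveI : IsNoetherianRing (S ⊗[k] K) := Algebra.FiniteType.isNoetherianRing K (S ⊗[k] K)
  haveI : Module.Flat S (S ⊗[k] K) := inferInstance
  have h1 := dim_atPrime_eq_add_fibLocRing S (S ⊗[k] K) q qK
  have h2 := Groth.Agent.Lib.Helper4.DimFT2.S2141_main (k := K) qK rK hrK
  have h3 := Groth.Agent.Lib.Helper4.DimFT2.S2141_main (k := k) q r hr
  have h4 := localDim_tensor_right_eq (k := k) (K := K) q qK
    (Ideal.LiesOver.over (p := q) (P := qK)).symm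
  haveI := Groth.Agent.Helper8.FlatReg.nontrivial_fibLocRing S (S ⊗[k] K) qK
  haveI : IsLocalRing (EGA4.FibLocRing S (S ⊗[k] K) qK) := inferInstance
  obtain ⟨a, ha⟩ := Groth.Agent.Helper7.EtCoord.exists_nat_ringKrullDim (Localization.AtPrime q)
  obtain ⟨b, hb⟩ := Groth.Agent.Helper7.EtCoord.exists_nat_ringKrullDim (Localization.AtPrime qK)
  obtain ⟨F, hF⟩ := Groth.Agent.Helper7.EtCoord.exists_nat_ringKrullDim
    (EGA4.FibLocRing S (S ⊗[k] K) qK)
  rw [h2, h3] at h4
  rw [ha, hb, hF] at h1
  rw [ha, hb] at h4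
  have e1 : b = a + F := by exact_mod_cast h1
  have e2 : b + rK = a + r := by exact_mod_cast h4
  refine ⟨?_, ?_, ?_⟩
  · rw [ha, hb, hF]
    have : F + a = b := by omega
    exact_mod_cast this
  · rw [hF]
    have : F + rK = r := by omega
    exact_mod_cast this
  · haveI : Module.FaithfullyFlat S (S ⊗[k] K) := inferInstance
    obtain ⟨Q, hQ, hover, hdim⟩ :=
      Groth.Agent.Helper8.Fib.exists_prime_fibre_dim_zero S (S ⊗[k] K) q
    haveI := hQ
    refine ⟨Q, hQ, ⟨hover.symm⟩, ?_⟩
    haveI := Groth.Agent.Helper8.FlatReg.nontrivial_fibLocRing S (S ⊗[k] K) Q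
    exact le_antisymm hdim ringKrullDim_nonneg_of_nontrivial

end Groth.Agent.Helper2.FieldExtFibre
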