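import Mathlib
import Groth.Agent.Lib.Helper2.EtaleLocal
import Groth.Agent.Lib.Helper2.LfpOfComp
import Groth.Agent.Lib.Helper3.FppfDesc3

/-! Descent of properties of `φ` from `d ≫ φ` along a surjective (fppf) `d` (helper2). -/
set_option linter.style.haveILetI false
set_option autoImplicit false
namespace Groth.Agent.Helper2.FppfSourceDesc
open CategoryTheory CategoryTheory.Limits AlgebraicGeometry Topology
open Groth.Agent.Helper2.EtaleLocal
universe u

variable {X Y Z : Scheme.{u}}

/-- Quasi-compactness of `a ≫ b` passes to `b` for surjective `a`. -/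
theorem quasiCompact_of_comp_surjective (a : X ⟶ Y) (b : Y ⟶ Z) [Surjective a]
    [QuasiCompact (a ≫ b)] : QuasiCompact b := by
  constructor
  intro U hU hc
  have h1 : IsCompact ((a ≫ b) ⁻¹' U) := QuasiCompact.isCompact_preimage (f := a ≫ b) U hU hc
  have h2 : b ⁻¹' U = a '' ((a ≫ b) ⁻¹' U) := by
    ext y
    constructor
    · intro hy
      obtain ⟨x, rfl⟩ := a.surjective y
      exact ⟨x, hy, rfl⟩
    · rintro ⟨x, hx, rfl⟩
      exact hx
  rw [h2]
  exact h1.image a.continuous

theorem comp_diagonal_eq (a : X ⟶ Y) (b : Y ⟶ Z) :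
    a ≫ pullback.diagonal b = pullback.diagonal (a ≫ b) ≫
      pullback.map (a ≫ b) (a ≫ b) b b a a (𝟙 Z)
        ((Category.comp_id _).trans rfl) ((Category.comp_id _).trans rfl) := by
  apply pullback.hom_ext
  · rw [Category.assoc, Category.assoc, pullback.diagonal_fst, Category.comp_id,
      pullback.lift_fst, pullback.diagonal_fst_assoc]
  · rw [Category.assoc, Category.assoc, pullback.diagonal_snd, Category.comp_id,
      pullback.lift_snd, pullback.diagonal_snd_assoc]

set_option backward.isDefEq.respectTransparency.types false in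
/-- Quasi-separatedness of `a ≫ b` passes to `b` for surjective quasi-compact `a`. -/
theorem quasiSeparated_of_comp_surjective (a : X ⟶ Y) (b : Y ⟶ Z) [Surjective a]
    [QuasiCompact a] [QuasiSeparated (a ≫ b)] : QuasiSeparated b := by
  have hmap : QuasiCompact (pullback.map (a ≫ b) (a ≫ b) b b a a (𝟙 Z)
      ((Category.comp_id _).trans rfl) ((Category.comp_id _).trans rfl)) :=
    MorphismProperty.pullbackMap (P := @QuasiCompact) (f := a ≫ b) (g := a ≫ b) (f' := b)
      (g' := b) (i₁ := a) (i₂ := a) inferInstance inferInstance rfl rfl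
  haveI : QuasiCompact (a ≫ pullback.diagonal b) := by
    rw [comp_diagonal_eq]
    haveI := hmap
    infer_instance
  haveI : QuasiCompact (pullback.diagonal b) := quasiCompact_of_comp_surjective a _
  exact ⟨inferInstance⟩

set_option backward.isDefEq.respectTransparency.types false in
/-- Unramified morphisms descend along fppf covers of the source. -/
theorem formallyUnramified_of_fppf_cover (d : X ⟶ Y) (φ : Y ⟶ Z) [Surjective d] [Flat d]
    [LocallyOfFinitePresentation d] [FormallyUnramified (d ≫ φ)]
    [LocallyOfFiniteType (d ≫ φ)] : FormallyUnramified φ := by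
  haveI : LocallyOfFiniteType φ :=
    Groth.Agent.Helper3.FppfDesc.locallyOfFiniteType_of_fppf_cover d φ
  have hmap : Flat (pullback.map (d ≫ φ) (d ≫ φ) φ φ d d (𝟙 Z)
      ((Category.comp_id _).trans rfl) ((Category.comp_id _).trans rfl)) :=
    MorphismProperty.pullbackMap (P := @Flat) (f := d ≫ φ) (g := d ≫ φ) (f' := φ) (g' := φ)
      (i₁ := d) (i₂ := d) inferInstance inferInstance rfl rfl
  haveI : Flat (d ≫ pullback.diagonal φ) := by
    rw [comp_diagonal_eq]
    haveI := hmap
    infer_instance
  haveI : Flat (pullback.diagonal φ) := flat_of_flat_comp_of_surjective d _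
  haveI : LocallyOfFinitePresentation (pullback.diagonal φ) :=
    Groth.Agent.Helper2.locallyOfFinitePresentation_of_comp (pullback.diagonal φ)
      (pullback.fst φ φ) inferInstance (by rw [pullback.diagonal_fst]; infer_instance)
  haveI : IsOpenImmersion (pullback.diagonal φ) := IsOpenImmersion.of_flat_of_mono _
  infer_instance

/-- A set with discrete preimage under a continuous open surjection is discrete. -/
theorem isDiscrete_of_preimage {A B : Type*} [TopologicalSpace A] [TopologicalSpace B] {f : A → B}
    (hf : IsOpenMap f) (hc : Continuous f) (hs : Function.Surjective f) {F : Set B}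
    (h : IsDiscrete (f ⁻¹' F)) : IsDiscrete F := by
  rw [isDiscrete_iff_nhdsWithin] at h ⊢
  intro y hy
  obtain ⟨x, rfl⟩ := hs y
  have h1 := h x hy
  rw [nhdsWithin, ← hf.map_nhds_eq hc.continuousAt, ← Filter.map_inf_principal_preimage,
    ← nhdsWithin, h1, Filter.map_pure]

/-- Locally quasi-finite morphisms descend along fppf covers of the source. -/
theorem locallyQuasiFinite_of_fppf_cover (d : X ⟶ Y) (φ : Y ⟶ Z) [Surjective d] [Flat d]
    [LocallyOfFinitePresentation d] [LocallyQuasiFinite (d ≫ φ)]
    [LocallyOfFiniteType (d ≫ φ)] : LocallyQuasiFinite φ := by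
  haveI : LocallyOfFiniteType φ :=
    Groth.Agent.Helper3.FppfDesc.locallyOfFiniteType_of_fppf_cover d φ
  rw [locallyQuasiFinite_iff_isDiscrete_preimage_singleton]
  intro z
  have h1 := (d ≫ φ).isDiscrete_preimage_singleton z
  refine isDiscrete_of_preimage d.isOpenMap d.continuous d.surjective ?_
  exact h1

end Groth.Agent.Helper2.FppfSourceDesc
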