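import Mathlib
import Groth.Prelude.Def_W4c6nonredquotmfGoodQuot
import Groth.Prelude.Def_W4bk4git07Quot
import Groth.Prelude.Def_AlgGrp
import Groth.Prelude.Def_ChGrp
import Groth.Agent.Lib.Helper2.Sch.OrbitLocClosed

/-!
# Good quotients with closed orbits: fibres are orbits on rational points (helper2)
-/

set_option backward.isDefEq.respectTransparency.types false
set_option autoImplicit false
set_option synthInstance.maxHeartbeats 400000
set_option maxHeartbeats 4000000
set_option linter.style.haveILetI false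
set_option linter.unusedSectionVars false
set_option linter.unusedVariables false
set_option linter.unusedSimpArgs false
set_option linter.unnecessarySimpa false

open CategoryTheory CategoryTheory.Limits MonoidalCategory CartesianMonoidalCategory MonObj GrpObj
  AlgebraicGeometry

namespace Groth.Agent.Helper2.GoodQuotOrbits
universe u

variable (k : Type u) [Field k] [IsAlgClosed k]

/-- A nonempty closed subset of a scheme locally of finite type over an algebraically closed field
contains a closed point which is the image of a rational point. -/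
theorem exists_rational_point {X : Over (Spec (CommRingCat.of k))} [LocallyOfFiniteType X.hom]
    (T : Set ↥X.left) (hT : IsClosed T) (hne : T.Nonempty) :
    ∃ (y : 𝟙_ (Over (Spec (CommRingCat.of k))) ⟶ X) (p : ↥X.left), p ∈ T ∧
      IsClosed ({p} : Set ↥X.left) ∧ ∀ t, y.left t = p := by
  haveI : JacobsonSpace ↥X.left := LocallyOfFiniteType.jacobsonSpace X.hom
  obtain ⟨p, hpT, hpc'⟩ := nonempty_inter_closedPoints hne hT.isLocallyClosed
  have hpc : IsClosed ({p} : Set ↥X.left) := hpc'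
  refine ⟨Over.homMk (U := 𝟙_ (Over (Spec (CommRingCat.of k)))) (V := X)
    (pointOfClosedPoint X.hom p hpc) (pointOfClosedPoint_comp X.hom p hpc), p, hpT, hpc, ?_⟩
  intro t
  exact pointOfClosedPoint_apply X.hom p hpc t

theorem main (G X Y : Over (Spec (CommRingCat.of k))) [GrpObj G] [LocallyOfFiniteType G.hom]
    [LocallyOfFiniteType X.hom]
    (a : AlgGrp.Action G X) (φ : X ⟶ Y) (h : NRQuot.IsGoodQuot a φ)
    (hcl : ∀ x : 𝟙_ (Over (Spec (CommRingCat.of k))) ⟶ X,
      IsClosed (Set.range (a.orbitMap x).left.base))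
    (x₁ x₂ : 𝟙_ (Over (Spec (CommRingCat.of k))) ⟶ X) (hφ : x₁ ≫ φ = x₂ ≫ φ) :
    ∃ g : 𝟙_ (Over (Spec (CommRingCat.of k))) ⟶ G, lift g x₁ ≫ a.act = x₂ := by
  have hu : toUnit (𝟙_ (Over (Spec (CommRingCat.of k)))) = 𝟙 _ := toUnit_unique _ _
  -- orbits are invariant
  have hinv : ∀ x : 𝟙_ (Over (Spec (CommRingCat.of k))) ⟶ X,
      NRQuot.IsInvariantSet a (Set.range (a.orbitMap x).left.base) := by
    intro x p hp
    exact Orbit.act_mem_range_orbit a.act a.mul_act x hp
  -- base points lie in their orbits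
  have hmem : ∀ (x : 𝟙_ (Over (Spec (CommRingCat.of k))) ⟶ X)
      (t : ↥(𝟙_ (Over (Spec (CommRingCat.of k)))).left),
      x.left.base t ∈ Set.range (a.orbitMap x).left.base := by
    intro x t
    have e : η[G] ≫ a.orbitMap x = x := by
      have h2 : (η[G] : 𝟙_ (Over (Spec (CommRingCat.of k))) ⟶ G) = 1 := by
        rw [Hom.one_def, hu, Category.id_comp]
      rw [AlgGrp.Action.comp_orbitMap, hu, Category.id_comp, h2, AlgGrp.Action.lift_one_act]
    have h1 : (η[G] ≫ a.orbitMap x).left.base t =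
        (a.orbitMap x).left.base (η[G].left.base t) := rfl
    rw [e] at h1
    exact ⟨_, h1.symm⟩
  obtain ⟨t₀⟩ : Nonempty ↥(𝟙_ (Over (Spec (CommRingCat.of k)))).left :=
    ⟨(IsLocalRing.closedPoint k : PrimeSpectrum k)⟩
  obtain ⟨W, hW⟩ : ∃ W : ULift.{u} Bool → Set ↥X.left, W = fun b =>
      cond b.down (Set.range (a.orbitMap x₁).left.base) (Set.range (a.orbitMap x₂).left.base) :=
    ⟨_, rfl⟩
  have hWt : W ⟨true⟩ = Set.range (a.orbitMap x₁).left.base := by rw [hW]; rfl
  have hWf : W ⟨false⟩ = Set.range (a.orbitMap x₂).left.base := by rw [hW]; rfl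
  have hWc : ∀ b, IsClosed (W b) := by
    rintro ⟨b⟩
    cases b
    · rw [hWf]; exact hcl x₂
    · rw [hWt]; exact hcl x₁
  have hWi : ∀ b, NRQuot.IsInvariantSet a (W b) := by
    rintro ⟨b⟩
    cases b
    · rw [hWf]; exact hinv x₂
    · rw [hWt]; exact hinv x₁
  have hI := h.inter (ULift.{u} Bool) W hWc hWi
  have hy : φ.left.base (x₁.left.base t₀) ∈ ⋂ b, φ.left.base '' W b := by
    refine Set.mem_iInter.2 ?_
    rintro ⟨b⟩
    cases b
    · rw [hWf]
      refine ⟨x₂.left.base t₀, hmem x₂ t₀, ?_⟩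
      have h3 := congrArg (fun f => f.left.base t₀) hφ
      exact h3.symm
    · rw [hWt]
      exact ⟨x₁.left.base t₀, hmem x₁ t₀, rfl⟩
  rw [← hI] at hy
  obtain ⟨q, hq, -⟩ := hy
  have hq1 : q ∈ Set.range (a.orbitMap x₁).left.base := by
    have := Set.mem_iInter.1 hq ⟨true⟩
    rwa [hWt] at this
  have hq2 : q ∈ Set.range (a.orbitMap x₂).left.base := by
    have := Set.mem_iInter.1 hq ⟨false⟩
    rwa [hWf] at this
  obtain ⟨z, p, hpT, hpc, hz⟩ := exists_rational_point k (X := X)
    (Set.range (a.orbitMap x₁).left.base ∩ Set.range (a.orbitMap x₂).left.base)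
    ((hcl x₁).inter (hcl x₂)) ⟨q, hq1, hq2⟩
  have key : ∀ x : 𝟙_ (Over (Spec (CommRingCat.of k))) ⟶ X,
      p ∈ Set.range (a.orbitMap x).left.base →
      ∃ g : 𝟙_ (Over (Spec (CommRingCat.of k))) ⟶ G, g ≫ a.orbitMap x = z := by
    intro x hp
    have hFc : IsClosed ((a.orbitMap x).left.base ⁻¹' {p}) :=
      hpc.preimage (a.orbitMap x).left.continuous
    obtain ⟨c₀, hc₀⟩ := hp
    obtain ⟨g, c₁, hc₁F, -, hg⟩ := exists_rational_point k (X := G) _ hFc ⟨c₀, hc₀⟩
    refine ⟨g, ?_⟩
    apply Over.OverMorphism.ext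
    refine ext_of_apply_closedPoint_eq X.hom ?_ ?_ ?_
    · exact Over.w (g ≫ a.orbitMap x)
    · exact Over.w z
    · have h1 : (g ≫ a.orbitMap x).left (IsLocalRing.closedPoint k) =
          (a.orbitMap x).left (g.left (IsLocalRing.closedPoint k)) := rfl
      rw [h1, hg, hz]
      exact hc₁F
  obtain ⟨g₁, hg₁⟩ := key x₁ hpT.1
  obtain ⟨g₂, hg₂⟩ := key x₂ hpT.2
  have e₁ : lift g₁ x₁ ≫ a.act = z := by
    rw [← hg₁, AlgGrp.Action.comp_orbitMap, hu, Category.id_comp]
  have e₂ : lift g₂ x₂ ≫ a.act = z := by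
    rw [← hg₂, AlgGrp.Action.comp_orbitMap, hu, Category.id_comp]
  refine ⟨g₂⁻¹ * g₁, ?_⟩
  rw [AlgGrp.Action.lift_mul_act, e₁, ← e₂, ← AlgGrp.Action.lift_mul_act, inv_mul_cancel,
    AlgGrp.Action.lift_one_act]

end Groth.Agent.Helper2.GoodQuotOrbits
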