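import Mathlib
import Groth.Prelude.Def_AlgGrp
import Groth.Agent.Lib.Helper2.Sch.OrbitDim

/-!
# Orbits of minimal dimension are closed; existence of closed orbits (S19519, S14586) (helper2)
-/

set_option backward.isDefEq.respectTransparency.types false
set_option synthInstance.maxHeartbeats 400000
set_option autoImplicit false
set_option linter.unusedSectionVars false
set_option linter.style.haveILetI false
universe u
open CategoryTheory CategoryTheory.Limits AlgebraicGeometry TopologicalSpace
open MonoidalCategory CartesianMonoidalCategory MonObj GrpObj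
open Groth.Agent.Lib.Helper4.GrpShear1 Groth.Agent.Helper2.FlatPt
open Groth.Agent.Helper2.Orbit Groth.Agent.Helper2.OrbitDim

namespace Groth.Agent.Helper2.OrbitClosed

section Stable

variable {S : Scheme.{u}} {G X : Over S} [GrpObj G]
  (act : G ⊗ X ⟶ X)
  (one_act : (η[G] ▷ X) ≫ act = (λ_ X).hom)
  (mul_act : (μ[G] ▷ X) ≫ act = (α_ G G X).hom ≫ (G ◁ act) ≫ act)
  (o : 𝟙_ (Over S) ⟶ X)

include one_act mul_act in
/-- The complement of the orbit is stable under the action. -/
theorem act_not_mem_range_orbit {z : (G ⊗ X).left}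
    (hz : (snd G X).left z ∉ Set.range (orbit act o).left) :
    act.left z ∉ Set.range (orbit act o).left := by
  intro h
  apply hz
  obtain ⟨τ, hτ⟩ : ∃ τ : G ⊗ X ⟶ G ⊗ X, τ = lift (fst G X ≫ ι[G]) act := ⟨_, rfl⟩
  have h1 : τ ≫ snd G X = act := by rw [hτ, lift_snd]
  have h2 : τ ≫ act = snd G X := by rw [hτ]; exact twist_act act one_act mul_act
  have h3 : (snd G X).left (τ.left z) ∈ Set.range (orbit act o).left := by
    rw [← Scheme.Hom.comp_apply, ← Over.comp_left, h1]; exact h
  have h4 := act_mem_range_orbit act mul_act o h3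
  rwa [← Scheme.Hom.comp_apply, ← Over.comp_left, h2] at h4

include one_act mul_act in
/-- The boundary of the orbit is stable under the action. -/
theorem act_mem_boundary [Subsingleton S] {z : (G ⊗ X).left}
    (hz : (snd G X).left z ∈
      closure (Set.range (orbit act o).left) \ Set.range (orbit act o).left) :
    act.left z ∈ closure (Set.range (orbit act o).left) \ Set.range (orbit act o).left :=
  ⟨act_mem_closure_range_orbit act mul_act o hz.1,
    act_not_mem_range_orbit act one_act mul_act o hz.2⟩

/-- The orbit of a point of a stable subset is contained in this subset. -/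
theorem range_orbit_subset [Subsingleton S] (T : Set X.left)
    (hT : ∀ z : (G ⊗ X).left, (snd G X).left z ∈ T → act.left z ∈ T)
    (y : 𝟙_ (Over S) ⟶ X) (hy : Set.range y.left ⊆ T) :
    Set.range (orbit act y).left ⊆ T := by
  rintro _ ⟨g, rfl⟩
  have h1 : (orbit act y).left g = act.left ((lift (𝟙 G) (toUnit G ≫ y)).left g) := by
    rw [orbit, Over.comp_left, Scheme.Hom.comp_apply]
  rw [h1]
  apply hT
  rw [← Scheme.Hom.comp_apply, ← Over.comp_left, lift_snd, Over.comp_left, Scheme.Hom.comp_apply]
  exact hy ⟨_, rfl⟩

end Stable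

section Main

variable (k : Type u) [Field k] [IsAlgClosed k] {G X : Over (Spec (CommRingCat.of k))} [GrpObj G]
  [LocallyOfFiniteType G.hom] [QuasiCompact G.hom] [LocallyOfFiniteType X.hom]
  [QuasiCompact X.hom]
  (act : G ⊗ X ⟶ X)
  (one_act : (η[G] ▷ X) ≫ act = (λ_ X).hom)
  (mul_act : (μ[G] ▷ X) ≫ act = (α_ G G X).hom ≫ (G ◁ act) ≫ act)

/-- A nonempty closed subset of a scheme locally of finite type over an algebraically closed field
contains a rational point. -/
theorem exists_rational_point_of_isClosed (T : Set X.left) (hT : IsClosed T) (hne : T.Nonempty) :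
    ∃ y : 𝟙_ (Over (Spec (CommRingCat.of k))) ⟶ X, Set.range y.left ⊆ T := by
  haveI : Subsingleton ↥(Spec (CommRingCat.of k)) :=
    inferInstanceAs (Subsingleton (PrimeSpectrum k))
  haveI : JacobsonSpace X.left := LocallyOfFiniteType.jacobsonSpace X.hom
  obtain ⟨y, hyT, hyc'⟩ := nonempty_inter_closedPoints hne hT.isLocallyClosed
  have hyc : IsClosed ({y} : Set X.left) := hyc'
  refine ⟨Over.homMk (pointOfClosedPoint X.hom y hyc) (pointOfClosedPoint_comp X.hom y hyc), ?_⟩
  rintro _ ⟨t, rfl⟩
  have : (pointOfClosedPoint X.hom y hyc) t = y := pointOfClosedPoint_apply X.hom y hyc t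
  have h2 : (Over.homMk (U := 𝟙_ (Over (Spec (CommRingCat.of k)))) (V := X)
      (pointOfClosedPoint X.hom y hyc) (pointOfClosedPoint_comp X.hom y hyc)).left t = y := this
  rw [h2]
  exact hyT

include one_act mul_act in
/-- S19519: an orbit of minimal dimension is closed. -/
theorem isClosed_range_orbit_of_minimal (x : 𝟙_ (Over (Spec (CommRingCat.of k))) ⟶ X)
    (hmin : ∀ y : 𝟙_ (Over (Spec (CommRingCat.of k))) ⟶ X,
      topologicalKrullDim (Set.range (orbit act x).left) ≤
        topologicalKrullDim (Set.range (orbit act y).left)) :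
    IsClosed (Set.range (orbit act x).left) := by
  haveI : Subsingleton ↥(Spec (CommRingCat.of k)) :=
    inferInstanceAs (Subsingleton (PrimeSpectrum k))
  have hlc := isLocallyClosed_range_orbit_of_field k act one_act mul_act x
  have hB : IsClosed (closure (Set.range (orbit act x).left) \ Set.range (orbit act x).left) := by
    have h1 : closure (Set.range (orbit act x).left) \ Set.range (orbit act x).left =
        (coborder (Set.range (orbit act x).left))ᶜ := by
      rw [coborder, compl_compl]
    rw [h1]
    exact hlc.isOpen_coborder.isClosed_compl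
  by_cases hempty : (closure (Set.range (orbit act x).left) \ Set.range (orbit act x).left) = ∅
  · have : closure (Set.range (orbit act x).left) ⊆ Set.range (orbit act x).left :=
      Set.sdiff_eq_empty.mp hempty
    exact closure_subset_iff_isClosed.mp this
  · exfalso
    obtain ⟨y, hy⟩ := exists_rational_point_of_isClosed k _ hB
      (Set.nonempty_iff_ne_empty.mpr hempty)
    have hsub := range_orbit_subset act _
      (fun z hz => act_mem_boundary act one_act mul_act x hz) y hy
    have h1 := Groth.Agent.Lib.Helper4.DimFT2.topologicalKrullDim_mono hsub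
    have h2 := dim_boundary_orbit_lt k act one_act mul_act x
    exact absurd (lt_of_le_of_lt ((hmin y).trans h1) h2) (lt_irrefl _)

include one_act mul_act in
/-- S14586: closed orbits exist. -/
theorem exists_isClosed_range_orbit [Nonempty X.left] :
    ∃ x : 𝟙_ (Over (Spec (CommRingCat.of k))) ⟶ X, IsClosed (Set.range (orbit act x).left) := by
  obtain ⟨x₀, -⟩ := exists_rational_point_of_isClosed k (X := X) Set.univ isClosed_univ
    Set.univ_nonempty
  obtain ⟨D, hD⟩ : ∃ D : (𝟙_ (Over (Spec (CommRingCat.of k))) ⟶ X) → WithBot ℕ∞,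
      D = fun x => topologicalKrullDim (Set.range (orbit act x).left) := ⟨_, rfl⟩
  obtain ⟨m, ⟨x, rfl⟩, hm⟩ := (wellFounded_lt (α := WithBot ℕ∞)).has_min (Set.range D)
    ⟨_, ⟨x₀, rfl⟩⟩
  refine ⟨x, isClosed_range_orbit_of_minimal k act one_act mul_act x (fun y => ?_)⟩
  have := not_lt.mp (hm (D y) ⟨y, rfl⟩)
  rw [hD] at this
  exact this

end Main

end Groth.Agent.Helper2.OrbitClosed
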