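import Mathlib
import Groth.Agent.Lib.Helper2.Sch.GoodQuotOrbits
import Groth.Agent.Lib.Helper2.Sch.OrbitClosed

/-!
# Good quotients: orbit closures and the unique closed orbit in a fibre (helper2)
-/

set_option backward.isDefEq.respectTransparency.types false
set_option autoImplicit false
set_option synthInstance.maxHeartbeats 400000
set_option maxHeartbeats 4000000
set_option linter.style.haveILetI false
set_option linter.unusedSectionVars false
set_option linter.unusedVariables false
set_option linter.unusedSimpArgs false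
set_option linter.unnecessarySimpa false

open CategoryTheory CategoryTheory.Limits MonoidalCategory CartesianMonoidalCategory MonObj GrpObj
  AlgebraicGeometry

namespace Groth.Agent.Helper2.GoodQuotOrbits2
universe u

/-- Two sections of a scheme over a field with the same image point agree. -/
theorem section_ext {K : Type u} [Field K] {Y : Scheme.{u}} (h : Y ⟶ Spec (CommRingCat.of K))
    {f g : Spec (CommRingCat.of K) ⟶ Y} (hf : f ≫ h = 𝟙 _) (hg : g ≫ h = 𝟙 _)
    (t : ↥(Spec (CommRingCat.of K))) (H : f t = g t) : f = g := by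
  obtain ⟨⟨p, ψ⟩, rfl⟩ := (Scheme.SpecToEquivOfField K Y).symm.surjective f
  obtain ⟨⟨p', ψ'⟩, rfl⟩ := (Scheme.SpecToEquivOfField K Y).symm.surjective g
  have e1 : (Scheme.SpecToEquivOfField K Y).symm ⟨p, ψ⟩ =
      Spec.map ψ ≫ Y.fromSpecResidueField p := rfl
  have e2 : (Scheme.SpecToEquivOfField K Y).symm ⟨p', ψ'⟩ =
      Spec.map ψ' ≫ Y.fromSpecResidueField p' := rfl
  rw [e1] at hf H ⊢
  rw [e2] at hg H ⊢
  have hp : p = p' := by
    rw [Scheme.Hom.comp_apply, Scheme.Hom.comp_apply, Scheme.fromSpecResidueField_apply,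
      Scheme.fromSpecResidueField_apply] at H
    exact H
  subst hp
  obtain ⟨st, hst⟩ : ∃ st : CommRingCat.of K ⟶ Y.residueField p,
      Spec.map st = Y.fromSpecResidueField p ≫ h := ⟨Spec.preimage _, Spec.map_preimage _⟩
  have h1 : st ≫ ψ = 𝟙 _ := by
    apply Spec.map_injective
    rw [Spec.map_comp, hst, ← Category.assoc, hf, Spec.map_id]
  have h2 : st ≫ ψ' = 𝟙 _ := by
    apply Spec.map_injective
    rw [Spec.map_comp, hst, ← Category.assoc, hg, Spec.map_id]
  have hinj : Function.Injective ψ.hom := RingHom.injective (ψ.hom : Y.residueField p →+* K)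
  have hψ : ψ = ψ' := by
    apply CommRingCat.hom_ext
    apply RingHom.ext
    intro x
    have a1 := congrArg (fun t => t.hom (ψ.hom x)) h1
    have a2 := congrArg (fun t => t.hom (ψ.hom x)) h2
    simp only [CommRingCat.hom_comp, RingHom.comp_apply, CommRingCat.hom_id,
      RingHom.id_apply] at a1 a2
    have hs : st.hom (ψ.hom x) = x := hinj a1
    have e : ψ.hom (st.hom (ψ.hom x)) = ψ'.hom (st.hom (ψ.hom x)) := a1.trans a2.symm
    rw [hs] at e
    exact e
  rw [hψ]

/-- The image point of a section of a scheme over a field is closed. -/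
theorem isClosed_singleton_of_section {K : Type u} [Field K] {Y : Scheme.{u}}
    (h : Y ⟶ Spec (CommRingCat.of K)) (f : Spec (CommRingCat.of K) ⟶ Y) (hf : f ≫ h = 𝟙 _)
    (t : ↥(Spec (CommRingCat.of K))) : IsClosed ({f t} : Set ↥Y) := by
  haveI : Subsingleton ↥(Spec (CommRingCat.of K)) :=
    inferInstanceAs (Subsingleton (PrimeSpectrum K))
  haveI := isClosedImmersion_of_comp_eq_id h f hf
  have h1 : IsClosed (Set.range f) := f.isClosedEmbedding.isClosed_range
  have h2 : Set.range f = {f t} := by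
    ext q
    constructor
    · rintro ⟨s, rfl⟩
      rw [Subsingleton.elim s t]
      rfl
    · intro hq
      rw [Set.mem_singleton_iff] at hq
      rw [hq]
      exact ⟨t, rfl⟩
  rwa [h2] at h1

section General

variable {S : Scheme.{u}} {G X Y : Over S} [GrpObj G]

/-- The base point of an orbit lies in the orbit. -/
theorem base_mem_orbit (a : AlgGrp.Action G X) (x : 𝟙_ (Over S) ⟶ X)
    (t : ↥(𝟙_ (Over S)).left) : x.left.base t ∈ Set.range (a.orbitMap x).left.base := by
  have hu : toUnit (𝟙_ (Over S)) = 𝟙 _ := toUnit_unique _ _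
  have e : η[G] ≫ a.orbitMap x = x := by
    have h2 : (η[G] : 𝟙_ (Over S) ⟶ G) = 1 := by
      rw [Hom.one_def, hu, Category.id_comp]
    rw [AlgGrp.Action.comp_orbitMap, hu, Category.id_comp, h2, AlgGrp.Action.lift_one_act]
  have h1 : (η[G] ≫ a.orbitMap x).left.base t =
      (a.orbitMap x).left.base (η[G].left.base t) := rfl
  rw [e] at h1
  exact ⟨_, h1.symm⟩

/-- An invariant morphism is constant on orbits. -/
theorem phi_orbit [Subsingleton S] (a : AlgGrp.Action G X) (φ : X ⟶ Y)
    (hinv : GIT.IsInvariant a φ) (x : 𝟙_ (Over S) ⟶ X) (t₀ : ↥(𝟙_ (Over S)).left)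
    (g : ↥G.left) :
    φ.left.base ((a.orbitMap x).left.base g) = (x ≫ φ).left.base t₀ := by
  haveI : Subsingleton ↥(𝟙_ (Over S)).left := ‹Subsingleton ↥S›
  have hinv' : a.act ≫ φ = snd G X ≫ φ := hinv
  have e : a.orbitMap x ≫ φ = toUnit G ≫ x ≫ φ := by
    unfold AlgGrp.Action.orbitMap
    rw [Category.assoc, hinv', ← Category.assoc, lift_snd, Category.assoc]
  have h1 : (a.orbitMap x ≫ φ).left.base g = (toUnit G ≫ x ≫ φ).left.base g := by rw [e]
  have h2 : (toUnit G).left.base g = t₀ := Subsingleton.elim _ _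
  have h3 : (toUnit G ≫ x ≫ φ).left.base g =
      (x ≫ φ).left.base ((toUnit G).left.base g) := rfl
  have h4 : (a.orbitMap x ≫ φ).left.base g = φ.left.base ((a.orbitMap x).left.base g) := rfl
  rw [← h4, h1, h3, h2]

end General

variable (k : Type u) [Field k]

section Field

variable {G X Y : Over (Spec (CommRingCat.of k))} [GrpObj G]

/-- An invariant morphism is constant on orbit closures. -/
theorem phi_closure_orbit (a : AlgGrp.Action G X) (φ : X ⟶ Y)
    (hinv : GIT.IsInvariant a φ) (x : 𝟙_ (Over (Spec (CommRingCat.of k))) ⟶ X)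
    (t₀ : ↥(𝟙_ (Over (Spec (CommRingCat.of k)))).left) {q : ↥X.left}
    (hq : q ∈ closure (Set.range (a.orbitMap x).left.base)) :
    φ.left.base q = (x ≫ φ).left.base t₀ := by
  haveI : Subsingleton ↥(Spec (CommRingCat.of k)) :=
    inferInstanceAs (Subsingleton (PrimeSpectrum k))
  have hc : IsClosed ({(x ≫ φ).left.base t₀} : Set ↥Y.left) :=
    isClosed_singleton_of_section (K := k) Y.hom (x ≫ φ).left (Over.w (x ≫ φ)) t₀
  have hcont : Continuous (φ.left.base : ↥X.left → ↥Y.left) := φ.left.continuous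
  have h1 : φ.left.base q ∈ closure (φ.left.base '' Set.range (a.orbitMap x).left.base) :=
    image_closure_subset_closure_image hcont ⟨q, hq, rfl⟩
  have h2 : closure (φ.left.base '' Set.range (a.orbitMap x).left.base) ⊆
      ({(x ≫ φ).left.base t₀} : Set ↥Y.left) := by
    refine closure_minimal ?_ hc
    rintro _ ⟨_, ⟨g, rfl⟩, rfl⟩
    exact phi_orbit a φ hinv x t₀ g
  exact h2 h1

/-- Orbits of rational points are locally closed (target only locally of finite type). -/
theorem isLocallyClosed_orbit [IsAffine G.left]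
    [LocallyOfFiniteType G.hom] [LocallyOfFiniteType X.hom] (a : AlgGrp.Action G X)
    (x : 𝟙_ (Over (Spec (CommRingCat.of k))) ⟶ X) :
    IsLocallyClosed (Set.range (a.orbitMap x).left.base) := by
  haveI : Subsingleton ↥(Spec (CommRingCat.of k)) :=
    inferInstanceAs (Subsingleton (PrimeSpectrum k))
  haveI : IsLocallyNoetherian X.left := LocallyOfFiniteType.isLocallyNoetherian X.hom
  haveI : QuasiSeparatedSpace X.left := inferInstance
  haveI : CompactSpace G.left := inferInstance
  haveI : LocallyOfFiniteType ((Orbit.orbit a.act x).left ≫ X.hom) := by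
    rw [Over.w]; infer_instance
  haveI : LocallyOfFiniteType (Orbit.orbit a.act x).left :=
    locallyOfFiniteType_of_comp (Orbit.orbit a.act x).left X.hom
  haveI : LocallyOfFinitePresentation (Orbit.orbit a.act x).left :=
    LocallyOfFinitePresentation.iff_locallyOfFiniteType.2 inferInstance
  haveI : QuasiCompact (Orbit.orbit a.act x).left := inferInstance
  have hlcons := Scheme.Hom.isLocallyConstructible_image (Orbit.orbit a.act x).left
    (s := Set.univ) Topology.IsConstructible.univ.isLocallyConstructible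
  have hcomp : IsCompact ((Orbit.orbit a.act x).left '' Set.univ) :=
    isCompact_univ.image (Orbit.orbit a.act x).left.continuous
  have hcons := hlcons.isConstructible_of_subset_of_isCompact subset_rfl hcomp
  rw [Set.image_univ] at hcons
  exact Orbit.isLocallyClosed_range_orbit a.act a.one_act a.mul_act x hcons

end Field

variable [IsAlgClosed k]

theorem main' (G X Y : Over (Spec (CommRingCat.of k))) [GrpObj G] [LocallyOfFiniteType G.hom]
    [LocallyOfFiniteType X.hom]
    (a : AlgGrp.Action G X) (φ : X ⟶ Y) (h : NRQuot.IsGoodQuot a φ)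
    (x₁ x₂ : 𝟙_ (Over (Spec (CommRingCat.of k))) ⟶ X)
    (hcl₁ : IsClosed (Set.range (a.orbitMap x₁).left.base))
    (hcl₂ : IsClosed (Set.range (a.orbitMap x₂).left.base))
    (hφ : x₁ ≫ φ = x₂ ≫ φ) :
    ∃ g : 𝟙_ (Over (Spec (CommRingCat.of k))) ⟶ G, lift g x₁ ≫ a.act = x₂ := by
  have hu : toUnit (𝟙_ (Over (Spec (CommRingCat.of k)))) = 𝟙 _ := toUnit_unique _ _
  have hinv : ∀ x : 𝟙_ (Over (Spec (CommRingCat.of k))) ⟶ X,
      NRQuot.IsInvariantSet a (Set.range (a.orbitMap x).left.base) := by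
    intro x p hp
    exact Orbit.act_mem_range_orbit a.act a.mul_act x hp
  obtain ⟨t₀⟩ : Nonempty ↥(𝟙_ (Over (Spec (CommRingCat.of k)))).left :=
    ⟨(IsLocalRing.closedPoint k : PrimeSpectrum k)⟩
  obtain ⟨W, hW⟩ : ∃ W : ULift.{u} Bool → Set ↥X.left, W = fun b =>
      cond b.down (Set.range (a.orbitMap x₁).left.base) (Set.range (a.orbitMap x₂).left.base) :=
    ⟨_, rfl⟩
  have hWt : W ⟨true⟩ = Set.range (a.orbitMap x₁).left.base := by rw [hW]; rfl
  have hWf : W ⟨false⟩ = Set.range (a.orbitMap x₂).left.base := by rw [hW]; rfl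
  have hWc : ∀ b, IsClosed (W b) := by
    rintro ⟨b⟩
    cases b
    · rw [hWf]; exact hcl₂
    · rw [hWt]; exact hcl₁
  have hWi : ∀ b, NRQuot.IsInvariantSet a (W b) := by
    rintro ⟨b⟩
    cases b
    · rw [hWf]; exact hinv x₂
    · rw [hWt]; exact hinv x₁
  have hI := h.inter (ULift.{u} Bool) W hWc hWi
  have hy : φ.left.base (x₁.left.base t₀) ∈ ⋂ b, φ.left.base '' W b := by
    refine Set.mem_iInter.2 ?_
    rintro ⟨b⟩
    cases b
    · rw [hWf]
      refine ⟨x₂.left.base t₀, base_mem_orbit a x₂ t₀, ?_⟩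
      have h3 := congrArg (fun f => f.left.base t₀) hφ
      exact h3.symm
    · rw [hWt]
      exact ⟨x₁.left.base t₀, base_mem_orbit a x₁ t₀, rfl⟩
  rw [← hI] at hy
  obtain ⟨q, hq, -⟩ := hy
  have hq1 : q ∈ Set.range (a.orbitMap x₁).left.base := by
    have := Set.mem_iInter.1 hq ⟨true⟩
    rwa [hWt] at this
  have hq2 : q ∈ Set.range (a.orbitMap x₂).left.base := by
    have := Set.mem_iInter.1 hq ⟨false⟩
    rwa [hWf] at this
  obtain ⟨z, p, hpT, hpc, hz⟩ := GoodQuotOrbits.exists_rational_point k (X := X)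
    (Set.range (a.orbitMap x₁).left.base ∩ Set.range (a.orbitMap x₂).left.base)
    (hcl₁.inter hcl₂) ⟨q, hq1, hq2⟩
  have key : ∀ x : 𝟙_ (Over (Spec (CommRingCat.of k))) ⟶ X,
      p ∈ Set.range (a.orbitMap x).left.base →
      ∃ g : 𝟙_ (Over (Spec (CommRingCat.of k))) ⟶ G, g ≫ a.orbitMap x = z := by
    intro x hp
    have hFc : IsClosed ((a.orbitMap x).left.base ⁻¹' {p}) :=
      hpc.preimage (a.orbitMap x).left.continuous
    obtain ⟨c₀, hc₀⟩ := hp
    obtain ⟨g, c₁, hc₁F, -, hg⟩ := GoodQuotOrbits.exists_rational_point k (X := G) _ hFc ⟨c₀, hc₀⟩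
    refine ⟨g, ?_⟩
    apply Over.OverMorphism.ext
    refine ext_of_apply_closedPoint_eq X.hom ?_ ?_ ?_
    · exact Over.w (g ≫ a.orbitMap x)
    · exact Over.w z
    · have h1 : (g ≫ a.orbitMap x).left (IsLocalRing.closedPoint k) =
          (a.orbitMap x).left (g.left (IsLocalRing.closedPoint k)) := rfl
      rw [h1, hg, hz]
      exact hc₁F
  obtain ⟨g₁, hg₁⟩ := key x₁ hpT.1
  obtain ⟨g₂, hg₂⟩ := key x₂ hpT.2
  have e₁ : lift g₁ x₁ ≫ a.act = z := by
    rw [← hg₁, AlgGrp.Action.comp_orbitMap, hu, Category.id_comp]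
  have e₂ : lift g₂ x₂ ≫ a.act = z := by
    rw [← hg₂, AlgGrp.Action.comp_orbitMap, hu, Category.id_comp]
  refine ⟨g₂⁻¹ * g₁, ?_⟩
  rw [AlgGrp.Action.lift_mul_act, e₁, ← e₂, ← AlgGrp.Action.lift_mul_act, inv_mul_cancel,
    AlgGrp.Action.lift_one_act]

/-- S19424: orbit closures meet iff same image in the good quotient. -/
theorem closure_orbit_inter_iff (G X Y : Over (Spec (CommRingCat.of k))) [GrpObj G]
    (a : AlgGrp.Action G X) (φ : X ⟶ Y) (h : NRQuot.IsGoodQuot a φ)
    (x₁ x₂ : 𝟙_ (Over (Spec (CommRingCat.of k))) ⟶ X) :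
    (closure (Set.range (a.orbitMap x₁).left.base) ∩
      closure (Set.range (a.orbitMap x₂).left.base)).Nonempty ↔ x₁ ≫ φ = x₂ ≫ φ := by
  haveI : Subsingleton ↥(Spec (CommRingCat.of k)) :=
    inferInstanceAs (Subsingleton (PrimeSpectrum k))
  obtain ⟨t₀⟩ : Nonempty ↥(𝟙_ (Over (Spec (CommRingCat.of k)))).left :=
    ⟨(IsLocalRing.closedPoint k : PrimeSpectrum k)⟩
  constructor
  · rintro ⟨q, hq1, hq2⟩
    have e1 := phi_closure_orbit k a φ h.inv x₁ t₀ hq1
    have e2 := phi_closure_orbit k a φ h.inv x₂ t₀ hq2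
    apply Over.OverMorphism.ext
    exact section_ext (K := k) Y.hom (Over.w (x₁ ≫ φ)) (Over.w (x₂ ≫ φ)) t₀ (e1.symm.trans e2)
  · intro hφ
    obtain ⟨W, hW⟩ : ∃ W : ULift.{u} Bool → Set ↥X.left, W = fun b =>
        cond b.down (closure (Set.range (a.orbitMap x₁).left.base))
          (closure (Set.range (a.orbitMap x₂).left.base)) := ⟨_, rfl⟩
    have hWt : W ⟨true⟩ = closure (Set.range (a.orbitMap x₁).left.base) := by rw [hW]; rfl
    have hWf : W ⟨false⟩ = closure (Set.range (a.orbitMap x₂).left.base) := by rw [hW]; rfl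
    have hWc : ∀ b, IsClosed (W b) := by
      rintro ⟨b⟩
      cases b
      · rw [hWf]; exact isClosed_closure
      · rw [hWt]; exact isClosed_closure
    have hinv : ∀ x : 𝟙_ (Over (Spec (CommRingCat.of k))) ⟶ X,
        NRQuot.IsInvariantSet a (closure (Set.range (a.orbitMap x).left.base)) := by
      intro x p hp
      exact Orbit.act_mem_closure_range_orbit a.act a.mul_act x hp
    have hWi : ∀ b, NRQuot.IsInvariantSet a (W b) := by
      rintro ⟨b⟩
      cases b
      · rw [hWf]; exact hinv x₂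
      · rw [hWt]; exact hinv x₁
    have hI := h.inter (ULift.{u} Bool) W hWc hWi
    have hy : φ.left.base (x₁.left.base t₀) ∈ ⋂ b, φ.left.base '' W b := by
      refine Set.mem_iInter.2 ?_
      rintro ⟨b⟩
      cases b
      · rw [hWf]
        refine ⟨x₂.left.base t₀, subset_closure (base_mem_orbit a x₂ t₀), ?_⟩
        have h3 := congrArg (fun f => f.left.base t₀) hφ
        exact h3.symm
      · rw [hWt]
        exact ⟨x₁.left.base t₀, subset_closure (base_mem_orbit a x₁ t₀), rfl⟩
    rw [← hI] at hy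
    obtain ⟨q, hq, -⟩ := hy
    refine ⟨q, ?_, ?_⟩
    · have := Set.mem_iInter.1 hq ⟨true⟩
      rwa [hWt] at this
    · have := Set.mem_iInter.1 hq ⟨false⟩
      rwa [hWf] at this

/-- Every fibre of a good quotient over a rational point contains a rational point with closed
orbit. -/
theorem closed_orbit_in_fibre (G X Y : Over (Spec (CommRingCat.of k))) [GrpObj G]
    [IsAffine G.left] [LocallyOfFiniteType G.hom] [LocallyOfFiniteType X.hom]
    (a : AlgGrp.Action G X) (φ : X ⟶ Y) (h : NRQuot.IsGoodQuot a φ)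
    (y : 𝟙_ (Over (Spec (CommRingCat.of k))) ⟶ Y) :
    ∃ x : 𝟙_ (Over (Spec (CommRingCat.of k))) ⟶ X, x ≫ φ = y ∧
      IsClosed (Set.range (a.orbitMap x).left.base) := by
  haveI : Subsingleton ↥(Spec (CommRingCat.of k)) :=
    inferInstanceAs (Subsingleton (PrimeSpectrum k))
  obtain ⟨t₀⟩ : Nonempty ↥(𝟙_ (Over (Spec (CommRingCat.of k)))).left :=
    ⟨(IsLocalRing.closedPoint k : PrimeSpectrum k)⟩
  obtain ⟨T, hT⟩ : ∃ T : Set ↥X.left, T = φ.left.base ⁻¹' {y.left.base t₀} := ⟨_, rfl⟩
  have hyc : IsClosed ({y.left.base t₀} : Set ↥Y.left) :=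
    isClosed_singleton_of_section (K := k) Y.hom y.left (Over.w y) t₀
  have hcont : Continuous (φ.left.base : ↥X.left → ↥Y.left) := φ.left.continuous
  have hTc : IsClosed T := by rw [hT]; exact hyc.preimage hcont
  have hTinv : NRQuot.IsInvariantSet a T := by
    intro p hp
    rw [hT] at hp ⊢
    have e := congrArg (fun f => f.base p) h.inv.left
    have e' : φ.left.base (a.act.left.base p) = φ.left.base ((snd G X).left.base p) := e
    show φ.left.base (a.act.left.base p) ∈ ({y.left.base t₀} : Set ↥Y.left)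
    rw [e']
    exact hp
  have hsurj : Function.Surjective φ.left.base := by
    have hI := h.inter PEmpty.{u+1} (fun i => i.elim) (fun i => i.elim) (fun i => i.elim)
    rw [Set.iInter_of_empty, Set.iInter_of_empty, Set.image_univ] at hI
    intro z
    have : z ∈ Set.range φ.left.base := by rw [hI]; trivial
    exact this
  have hTne : T.Nonempty := by
    obtain ⟨p, hp⟩ := hsurj (y.left.base t₀)
    exact ⟨p, by rw [hT]; exact hp⟩
  have hTcomp : IsCompact T := by
    obtain ⟨V, hV, hyV, -⟩ := exists_isAffineOpen_mem_and_subset (x := y.left.base t₀)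
      (U := (⊤ : Y.left.Opens)) trivial
    haveI := h.affine
    have hV' : IsAffineOpen (φ.left ⁻¹ᵁ V) := hV.preimage φ.left
    refine IsCompact.of_isClosed_subset hV'.isCompact hTc ?_
    intro p hp
    rw [hT] at hp
    have hp' : φ.left.base p = y.left.base t₀ := hp
    show φ.left.base p ∈ (V : Set ↥Y.left)
    rw [hp']
    exact hyV
  obtain ⟨Sf, hSf⟩ : ∃ Sf : Set (Set ↥X.left), Sf = {Z | IsClosed Z ∧ Z.Nonempty ∧
      NRQuot.IsInvariantSet a Z ∧ Z ⊆ T} := ⟨_, rfl⟩
  have hTS : T ∈ Sf := by rw [hSf]; exact ⟨hTc, hTne, hTinv, subset_rfl⟩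
  have hchain : ∀ c ⊆ Sf, IsChain (· ⊆ ·) c → c.Nonempty → ∃ lb ∈ Sf, ∀ s ∈ c, lb ⊆ s := by
    intro c hcS hc hcne
    refine ⟨⋂₀ c, ?_, fun s hs => Set.sInter_subset_of_mem hs⟩
    rw [hSf] at hcS ⊢
    obtain ⟨Z₀, hZ₀⟩ := hcne
    refine ⟨isClosed_sInter (fun Z hZ => (hcS hZ).1), ?_, ?_, ?_⟩
    · haveI : Nonempty c := ⟨⟨Z₀, hZ₀⟩⟩
      refine IsCompact.nonempty_sInter_of_directed_nonempty_isCompact_isClosed ?_
        (fun Z hZ => (hcS hZ).2.1)
        (fun Z hZ => IsCompact.of_isClosed_subset hTcomp (hcS hZ).1 (hcS hZ).2.2.2)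
        (fun Z hZ => (hcS hZ).1)
      intro A hA B hB
      rcases hc.total hA hB with hAB | hBA
      · exact ⟨A, hA, subset_rfl, hAB⟩
      · exact ⟨B, hB, hBA, subset_rfl⟩
    · intro p hp
      rw [Set.mem_sInter] at hp ⊢
      intro Z hZ
      exact (hcS hZ).2.2.1 p (hp Z hZ)
    · exact (Set.sInter_subset_of_mem hZ₀).trans (hcS hZ₀).2.2.2
  obtain ⟨M, hMT, hMmin⟩ := zorn_superset_nonempty Sf hchain T hTS
  have hMS : M ∈ Sf := hMmin.prop
  rw [hSf] at hMS
  obtain ⟨hMc, hMne, hMinv, hMT'⟩ := hMS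
  obtain ⟨x, p, hpM, hpc, hx⟩ := GoodQuotOrbits.exists_rational_point k (X := X) M hMc hMne
  have hOM : Set.range (a.orbitMap x).left.base ⊆ M := by
    refine OrbitClosed.range_orbit_subset a.act M hMinv x ?_
    rintro _ ⟨t, rfl⟩
    rw [hx t]
    exact hpM
  have hclS : closure (Set.range (a.orbitMap x).left.base) ∈ Sf := by
    rw [hSf]
    refine ⟨isClosed_closure, ⟨_, subset_closure (base_mem_orbit a x t₀)⟩, ?_, ?_⟩
    · intro p hp
      exact Orbit.act_mem_closure_range_orbit a.act a.mul_act x hp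
    · exact (closure_minimal hOM hMc).trans hMT'
  have hclM : closure (Set.range (a.orbitMap x).left.base) = M :=
    hMmin.eq_of_subset hclS (closure_minimal hOM hMc)
  have hlc : IsLocallyClosed (Set.range (a.orbitMap x).left.base) := isLocallyClosed_orbit k a x
  obtain ⟨O, hO⟩ : ∃ O : Set ↥X.left, O = Set.range (a.orbitMap x).left.base := ⟨_, rfl⟩
  rw [← hO] at hOM hclM hlc
  have hB : IsClosed (closure O \ O) := by
    have h1 : closure O \ O = (coborder O)ᶜ := by rw [coborder, compl_compl]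
    rw [h1]
    exact hlc.isOpen_coborder.isClosed_compl
  have hxO : x.left.base t₀ ∈ O := by rw [hO]; exact base_mem_orbit a x t₀
  have hOcl : IsClosed O := by
    by_contra hnc
    have hBne : (closure O \ O).Nonempty := by
      by_contra hem
      rw [Set.not_nonempty_iff_eq_empty] at hem
      exact hnc (closure_subset_iff_isClosed.mp (Set.sdiff_eq_empty.mp hem))
    have hBM : closure O \ O ⊆ M := by rw [hclM]; exact Set.sdiff_subset
    have hBS : closure O \ O ∈ Sf := by
      rw [hSf]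
      refine ⟨hB, hBne, ?_, hBM.trans hMT'⟩
      intro p hp
      rw [hO] at hp ⊢
      exact OrbitClosed.act_mem_boundary a.act a.one_act a.mul_act x hp
    have hEq : closure O \ O = M := hMmin.eq_of_subset hBS hBM
    have hxM : x.left.base t₀ ∈ M := hOM hxO
    rw [← hEq] at hxM
    exact hxM.2 hxO
  refine ⟨x, ?_, hO ▸ hOcl⟩
  apply Over.OverMorphism.ext
  refine section_ext (K := k) Y.hom (Over.w (x ≫ φ)) (Over.w y) t₀ ?_
  have hpT : p ∈ T := hMT' hpM
  rw [hT] at hpT
  have h1 : (x ≫ φ).left t₀ = φ.left.base (x.left t₀) := rfl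
  rw [h1, hx t₀]
  exact hpT

/-- S19409: each fibre of a good quotient over a rational point contains a unique closed orbit. -/
theorem closed_orbit_unique_in_fibre (G X Y : Over (Spec (CommRingCat.of k))) [GrpObj G]
    [IsAffine G.left] [LocallyOfFiniteType G.hom] [LocallyOfFiniteType X.hom]
    (a : AlgGrp.Action G X) (φ : X ⟶ Y) (h : NRQuot.IsGoodQuot a φ)
    (y : 𝟙_ (Over (Spec (CommRingCat.of k))) ⟶ Y) :
    ∃ x : 𝟙_ (Over (Spec (CommRingCat.of k))) ⟶ X, x ≫ φ = y ∧
      IsClosed (Set.range (a.orbitMap x).left.base) ∧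
      ∀ x' : 𝟙_ (Over (Spec (CommRingCat.of k))) ⟶ X, x' ≫ φ = y →
        IsClosed (Set.range (a.orbitMap x').left.base) →
        ∃ g : 𝟙_ (Over (Spec (CommRingCat.of k))) ⟶ G, lift g x ≫ a.act = x' := by
  obtain ⟨x, hx, hcl⟩ := closed_orbit_in_fibre k G X Y a φ h y
  exact ⟨x, hx, hcl, fun x' hx' hcl' =>
    main' k G X Y a φ h x x' hcl hcl' (hx.trans hx'.symm)⟩

end Groth.Agent.Helper2.GoodQuotOrbits2
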