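import Mathlib
import Groth.Prelude.Def_W4c6nonredquotmfGoodQuot
import Groth.Agent.Lib.Helper2.Sch.OrbitFlat
import Groth.Agent.Lib.Helper6.GrpSch.Field
import Groth.Agent.Lib.Helper7.FibTop.Basic

/-!
# Good quotients restrict to open subsets of the quotient (helper2)
-/

set_option backward.isDefEq.respectTransparency.types false
set_option autoImplicit false
set_option synthInstance.maxHeartbeats 400000
set_option maxHeartbeats 4000000
set_option linter.style.haveILetI false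
set_option linter.unusedSectionVars false
set_option linter.unusedVariables false
set_option linter.unusedSimpArgs false
set_option linter.unnecessarySimpa false

open CategoryTheory CategoryTheory.Limits MonoidalCategory CartesianMonoidalCategory MonObj GrpObj
  AlgebraicGeometry

namespace Groth.Agent.Helper2.GoodQuotRestrict
universe u

/-- The comparison map of sections of an open immersion between corresponding opens is an iso. -/
theorem isIso_appLE {X Y : Scheme.{u}} (f : X ⟶ Y) [IsOpenImmersion f] (U : Y.Opens)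
    (V : X.Opens) (e : V ≤ f ⁻¹ᵁ U) (e' : U ≤ f ''ᵁ V) : IsIso (f.appLE U V e) := by
  have hU : U = f ''ᵁ V := by
    refine le_antisymm e' ?_
    intro y hy
    have hy' : y ∈ Set.image (fun x : ↥X => f x) (V : Set ↥X) := hy
    obtain ⟨x, hx, rfl⟩ := hy'
    exact e hx
  subst hU
  have h2 : f.appLE (f ''ᵁ V) V e = (f.appIso V).hom := (f.appIso_hom' V).symm
  rw [h2]
  infer_instance

theorem appLE_hom_congr {X Y : Scheme.{u}} {f g : X ⟶ Y} (h : f = g) (U : Y.Opens)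
    (V : X.Opens) (e : V ≤ f ⁻¹ᵁ U) : f.appLE U V e = g.appLE U V (h ▸ e) := by
  subst h; rfl

theorem appLE_square {A A' B B' : Scheme.{u}} (α : A ⟶ B) (α' : A' ⟶ B') (m : A' ⟶ A)
    (j : B' ⟶ B) (hα : α' ≫ j = m ≫ α) (P : B.Opens) (P' : B'.Opens) (N : A.Opens)
    (N' : A'.Opens) (e1 : N ≤ α ⁻¹ᵁ P) (e1' : N' ≤ α' ⁻¹ᵁ P') (eX : P' ≤ j ⁻¹ᵁ P)
    (eN : N' ≤ m ⁻¹ᵁ N) :
    j.appLE P P' eX ≫ α'.appLE P' N' e1' = α.appLE P N e1 ≫ m.appLE N N' eN := by
  rw [Scheme.Hom.appLE_comp_appLE, Scheme.Hom.appLE_comp_appLE]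
  exact appLE_hom_congr hα _ _ _

theorem appLE_square_apply {A A' B B' : Scheme.{u}} (α : A ⟶ B) (α' : A' ⟶ B') (m : A' ⟶ A)
    (j : B' ⟶ B) (hα : α' ≫ j = m ≫ α) (P : B.Opens) (P' : B'.Opens) (N : A.Opens)
    (N' : A'.Opens) (e1 : N ≤ α ⁻¹ᵁ P) (e1' : N' ≤ α' ⁻¹ᵁ P') (eX : P' ≤ j ⁻¹ᵁ P)
    (eN : N' ≤ m ⁻¹ᵁ N) (f : Γ(B, P)) :
    α'.appLE P' N' e1' (j.appLE P P' eX f) = m.appLE N N' eN (α.appLE P N e1 f) := by
  have s := ConcreteCategory.congr_hom (appLE_square α α' m j hα P P' N N' e1 e1' eX eN) f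
  rw [CommRingCat.comp_apply, CommRingCat.comp_apply] at s
  exact s

/-- Transfer of the invariance equation along compatible open immersions. -/
theorem inv_iff {A A' B B' : Scheme.{u}} (α σ : A ⟶ B) (α' σ' : A' ⟶ B') (m : A' ⟶ A)
    (j : B' ⟶ B) (hα : α' ≫ j = m ≫ α) (hσ : σ' ≫ j = m ≫ σ)
    (P : B.Opens) (P' : B'.Opens) (N : A.Opens) (N' : A'.Opens)
    (e1 : N ≤ α ⁻¹ᵁ P) (e2 : N ≤ σ ⁻¹ᵁ P) (e1' : N' ≤ α' ⁻¹ᵁ P') (e2' : N' ≤ σ' ⁻¹ᵁ P')
    (eX : P' ≤ j ⁻¹ᵁ P) (eN : N' ≤ m ⁻¹ᵁ N)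
    (hinj : Function.Injective (m.appLE N N' eN)) (f : Γ(B, P)) :
    (α'.appLE P' N' e1' (j.appLE P P' eX f) = σ'.appLE P' N' e2' (j.appLE P P' eX f)) ↔
      α.appLE P N e1 f = σ.appLE P N e2 f := by
  rw [appLE_square_apply α α' m j hα P P' N N' e1 e1' eX eN f,
    appLE_square_apply σ σ' m j hσ P P' N N' e2 e2' eX eN f]
  exact ⟨fun h => hinj h, fun h => by rw [h]⟩

section Top

variable {S : Scheme.{u}} {G X Y XU YU : Over S} [GrpObj G]

theorem exists_whisker_preimage (jU : XU ⟶ X) (p : ↥(G ⊗ X).left) (w : ↥XU.left)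
    (hw : jU.left.base w = (snd G X).left.base p) :
    ∃ q : ↥(G ⊗ XU).left, (snd G XU).left.base q = w ∧ (G ◁ jU).left.base q = p :=
  Scheme.exists_preimage_of_isPullback
    (Groth.Agent.Helper2.Orbit.isPullback_whiskerLeft' (G := G) jU) w p hw

theorem act_whisker (a : AlgGrp.Action G X) (aU : AlgGrp.Action G XU) (jU : XU ⟶ X)
    (haU : aU.act ≫ jU = (G ◁ jU) ≫ a.act) (q : ↥(G ⊗ XU).left) :
    a.act.left.base ((G ◁ jU).left.base q) = jU.left.base (aU.act.left.base q) := by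
  have e := congrArg (fun f => f.left.base q) haU
  exact e.symm

theorem snd_whisker (jU : XU ⟶ X) (q : ↥(G ⊗ XU).left) :
    (snd G X).left.base ((G ◁ jU).left.base q) = jU.left.base ((snd G XU).left.base q) := by
  have e := congrArg (fun f => f.left.base q) (whiskerLeft_snd G jU)
  exact e

theorem image_invariant (a : AlgGrp.Action G X) (aU : AlgGrp.Action G XU) (jU : XU ⟶ X)
    (haU : aU.act ≫ jU = (G ◁ jU) ≫ a.act) {W : Set ↥XU.left}
    (hW : NRQuot.IsInvariantSet aU W) : NRQuot.IsInvariantSet a (jU.left.base '' W) := by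
  intro p hp
  obtain ⟨w, hw, hwp⟩ := hp
  obtain ⟨q, hq1, hq2⟩ := exists_whisker_preimage jU p w hwp
  refine ⟨aU.act.left.base q, hW q (by rw [hq1]; exact hw), ?_⟩
  rw [← act_whisker a aU jU haU q, hq2]

theorem closure_invariant [Subsingleton S] (a : AlgGrp.Action G X) {T : Set ↥X.left}
    (hT : NRQuot.IsInvariantSet a T) : NRQuot.IsInvariantSet a (closure T) := by
  intro z hz
  have h3 : IsOpenMap (snd G X).left := Groth.Agent.Lib.Helper6.GrpSch.Field.isOpenMap_snd G X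
  have h1 : z ∈ closure ((snd G X).left ⁻¹' T) := by
    rw [← h3.preimage_closure_eq_closure_preimage (snd G X).left.continuous]
    exact hz
  have h2 := image_closure_subset_closure_image a.act.left.continuous
    (Set.mem_image_of_mem _ h1)
  refine closure_mono ?_ h2
  rintro _ ⟨z', hz', rfl⟩
  exact hT z' hz'

theorem preimage_closure_image (jU : XU ⟶ X) [IsOpenImmersion jU.left] {W : Set ↥XU.left}
    (hW : IsClosed W) : jU.left.base ⁻¹' closure (jU.left.base '' W) = W := by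
  have hi : Topology.IsInducing (jU.left.base : ↥XU.left → ↥X.left) :=
    jU.left.isOpenEmbedding.isInducing
  rw [← hi.closure_eq_preimage_closure_image, hW.closure_eq]

theorem image_preimage_eq (φ : X ⟶ Y) (jU : XU ⟶ X) (jY : YU ⟶ Y) (φU : XU ⟶ YU)
    (hsq : φU ≫ jY = jU ≫ φ)
    (hrange : Set.range jU.left.base = φ.left.base ⁻¹' Set.range jY.left.base)
    (hinj : Function.Injective jY.left.base) (W' : Set ↥X.left) :
    φU.left.base '' (jU.left.base ⁻¹' W') = jY.left.base ⁻¹' (φ.left.base '' W') := by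
  have hpt : ∀ w : ↥XU.left,
      jY.left.base (φU.left.base w) = φ.left.base (jU.left.base w) := fun w =>
    congrArg (fun f => f.left.base w) hsq
  apply Set.Subset.antisymm
  · rintro _ ⟨w, hw, rfl⟩
    exact ⟨jU.left.base w, hw, (hpt w).symm⟩
  · intro y hy
    obtain ⟨x, hx, hxy⟩ := hy
    have hx' : x ∈ Set.range jU.left.base := by
      rw [hrange]; exact ⟨y, hxy.symm⟩
    obtain ⟨w, rfl⟩ := hx'
    refine ⟨w, hx, hinj ?_⟩
    rw [hpt w, hxy]

theorem closed_restrict [Subsingleton S] (a : AlgGrp.Action G X) (φ : X ⟶ Y)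
    (aU : AlgGrp.Action G XU) (jU : XU ⟶ X) (jY : YU ⟶ Y) (φU : XU ⟶ YU)
    [IsOpenImmersion jU.left]
    (h : NRQuot.IsGoodQuot a φ) (hsq : φU ≫ jY = jU ≫ φ)
    (hrange : Set.range jU.left.base = φ.left.base ⁻¹' Set.range jY.left.base)
    (hinj : Function.Injective jY.left.base)
    (haU : aU.act ≫ jU = (G ◁ jU) ≫ a.act)
    (W : Set ↥XU.left) (hWc : IsClosed W) (hWi : NRQuot.IsInvariantSet aU W) :
    IsClosed (φU.left.base '' W) := by
  have e := image_preimage_eq φ jU jY φU hsq hrange hinj (closure (jU.left.base '' W))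
  rw [preimage_closure_image jU hWc] at e
  rw [e]
  have hc : IsClosed (φ.left.base '' closure (jU.left.base '' W)) :=
    h.closed _ isClosed_closure (closure_invariant a (image_invariant a aU jU haU hWi))
  have hcont : Continuous (jY.left.base : ↥YU.left → ↥Y.left) := jY.left.continuous
  exact hc.preimage hcont

theorem inter_restrict [Subsingleton S] (a : AlgGrp.Action G X) (φ : X ⟶ Y)
    (aU : AlgGrp.Action G XU) (jU : XU ⟶ X) (jY : YU ⟶ Y) (φU : XU ⟶ YU)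
    [IsOpenImmersion jU.left]
    (h : NRQuot.IsGoodQuot a φ) (hsq : φU ≫ jY = jU ≫ φ)
    (hrange : Set.range jU.left.base = φ.left.base ⁻¹' Set.range jY.left.base)
    (hinj : Function.Injective jY.left.base)
    (haU : aU.act ≫ jU = (G ◁ jU) ≫ a.act)
    (J : Type u) (W : J → Set ↥XU.left) (hWc : ∀ i, IsClosed (W i))
    (hWi : ∀ i, NRQuot.IsInvariantSet aU (W i)) :
    φU.left.base '' (⋂ i, W i) = ⋂ i, φU.left.base '' (W i) := by
  have hpre : ∀ i, jU.left.base ⁻¹' closure (jU.left.base '' W i) = W i := fun i =>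
    preimage_closure_image jU (hWc i)
  have e1 : (⋂ i, W i) = jU.left.base ⁻¹' (⋂ i, closure (jU.left.base '' W i)) := by
    rw [Set.preimage_iInter]
    exact Set.iInter_congr (fun i => (hpre i).symm)
  have e2 : ∀ i, φU.left.base '' (W i) =
      jY.left.base ⁻¹' (φ.left.base '' closure (jU.left.base '' W i)) := by
    intro i
    have t := image_preimage_eq φ jU jY φU hsq hrange hinj (closure (jU.left.base '' W i))
    rw [hpre i] at t
    exact t
  have key : φU.left.base '' (⋂ i, W i) =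
      jY.left.base ⁻¹' (φ.left.base '' (⋂ i, closure (jU.left.base '' W i))) := by
    have t := image_preimage_eq φ jU jY φU hsq hrange hinj
      (⋂ i, closure (jU.left.base '' W i))
    rw [← e1] at t
    exact t
  have hI := h.inter J (fun i => closure (jU.left.base '' W i)) (fun i => isClosed_closure)
    (fun i => closure_invariant a (image_invariant a aU jU haU (hWi i)))
  rw [key, hI, Set.preimage_iInter]
  exact Set.iInter_congr (fun i => (e2 i).symm)

theorem mem_P_iff (φ : X ⟶ Y) (jU : XU ⟶ X) (jY : YU ⟶ Y) (φU : XU ⟶ YU)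
    [IsOpenImmersion jY.left]
    (hsq : φU ≫ jY = jU ≫ φ) (hinj : Function.Injective jY.left.base)
    (V : YU.left.Opens) (w : ↥XU.left) :
    jU.left.base w ∈ (φ.left ⁻¹ᵁ (jY.left ''ᵁ V) : X.left.Opens) ↔
      w ∈ (φU.left ⁻¹ᵁ V : XU.left.Opens) := by
  have hpt : jY.left.base (φU.left.base w) = φ.left.base (jU.left.base w) :=
    congrArg (fun f => f.left.base w) hsq
  constructor
  · intro hw
    have hw' : φ.left.base (jU.left.base w) ∈ (jY.left.base '' (V : Set ↥YU.left)) := hw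
    obtain ⟨v, hv, hvw⟩ := hw'
    have hv' : v = φU.left.base w := hinj (by rw [hvw, hpt])
    show φU.left.base w ∈ (V : Set ↥YU.left)
    rw [← hv']
    exact hv
  · intro hw
    have hw' : φU.left.base w ∈ (V : Set ↥YU.left) := hw
    show φ.left.base (jU.left.base w) ∈ (jY.left.base '' (V : Set ↥YU.left))
    exact ⟨φU.left.base w, hw', hpt⟩

theorem exists_of_mem_P (φ : X ⟶ Y) (jU : XU ⟶ X) (jY : YU ⟶ Y)
    [IsOpenImmersion jY.left]
    (hrange : Set.range jU.left.base = φ.left.base ⁻¹' Set.range jY.left.base)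
    (V : YU.left.Opens) (x : ↥X.left)
    (hx : x ∈ (φ.left ⁻¹ᵁ (jY.left ''ᵁ V) : X.left.Opens)) :
    ∃ w : ↥XU.left, jU.left.base w = x := by
  have hx' : φ.left.base x ∈ (jY.left.base '' (V : Set ↥YU.left)) := hx
  obtain ⟨v, hv, hvx⟩ := hx'
  have : x ∈ Set.range jU.left.base := by
    rw [hrange]; exact ⟨v, hvx⟩
  exact this

/-- comparison of the opens `N` on which invariance of sections is tested. -/
theorem leN (a : AlgGrp.Action G X) (aU : AlgGrp.Action G XU) (jU : XU ⟶ X)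
    (haU : aU.act ≫ jU = (G ◁ jU) ≫ a.act) (P : X.left.Opens) (PU : XU.left.Opens)
    (hPU : ∀ w : ↥XU.left, jU.left.base w ∈ P ↔ w ∈ PU) :
    aU.act.left ⁻¹ᵁ PU ⊓ (snd G XU).left ⁻¹ᵁ PU ≤
      (G ◁ jU).left ⁻¹ᵁ (a.act.left ⁻¹ᵁ P ⊓ (snd G X).left ⁻¹ᵁ P) := by
  intro q hq
  have hq' : aU.act.left.base q ∈ PU ∧ (snd G XU).left.base q ∈ PU := hq
  show a.act.left.base ((G ◁ jU).left.base q) ∈ P ∧
    (snd G X).left.base ((G ◁ jU).left.base q) ∈ P
  rw [act_whisker a aU jU haU q, snd_whisker jU q]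
  exact ⟨(hPU _).2 hq'.1, (hPU _).2 hq'.2⟩

theorem leN' (a : AlgGrp.Action G X) (aU : AlgGrp.Action G XU) (jU : XU ⟶ X)
    [IsOpenImmersion (G ◁ jU).left]
    (haU : aU.act ≫ jU = (G ◁ jU) ≫ a.act) (P : X.left.Opens) (PU : XU.left.Opens)
    (hPU : ∀ w : ↥XU.left, jU.left.base w ∈ P ↔ w ∈ PU)
    (hPr : ∀ x : ↥X.left, x ∈ P → ∃ w : ↥XU.left, jU.left.base w = x) :
    a.act.left ⁻¹ᵁ P ⊓ (snd G X).left ⁻¹ᵁ P ≤
      (G ◁ jU).left ''ᵁ (aU.act.left ⁻¹ᵁ PU ⊓ (snd G XU).left ⁻¹ᵁ PU) := by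
  intro p hp
  have hp' : a.act.left.base p ∈ P ∧ (snd G X).left.base p ∈ P := hp
  obtain ⟨w, hw⟩ := hPr _ hp'.2
  obtain ⟨q, hq1, hq2⟩ := exists_whisker_preimage jU p w hw
  have h1 : aU.act.left.base q ∈ PU := by
    rw [← hPU, ← act_whisker a aU jU haU q, hq2]; exact hp'.1
  have h2 : (snd G XU).left.base q ∈ PU := by
    rw [hq1, ← hPU, hw]; exact hp'.2
  have hqN : q ∈ (aU.act.left ⁻¹ᵁ PU ⊓ (snd G XU).left ⁻¹ᵁ PU : (G ⊗ XU).left.Opens) :=
    ⟨h1, h2⟩
  show p ∈ Set.image (fun t : ↥(G ⊗ XU).left => (G ◁ jU).left.base t)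
    ((aU.act.left ⁻¹ᵁ PU ⊓ (snd G XU).left ⁻¹ᵁ PU : (G ⊗ XU).left.Opens) : Set _)
  exact ⟨q, hqN, hq2⟩

theorem sections_restrict (a : AlgGrp.Action G X) (φ : X ⟶ Y)
    (aU : AlgGrp.Action G XU) (jU : XU ⟶ X) (jY : YU ⟶ Y) (φU : XU ⟶ YU)
    [IsOpenImmersion jU.left] [IsOpenImmersion jY.left]
    (h : NRQuot.IsGoodQuot a φ) (hsq : φU ≫ jY = jU ≫ φ)
    (hrange : Set.range jU.left.base = φ.left.base ⁻¹' Set.range jY.left.base)
    (haU : aU.act ≫ jU = (G ◁ jU) ≫ a.act) (V : YU.left.Opens) :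
    Function.Injective (φU.left.app V) ∧
      Set.range (φU.left.app V) = {f | GIT.IsInvSection aU φU V f} := by
  haveI : IsOpenImmersion (G ◁ jU).left :=
    MorphismProperty.of_isPullback (P := @IsOpenImmersion)
      (Groth.Agent.Helper2.Orbit.isPullback_whiskerLeft' (G := G) jU) inferInstance
  have hinjY : Function.Injective (jY.left.base : ↥YU.left → ↥Y.left) :=
    jY.left.isOpenEmbedding.injective
  have hPU : ∀ w : ↥XU.left, jU.left.base w ∈ (φ.left ⁻¹ᵁ (jY.left ''ᵁ V) : X.left.Opens) ↔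
      w ∈ (φU.left ⁻¹ᵁ V : XU.left.Opens) := fun w => mem_P_iff φ jU jY φU hsq hinjY V w
  have hPr : ∀ x : ↥X.left, x ∈ (φ.left ⁻¹ᵁ (jY.left ''ᵁ V) : X.left.Opens) →
      ∃ w : ↥XU.left, jU.left.base w = x := fun x hx => exists_of_mem_P φ jU jY hrange V x hx
  have eY : V ≤ jY.left ⁻¹ᵁ (jY.left ''ᵁ V) := (jY.left.preimage_image_eq V).ge
  have eX : φU.left ⁻¹ᵁ V ≤ jU.left ⁻¹ᵁ (φ.left ⁻¹ᵁ (jY.left ''ᵁ V)) :=
    fun w hw => (hPU w).2 hw
  have eX' : φ.left ⁻¹ᵁ (jY.left ''ᵁ V) ≤ jU.left ''ᵁ (φU.left ⁻¹ᵁ V) := by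
    intro x hx
    obtain ⟨w, rfl⟩ := hPr x hx
    show jU.left.base w ∈ Set.image (fun t : ↥XU.left => jU.left.base t)
      ((φU.left ⁻¹ᵁ V : XU.left.Opens) : Set _)
    exact ⟨w, (hPU w).1 hx, rfl⟩
  have eN := leN a aU jU haU (φ.left ⁻¹ᵁ (jY.left ''ᵁ V)) (φU.left ⁻¹ᵁ V) hPU
  have eN' := leN' a aU jU haU (φ.left ⁻¹ᵁ (jY.left ''ᵁ V)) (φU.left ⁻¹ᵁ V) hPU hPr
  haveI iY : IsIso (jY.left.appLE (jY.left ''ᵁ V) V eY) := isIso_appLE _ _ _ eY le_rfl
  haveI iX : IsIso (jU.left.appLE (φ.left ⁻¹ᵁ (jY.left ''ᵁ V)) (φU.left ⁻¹ᵁ V) eX) :=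
    isIso_appLE _ _ _ eX eX'
  haveI iN : IsIso ((G ◁ jU).left.appLE _ _ eN) := isIso_appLE _ _ _ eN eN'
  have bY := ConcreteCategory.bijective_of_isIso (jY.left.appLE (jY.left ''ᵁ V) V eY)
  have bX := ConcreteCategory.bijective_of_isIso
    (jU.left.appLE (φ.left ⁻¹ᵁ (jY.left ''ᵁ V)) (φU.left ⁻¹ᵁ V) eX)
  have bN := ConcreteCategory.bijective_of_isIso ((G ◁ jU).left.appLE _ _ eN)
  have hsq' : φU.left ≫ jY.left = jU.left ≫ φ.left := by
    rw [← Over.comp_left, ← Over.comp_left]; exact congrArg CommaMorphism.left hsq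
  have hα : aU.act.left ≫ jU.left = (G ◁ jU).left ≫ a.act.left := by
    rw [← Over.comp_left, ← Over.comp_left]; exact congrArg CommaMorphism.left haU
  have hσ : (snd G XU).left ≫ jU.left = (G ◁ jU).left ≫ (snd G X).left := by
    rw [← Over.comp_left, ← Over.comp_left]
    exact congrArg CommaMorphism.left (whiskerLeft_snd G jU).symm
  have sq1 : ∀ s : Γ(Y.left, jY.left ''ᵁ V),
      φU.left.app V (jY.left.appLE (jY.left ''ᵁ V) V eY s) =
        jU.left.appLE (φ.left ⁻¹ᵁ (jY.left ''ᵁ V)) (φU.left ⁻¹ᵁ V) eX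
          (φ.left.app (jY.left ''ᵁ V) s) := by
    intro s
    have t := appLE_square_apply φ.left φU.left jU.left jY.left hsq' (jY.left ''ᵁ V) V
      (φ.left ⁻¹ᵁ (jY.left ''ᵁ V)) (φU.left ⁻¹ᵁ V) le_rfl le_rfl eY eX s
    rw [Scheme.Hom.appLE_eq_app, Scheme.Hom.appLE_eq_app] at t
    exact t
  obtain ⟨hinj, hrng⟩ := h.sections (jY.left ''ᵁ V)
  refine ⟨?_, ?_⟩
  · intro x y hxy
    obtain ⟨x', rfl⟩ := bY.2 x
    obtain ⟨y', rfl⟩ := bY.2 y
    rw [sq1, sq1] at hxy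
    rw [hinj (bX.1 hxy)]
  · ext f
    obtain ⟨f', rfl⟩ := bX.2 f
    have hiff := inv_iff a.act.left (snd G X).left aU.act.left (snd G XU).left (G ◁ jU).left
      jU.left hα hσ (φ.left ⁻¹ᵁ (jY.left ''ᵁ V)) (φU.left ⁻¹ᵁ V)
      (a.act.left ⁻¹ᵁ (φ.left ⁻¹ᵁ (jY.left ''ᵁ V)) ⊓
        (snd G X).left ⁻¹ᵁ (φ.left ⁻¹ᵁ (jY.left ''ᵁ V)))
      (aU.act.left ⁻¹ᵁ (φU.left ⁻¹ᵁ V) ⊓ (snd G XU).left ⁻¹ᵁ (φU.left ⁻¹ᵁ V))
      inf_le_left inf_le_right inf_le_left inf_le_right eX eN bN.1 f'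
    constructor
    · rintro ⟨t, ht⟩
      obtain ⟨s, rfl⟩ := bY.2 t
      rw [sq1] at ht
      have hf' : φ.left.app (jY.left ''ᵁ V) s = f' := bX.1 ht
      have hmem : f' ∈ {f | GIT.IsInvSection a φ (jY.left ''ᵁ V) f} := by
        rw [← hrng]; exact ⟨s, hf'⟩
      exact hiff.2 hmem
    · intro hf
      have hf' : GIT.IsInvSection a φ (jY.left ''ᵁ V) f' := hiff.1 hf
      have hmem : f' ∈ Set.range (φ.left.app (jY.left ''ᵁ V)) := by rw [hrng]; exact hf'
      obtain ⟨s, rfl⟩ := hmem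
      exact ⟨jY.left.appLE (jY.left ''ᵁ V) V eY s, sq1 s⟩

/-- A good quotient restricts to a good quotient over an open of the target (abstract form). -/
theorem isGoodQuot_of_isPullback [Subsingleton S] (a : AlgGrp.Action G X) (φ : X ⟶ Y)
    (aU : AlgGrp.Action G XU) (jU : XU ⟶ X) (jY : YU ⟶ Y) (φU : XU ⟶ YU)
    [IsOpenImmersion jY.left]
    (h : NRQuot.IsGoodQuot a φ) (hsq : φU ≫ jY = jU ≫ φ)
    (hpb : IsPullback jU.left φU.left φ.left jY.left)
    (haU : aU.act ≫ jU = (G ◁ jU) ≫ a.act) : NRQuot.IsGoodQuot aU φU := by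
  haveI : IsOpenImmersion jU.left :=
    MorphismProperty.of_isPullback (P := @IsOpenImmersion) hpb.flip inferInstance
  have hrange : Set.range jU.left.base = φ.left.base ⁻¹' Set.range jY.left.base :=
    Groth.Agent.Helper7.FibTop.range_snd_of_isPullback hpb.flip
  have hinjY : Function.Injective (jY.left.base : ↥YU.left → ↥Y.left) :=
    jY.left.isOpenEmbedding.injective
  haveI : Mono jY.left := inferInstance
  haveI : Mono jY := (Over.forget S).mono_of_mono_map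
    (show Mono ((Over.forget S).map jY) from inferInstanceAs (Mono jY.left))
  have hinv : a.act ≫ φ = snd G X ≫ φ := h.inv
  refine ⟨?_, ?_, ?_, ?_, ?_⟩
  · haveI := h.affine
    exact MorphismProperty.of_isPullback (P := @IsAffineHom) hpb inferInstance
  · have e1 : (aU.act ≫ φU) ≫ jY = (G ◁ jU) ≫ snd G X ≫ φ := by
      rw [Category.assoc, hsq, ← Category.assoc aU.act jU φ, haU, Category.assoc, hinv]
    have e2 : (snd G XU ≫ φU) ≫ jY = (G ◁ jU) ≫ snd G X ≫ φ := by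
      rw [Category.assoc, hsq, ← Category.assoc (snd G XU) jU φ, ← whiskerLeft_snd,
        Category.assoc]
    exact (cancel_mono jY).1 (e1.trans e2.symm)
  · exact fun V => sections_restrict a φ aU jU jY φU h hsq hrange haU V
  · exact fun W hWc hWi => closed_restrict a φ aU jU jY φU h hsq hrange hinjY haU W hWc hWi
  · exact fun J W hWc hWi =>
      inter_restrict a φ aU jU jY φU h hsq hrange hinjY haU J W hWc hWi

end Top

/-- The statement of S19425. -/
theorem main (k : Type u) [Field k]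
    (G X Y : Over (Spec (CommRingCat.of k))) [GrpObj G]
    (a : AlgGrp.Action G X) (φ : X ⟶ Y) (h : NRQuot.IsGoodQuot a φ)
    (U : Y.left.Opens)
    (aU : AlgGrp.Action G (Over.mk ((φ.left ⁻¹ᵁ U).ι ≫ X.hom)))
    (jU : Over.mk ((φ.left ⁻¹ᵁ U).ι ≫ X.hom) ⟶ X) (hjU : jU.left = (φ.left ⁻¹ᵁ U).ι)
    (haU : aU.act ≫ jU = (G ◁ jU) ≫ a.act)
    (φU : Over.mk ((φ.left ⁻¹ᵁ U).ι ≫ X.hom) ⟶ Over.mk (U.ι ≫ Y.hom))
    (hφU : φU.left ≫ U.ι = (φ.left ⁻¹ᵁ U).ι ≫ φ.left) :
    NRQuot.IsGoodQuot aU φU := by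
  haveI : Subsingleton ↥(Spec (CommRingCat.of k)) :=
    inferInstanceAs (Subsingleton (PrimeSpectrum k))
  obtain ⟨jY, hjY⟩ : ∃ jY : Over.mk (U.ι ≫ Y.hom) ⟶ Y, jY.left = U.ι :=
    ⟨Over.homMk U.ι rfl, rfl⟩
  haveI : IsOpenImmersion jY.left := by rw [hjY]; infer_instance
  have hsq : φU ≫ jY = jU ≫ φ := by
    apply Over.OverMorphism.ext
    rw [Over.comp_left, Over.comp_left, hjY, hjU]; exact hφU
  have hφU' : φU.left = φ.left ∣_ U := by
    rw [← cancel_mono U.ι, morphismRestrict_ι]; exact hφU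
  have hpb : IsPullback jU.left φU.left φ.left jY.left := by
    rw [hjU, hφU', hjY]; exact (isPullback_morphismRestrict φ.left U).flip
  exact isGoodQuot_of_isPullback a φ aU jU jY φU h hsq hpb haU

end Groth.Agent.Helper2.GoodQuotRestrict
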