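import Mathlib
import Groth.Prelude.Def_AlgGrp
import Groth.Agent.Lib.Helper2.Sch.OrbitQuotient
import Groth.Agent.Lib.Helper2.Sch.OrbitClosed

/-!
# A group acting transitively on a connected scheme with connected stabilizer is connected
(S15598) (helper2)
-/

set_option backward.isDefEq.respectTransparency.types false
set_option synthInstance.maxHeartbeats 400000
set_option autoImplicit false
set_option linter.unusedSectionVars false
set_option linter.style.haveILetI false
universe u
open CategoryTheory CategoryTheory.Limits AlgebraicGeometry TopologicalSpace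
open MonoidalCategory CartesianMonoidalCategory MonObj GrpObj
open Groth.Agent.Helper2.Orbit

namespace Groth.Agent.Helper2.GrpConnStab

section Cat

variable {C : Type*} [Category C] [CartesianMonoidalCategory C]

/-- The fibre of the first projection over a point. -/
theorem isPullback_lift_fst {G H : C} (g : 𝟙_ C ⟶ G) :
    IsPullback (lift (toUnit H ≫ g) (𝟙 H)) (toUnit H) (fst G H) g := by
  refine Groth.Agent.Lib.Helper4.GrpKer2.isPullback_of_points _ _ _ _ (lift_fst _ _) ?_ ?_
  · intro T a b hab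
    refine ⟨a ≫ snd G H, ?_, toUnit_unique _ _⟩
    apply CartesianMonoidalCategory.hom_ext
    · rw [Category.assoc, lift_fst, hab, ← Category.assoc]
      congr 1
      exact toUnit_unique _ _
    · rw [Category.assoc, lift_snd, Category.comp_id]
  · intro T s t h1 _
    have := congrArg (fun l => l ≫ snd G H) h1
    simpa using this

/-- A stabilizer described on points is a pullback. -/
theorem isPullback_of_points_stab {G X H : C} (p : G ⟶ X) (x₀ : 𝟙_ C ⟶ X) (i : H ⟶ G) [Mono i]
    (hH : ∀ (T : C) (g : T ⟶ G), (∃ h : T ⟶ H, h ≫ i = g) ↔ g ≫ p = toUnit T ≫ x₀) :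
    IsPullback i (toUnit H) p x₀ := by
  refine Groth.Agent.Lib.Helper4.GrpKer2.isPullback_of_points _ _ _ _ ?_ ?_ ?_
  · exact (hH H i).1 ⟨𝟙 H, Category.id_comp _⟩
  · intro T a b hab
    have hb : b = toUnit T := toUnit_unique _ _
    rw [hb] at hab
    obtain ⟨h, hh⟩ := (hH T a).2 hab
    exact ⟨h, hh, toUnit_unique _ _⟩
  · intro T s t h1 _
    exact (cancel_mono i).1 h1

end Cat

section Main

variable (k : Type u) [Field k] [IsAlgClosed k] {G X H : Over (Spec (CommRingCat.of k))} [GrpObj G]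
  [LocallyOfFiniteType G.hom] [QuasiCompact G.hom]
  (act : G ⊗ X ⟶ X)
  (one_act : (η[G] ▷ X) ≫ act = (λ_ X).hom)
  (mul_act : (μ[G] ▷ X) ≫ act = (α_ G G X).hom ≫ (G ◁ act) ≫ act)
  (x₀ : 𝟙_ (Over (Spec (CommRingCat.of k))) ⟶ X) (i : H ⟶ G)

include one_act mul_act in
/-- The fibres of the orbit map over closed points are connected when the stabilizer is. -/
theorem isPreconnected_fibre [PreconnectedSpace H.left]
    (hGo : IsPullback i (toUnit H) (orbit act x₀) x₀) (x' : X.left)
    (hx' : IsClosed ({x'} : Set X.left)) :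
    _root_.IsPreconnected ((orbit act x₀).left ⁻¹' {x'}) := by
  haveI : Subsingleton ↥(Spec (CommRingCat.of k)) :=
    inferInstanceAs (Subsingleton (PrimeSpectrum k))
  obtain ⟨p, hp⟩ : ∃ p, p = orbit act x₀ := ⟨_, rfl⟩
  rw [← hp] at hGo ⊢
  by_cases hne : (p.left ⁻¹' {x'}).Nonempty
  swap
  · rw [Set.not_nonempty_iff_eq_empty.mp hne]; exact isPreconnected_empty
  have hFc : IsClosed (p.left ⁻¹' {x'}) := hx'.preimage p.left.continuous
  obtain ⟨g, hg⟩ := Groth.Agent.Helper2.OrbitClosed.exists_rational_point_of_isClosed k _ hFc hne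
  obtain ⟨g₀, hg₀⟩ : ∃ g₀ : G.left, g₀ = g.left (IsLocalRing.closedPoint k) := ⟨_, rfl⟩
  have hg₀F : p.left g₀ = x' := hg ⟨_, hg₀.symm⟩
  have sq := Groth.Agent.Lib.Helper4.GrpKer2.isPullback_left
    (Groth.Agent.Helper2.Stab.isPullback_shear act one_act mul_act x₀ i (hp ▸ hGo))
  rw [← hp] at sq
  have sqC := Groth.Agent.Lib.Helper4.GrpKer2.isPullback_left
    (isPullback_lift_fst (C := Over (Spec (CommRingCat.of k))) (G := G) (H := H) g)
  obtain ⟨l, hl⟩ : ∃ l : H ⟶ G ⊗ H, l = lift (toUnit H ≫ g) (𝟙 H) := ⟨_, rfl⟩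
  obtain ⟨m, hm⟩ : ∃ m : G ⊗ H ⟶ G, m = fst G H * (snd G H ≫ i) := ⟨_, rfl⟩
  rw [← hl] at sqC
  rw [← hm] at sq
  have hF : p.left ⁻¹' {x'} = m.left '' Set.range l.left := by
    ext t
    constructor
    · intro ht
      have ht' : p.left t = x' := ht
      obtain ⟨w, hw1, hw2⟩ := Scheme.exists_preimage_of_isPullback sq g₀ t (hg₀F.trans ht'.symm)
      obtain ⟨h, hh1, -⟩ := Scheme.exists_preimage_of_isPullback sqC w
        (IsLocalRing.closedPoint k) (hw1.trans hg₀)
      exact ⟨w, ⟨h, hh1⟩, hw2⟩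
    · rintro ⟨_, ⟨h, rfl⟩, rfl⟩
      change p.left (m.left (l.left h)) = x'
      have h1 : p.left (m.left (l.left h)) = p.left ((fst G H).left (l.left h)) := by
        have := congrArg (fun t : (G ⊗ H).left ⟶ X.left => t (l.left h)) sq.w
        simpa only [Scheme.Hom.comp_apply] using this.symm
      have h2 : (fst G H).left (l.left h) = g₀ := by
        rw [← Scheme.Hom.comp_apply, sqC.w, Scheme.Hom.comp_apply, hg₀]
        congr 1
        exact Subsingleton.elim (α := ↥(Spec (CommRingCat.of k))) _ _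
      rw [h1, h2, hg₀F]
  rw [hF]
  exact (isPreconnected_range l.left.continuous).image _ m.left.continuous.continuousOn

include one_act mul_act in
/-- S15598 -/
theorem connectedSpace_of_connected_stabilizer [Smooth X.hom] [ConnectedSpace X.left]
    [ConnectedSpace H.left] (hsurj : Surjective (orbit act x₀).left)
    (hGo : IsPullback i (toUnit H) (orbit act x₀) x₀) : ConnectedSpace G.left := by
  haveI : Subsingleton ↥(Spec (CommRingCat.of k)) :=
    inferInstanceAs (Subsingleton (PrimeSpectrum k))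
  haveI : IsReduced (Spec (CommRingCat.of k)) := inferInstance
  haveI : IsReduced X.left := Groth.Agent.Helper2.SchLib.isReduced_of_smooth X.hom
  haveI : Flat G.hom := inferInstance
  haveI : LocallyOfFiniteType X.hom := inferInstance
  haveI : JacobsonSpace X.left := LocallyOfFiniteType.jacobsonSpace X.hom
  obtain ⟨p, hp⟩ : ∃ p, p = orbit act x₀ := ⟨_, rfl⟩
  have hs : Function.Surjective p.left := hp ▸ hsurj.surj
  haveI : Flat p.left := hp ▸
    Groth.Agent.Helper2.OrbitQuot.flat_orbit_of_surjective act one_act mul_act x₀ (hp ▸ hs)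
  haveI : LocallyOfFiniteType (p.left ≫ X.hom) := by rw [Over.w]; infer_instance
  haveI : LocallyOfFiniteType p.left := locallyOfFiniteType_of_comp p.left X.hom
  haveI : IsLocallyNoetherian X.left := LocallyOfFiniteType.isLocallyNoetherian X.hom
  haveI : LocallyOfFinitePresentation p.left :=
    LocallyOfFinitePresentation.iff_locallyOfFiniteType.2 inferInstance
  have hopen : IsOpenMap p.left := p.left.isOpenMap
  have hfib : ∀ x' : X.left, IsClosed ({x'} : Set X.left) →
      _root_.IsPreconnected (p.left ⁻¹' {x'}) := fun x' hx' =>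
    hp ▸ isPreconnected_fibre k act one_act mul_act x₀ i hGo x' hx'
  haveI : Nonempty G.left := ⟨η[G].left (IsLocalRing.closedPoint k)⟩
  haveI : PreconnectedSpace G.left := by
    rw [preconnectedSpace_iff_clopen]
    intro s hs'
    by_contra hcon
    rw [not_or] at hcon
    obtain ⟨h1, h2⟩ := hcon
    have hne1 : s.Nonempty := Set.nonempty_iff_ne_empty.mpr h1
    have hne2 : sᶜ.Nonempty := Set.nonempty_compl.mpr h2
    have ho1 : IsOpen (p.left '' s) := hopen _ hs'.isOpen
    have ho2 : IsOpen (p.left '' sᶜ) := hopen _ hs'.compl.isOpen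
    have hcov : (Set.univ : Set X.left) ⊆ p.left '' s ∪ p.left '' sᶜ := by
      intro x _
      obtain ⟨t, rfl⟩ := hs x
      by_cases ht : t ∈ s
      · exact Or.inl ⟨t, ht, rfl⟩
      · exact Or.inr ⟨t, ht, rfl⟩
    obtain ⟨x, -, hx1, hx2⟩ := (isPreconnected_univ (α := X.left)) _ _ ho1 ho2 hcov
      (by obtain ⟨t, ht⟩ := hne1; exact ⟨p.left t, trivial, t, ht, rfl⟩)
      (by obtain ⟨t, ht⟩ := hne2; exact ⟨p.left t, trivial, t, ht, rfl⟩)
    obtain ⟨x', ⟨hx'1, hx'2⟩, hx'c⟩ := nonempty_inter_closedPoints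
      (Z := p.left '' s ∩ p.left '' sᶜ) ⟨x, hx1, hx2⟩ (ho1.inter ho2).isLocallyClosed
    have hF := hfib x' hx'c
    obtain ⟨t1, ht1, e1⟩ := hx'1
    obtain ⟨t2, ht2, e2⟩ := hx'2
    obtain ⟨t, -, ht, ht'⟩ := hF s sᶜ hs'.isOpen hs'.compl.isOpen
      (fun t _ => by
        by_cases h : t ∈ s
        · exact Or.inl h
        · exact Or.inr h)
      ⟨t1, e1, ht1⟩ ⟨t2, e2, ht2⟩
    exact ht' ht
  exact { toPreconnectedSpace := ‹_›, toNonempty := ‹_› }

end Main

end Groth.Agent.Helper2.GrpConnStab
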