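import Mathlib
import Groth.Prelude.Def_Flat
import Groth.Agent.Lib.Helper2.Sch.GrpFibreDim
import Groth.Agent.Lib.Helper2.FibDim.Constr
import Groth.Agent.Lib.Helper2.FibDim.Retro

/-!
# Fibre dimensions of group schemes: semicontinuity and constructibility (S5329) (helper2)
-/

set_option backward.isDefEq.respectTransparency.types false
set_option synthInstance.maxHeartbeats 400000
set_option autoImplicit false
set_option linter.unusedSectionVars false
set_option linter.style.haveILetI false
universe u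
open CategoryTheory CategoryTheory.Limits AlgebraicGeometry TopologicalSpace IsLocalRing Opposite
open MonoidalCategory CartesianMonoidalCategory MonObj GrpObj Topology

namespace Groth.Agent.Helper2.GrpFibreDim

variable {S : Scheme.{u}} (G : Over S) [GrpObj G] [LocallyOfFiniteType G.hom]

theorem upperSemicontinuous_dim_fibre :
    UpperSemicontinuous (fun s : S => topologicalKrullDim ↥(G.hom.base ⁻¹' {s})) := by
  intro s y hy
  obtain ⟨n, hn⟩ := Groth.Agent.Lib.Helper4.FibDimComp1.exists_fibreDimAt_nat G.hom (unitSec G s)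
  have hopen : IsOpen ((unitSec G) ⁻¹' {x | FlatMor.fibreDimAt G.hom x ≤ (n : WithBot ℕ∞)}) :=
    (Groth.Agent.Lib.Helper4.Chev2.S0402_main G.hom n).preimage (unitSec G).continuous
  have hmem : s ∈ (unitSec G) ⁻¹' {x | FlatMor.fibreDimAt G.hom x ≤ (n : WithBot ℕ∞)} := by
    show FlatMor.fibreDimAt G.hom (unitSec G s) ≤ (n : WithBot ℕ∞)
    rw [hn]
  filter_upwards [hopen.mem_nhds hmem] with s' hs'
  have h1 : FlatMor.fibreDimAt G.hom (unitSec G s') ≤ (n : WithBot ℕ∞) := hs'
  show topologicalKrullDim ↥(G.hom.base ⁻¹' {s'}) < y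
  rw [dim_fibre_eq_fibreDimAt_unit G s']
  refine lt_of_le_of_lt h1 ?_
  have h2 : topologicalKrullDim ↥(G.hom.base ⁻¹' {s}) < y := hy
  rwa [dim_fibre_eq_fibreDimAt_unit G s, hn] at h2

theorem isConstructible_setOf_fibreDimAt_eq [LocallyOfFinitePresentation G.hom]
    (d : WithBot ℕ∞) : IsLocallyConstructible {x : G.left | FlatMor.fibreDimAt G.hom x = d} := by
  have hle : ∀ m : ℕ, IsLocallyConstructible
      {x : G.left | FlatMor.fibreDimAt G.hom x ≤ (m : WithBot ℕ∞)} := fun m =>
    IsRetrocompact.isLocallyConstructible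
      (Groth.Agent.Lib.Helper4.Chev2.S0402_main G.hom m)
      (Groth.Agent.Helper2.FibDim.S9355_main G.hom m)
  by_cases hd : ∃ m : ℕ, d = (m : WithBot ℕ∞)
  · obtain ⟨m, rfl⟩ := hd
    cases m with
    | zero =>
      have h : {x : G.left | FlatMor.fibreDimAt G.hom x = ((0 : ℕ) : WithBot ℕ∞)} =
          {x : G.left | FlatMor.fibreDimAt G.hom x ≤ ((0 : ℕ) : WithBot ℕ∞)} := by
        ext x
        simp only [Set.mem_ofPred_eq]
        obtain ⟨e, he⟩ := Groth.Agent.Lib.Helper4.FibDimComp1.exists_fibreDimAt_nat G.hom x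
        rw [he]
        constructor
        · intro h; rw [h]
        · intro h
          have : e ≤ 0 := by exact_mod_cast h
          have : e = 0 := by omega
          rw [this]
      rw [h]
      exact hle 0
    | succ m =>
      have h : {x : G.left | FlatMor.fibreDimAt G.hom x = ((m + 1 : ℕ) : WithBot ℕ∞)} =
          {x : G.left | FlatMor.fibreDimAt G.hom x ≤ ((m + 1 : ℕ) : WithBot ℕ∞)} ∩
          {x : G.left | FlatMor.fibreDimAt G.hom x ≤ (m : WithBot ℕ∞)}ᶜ := by
        ext x
        simp only [Set.mem_ofPred_eq, Set.mem_inter_iff, Set.mem_compl_iff]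
        obtain ⟨e, he⟩ := Groth.Agent.Lib.Helper4.FibDimComp1.exists_fibreDimAt_nat G.hom x
        rw [he]
        constructor
        · intro h
          have h' : e = m + 1 := by exact_mod_cast h
          subst h'
          refine ⟨le_refl _, ?_⟩
          intro h2
          have : m + 1 ≤ m := by exact_mod_cast h2
          omega
        · rintro ⟨h1, h2⟩
          have h1' : e ≤ m + 1 := by exact_mod_cast h1
          have h2' : ¬ e ≤ m := by
            intro h3; apply h2; exact_mod_cast h3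
          have : e = m + 1 := by omega
          rw [this]
      rw [h]
      exact (hle (m + 1)).inter (Groth.Agent.Helper2.FibDim.isLocallyConstructible_compl (hle m))
  · have h : {x : G.left | FlatMor.fibreDimAt G.hom x = d} = ∅ := by
      ext x
      simp only [Set.mem_ofPred_eq, Set.mem_empty_iff_false, iff_false]
      intro hx
      obtain ⟨e, he⟩ := Groth.Agent.Lib.Helper4.FibDimComp1.exists_fibreDimAt_nat G.hom x
      exact hd ⟨e, hx.symm.trans he⟩
    rw [h]
    exact IsLocallyConstructible.empty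

/-- The preimage of a locally constructible set under a morphism of schemes is locally
constructible. -/
theorem isLocallyConstructible_preimage {X Y : Scheme.{u}} (f : X ⟶ Y) {Z : Set Y}
    (hZ : IsLocallyConstructible Z) : IsLocallyConstructible (f ⁻¹' Z) := by
  intro x
  obtain ⟨U', hU'x, hU'o, hU'c⟩ := hZ (f x)
  obtain ⟨U, hU⟩ : ∃ U : Y.Opens, (U : Set Y) = U' := ⟨⟨U', hU'o⟩, rfl⟩
  subst hU
  have hx : x ∈ f ⁻¹ᵁ U := by
    show f x ∈ U
    exact mem_of_mem_nhds hU'x
  refine ⟨(f ⁻¹ᵁ U : Set X), (f ⁻¹ᵁ U).2.mem_nhds hx, (f ⁻¹ᵁ U).2, ?_⟩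
  have h := Scheme.Hom.isConstructible_preimage (f ∣_ U) hU'c
  have h2 : ((Subtype.val : ↥(f ⁻¹ᵁ U : Set X) → X) ⁻¹' (f ⁻¹' Z)) =
      (f ∣_ U) ⁻¹' ((Subtype.val : ↥(U : Set Y) → Y) ⁻¹' Z) := by
    ext w
    show f w.1 ∈ Z ↔ ((f ∣_ U) w).1 ∈ Z
    rw [morphismRestrict_base_coe]
  rw [h2]
  exact h

theorem S5329_main :
    UpperSemicontinuous (fun s : S => topologicalKrullDim ↥(G.hom.base ⁻¹' {s})) ∧
    (LocallyOfFinitePresentation G.hom → ∀ s : S, ∃ V : S.Opens, s ∈ V ∧
      ((fun t : S => topologicalKrullDim ↥(G.hom.base ⁻¹' {t})) '' (V : Set S)).Finite ∧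
      ∀ d : WithBot ℕ∞, Topology.IsConstructible
        {t : V | topologicalKrullDim ↥(G.hom.base ⁻¹' {(t : S)}) = d}) := by
  refine ⟨upperSemicontinuous_dim_fibre G, ?_⟩
  intro hfp s
  obtain ⟨V, hV, hsV, -⟩ := exists_isAffineOpen_mem_and_subset (U := (⊤ : S.Opens)) (x := s)
    trivial
  refine ⟨V, hsV, ?_, ?_⟩
  · obtain ⟨M, hM⟩ := Groth.Agent.Helper2.FibDim.exists_bound_fibreDimAt_of_isCompact G.hom
      ((unitSec G) '' (V : Set S)) (hV.isCompact.image (unitSec G).continuous)
    refine Set.Finite.subset (Set.Finite.image (fun m : ℕ => (m : WithBot ℕ∞))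
      (Set.finite_Iic M)) ?_
    rintro _ ⟨t, ht, rfl⟩
    obtain ⟨e, he⟩ := Groth.Agent.Lib.Helper4.FibDimComp1.exists_fibreDimAt_nat G.hom
      (unitSec G t)
    refine ⟨e, ?_, ?_⟩
    · have h1 := hM _ ⟨t, ht, rfl⟩
      rw [he] at h1
      have : e ≤ M := by exact_mod_cast h1
      exact this
    · show (e : WithBot ℕ∞) = topologicalKrullDim ↥(G.hom.base ⁻¹' {t})
      rw [dim_fibre_eq_fibreDimAt_unit G t, he]
  · intro d
    have h1 := isLocallyConstructible_preimage (V.ι ≫ unitSec G)
      (isConstructible_setOf_fibreDimAt_eq G d)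
    haveI : IsAffine V.toScheme := hV
    have h2 : IsConstructible ((V.ι ≫ unitSec G) ⁻¹'
        {x : G.left | FlatMor.fibreDimAt G.hom x = d}) := h1.isConstructible
    have h3 : {t : V | topologicalKrullDim ↥(G.hom.base ⁻¹' {(t : S)}) = d} =
        (V.ι ≫ unitSec G) ⁻¹' {x : G.left | FlatMor.fibreDimAt G.hom x = d} := by
      ext t
      simp only [Set.mem_ofPred_eq]
      rw [dim_fibre_eq_fibreDimAt_unit G (t : S)]
      rfl
    rw [h3]
    exact h2

end Groth.Agent.Helper2.GrpFibreDim
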