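import Mathlib
import Groth.Prelude.Def_Flat
import Groth.Prelude.Def_MoreMor
import Groth.Agent.Lib.Helper2.Sch.GrpHomField

/-!
# Homomorphisms of group schemes over a general base: flatness by fibres (S7800) (helper2)
-/

set_option backward.isDefEq.respectTransparency.types false
set_option synthInstance.maxHeartbeats 400000
set_option autoImplicit false
set_option linter.unusedSectionVars false
set_option linter.style.haveILetI false
universe u
open CategoryTheory CategoryTheory.Limits AlgebraicGeometry TopologicalSpace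
open MonoidalCategory CartesianMonoidalCategory MonObj GrpObj
open Groth.Agent.Lib.Helper4.GrpShear1 Groth.Agent.Helper2.FlatPt
open scoped Obj

namespace Groth.Agent.Helper2.GrpHom

variable {S : Scheme.{u}} {G H : Over S}

/-- the fibre of an `S`-scheme as a scheme over the residue field -/
noncomputable abbrev fibObj (G : Over S) (s : S) :
    Over (Spec (CommRingCat.of (S.residueField s))) :=
  (Over.pullback (S.fromSpecResidueField s)).obj G

/-- the homomorphism induced on the fibres over `s` -/
noncomputable abbrev fibHom (u : G ⟶ H) (s : S) : fibObj G s ⟶ fibObj H s :=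
  (Over.pullback (S.fromSpecResidueField s)).map u

theorem fibHom_left_fst (u : G ⟶ H) (s : S) :
    (fibHom u s).left ≫ pullback.fst H.hom (S.fromSpecResidueField s) =
      pullback.fst G.hom (S.fromSpecResidueField s) ≫ u.left :=
  pullback.lift_fst _ _ _

theorem fibHom_left_snd (u : G ⟶ H) (s : S) :
    (fibHom u s).left ≫ pullback.snd H.hom (S.fromSpecResidueField s) =
      pullback.snd G.hom (S.fromSpecResidueField s) :=
  pullback.lift_snd _ _ _

/-- the homomorphism on fibres is a base change of `u` -/
theorem isPullback_fibHom (u : G ⟶ H) (s : S) :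
    IsPullback (pullback.fst G.hom (S.fromSpecResidueField s)) (fibHom u s).left u.left
      (pullback.fst H.hom (S.fromSpecResidueField s)) := by
  have t : IsPullback (pullback.snd H.hom (S.fromSpecResidueField s))
      (pullback.fst H.hom (S.fromSpecResidueField s)) (S.fromSpecResidueField s) H.hom :=
    (IsPullback.of_hasPullback H.hom (S.fromSpecResidueField s)).flip
  have o : IsPullback (pullback.snd G.hom (S.fromSpecResidueField s))
      (pullback.fst G.hom (S.fromSpecResidueField s)) (S.fromSpecResidueField s) G.hom :=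
    (IsPullback.of_hasPullback G.hom (S.fromSpecResidueField s)).flip
  have s' : IsPullback ((fibHom u s).left ≫ pullback.snd H.hom (S.fromSpecResidueField s))
      (pullback.fst G.hom (S.fromSpecResidueField s)) (S.fromSpecResidueField s)
      (u.left ≫ H.hom) := by
    rw [fibHom_left_snd, Over.w u]; exact o
  exact (IsPullback.of_right s' (fibHom_left_fst u s) t).flip

variable [GrpObj G] [GrpObj H] (u : G ⟶ H) [IsMonHom u]

noncomputable instance fibGrp (G : Over S) [GrpObj G] (s : S) :
    GrpObj (fibObj G s) := Functor.grpObjObj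

instance fibHom_isMonHom (s : S) : IsMonHom (fibHom u s) :=
  Functor.map.instIsMonHom (F := Over.pullback (S.fromSpecResidueField s)) G H u

/-- fibrewise flatness of a surjective homomorphism onto a group scheme with geometrically
reduced fibres -/
theorem flat_fibHom [LocallyOfFiniteType G.hom] [LocallyOfFiniteType H.hom]
    [GeometricallyReduced H.hom] [Surjective u.left] (s : S) : Flat (fibHom u s).left := by
  haveI : LocallyOfFiniteType (fibObj G s).hom :=
    MorphismProperty.pullback_snd _ _ inferInstance
  haveI : LocallyOfFiniteType (fibObj H s).hom :=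
    MorphismProperty.pullback_snd _ _ inferInstance
  haveI : IsReduced (fibObj H s).left :=
    inferInstanceAs (IsReduced (H.hom.fiber s))
  haveI : Surjective (fibHom u s).left :=
    MorphismProperty.of_isPullback (P := @Surjective) (isPullback_fibHom u s) inferInstance
  exact flat_of_surjective_of_isReduced (fibHom u s)

/-- the fibre map of the critère de platitude par fibres is the homomorphism on fibres -/
theorem fiberMap_eq {X : Scheme.{u}} (f₀ : X ⟶ H.left) (s : S) :
    MoreMor.fiberMap f₀ H.hom s =
      (fibHom (Over.homMk f₀ rfl : Over.mk (f₀ ≫ H.hom) ⟶ H) s).left := by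
  apply pullback.hom_ext
  · rw [MoreMor.fiberMap, pullback.lift_fst]
    exact (fibHom_left_fst (Over.homMk f₀ rfl : Over.mk (f₀ ≫ H.hom) ⟶ H) s).symm
  · rw [MoreMor.fiberMap, pullback.lift_snd]
    exact (fibHom_left_snd (Over.homMk f₀ rfl : Over.mk (f₀ ≫ H.hom) ⟶ H) s).symm

omit [GrpObj G] in
/-- auxiliary form of `flatAt_and_flatAt` -/
theorem flatAt_and_flatAt_aux {X : Scheme.{u}} (f₀ : X ⟶ H.left)
    [GrpObj (Over.mk (f₀ ≫ H.hom))]
    [IsMonHom (Over.homMk f₀ rfl : Over.mk (f₀ ≫ H.hom) ⟶ H)]
    [Flat (f₀ ≫ H.hom)] [LocallyOfFinitePresentation (f₀ ≫ H.hom)]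
    [LocallyOfFinitePresentation H.hom] [GeometricallyReduced H.hom] [Surjective f₀]
    (x : X) : FlatAt H.hom (f₀ x) ∧ FlatAt f₀ x := by
  obtain ⟨u, hu⟩ : ∃ u : Over.mk (f₀ ≫ H.hom) ⟶ H, u = Over.homMk f₀ rfl := ⟨_, rfl⟩
  have hul : u.left = f₀ := by rw [hu]; rfl
  haveI : IsMonHom u := by rw [hu]; infer_instance
  haveI : Surjective u.left := by rw [hul]; infer_instance
  haveI : LocallyOfFinitePresentation (Over.mk (f₀ ≫ H.hom)).hom :=
    ‹LocallyOfFinitePresentation (f₀ ≫ H.hom)›
  have key := (Groth.Agent.S1386.result f₀ H.hom).1 x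
  refine key.1 ⟨Flat.stalkMap (f₀ ≫ H.hom) x, ?_⟩
  haveI hfl : Flat (fibHom u (H.hom (f₀ x))).left := flat_fibHom u (H.hom (f₀ x))
  have e : MoreMor.fiberMap f₀ H.hom (H.hom (f₀ x)) = (fibHom u (H.hom (f₀ x))).left := by
    rw [fiberMap_eq, hu]
  rw [e]
  exact (flat_iff_forall_flatAt _).1 hfl _

/-- A surjective homomorphism from a flat group scheme onto a group scheme with geometrically
reduced fibres is flat at every point, and the target is flat over the base at the image. -/
theorem flatAt_and_flatAt [Flat G.hom] [LocallyOfFinitePresentation G.hom]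
    [LocallyOfFinitePresentation H.hom] [GeometricallyReduced H.hom] [Surjective u.left]
    (x : G.left) : FlatAt H.hom (u.left x) ∧ FlatAt u.left x := by
  obtain ⟨X, ⟨⟨⟩⟩, gX⟩ := G
  obtain ⟨f₀, hw, hu⟩ : ∃ (f₀ : X ⟶ H.left) (hw : f₀ ≫ H.hom = gX),
      u = Over.homMk f₀ hw := ⟨u.left, Over.w u, by ext; rfl⟩
  subst hu
  subst hw
  exact @flatAt_and_flatAt_aux S H _ X f₀ ‹_› ‹_› ‹_› ‹_› ‹_› ‹_› ‹_› x

/-- S7800 -/
theorem S7800_main [Flat G.hom] [LocallyOfFinitePresentation G.hom]
    [LocallyOfFinitePresentation H.hom] [GeometricallyReduced H.hom] [Surjective u.left] :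
    Flat u.left ∧ Flat H.hom := by
  constructor
  · rw [flat_iff_forall_flatAt]
    exact fun x => (flatAt_and_flatAt u x).2
  · rw [flat_iff_forall_flatAt]
    intro y
    obtain ⟨x, rfl⟩ := u.left.surjective y
    exact (flatAt_and_flatAt u x).1

end Groth.Agent.Helper2.GrpHom
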