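import Mathlib
import Groth.Prelude.Def_Flat
import Groth.Agent.Lib.Helper2.Sch.GrpHomBase
import Groth.Agent.Lib.Helper4.IntegralDim
import Groth.Agent.Lib.Helper2.Sch.Reduced

/-!
# Homomorphisms of abelian schemes (S7801, S19659) (helper2)
-/

set_option backward.isDefEq.respectTransparency.types false
set_option synthInstance.maxHeartbeats 400000
set_option autoImplicit false
set_option linter.unusedSectionVars false
set_option linter.style.haveILetI false
universe u
open CategoryTheory CategoryTheory.Limits AlgebraicGeometry TopologicalSpace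
open MonoidalCategory CartesianMonoidalCategory MonObj GrpObj
open Groth.Agent.Helper2.FlatPt
open scoped Obj

namespace Groth.Agent.Helper2.GrpHom

variable {S : Scheme.{u}} {G H : Over S} [GrpObj G] [GrpObj H] (u : G ⟶ H) [IsMonHom u]

/-- S7801 -/
theorem S7801_main [Flat G.hom] [LocallyOfFinitePresentation G.hom]
    [LocallyOfFinitePresentation H.hom] [GeometricallyReduced H.hom] [IsFinite u.left]
    [Surjective u.left] :
    Flat u.left ∧ ∀ s : S, topologicalKrullDim ↥(G.hom.fiber s) =
      topologicalKrullDim ↥(H.hom.fiber s) := by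
  refine ⟨(S7800_main u).1, fun s => ?_⟩
  have sq := isPullback_fibHom u s
  haveI : IsFinite (fibHom u s).left :=
    MorphismProperty.of_isPullback (P := @IsFinite) sq inferInstance
  haveI : Surjective (fibHom u s).left :=
    MorphismProperty.of_isPullback (P := @Surjective) sq inferInstance
  exact (Groth.Agent.Lib.Helper4.IntegralDim.S9683_main (fibHom u s).left).2 inferInstance

/-- A smooth morphism is geometrically reduced. -/
theorem geometricallyReduced_of_smooth {X T : Scheme.{u}} (f : X ⟶ T) [Smooth f] :
    GeometricallyReduced f := by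
  rw [geometricallyReduced_iff]
  intro K _ y Z fst snd h
  haveI : Smooth snd := MorphismProperty.of_isPullback (P := @Smooth) h inferInstance
  exact Groth.Agent.Helper2.SchLib.isReduced_of_smooth snd

omit [GrpObj G] [GrpObj H] [IsMonHom u] in
/-- A flat morphism from a universally closed `S`-scheme with nonempty fibres to a separated
`S`-scheme locally of finite type with connected fibres is surjective. -/
theorem surjective_of_flat [LocallyOfFiniteType G.hom] [UniversallyClosed G.hom]
    [IsSeparated H.hom] [LocallyOfFiniteType H.hom] [GeometricallyConnected H.hom]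
    (hne : ∀ s : S, Nonempty ↥(G.hom.fiber s)) [Flat u.left] : Surjective u.left := by
  refine ⟨fun b => ?_⟩
  obtain ⟨s, hs⟩ : ∃ s, s = H.hom b := ⟨_, rfl⟩
  have sq := isPullback_fibHom u s
  obtain ⟨fs, hfs⟩ : ∃ fs : G.hom.fiber s ⟶ H.hom.fiber s, fs = (fibHom u s).left := ⟨_, rfl⟩
  have hw : fs ≫ H.hom.fiberToSpecResidueField s = G.hom.fiberToSpecResidueField s := by
    rw [hfs]; exact fibHom_left_snd u s
  haveI : Flat fs := by
    rw [hfs]; exact MorphismProperty.of_isPullback (P := @Flat) sq inferInstance
  haveI : LocallyOfFiniteType (H.hom.fiberToSpecResidueField s) :=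
    MorphismProperty.pullback_snd _ _ inferInstance
  haveI : LocallyOfFiniteType (G.hom.fiberToSpecResidueField s) :=
    MorphismProperty.pullback_snd _ _ inferInstance
  haveI : LocallyOfFiniteType (fs ≫ H.hom.fiberToSpecResidueField s) := by
    rw [hw]; infer_instance
  haveI : LocallyOfFiniteType fs :=
    locallyOfFiniteType_of_comp fs (H.hom.fiberToSpecResidueField s)
  haveI : IsLocallyNoetherian (H.hom.fiber s) :=
    LocallyOfFiniteType.isLocallyNoetherian (H.hom.fiberToSpecResidueField s)
  haveI : LocallyOfFinitePresentation fs :=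
    LocallyOfFinitePresentation.iff_locallyOfFiniteType.2 inferInstance
  haveI : UniversallyClosed (G.hom.fiberToSpecResidueField s) :=
    MorphismProperty.pullback_snd _ _ inferInstance
  haveI : IsSeparated (H.hom.fiberToSpecResidueField s) :=
    MorphismProperty.pullback_snd _ _ inferInstance
  haveI : UniversallyClosed (fs ≫ H.hom.fiberToSpecResidueField s) := by
    rw [hw]; infer_instance
  haveI : UniversallyClosed fs :=
    UniversallyClosed.of_comp_of_isSeparated fs (H.hom.fiberToSpecResidueField s)
  have hopen : IsOpen (Set.range fs) := fs.isOpenMap.isOpen_range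
  have hclosed : IsClosed (Set.range fs) := fs.isClosedMap.isClosed_range
  obtain ⟨a₀⟩ := hne s
  have huniv : Set.range fs = Set.univ :=
    IsClopen.eq_univ ⟨hclosed, hopen⟩ ⟨fs a₀, a₀, rfl⟩
  obtain ⟨b', hb'⟩ : ∃ b' : H.hom.fiber s, H.hom.fiberι s b' = b := by
    subst hs
    exact ⟨H.hom.asFiber b, H.hom.fiberι_asFiber b⟩
  obtain ⟨a', ha'⟩ : b' ∈ Set.range fs := by rw [huniv]; trivial
  refine ⟨G.hom.fiberι s a', ?_⟩
  have e : G.hom.fiberι s ≫ u.left = fs ≫ H.hom.fiberι s := by
    rw [hfs]; exact (fibHom_left_fst u s).symm
  rw [← hb', ← ha', ← Scheme.Hom.comp_apply, ← Scheme.Hom.comp_apply, e]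

/-- S19659 -/
theorem S19659_main [IsProper G.hom] [Smooth G.hom] [GeometricallyConnected G.hom]
    [IsProper H.hom] [Smooth H.hom] [GeometricallyConnected H.hom] :
    Flat u.left ↔ Surjective u.left := by
  constructor
  · intro hfl
    exact surjective_of_flat u (fun s => inferInstance)
  · intro hs
    haveI := geometricallyReduced_of_smooth H.hom
    exact (S7800_main u).1

end Groth.Agent.Helper2.GrpHom
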