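import Mathlib
import Groth.Prelude.Def_Flat
import Groth.Prelude.Def_MoreMor
import Groth.Agent.Lib.Helper2.Sch.GrpHomBase

/-!
# The flat locus of a homomorphism of group schemes over a general base (S5312) (helper2)
-/

set_option backward.isDefEq.respectTransparency.types false
set_option synthInstance.maxHeartbeats 400000
set_option autoImplicit false
set_option linter.unusedSectionVars false
set_option linter.style.haveILetI false
universe u
open CategoryTheory CategoryTheory.Limits AlgebraicGeometry TopologicalSpace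
open MonoidalCategory CartesianMonoidalCategory MonObj GrpObj
open Groth.Agent.Lib.Helper4.GrpShear1 Groth.Agent.Helper2.FlatPt
open scoped Obj

namespace Groth.Agent.Helper2.GrpHom

section field

variable {K : Type u} [Field K] {G H : Over (Spec (CommRingCat.of K))} [GrpObj G] [GrpObj H]
  (u : G ⟶ H) [IsMonHom u]

/-- A homomorphism of group schemes locally of finite type over a field which is flat at one
point is flat. -/
theorem flat_of_flatAt_field [LocallyOfFiniteType G.hom] [LocallyOfFiniteType H.hom]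
    (g : G.left) (hg : FlatAt u.left g) : Flat u.left := by
  haveI : Flat G.hom := inferInstance
  haveI : Flat H.hom := inferInstance
  haveI : LocallyOfFinitePresentation (u.left ≫ H.hom) := by
    rw [Over.w u]
    exact LocallyOfFinitePresentation.iff_locallyOfFiniteType.2 inferInstance
  have hopen := isOpen_flatAt u.left H.hom
  haveI : Subsingleton ↥(Spec (CommRingCat.of K)) :=
    inferInstanceAs (Subsingleton (PrimeSpectrum K))
  rw [flat_iff_forall_flatAt]
  intro g'
  exact flatAt_of_flatAt u hopen g g' (Subsingleton.elim _ _) hg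

end field

variable {S : Scheme.{u}} {G H : Over S}

/-- auxiliary form of `flatAt_iff_flat_fibHom` -/
theorem flatAt_iff_flat_fibHom_aux [GrpObj H] {X : Scheme.{u}} (f₀ : X ⟶ H.left)
    [GrpObj (Over.mk (f₀ ≫ H.hom))]
    [IsMonHom (Over.homMk f₀ rfl : Over.mk (f₀ ≫ H.hom) ⟶ H)]
    [Flat (f₀ ≫ H.hom)] [LocallyOfFinitePresentation (f₀ ≫ H.hom)]
    [LocallyOfFiniteType H.hom] (x : X) :
    (FlatAt H.hom (f₀ x) ∧ FlatAt f₀ x ↔
      Flat (fibHom (Over.homMk f₀ rfl : Over.mk (f₀ ≫ H.hom) ⟶ H) (H.hom (f₀ x))).left) ∧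
    (FlatAt f₀ x ↔
      Flat (fibHom (Over.homMk f₀ rfl : Over.mk (f₀ ≫ H.hom) ⟶ H) (H.hom (f₀ x))).left) := by
  obtain ⟨u, hu⟩ : ∃ u : Over.mk (f₀ ≫ H.hom) ⟶ H, u = Over.homMk f₀ rfl := ⟨_, rfl⟩
  haveI : IsMonHom u := by rw [hu]; infer_instance
  haveI : LocallyOfFinitePresentation (Over.mk (f₀ ≫ H.hom)).hom :=
    ‹LocallyOfFinitePresentation (f₀ ≫ H.hom)›
  haveI : LocallyOfFiniteType (Over.mk (f₀ ≫ H.hom)).hom := inferInstance
  have key := (Groth.Agent.S1386.result f₀ H.hom).1 x
  have e : MoreMor.fiberMap f₀ H.hom (H.hom (f₀ x)) = (fibHom u (H.hom (f₀ x))).left := by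
    rw [fiberMap_eq, hu]
  rw [e] at key
  rw [← hu]
  have main : FlatAt H.hom (f₀ x) ∧ FlatAt f₀ x ↔ Flat (fibHom u (H.hom (f₀ x))).left := by
    constructor
    · intro hx
      have h2 := (key.2 hx).2
      haveI : LocallyOfFiniteType (fibObj (Over.mk (f₀ ≫ H.hom)) (H.hom (f₀ x))).hom :=
        MorphismProperty.pullback_snd _ _ inferInstance
      haveI : LocallyOfFiniteType (fibObj H (H.hom (f₀ x))).hom :=
        MorphismProperty.pullback_snd _ _ inferInstance
      exact flat_of_flatAt_field (fibHom u (H.hom (f₀ x))) _ h2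
    · intro hfl
      exact key.1 ⟨Flat.stalkMap _ x, (flat_iff_forall_flatAt _).1 hfl _⟩
  refine ⟨main, ?_⟩
  constructor
  · intro hx
    exact main.1 ⟨FlatAt.of_comp (flatAt_of_flat (f₀ ≫ H.hom) x) hx, hx⟩
  · intro hfl
    exact (main.2 hfl).2

variable [GrpObj G] [GrpObj H] (u : G ⟶ H) [IsMonHom u]

/-- A homomorphism from a flat finitely presented group scheme is flat at a point iff the
homomorphism induced on the fibre through that point is flat. -/
theorem flatAt_iff_flat_fibHom [Flat G.hom] [LocallyOfFinitePresentation G.hom]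
    [LocallyOfFiniteType H.hom] (x : G.left) :
    (FlatAt H.hom (u.left x) ∧ FlatAt u.left x ↔ Flat (fibHom u (H.hom (u.left x))).left) ∧
    (FlatAt u.left x ↔ Flat (fibHom u (H.hom (u.left x))).left) := by
  obtain ⟨X, ⟨⟨⟩⟩, gX⟩ := G
  obtain ⟨f₀, hw, hu⟩ : ∃ (f₀ : X ⟶ H.left) (hw : f₀ ≫ H.hom = gX),
      u = Over.homMk f₀ hw := ⟨u.left, Over.w u, by ext; rfl⟩
  subst hu
  subst hw
  exact @flatAt_iff_flat_fibHom_aux S H _ X f₀ ‹_› ‹_› ‹_› ‹_› ‹_› x

theorem hom_left_apply (x : G.left) : H.hom (u.left x) = G.hom x := by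
  rw [← Scheme.Hom.comp_apply, Over.w u]

/-- the flat locus of `u` is open -/
theorem isOpen_flatAt_grpHom [Flat G.hom] [LocallyOfFinitePresentation G.hom]
    [LocallyOfFiniteType H.hom] : IsOpen {x : G.left | FlatAt u.left x} := by
  haveI : LocallyOfFinitePresentation (u.left ≫ H.hom) := by
    rw [Over.w u]; infer_instance
  have h := (Groth.Agent.S1386.result u.left H.hom).2
  have e : {x : G.left | FlatAt u.left x} =
      {x : ↑G.left | (H.hom.stalkMap (u.left x)).hom.Flat ∧ (u.left.stalkMap x).hom.Flat} := by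
    ext x
    simp only [Set.mem_ofPred_eq]
    constructor
    · intro hx
      exact ((flatAt_iff_flat_fibHom u x).1.2 ((flatAt_iff_flat_fibHom u x).2.1 hx))
    · intro hx
      exact hx.2
  rw [e]
  exact h

/-- S5312 -/
theorem S5312_main [Flat G.hom] [LocallyOfFinitePresentation G.hom]
    [LocallyOfFiniteType H.hom] :
    IsOpen {s : S | Flat (fibHom u s).left} ∧
    {x : G.left | (u.left.stalkMap x).hom.Flat} =
      G.hom.base ⁻¹' {s : S | Flat (fibHom u s).left} := by
  have hpt : ∀ x : G.left, FlatAt u.left x ↔ Flat (fibHom u (G.hom x)).left := by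
    intro x
    have := (flatAt_iff_flat_fibHom u x).2
    rwa [hom_left_apply] at this
  constructor
  · have e : {s : S | Flat (fibHom u s).left} =
        η[G].left ⁻¹' {x : G.left | FlatAt u.left x} := by
      ext s
      simp only [Set.mem_preimage, Set.mem_ofPred_eq]
      rw [hpt]
      have hs : G.hom (η[G].left s) = s := by
        rw [← Scheme.Hom.comp_apply, Over.w η[G]]
        rfl
      rw [hs]
    rw [e]
    exact (isOpen_flatAt_grpHom u).preimage η[G].left.continuous
  · ext x
    simp only [Set.mem_preimage, Set.mem_ofPred_eq]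
    exact hpt x

end Groth.Agent.Helper2.GrpHom
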