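import Mathlib
import Groth.Prelude.Def_Flat
import Groth.Prelude.Def_MoreMor
import Groth.Agent.Lib.Helper2.Sch.GrpHomFlatLocus
import Groth.Agent.Lib.Helper2.LfpOfComp
import Groth.Agent.Lib.Lead.CritFib20

/-!
# The smooth locus of a homomorphism of group schemes over a general base (S5313) (helper2)
-/

set_option backward.isDefEq.respectTransparency.types false
set_option synthInstance.maxHeartbeats 400000
set_option autoImplicit false
set_option linter.unusedSectionVars false
set_option linter.style.haveILetI false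
universe u
open CategoryTheory CategoryTheory.Limits AlgebraicGeometry TopologicalSpace
open MonoidalCategory CartesianMonoidalCategory MonObj GrpObj
open Groth.Agent.Lib.Helper4.GrpShear1 Groth.Agent.Helper2.FlatPt
open Groth.Agent.Lib.Helper6.EtLoc Groth.Agent.Lead.CritFib
open scoped Obj

namespace Groth.Agent.Helper2.GrpHom

section homogeneity

variable {S : Scheme.{u}} {G H : Over S} [GrpObj G] [GrpObj H] (u : G ⟶ H) [IsMonHom u]

/-- For a homomorphism of group schemes with flat source, the smooth locus is a union of fibres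
of `G → S`. -/
theorem mem_smoothLocus_of_mem_smoothLocus [Flat G.hom] [LocallyOfFinitePresentation u.left]
    (g g' : G.left) (h : G.hom g = G.hom g') (hg : g ∈ u.left.smoothLocus) :
    g' ∈ u.left.smoothLocus := by
  obtain ⟨z, hz1, hz2⟩ := exists_snd_mul g g' h
  have sq := isPullback_whiskerLeft u
  haveI : LocallyOfFinitePresentation (G ◁ u).left :=
    MorphismProperty.of_isPullback (P := @LocallyOfFinitePresentation) sq inferInstance
  have k1 : z ∈ (G ◁ u).left.smoothLocus :=
    mem_smoothLocus_of_isPullback u.left (snd G H).left (G ◁ u).left (snd G G).left sq z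
      (hz1 ▸ hg)
  have sq2 : IsPullback (shear (𝟙 G)).left (G ◁ u).left (G ◁ u).left (shear u).left :=
    IsPullback.of_horiz_isIso ⟨shear_left_comp u⟩
  have k4 : (shear (𝟙 G)).left z ∈ (G ◁ u).left.smoothLocus :=
    mem_smoothLocus_of_flat (G ◁ u).left (shear u).left (G ◁ u).left (shear (𝟙 G)).left sq2 z k1
  haveI : Flat (snd G H).left := by
    rw [Over.snd_left]; infer_instance
  have k5 := mem_smoothLocus_of_flat u.left (snd G H).left (G ◁ u).left (snd G G).left sq _ k4
  rwa [← Scheme.Hom.comp_apply, ← Over.comp_left, shear_id_snd, hz2] at k5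

end homogeneity

section field

variable {K : Type u} [Field K] {G H : Over (Spec (CommRingCat.of K))} [GrpObj G] [GrpObj H]
  (u : G ⟶ H) [IsMonHom u]

/-- A homomorphism of group schemes over a field which is smooth at one point is smooth. -/
theorem smooth_of_mem_smoothLocus_field [LocallyOfFinitePresentation u.left]
    (g : G.left) (hg : g ∈ u.left.smoothLocus) : Smooth u.left := by
  haveI : Flat G.hom := inferInstance
  haveI : Subsingleton ↥(Spec (CommRingCat.of K)) :=
    inferInstanceAs (Subsingleton (PrimeSpectrum K))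
  rw [← Scheme.Hom.smoothLocus_eq_top_iff]
  apply top_le_iff.mp
  intro g' _
  exact mem_smoothLocus_of_mem_smoothLocus u g g' (Subsingleton.elim _ _) hg

end field

variable {S : Scheme.{u}} {G H : Over S}

/-- auxiliary form of `mem_smoothLocus_iff_smooth_fibHom` -/
theorem mem_smoothLocus_iff_smooth_fibHom_aux [GrpObj H] {X : Scheme.{u}} (f₀ : X ⟶ H.left)
    [GrpObj (Over.mk (f₀ ≫ H.hom))]
    [IsMonHom (Over.homMk f₀ rfl : Over.mk (f₀ ≫ H.hom) ⟶ H)]
    [Flat (f₀ ≫ H.hom)] [LocallyOfFinitePresentation (f₀ ≫ H.hom)]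
    [LocallyOfFiniteType H.hom] [LocallyOfFinitePresentation f₀] (x : X) :
    x ∈ f₀.smoothLocus ↔
      Smooth (fibHom (Over.homMk f₀ rfl : Over.mk (f₀ ≫ H.hom) ⟶ H) ((f₀ ≫ H.hom) x)).left := by
  obtain ⟨u, hu⟩ : ∃ u : Over.mk (f₀ ≫ H.hom) ⟶ H, u = Over.homMk f₀ rfl := ⟨_, rfl⟩
  haveI : IsMonHom u := by rw [hu]; infer_instance
  haveI hlfp1 : LocallyOfFinitePresentation (MoreMor.fiberMap f₀ H.hom ((f₀ ≫ H.hom) x)) :=
    locallyOfFinitePresentation_fiberMap f₀ H.hom _
  have e : MoreMor.fiberMap f₀ H.hom ((f₀ ≫ H.hom) x) =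
      (fibHom u ((f₀ ≫ H.hom) x)).left := by
    rw [fiberMap_eq, hu]
  haveI hlfp2 : LocallyOfFinitePresentation (fibHom u ((f₀ ≫ H.hom) x)).left := by
    rw [← e]; exact hlfp1
  have key := mem_smoothLocus_fiberMap_iff f₀ H.hom ((f₀ ≫ H.hom) x) ((f₀ ≫ H.hom).asFiber x)
    (by rw [(f₀ ≫ H.hom).fiberι_asFiber x]; exact Flat.stalkMap (f₀ ≫ H.hom) x)
  rw [(f₀ ≫ H.hom).fiberι_asFiber x] at key
  have key3 : (f₀ ≫ H.hom).asFiber x ∈
      (MoreMor.fiberMap f₀ H.hom ((f₀ ≫ H.hom) x)).smoothLocus ↔
      (f₀ ≫ H.hom).asFiber x ∈ (fibHom u ((f₀ ≫ H.hom) x)).left.smoothLocus :=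
    @mem_smoothLocus_congr _ _ _ _ e hlfp1 hlfp2 _
  rw [← hu, ← key, key3]
  constructor
  · intro hx
    exact smooth_of_mem_smoothLocus_field (fibHom u ((f₀ ≫ H.hom) x)) _ hx
  · intro hsm
    rw [Scheme.Hom.smoothLocus_eq_top_iff.mpr hsm]
    trivial

variable [GrpObj G] [GrpObj H] (u : G ⟶ H) [IsMonHom u]

theorem lfp_left [LocallyOfFinitePresentation G.hom] [LocallyOfFiniteType H.hom] :
    LocallyOfFinitePresentation u.left := by
  apply Groth.Agent.Helper2.locallyOfFinitePresentation_of_comp u.left H.hom inferInstance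
  rw [Over.w u]; infer_instance

/-- A homomorphism from a flat finitely presented group scheme is smooth at a point iff the
homomorphism induced on the fibre through that point is smooth. -/
theorem mem_smoothLocus_iff_smooth_fibHom [Flat G.hom] [LocallyOfFinitePresentation G.hom]
    [LocallyOfFiniteType H.hom] [LocallyOfFinitePresentation u.left] (x : G.left) :
    x ∈ u.left.smoothLocus ↔ Smooth (fibHom u (H.hom (u.left x))).left := by
  obtain ⟨X, ⟨⟨⟩⟩, gX⟩ := G
  obtain ⟨f₀, hw, hu⟩ : ∃ (f₀ : X ⟶ H.left) (hw : f₀ ≫ H.hom = gX),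
      u = Over.homMk f₀ hw := ⟨u.left, Over.w u, by ext; rfl⟩
  subst hu
  subst hw
  exact @mem_smoothLocus_iff_smooth_fibHom_aux S H _ X f₀ ‹_› ‹_› ‹_› ‹_› ‹_› ‹_› x

/-- S5313 -/
theorem S5313_main [Flat G.hom] [LocallyOfFinitePresentation G.hom]
    [LocallyOfFiniteType H.hom] :
    IsOpen {s : S | Smooth (fibHom u s).left} ∧
    {x : G.left | ∃ W : G.left.Opens, x ∈ W ∧ Smooth (W.ι ≫ u.left)} =
      G.hom.base ⁻¹' {s : S | Smooth (fibHom u s).left} := by
  haveI := lfp_left u
  have hpt : ∀ x : G.left, x ∈ u.left.smoothLocus ↔ Smooth (fibHom u (G.hom x)).left := by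
    intro x
    have := mem_smoothLocus_iff_smooth_fibHom u x
    rwa [hom_left_apply] at this
  constructor
  · have e : {s : S | Smooth (fibHom u s).left} =
        η[G].left ⁻¹' (u.left.smoothLocus : Set G.left) := by
      ext s
      simp only [Set.mem_preimage, Set.mem_ofPred_eq, SetLike.mem_coe]
      rw [hpt]
      have hs : G.hom (η[G].left s) = s := by
        rw [← Scheme.Hom.comp_apply, Over.w η[G]]
        rfl
      rw [hs]
    rw [e]
    exact u.left.smoothLocus.isOpen.preimage η[G].left.continuous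
  · ext x
    simp only [Set.mem_preimage, Set.mem_ofPred_eq]
    rw [exists_smooth_nhd_iff u.left x]
    exact hpt x

end Groth.Agent.Helper2.GrpHom
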