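import Mathlib
import Groth.Prelude.Def_Flat
import Groth.Agent.Lib.Helper2.Sch.GrpHomSmooth
import Groth.Agent.Lib.Helper4.EtaleFib1

/-!
# Etale universally injective morphisms are open immersions; etale locally on the source
(helper2, for S5317)
-/

set_option backward.isDefEq.respectTransparency.types false
set_option autoImplicit false
set_option linter.unusedSectionVars false
set_option linter.style.haveILetI false
universe u
open CategoryTheory CategoryTheory.Limits AlgebraicGeometry TopologicalSpace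

namespace Groth.Agent.Helper2.GrpHom

/-- An etale universally injective morphism is an open immersion. -/
theorem isOpenImmersion_of_etale_of_universallyInjective {X Y : Scheme.{u}} (f : X ⟶ Y)
    [Etale f] [UniversallyInjective f] : IsOpenImmersion f := by
  haveI : Surjective (pullback.diagonal f) :=
    (UniversallyInjective.iff_diagonal f).1 inferInstance
  haveI : IsIso (pullback.diagonal f) :=
    (isIso_iff_isOpenImmersion_and_surjective _).2 ⟨inferInstance, inferInstance⟩
  haveI : Mono f := (pullback.isIso_diagonal_iff f).1 inferInstance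
  exact IsOpenImmersion.of_flat_of_mono f

/-- etaleness of the restriction to an open can be checked on neighbourhoods in the ambient
scheme -/
theorem etale_comp_of_forall_exists_nhd {V X Y : Scheme.{u}} (j : V ⟶ X) [IsOpenImmersion j]
    (f : X ⟶ Y) (h : ∀ v : V, ∃ W' : X.Opens, j v ∈ W' ∧ Etale (W'.ι ≫ f)) :
    Etale (j ≫ f) := by
  rw [Groth.Agent.Lib.Helper4.EtaleFib1.etale_iff_forall_exists_nhd]
  intro v
  obtain ⟨W', hv, hW'⟩ := h v
  refine ⟨j ⁻¹ᵁ W', hv, ?_⟩
  have hr : Set.range ((j ⁻¹ᵁ W').ι ≫ j) ⊆ Set.range W'.ι := by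
    rintro _ ⟨z, rfl⟩
    rw [Scheme.Opens.range_ι]
    exact z.2
  have hfac : IsOpenImmersion.lift W'.ι ((j ⁻¹ᵁ W').ι ≫ j) hr ≫ W'.ι = (j ⁻¹ᵁ W').ι ≫ j :=
    IsOpenImmersion.lift_fac _ _ _
  haveI : IsOpenImmersion (IsOpenImmersion.lift W'.ι ((j ⁻¹ᵁ W').ι ≫ j) hr) := by
    haveI : IsOpenImmersion (IsOpenImmersion.lift W'.ι ((j ⁻¹ᵁ W').ι ≫ j) hr ≫ W'.ι) := by
      rw [hfac]; infer_instance
    exact IsOpenImmersion.of_comp _ W'.ι
  have e : (j ⁻¹ᵁ W').ι ≫ j ≫ f =
      IsOpenImmersion.lift W'.ι ((j ⁻¹ᵁ W').ι ≫ j) hr ≫ W'.ι ≫ f := by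
    rw [← Category.assoc, ← Category.assoc, hfac]
  rw [e]
  infer_instance

end Groth.Agent.Helper2.GrpHom
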