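import Mathlib
import Groth.Prelude.Def_Flat
import Groth.Prelude.Def_Grpd
import Groth.Agent.Lib.Lead.GrpdOmega
import Groth.Agent.Lib.Helper4.FibDimBC2
import Groth.Agent.Lib.Helper4.Chev2
import Groth.Agent.Lib.Helper4.Chev6
import Groth.Agent.Lib.Helper4.JacDim1
import Groth.Agent.Lib.Helper8.TopDim2
import Groth.Agent.Lib.Helper2.AlgSp.FibreDimField
import Groth.Agent.Lib.Helper2.Sch.ProdLocalDim

/-!
# Groupoid schemes over a field are equidimensional (S7518, S1887) (helper2)
-/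

set_option backward.isDefEq.respectTransparency.types false
set_option autoImplicit false
set_option linter.unusedSectionVars false
set_option linter.style.haveILetI false
universe u
open CategoryTheory CategoryTheory.Limits AlgebraicGeometry TopologicalSpace
open Groth.Agent.Lead.GrpdOmega Groth.Agent.Lib.Helper4.FibDim1

namespace Groth.Agent.Helper2.GrpdDim

variable {S : Scheme.{u}} (G : Grpd.GroupoidScheme S)

/-- right cancellation in a groupoid scheme: `(a ∘ b⁻¹) ∘ b = a`. -/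
theorem comp_inv_comp_right {T : Scheme.{u}} (a b : T ⟶ G.R) (h1 : a ≫ G.s = (b ≫ G.i) ≫ G.t)
    (h2 : (pullback.lift a (b ≫ G.i) h1 ≫ G.c) ≫ G.s = b ≫ G.t) :
    pullback.lift (pullback.lift a (b ≫ G.i) h1 ≫ G.c) b h2 ≫ G.c = a := by
  have hib : (b ≫ G.i) ≫ G.s = b ≫ G.t := by rw [Category.assoc, G.i_s]
  have hab : a ≫ G.s = b ≫ G.s := by rw [h1, Category.assoc, G.i_t]
  rw [G.assoc a (b ≫ G.i) b h1 hib]
  have h3 : pullback.lift a (pullback.lift (b ≫ G.i) b hib ≫ G.c)
      (h1.trans (G.comp_t (b ≫ G.i) b hib).symm) =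
      pullback.lift a (a ≫ G.s ≫ G.e)
        (by rw [Category.assoc, Category.assoc, G.e_t, Category.comp_id]) := by
    apply lift_congr
    · rfl
    · rw [G.i_comp b, ← Category.assoc, ← hab, Category.assoc]
  rw [h3, G.comp_e]

variable [LocallyOfFiniteType G.s] [LocallyOfFiniteType G.t]

/-- The local dimensions at the second component and at the composite agree. -/
theorem localDim_snd_eq_c [Subsingleton ↥G.U] (z : ↥(pullback G.s G.t)) :
    FlatMor.localDim G.R (pullback.snd G.s G.t z) = FlatMor.localDim G.R (G.c z) := by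
  have h1 := Groth.Agent.Lib.Helper4.FibDimBC2.fibreDimAt_abs G.t G.s (pullback.snd G.s G.t)
    (pullback.fst G.s G.t) (IsPullback.of_hasPullback G.s G.t).flip z
  have h2 := Groth.Agent.Lib.Helper4.FibDimBC2.fibreDimAt_abs G.t G.t G.c
    (pullback.fst G.s G.t) (isPullback_c_fst G) z
  rw [Groth.Agent.Helper2.FibreDimField.fibreDimAt_eq_localDim_of_subsingleton G.t] at h1 h2
  rw [← h1, ← h2]

theorem localDim_eq_localDim [Subsingleton ↥G.U] (r r' : G.R) :
    FlatMor.localDim G.R r = FlatMor.localDim G.R r' := by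
  obtain ⟨w, hw1, hw2⟩ := Scheme.Pullback.exists_preimage_pullback (f := G.s) (g := G.s) r r'
    (Subsingleton.elim _ _)
  obtain ⟨ι, hι⟩ : ∃ ι, ι = (pullback G.s G.s).fromSpecResidueField w := ⟨_, rfl⟩
  obtain ⟨ρ, hρ⟩ : ∃ ρ, ρ = ι ≫ pullback.fst G.s G.s := ⟨_, rfl⟩
  obtain ⟨ρ', hρ'⟩ : ∃ ρ', ρ' = ι ≫ pullback.snd G.s G.s := ⟨_, rfl⟩
  have hss : ρ ≫ G.s = ρ' ≫ G.s := by
    rw [hρ, hρ', Category.assoc, Category.assoc, pullback.condition]
  have h1 : ρ' ≫ G.s = (ρ ≫ G.i) ≫ G.t := by rw [Category.assoc, G.i_t, hss]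
  have h2 : (pullback.lift ρ' (ρ ≫ G.i) h1 ≫ G.c) ≫ G.s = ρ ≫ G.t := by
    rw [G.comp_s, Category.assoc, G.i_s]
  obtain ⟨z, hz⟩ : ∃ z, z = pullback.lift (pullback.lift ρ' (ρ ≫ G.i) h1 ≫ G.c) ρ h2 := ⟨_, rfl⟩
  have hzs : z ≫ pullback.snd G.s G.t = ρ := by rw [hz, pullback.lift_snd]
  have hzc : z ≫ G.c = ρ' := by rw [hz]; exact comp_inv_comp_right G ρ' ρ h1 h2
  obtain ⟨pt⟩ : Nonempty ↥(Spec ((pullback G.s G.s).residueField w)) := inferInstance
  have e1 : pullback.snd G.s G.t (z pt) = r := by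
    rw [← Scheme.Hom.comp_apply, hzs, hρ, Scheme.Hom.comp_apply, hι,
      (pullback G.s G.s).fromSpecResidueField_apply w pt, hw1]
  have e2 : G.c (z pt) = r' := by
    rw [← Scheme.Hom.comp_apply, hzc, hρ', Scheme.Hom.comp_apply, hι,
      (pullback G.s G.s).fromSpecResidueField_apply w pt, hw2]
  rw [← e1, ← e2]
  exact localDim_snd_eq_c G (z pt)

theorem localDim_eq_dim [Subsingleton ↥G.U] (r : G.R) :
    FlatMor.localDim G.R r = topologicalKrullDim G.R := by
  rw [Groth.Agent.Helper8.TopDim2.dim_eq_iSup_localDim]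
  apply le_antisymm
  · exact le_iSup (fun y => FlatMor.localDim G.R y) r
  · apply iSup_le
    intro y
    rw [localDim_eq_localDim G y r]

section Field

variable (k : Type u) [Field k] (eU : G.U ≅ Spec (CommRingCat.of k))

include eU

theorem subsingleton_U : Subsingleton ↥G.U := by
  haveI : Subsingleton ↥(Spec (CommRingCat.of k)) :=
    inferInstanceAs (Subsingleton (PrimeSpectrum k))
  exact (Scheme.homeoOfIso eU).injective.subsingleton

theorem dim_irreducibleComponent_eq (Z : Set G.R) (hZ : Z ∈ irreducibleComponents ↥G.R) :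
    topologicalKrullDim ↥Z = topologicalKrullDim ↥G.R := by
  haveI := subsingleton_U G k eU
  obtain ⟨g, hg⟩ : ∃ g : G.R ⟶ Spec (CommRingCat.of k), g = G.s ≫ eU.hom := ⟨_, rfl⟩
  haveI : LocallyOfFiniteType g := by rw [hg]; infer_instance
  have hcl : IsClosed Z := isClosed_of_mem_irreducibleComponents _ hZ
  have hgen : IsGenericPoint hZ.1.genericPoint Z := hZ.1.isGenericPoint_genericPoint hcl
  obtain ⟨ξ, hξ⟩ : ∃ ξ, ξ = hZ.1.genericPoint := ⟨_, rfl⟩
  rw [← hξ] at hgen
  have h0 : ringKrullDim (G.R.presheaf.stalk ξ) = 0 := by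
    rw [ringKrullDim_stalk_eq_coheight]
    have : Order.coheight ξ = 0 := by
      rw [Order.coheight_eq_zero]
      intro b hb
      have hbξ : b ⤳ ξ := hb
      have hsub : Z ⊆ closure ({b} : Set G.R) := by
        rw [← hgen.def]
        exact closure_minimal (Set.singleton_subset_iff.mpr hbξ.mem_closure) isClosed_closure
      have hle : closure ({b} : Set G.R) ⊆ Z := hZ.2 isIrreducible_singleton.closure hsub
      have hbZ : b ∈ closure ({ξ} : Set G.R) := by
        rw [hgen.def]; exact hle (subset_closure rfl)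
      exact (specializes_iff_mem_closure.mpr hbZ : ξ ⤳ b)
    rw [this]; rfl
  have h1 := Groth.Agent.Helper2.ProdLocalDim.localDim_eq_stalk_add_tr k g ξ
  rw [h0, zero_add, localDim_eq_dim G ξ] at h1
  haveI : IsLocallyNoetherian (Spec (CommRingCat.of k)) := inferInstance
  have h2 := Groth.Agent.Lib.Helper4.Chev6.dim_closure_inter_fiber g ξ (g ξ) rfl
  have hset : closure ({ξ} : Set G.R) ∩ g.base ⁻¹' {g ξ} = Z := by
    rw [hgen.def]
    apply Set.inter_eq_left.mpr
    intro x _
    haveI : Subsingleton ↥(Spec (CommRingCat.of k)) :=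
      inferInstanceAs (Subsingleton (PrimeSpectrum k))
    exact Subsingleton.elim _ _
  rw [hset] at h2
  rw [h2, h1]

theorem S7518_main :
    (∀ Z ∈ irreducibleComponents ↥G.R, topologicalKrullDim ↥Z = topologicalKrullDim ↥G.R) ∧
      ∀ r : G.R, FlatMor.localDim ↥G.R r = topologicalKrullDim ↥G.R := by
  haveI := subsingleton_U G k eU
  exact ⟨fun Z hZ => dim_irreducibleComponent_eq G k eU Z hZ, fun r => localDim_eq_dim G r⟩

theorem S1887_main (r : G.R) (hr : IsClosed ({r} : Set G.R)) :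
    (ringKrullDim (G.R.presheaf.stalk r) : WithBot ℕ∞) = topologicalKrullDim G.R := by
  haveI := subsingleton_U G k eU
  obtain ⟨g, hg⟩ : ∃ g : G.R ⟶ Spec (CommRingCat.of k), g = G.s ≫ eU.hom := ⟨_, rfl⟩
  haveI : LocallyOfFiniteType g := by rw [hg]; infer_instance
  haveI : IsLocallyNoetherian (Spec (CommRingCat.of k)) := inferInstance
  rw [← localDim_eq_dim G r, Groth.Agent.Helper2.ProdLocalDim.localDim_eq_stalk_add_tr k g r,
    Groth.Agent.Lib.Helper4.JacDim1.tr_eq_zero_of_isClosed g r hr]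
  simp

end Field

end Groth.Agent.Helper2.GrpdDim
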