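import Mathlib
import Groth.Prelude.Def_Grpd
import Groth.Agent.Lib.Lead.GrpdOmega
import Groth.Agent.Lib.Helper2.Sch.GrpdDim
import Groth.Agent.Lib.Helper6.EtLoc.SmoothDescSch

/-!
# Smoothness of groupoid schemes over a field (S7455) (helper2)
-/

set_option backward.isDefEq.respectTransparency.types false
set_option autoImplicit false
set_option linter.unusedSectionVars false
set_option linter.style.haveILetI false
universe u
open CategoryTheory CategoryTheory.Limits AlgebraicGeometry TopologicalSpace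
open Groth.Agent.Lead.GrpdOmega

namespace Groth.Agent.Helper2.GrpdSmooth

variable {S : Scheme.{u}} (G : Grpd.GroupoidScheme S)

/-- The inverse of a groupoid scheme is an involution. -/
theorem i_i : G.i ≫ G.i = 𝟙 G.R := by
  have h : G.i ≫ G.s = 𝟙 G.R ≫ G.t := by rw [G.i_s, Category.id_comp]
  have h0 : pullback.lift G.i (𝟙 G.R) h ≫ G.c = G.s ≫ G.e := by
    have := G.i_comp (𝟙 G.R)
    have e1 : pullback.lift G.i (𝟙 G.R) h = pullback.lift (𝟙 G.R ≫ G.i) (𝟙 G.R)
        (by rw [Category.assoc, G.i_s]) :=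
      lift_congr G (Category.id_comp _).symm rfl _ _
    rw [e1, this, Category.id_comp]
  have h1 : (G.i ≫ G.i) ≫ G.s = (pullback.lift G.i (𝟙 G.R) h ≫ G.c) ≫ G.t := by
    rw [h0, Category.assoc, G.i_s, G.i_t, Category.assoc, G.e_t, Category.comp_id]
  have k1 := inv_comp_comp G G.i (𝟙 G.R) h h1
  have k2 := G.comp_e (G.i ≫ G.i)
  have e2 : pullback.lift (G.i ≫ G.i) ((G.i ≫ G.i) ≫ G.s ≫ G.e)
      (by simp only [Category.assoc, G.e_t, Category.comp_id]) =
      pullback.lift (G.i ≫ G.i) (pullback.lift G.i (𝟙 G.R) h ≫ G.c) h1 := by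
    apply lift_congr
    · rfl
    · rw [h0, Category.assoc G.i G.i, ← Category.assoc G.i G.s, G.i_s, ← Category.assoc, G.i_t]
  exact k2.symm.trans ((congrArg (· ≫ G.c) e2).trans k1)

instance : IsIso G.i := ⟨G.i, i_i G, i_i G⟩

/-- Over a one-point base any two arrows are `snd z` and `c z` for a composable pair `z`. -/
theorem exists_snd_c [Subsingleton ↥G.U] (r r' : G.R) :
    ∃ z : ↥(pullback G.s G.t), pullback.snd G.s G.t z = r ∧ G.c z = r' := by
  obtain ⟨w, hw1, hw2⟩ := Scheme.Pullback.exists_preimage_pullback (f := G.s) (g := G.s) r r'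
    (Subsingleton.elim _ _)
  obtain ⟨ι, hι⟩ : ∃ ι, ι = (pullback G.s G.s).fromSpecResidueField w := ⟨_, rfl⟩
  obtain ⟨ρ, hρ⟩ : ∃ ρ, ρ = ι ≫ pullback.fst G.s G.s := ⟨_, rfl⟩
  obtain ⟨ρ', hρ'⟩ : ∃ ρ', ρ' = ι ≫ pullback.snd G.s G.s := ⟨_, rfl⟩
  have hss : ρ ≫ G.s = ρ' ≫ G.s := by
    rw [hρ, hρ', Category.assoc, Category.assoc, pullback.condition]
  have h1 : ρ' ≫ G.s = (ρ ≫ G.i) ≫ G.t := by rw [Category.assoc, G.i_t, hss]
  have h2 : (pullback.lift ρ' (ρ ≫ G.i) h1 ≫ G.c) ≫ G.s = ρ ≫ G.t := by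
    rw [G.comp_s, Category.assoc, G.i_s]
  obtain ⟨z, hz⟩ : ∃ z, z = pullback.lift (pullback.lift ρ' (ρ ≫ G.i) h1 ≫ G.c) ρ h2 := ⟨_, rfl⟩
  have hzs : z ≫ pullback.snd G.s G.t = ρ := by rw [hz, pullback.lift_snd]
  have hzc : z ≫ G.c = ρ' := by
    rw [hz]; exact Groth.Agent.Helper2.GrpdDim.comp_inv_comp_right G ρ' ρ h1 h2
  obtain ⟨pt⟩ : Nonempty ↥(Spec ((pullback G.s G.s).residueField w)) := inferInstance
  refine ⟨z pt, ?_, ?_⟩
  · rw [← Scheme.Hom.comp_apply, hzs, hρ, Scheme.Hom.comp_apply, hι,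
      (pullback G.s G.s).fromSpecResidueField_apply w pt, hw1]
  · rw [← Scheme.Hom.comp_apply, hzc, hρ', Scheme.Hom.comp_apply, hι,
      (pullback G.s G.s).fromSpecResidueField_apply w pt, hw2]

/-- The smooth locus of the target map is invariant. -/
theorem mem_smoothLocus_t [Subsingleton ↥G.U] [LocallyOfFinitePresentation G.t] [Flat G.t]
    (r r' : G.R) (hr : r ∈ G.t.smoothLocus) : r' ∈ G.t.smoothLocus := by
  obtain ⟨z, hz1, hz2⟩ := exists_snd_c G r r'
  have hA : IsPullback (pullback.snd G.s G.t) (pullback.fst G.s G.t) G.t G.s :=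
    (IsPullback.of_hasPullback G.s G.t).flip
  have hB := isPullback_c_fst G
  have k1 : z ∈ (pullback.fst G.s G.t).smoothLocus :=
    Groth.Agent.Lib.Helper6.EtLoc.mem_smoothLocus_of_isPullback G.t G.s (pullback.fst G.s G.t)
      (pullback.snd G.s G.t) hA z (hz1 ▸ hr)
  have k2 := Groth.Agent.Lib.Helper6.EtLoc.mem_smoothLocus_of_flat G.t G.t (pullback.fst G.s G.t)
    G.c hB z k1
  rwa [hz2] at k2

theorem smooth_t_of_nonempty [Subsingleton ↥G.U] [LocallyOfFinitePresentation G.t] [Flat G.t]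
    (hne : (G.t.smoothLocus : Set G.R).Nonempty) : Smooth G.t := by
  obtain ⟨r, hr⟩ := hne
  rw [← Scheme.Hom.smoothLocus_eq_top_iff]
  ext r'
  simp only [Opens.coe_top, Set.mem_univ, iff_true]
  exact mem_smoothLocus_t G r r' hr

theorem smooth_s_of_smooth_t [Smooth G.t] : Smooth G.s := by
  rw [← G.i_t]
  infer_instance

section Field

variable (k : Type u) [Field k] (eU : G.U ≅ Spec (CommRingCat.of k))
  [LocallyOfFiniteType G.s] [LocallyOfFiniteType G.t]

include eU

/-- A groupoid scheme over a field whose target map has a smooth point has smooth source and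
target maps. -/
theorem smooth_of_exists_mem_smoothLocus
    (h : ∃ x : G.R, (((G.t ≫ eU.hom).stalkMap x).hom).FormallySmooth) :
    Smooth G.s ∧ Smooth G.t := by
  haveI : Subsingleton ↥G.U := Groth.Agent.Helper2.GrpdDim.subsingleton_U G k eU
  haveI : IsLocallyNoetherian G.U := isLocallyNoetherian_of_isOpenImmersion eU.hom
  haveI : Nonempty ↥G.U := ⟨eU.inv (IsLocalRing.closedPoint k)⟩
  haveI : IsIntegral G.U := isIntegral_of_isOpenImmersion eU.hom
  haveI : Flat G.t := inferInstance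
  haveI : LocallyOfFinitePresentation G.t :=
    LocallyOfFinitePresentation.iff_locallyOfFiniteType.2 inferInstance
  haveI : LocallyOfFinitePresentation (G.t ≫ eU.hom) := inferInstance
  have hne : (G.t.smoothLocus : Set G.R).Nonempty := by
    obtain ⟨x, hx⟩ := h
    refine ⟨x, ?_⟩
    have hsq : IsPullback (𝟙 G.R) G.t (G.t ≫ eU.hom) eU.hom :=
      IsPullback.of_horiz_isIso ⟨by simp⟩
    exact Groth.Agent.Lib.Helper6.EtLoc.mem_smoothLocus_of_isPullback (G.t ≫ eU.hom) eU.hom G.t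
      (𝟙 _) hsq x hx
  haveI := smooth_t_of_nonempty G hne
  exact ⟨smooth_s_of_smooth_t G, inferInstance⟩

/-- S7455 -/
theorem S7455_main [PerfectField k] [IsReduced G.R] : Smooth G.s ∧ Smooth G.t := by
  haveI : IsLocallyNoetherian G.U := isLocallyNoetherian_of_isOpenImmersion eU.hom
  haveI : LocallyOfFinitePresentation G.t :=
    LocallyOfFinitePresentation.iff_locallyOfFiniteType.2 inferInstance
  haveI : LocallyOfFinitePresentation (G.t ≫ eU.hom) := inferInstance
  apply smooth_of_exists_mem_smoothLocus G k eU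
  have hd := Scheme.Hom.dense_smoothLocus_of_perfectField (G.t ≫ eU.hom)
  haveI : Nonempty ↥G.R := ⟨G.e (eU.inv (IsLocalRing.closedPoint k))⟩
  obtain ⟨x, hx⟩ := hd.nonempty
  exact ⟨x, hx⟩

end Field

end Groth.Agent.Helper2.GrpdSmooth
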