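import Mathlib
import Groth.Prelude.Def_Grpd
import Groth.Agent.Lib.Helper6.Cartier.Local
import Groth.Agent.Lib.Helper6.Cartier.Main
import Groth.Agent.Lib.Helper2.Sch.GrpdSmooth
import Groth.Agent.Lib.Helper2.Sch.SmoothFieldRegular2

/-!
# Cartier's theorem for groupoid schemes over a field of characteristic zero (S7454) (helper2)
-/

set_option backward.isDefEq.respectTransparency.types false
set_option autoImplicit false
set_option linter.unusedSectionVars false
set_option linter.style.haveILetI false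
universe u
open CategoryTheory CategoryTheory.Limits AlgebraicGeometry TopologicalSpace IsLocalRing
open Groth.Agent.Lead.GrpdOmega Groth.Agent.Lib.Helper6.Cartier

namespace Groth.Agent.Helper2.GrpdCartier

variable {S : Scheme.{u}} (G : Grpd.GroupoidScheme S)

/-- composition is compatible with precomposition -/
theorem comp_lift_c {T T' : Scheme.{u}} (ψ : T' ⟶ T) (a b : T ⟶ G.R) (h : a ≫ G.s = b ≫ G.t) :
    ψ ≫ pullback.lift a b h ≫ G.c =
      pullback.lift (ψ ≫ a) (ψ ≫ b) (by rw [Category.assoc, Category.assoc, h]) ≫ G.c := by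
  rw [← Category.assoc]
  congr 1
  apply pullback.hom_ext
  · rw [Category.assoc, pullback.lift_fst, pullback.lift_fst]
  · rw [Category.assoc, pullback.lift_snd, pullback.lift_snd]

variable {k : Type u} [Field k] (eU : G.U ≅ Spec (CommRingCat.of k))

/-- the unit section as a morphism from `Spec k` -/
noncomputable def unitSec : Spec (CommRingCat.of k) ⟶ G.R := eU.inv ≫ G.e

lemma unitSec_t : unitSec G eU ≫ G.t ≫ eU.hom = 𝟙 _ := by
  rw [unitSec, Category.assoc, ← Category.assoc G.e, G.e_t, Category.id_comp, Iso.inv_hom_id]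

lemma unitSec_s : unitSec G eU ≫ G.s ≫ eU.hom = 𝟙 _ := by
  rw [unitSec, Category.assoc, ← Category.assoc G.e, G.e_s, Category.id_comp, Iso.inv_hom_id]

/-- the unit point -/
noncomputable def e0 : G.R := unitSec G eU (closedPoint k)

/-- the local ring at the unit point -/
noncomputable abbrev A : CommRingCat.{u} := G.R.presheaf.stalk (e0 G eU)

/-- the canonical morphism from the spectrum of the local ring -/
noncomputable def j : Spec (A G eU) ⟶ G.R := G.R.fromSpecStalk (e0 G eU)

instance : Mono (j G eU) := by unfold j; infer_instance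

/-- the structure map `k → A` through the target map -/
noncomputable def aT : CommRingCat.of k ⟶ A G eU := Spec.preimage (j G eU ≫ G.t ≫ eU.hom)

/-- the structure map `k → A` through the source map -/
noncomputable def aS : CommRingCat.of k ⟶ A G eU := Spec.preimage (j G eU ≫ G.s ≫ eU.hom)

lemma map_aT : Spec.map (aT G eU) = j G eU ≫ G.t ≫ eU.hom := Spec.map_preimage _

lemma map_aS : Spec.map (aS G eU) = j G eU ≫ G.s ≫ eU.hom := Spec.map_preimage _

lemma map_aT_inv : Spec.map (aT G eU) ≫ eU.inv = j G eU ≫ G.t := by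
  rw [map_aT, Category.assoc, Category.assoc, Iso.hom_inv_id, Category.comp_id]

lemma map_aS_inv : Spec.map (aS G eU) ≫ eU.inv = j G eU ≫ G.s := by
  rw [map_aS, Category.assoc, Category.assoc, Iso.hom_inv_id, Category.comp_id]

/-- evaluation at the unit point -/
noncomputable def ev : A G eU ⟶ CommRingCat.of k := Scheme.stalkClosedPointTo (unitSec G eU)

lemma map_ev_j : Spec.map (ev G eU) ≫ j G eU = unitSec G eU :=
  Scheme.Spec_stalkClosedPointTo_fromSpecStalk _

lemma aT_ev : aT G eU ≫ ev G eU = 𝟙 _ := by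
  apply Spec.map_injective
  rw [Spec.map_comp, map_aT, ← Category.assoc, map_ev_j, unitSec_t, Spec.map_id]

lemma aS_ev : aS G eU ≫ ev G eU = 𝟙 _ := by
  apply Spec.map_injective
  rw [Spec.map_comp, map_aS, ← Category.assoc, map_ev_j, unitSec_s, Spec.map_id]

instance : IsLocalHom (ev G eU).hom := Scheme.isLocalHom_stalkClosedPointTo' (unitSec G eU)

set_option maxHeartbeats 1000000 in
/-- **Invariant vector fields.** Every tangent vector `v` at the unit point (relative to the
target map) extends to a ring homomorphism `φ : A → A[ε]` lifting the identity. -/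
theorem bridge (v : A G eU ⟶ dual (CommRingCat.of k))
    (hv1 : aT G eU ≫ v = inlC (CommRingCat.of k))
    (hv2 : v ≫ fstC (CommRingCat.of k) = ev G eU) :
    ∃ φ : A G eU ⟶ dual (A G eU), φ ≫ fstC (A G eU) = 𝟙 _ ∧
      aT G eU ≫ φ = aT G eU ≫ inlC (A G eU) ∧ φ ≫ mapεC (ev G eU) = v := by
  obtain ⟨g₁, hg₁⟩ : ∃ g₁ : Spec (dual (A G eU)) ⟶ G.R,
      g₁ = Spec.map (inlC (A G eU)) ≫ j G eU := ⟨_, rfl⟩
  obtain ⟨g₂, hg₂⟩ : ∃ g₂ : Spec (dual (A G eU)) ⟶ G.R,
      g₂ = Spec.map (v ≫ mapεC (aS G eU)) ≫ j G eU := ⟨_, rfl⟩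
  have hcomp : g₁ ≫ G.s = g₂ ≫ G.t := by
    rw [hg₁, hg₂, Category.assoc, Category.assoc, ← map_aS_inv, ← map_aT_inv,
      ← Category.assoc, ← Category.assoc, ← Spec.map_comp, ← Spec.map_comp]
    congr 2
    rw [← Category.assoc, hv1, inlC_mapεC]
  obtain ⟨g, hg⟩ : ∃ g, g = pullback.lift g₁ g₂ hcomp ≫ G.c := ⟨_, rfl⟩
  -- (i) restriction along `fst`
  have e1 : Spec.map (fstC (A G eU)) ≫ g₁ = j G eU := by
    rw [hg₁, ← Category.assoc, ← Spec.map_comp, inlC_fstC, Spec.map_id, Category.id_comp]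
  have e2 : Spec.map (fstC (A G eU)) ≫ g₂ = j G eU ≫ G.s ≫ G.e := by
    rw [hg₂, ← Category.assoc, ← Spec.map_comp, Category.assoc, mapεC_fstC,
      ← Category.assoc, hv2, Spec.map_comp, Category.assoc, map_ev_j, unitSec,
      ← Category.assoc, map_aS_inv, Category.assoc]
  have hi : Spec.map (fstC (A G eU)) ≫ g = j G eU := by
    rw [hg, comp_lift_c]
    rw [lift_congr G e1 e2 _
      (by rw [Category.assoc, Category.assoc, G.e_t, Category.comp_id])]
    exact G.comp_e (j G eU)
  -- (ii) restriction along `mapε ev`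
  have f1 : Spec.map (mapεC (ev G eU)) ≫ g₂ = Spec.map v ≫ j G eU := by
    rw [hg₂, ← Category.assoc, ← Spec.map_comp, Category.assoc, mapεC_comp, aS_ev,
      mapεC_id, Category.comp_id]
  have f0 : (Spec.map v ≫ j G eU) ≫ G.t = Spec.map (inlC (CommRingCat.of k)) ≫ eU.inv := by
    rw [Category.assoc, ← map_aT_inv, ← Category.assoc, ← Spec.map_comp, hv1]
  have f2 : Spec.map (mapεC (ev G eU)) ≫ g₁ = (Spec.map v ≫ j G eU) ≫ G.t ≫ G.e := by
    rw [hg₁, ← Category.assoc, ← Spec.map_comp, inlC_mapεC, Spec.map_comp, Category.assoc,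
      map_ev_j, unitSec, ← Category.assoc (Spec.map v ≫ j G eU), f0, Category.assoc]
  have hii : Spec.map (mapεC (ev G eU)) ≫ g = Spec.map v ≫ j G eU := by
    rw [hg, comp_lift_c]
    rw [lift_congr G f2 f1 _
      (by simp only [Category.assoc, G.e_s, Category.comp_id])]
    exact G.e_comp (Spec.map v ≫ j G eU)
  -- (iii) the closed point goes to the unit point
  have hcl : g (closedPoint (dual (A G eU))) = e0 G eU := by
    have h3 : Spec.map (fstC (A G eU) ≫ ev G eU) (closedPoint k) =
        closedPoint (dual (A G eU)) := by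
      have : IsLocalHom (fstC (A G eU) ≫ ev G eU).hom := by
        rw [CommRingCat.hom_comp]; infer_instance
      exact Spec_closedPoint
    have h4 : Spec.map (fstC (A G eU) ≫ ev G eU) ≫ g = unitSec G eU := by
      rw [Spec.map_comp, Category.assoc, hi, map_ev_j]
    rw [← h3, ← Scheme.Hom.comp_apply, h4]
    rfl
  obtain ⟨φ, hφ⟩ := lift_of_closedPoint g (e0 G eU) hcl
  have hφ' : Spec.map φ ≫ j G eU = g := hφ
  refine ⟨φ, ?_, ?_, ?_⟩
  · apply Spec.map_injective
    rw [← cancel_mono (j G eU), Spec.map_comp, Category.assoc, hφ', hi, Spec.map_id,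
      Category.id_comp]
  · apply Spec.map_injective
    have hgt : g ≫ G.t = g₁ ≫ G.t := by rw [hg]; exact G.comp_t g₁ g₂ hcomp
    calc Spec.map (aT G eU ≫ φ) = (Spec.map φ ≫ j G eU) ≫ G.t ≫ eU.hom := by
          rw [Spec.map_comp, map_aT, Category.assoc]
      _ = (g ≫ G.t) ≫ eU.hom := by rw [hφ', Category.assoc]
      _ = (g₁ ≫ G.t) ≫ eU.hom := by rw [hgt]
      _ = Spec.map (aT G eU ≫ inlC (A G eU)) := by
          rw [Spec.map_comp, map_aT, hg₁, Category.assoc, Category.assoc]
  · apply Spec.map_injective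
    rw [← cancel_mono (j G eU), Spec.map_comp, Category.assoc, hφ', hii]

set_option maxHeartbeats 1000000 in
/-- In characteristic zero the local ring of a groupoid scheme over a field at the unit point is
reduced. -/
theorem isReduced_stalk_unit [CharZero k] [LocallyOfFiniteType G.t] :
    _root_.IsReduced (A G eU) := by
  have hLN : IsLocallyNoetherian G.R :=
    LocallyOfFiniteType.isLocallyNoetherian (G.t ≫ eU.hom)
  have hN : IsNoetherianRing (A G eU) := inferInstance
  let _ : Algebra k (A G eU) := (aT G eU).hom.toAlgebra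
  have hcomm : ∀ c : k, (ev G eU).hom ((aT G eU).hom c) = c := fun c =>
    congrArg (fun f : CommRingCat.of k ⟶ CommRingCat.of k => f.hom c) (aT_ev G eU)
  let evA : A G eU →ₐ[k] k := { (ev G eU).hom with commutes' := hcomm }
  refine isReduced_of_bridge evA ?_
  intro δ hδ
  have hδ1 : δ 1 = 0 := by
    have h0 := hδ 1 1
    have e1 : evA 1 = 1 := map_one evA
    rw [_root_.mul_one, e1, _root_.one_mul, _root_.mul_one] at h0
    have h2 : δ 1 + δ 1 = δ 1 + 0 := by rw [add_zero]; exact h0.symm
    exact add_left_cancel h2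
  let v : A G eU ⟶ dual (CommRingCat.of k) :=
    CommRingCat.ofHom (pointHom (ev G eU).hom δ.toAddMonoidHom hδ)
  have hv1 : aT G eU ≫ v = inlC (CommRingCat.of k) := by
    refine CommRingCat.hom_ext (RingHom.ext fun c => ?_)
    show pointHom (ev G eU).hom δ.toAddMonoidHom hδ ((aT G eU).hom c) = TrivSqZeroExt.inl c
    have h3 : δ ((aT G eU).hom c) = 0 := by
      have : (aT G eU).hom c = c • (1 : A G eU) := by
        rw [Algebra.smul_def, _root_.mul_one]; rfl
      rw [this, map_smul, hδ1, smul_zero]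
    ext
    · simp [hcomm]
    · simpa using h3
  have hv2 : v ≫ fstC (CommRingCat.of k) = ev G eU := by
    refine CommRingCat.hom_ext (RingHom.ext fun a => ?_)
    show (pointHom (ev G eU).hom δ.toAddMonoidHom hδ a).fst = (ev G eU).hom a
    simp
  obtain ⟨φ, h1, h2, h3⟩ := bridge G eU v hv1 hv2
  have k1 : ∀ a, (φ.hom a).fst = a := fun a =>
    congrArg (fun f : A G eU ⟶ A G eU => f.hom a) h1
  have k2 : ∀ c : k, φ.hom (algebraMap k (A G eU) c) =
      TrivSqZeroExt.inl (algebraMap k (A G eU) c) :=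
    fun c => congrArg (fun f : CommRingCat.of k ⟶ dual (A G eU) => f.hom c) h2
  refine ⟨derivOfSection φ.hom k1 k2, fun a => ?_⟩
  have k3 : mapε (ev G eU).hom (φ.hom a) = pointHom (ev G eU).hom δ.toAddMonoidHom hδ a :=
    congrArg (fun f : A G eU ⟶ dual (CommRingCat.of k) => f.hom a) h3
  have k4 := congrArg TrivSqZeroExt.snd k3
  rw [snd_mapε, snd_pointHom] at k4
  exact k4

/-- In characteristic zero the target map of a groupoid scheme over a field is smooth at some
point. -/
theorem exists_formallySmooth [CharZero k] [LocallyOfFiniteType G.t] :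
    ∃ x : G.R, (((G.t ≫ eU.hom).stalkMap x).hom).FormallySmooth := by
  haveI hLN : IsLocallyNoetherian G.R :=
    LocallyOfFiniteType.isLocallyNoetherian (G.t ≫ eU.hom)
  haveI : LocallyOfFinitePresentation (G.t ≫ eU.hom) :=
    LocallyOfFinitePresentation.iff_locallyOfFiniteType.2 inferInstance
  have hred := isReduced_stalk_unit G eU
  obtain ⟨Z, hZ, hxZ⟩ : ∃ Z ∈ irreducibleComponents G.R, e0 G eU ∈ Z :=
    ⟨irreducibleComponent (e0 G eU), irreducibleComponent_mem_irreducibleComponents _,
      mem_irreducibleComponent⟩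
  have hcl : IsClosed Z := isClosed_of_mem_irreducibleComponents _ hZ
  obtain ⟨ξ, hξ⟩ : ∃ ξ, ξ = hZ.1.genericPoint := ⟨_, rfl⟩
  have hgen : IsGenericPoint ξ Z := hξ ▸ hZ.1.isGenericPoint_genericPoint hcl
  have hsp : ξ ⤳ e0 G eU := by
    rw [specializes_iff_mem_closure, hgen.def]; exact hxZ
  have h0 : ringKrullDim (G.R.presheaf.stalk ξ) = 0 := by
    rw [ringKrullDim_stalk_eq_coheight]
    have : Order.coheight ξ = 0 := by
      rw [Order.coheight_eq_zero]
      intro b hb
      have hbξ : b ⤳ ξ := hb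
      have hsub : Z ⊆ closure ({b} : Set G.R) := by
        rw [← hgen.def]
        exact closure_minimal (Set.singleton_subset_iff.mpr hbξ.mem_closure) isClosed_closure
      have hle : closure ({b} : Set G.R) ⊆ Z := hZ.2 isIrreducible_singleton.closure hsub
      have hbZ : b ∈ closure ({ξ} : Set G.R) := by
        rw [hgen.def]; exact hle (subset_closure rfl)
      exact (specializes_iff_mem_closure.mpr hbZ : ξ ⤳ b)
    rw [this]; rfl
  have hredξ : _root_.IsReduced (G.R.presheaf.stalk ξ) := by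
    obtain ⟨U, hU, hxU, -⟩ := exists_isAffineOpen_mem_and_subset (x := e0 G eU)
      (U := (⊤ : G.R.Opens)) trivial
    have hξU : ξ ∈ U := hsp.mem_open U.2 hxU
    have hle : (hU.primeIdealOf ⟨ξ, hξU⟩).asIdeal ≤
        (hU.primeIdealOf ⟨e0 G eU, hxU⟩).asIdeal := by
      have h1 : (⟨ξ, hξU⟩ : U) ⤳ ⟨e0 G eU, hxU⟩ := (subtype_specializes_iff _ _).mpr hsp
      have h2 := h1.map hU.isoSpec.hom.continuous
      exact (PrimeSpectrum.le_iff_specializes _ _).mpr h2
    let _ := G.R.presheaf.algebra_section_stalk ⟨ξ, hξU⟩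
    let _ := G.R.presheaf.algebra_section_stalk ⟨e0 G eU, hxU⟩
    have l1 := hU.isLocalization_stalk ⟨ξ, hξU⟩
    have l2 := hU.isLocalization_stalk ⟨e0 G eU, hxU⟩
    haveI : _root_.IsReduced (G.R.presheaf.stalk (e0 G eU)) := hred
    exact isReduced_localization_of_le hle (G.R.presheaf.stalk ξ)
      (G.R.presheaf.stalk (e0 G eU))
  haveI : Ring.KrullDimLE 0 (G.R.presheaf.stalk ξ) :=
    Ring.krullDimLE_iff.mpr (by rw [h0]; rfl)
  have hfield : IsField (G.R.presheaf.stalk ξ) := Ring.KrullDimLE.isField_of_isReduced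
  have hreg : IsRegularLocalRing (G.R.presheaf.stalk ξ) :=
    Groth.Agent.Helper8.Depth.isRegularLocalRing_of_isField _ hfield
  exact ⟨ξ, Groth.Agent.Helper2.SmoothFieldRegular.mem_smoothLocus_of_isRegularLocalRing
    (G.t ≫ eU.hom) ξ hreg⟩

include eU in
/-- S7454 -/
theorem S7454_main [CharZero k] [LocallyOfFiniteType G.s] [LocallyOfFiniteType G.t] :
    Smooth G.s ∧ Smooth G.t :=
  Groth.Agent.Helper2.GrpdSmooth.smooth_of_exists_mem_smoothLocus G k eU
    (exists_formallySmooth G eU)

end Groth.Agent.Helper2.GrpdCartier
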