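import Mathlib
import Groth.Prelude.Def_AlgGrp
import Groth.Prelude.Def_ChGrp
import Groth.Prelude.Def_AlgSp
import Groth.Agent.Lib.Helper2.AlgSp.QuotEff
import Groth.Agent.Lib.Helper4.GrpKer2

/-!
# A bundle trivialized on an fppf covering family is principal (helper2)

`π : P ⟶ X` invariant under an action of `G` on `P`; if there is an fppf covering family
`c i : V i ⟶ X` with sections `s i` of `π` over `V i` such that `(v, g) ↦ g · s i (v)` exhibits
`V i × G` as `V i ×_X P`, then `(g, p) ↦ (g p, p)` exhibits `G × P` as `P ×_X P`.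
-/

set_option backward.isDefEq.respectTransparency.types false
set_option synthInstance.maxHeartbeats 400000
set_option autoImplicit false
set_option linter.unusedSectionVars false
set_option linter.style.haveILetI false
universe u
open CategoryTheory CategoryTheory.Limits AlgebraicGeometry TopologicalSpace
open MonoidalCategory CartesianMonoidalCategory MonObj GrpObj
open Groth.Agent.Lib.Helper4.GrpKer2

namespace Groth.Agent.Helper2.LocTrivPrincipal

variable {S : Scheme.{u}} {G P X : Over S} [GrpObj G] (a : AlgGrp.Action G P) (π : P ⟶ X)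
  (hinv : a.act ≫ π = snd G P ≫ π)
  {I : Type*} (V : I → Over S) (c : ∀ i, V i ⟶ X)
  (hcov : Sieve.generate (Presieve.ofArrows V c) ∈ AlgSp.J S X)
  (s : ∀ i, V i ⟶ P)
  (hpb : ∀ i, IsPullback (fst (V i) G) (lift (snd (V i) G) (fst (V i) G ≫ s i) ≫ a.act) (c i) π)

include hpb in
theorem exists_local {T : Over S} (i : I) (u : T ⟶ V i) (p : T ⟶ P) (h : u ≫ c i = p ≫ π) :
    ∃ g : T ⟶ G, lift g (u ≫ s i) ≫ a.act = p := by
  refine ⟨(hpb i).lift u p h ≫ snd (V i) G, ?_⟩
  have e := (hpb i).lift_snd u p h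
  rw [← Category.assoc, comp_lift, ← Category.assoc, (hpb i).lift_fst] at e
  exact e

include hpb in
theorem local_uniq {T : Over S} (i : I) (u : T ⟶ V i) (g₁ g₂ : T ⟶ G)
    (h : lift g₁ (u ≫ s i) ≫ a.act = lift g₂ (u ≫ s i) ≫ a.act) : g₁ = g₂ := by
  have e0 : ∀ g : T ⟶ G, lift u g ≫ lift (snd (V i) G) (fst (V i) G ≫ s i) ≫ a.act =
      lift g (u ≫ s i) ≫ a.act := by
    intro g
    rw [← Category.assoc, comp_lift, lift_snd, lift_fst_assoc]
  have e : lift u g₁ = lift u g₂ := by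
    apply (hpb i).hom_ext
    · rw [lift_fst, lift_fst]
    · rw [e0, e0, h]
  have := congrArg (· ≫ snd (V i) G) e
  simpa using this

include hcov hpb in
/-- The action is free. -/
theorem eq_one_of_act_eq {T : Over S} (g : T ⟶ G) (p : T ⟶ P) (h : lift g p ≫ a.act = p) :
    g = 1 := by
  have h1 : (Sieve.generate (Presieve.ofArrows V c)).pullback (p ≫ π) ∈ AlgSp.J S T :=
    (AlgSp.J S).pullback_stable (p ≫ π) hcov
  refine Groth.Agent.Helper2.QuotEff.hom_ext_sieve _ h1 g 1 ?_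
  rintro T' f ⟨Y, u, _, ⟨i⟩, hu⟩
  obtain ⟨g', hg'⟩ := exists_local a π V c s hpb i u (f ≫ p) (by rw [hu, Category.assoc])
  have e1 : lift ((f ≫ g) * g') (u ≫ s i) ≫ a.act = lift g' (u ≫ s i) ≫ a.act := by
    rw [AlgGrp.Action.lift_mul_act, hg', ← comp_lift, Category.assoc, h]
  have e2 := local_uniq a π V c s hpb i u _ _ e1
  rw [MonObj.comp_one]
  exact mul_eq_right.1 e2

include hcov hpb in
theorem act_uniq {T : Over S} (g₁ g₂ : T ⟶ G) (p : T ⟶ P)
    (h : lift g₁ p ≫ a.act = lift g₂ p ≫ a.act) : g₁ = g₂ := by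
  have e : lift (g₂⁻¹ * g₁) p ≫ a.act = p := by
    rw [AlgGrp.Action.lift_mul_act, h, ← AlgGrp.Action.lift_mul_act, inv_mul_cancel,
      AlgGrp.Action.lift_one_act]
  have := eq_one_of_act_eq a π V c hcov s hpb _ p e
  exact (inv_mul_eq_one.1 this).symm

include hcov hpb in
theorem exists_act_eq {T : Over S} (p₁ p₂ : T ⟶ P) (h : p₁ ≫ π = p₂ ≫ π) :
    ∃ g : T ⟶ G, lift g p₂ ≫ a.act = p₁ := by
  have h1 : (Sieve.generate (Presieve.ofArrows V c)).pullback (p₁ ≫ π) ∈ AlgSp.J S T :=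
    (AlgSp.J S).pullback_stable (p₁ ≫ π) hcov
  have hloc : ∀ ⦃T' : Over S⦄ (f : T' ⟶ T),
      (Sieve.generate (Presieve.ofArrows V c)).pullback (p₁ ≫ π) f →
      ∃ g : T' ⟶ G, lift g (f ≫ p₂) ≫ a.act = f ≫ p₁ := by
    rintro T' f ⟨Y, u, _, ⟨i⟩, hu⟩
    obtain ⟨g₁, hg₁⟩ := exists_local a π V c s hpb i u (f ≫ p₁) (by rw [hu, Category.assoc])
    obtain ⟨g₂, hg₂⟩ := exists_local a π V c s hpb i u (f ≫ p₂)
      (by rw [hu, Category.assoc, h])
    refine ⟨g₁ * g₂⁻¹, ?_⟩
    rw [AlgGrp.Action.lift_mul_act, ← hg₂, ← AlgGrp.Action.lift_mul_act a g₂⁻¹ g₂, inv_mul_cancel,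
      AlgGrp.Action.lift_one_act, hg₁]
  obtain ⟨g, hg⟩ := Groth.Agent.Helper2.QuotEff.exists_glue_sieve _ h1
    (fun T' f hf => (hloc f hf).choose) (by
      intro T' T'' f k hf
      apply act_uniq a π V c hcov s hpb _ _ ((k ≫ f) ≫ p₂)
      have e1 := (hloc f hf).choose_spec
      have e2 := (hloc (k ≫ f) ((Sieve.generate (Presieve.ofArrows V c)).pullback
        (p₁ ≫ π) |>.downward_closed hf k)).choose_spec
      rw [e2, Category.assoc, Category.assoc, ← comp_lift, Category.assoc, e1])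
  refine ⟨g, ?_⟩
  refine Groth.Agent.Helper2.QuotEff.hom_ext_sieve _ h1 _ _ ?_
  intro T' f hf
  rw [← Category.assoc, comp_lift, hg f hf]
  exact (hloc f hf).choose_spec

include hinv hcov hpb in
/-- The bundle is principal. -/
theorem isPullback_act : IsPullback a.act (snd G P) π π := by
  refine isPullback_of_points _ _ _ _ hinv ?_ ?_
  · intro T p₁ p₂ h
    obtain ⟨g, hg⟩ := exists_act_eq a π V c hcov s hpb p₁ p₂ h
    exact ⟨lift g p₂, hg, lift_snd _ _⟩
  · intro T t₁ t₂ h1 h2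
    have e1 : t₁ = lift (t₁ ≫ fst G P) (t₁ ≫ snd G P) := by
      apply CartesianMonoidalCategory.hom_ext <;> simp
    have e2 : t₂ = lift (t₂ ≫ fst G P) (t₁ ≫ snd G P) := by
      apply CartesianMonoidalCategory.hom_ext
      · rw [lift_fst]
      · rw [lift_snd, h2]
    have e3 : t₁ ≫ fst G P = t₂ ≫ fst G P := by
      apply act_uniq a π V c hcov s hpb _ _ (t₁ ≫ snd G P)
      rw [← e1, ← e2, h1]
    rw [e1, e2, e3]

end Groth.Agent.Helper2.LocTrivPrincipal
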