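import Mathlib
import Groth.Prelude.Def_Flat
import Groth.Prelude.Def_MoreMor
import Groth.Agent.Lib.Lead.CritFib19
import Groth.Agent.Lib.Helper8.FlatReg6
import Groth.Agent.Lib.Helper8.FlatReg5
import Groth.Agent.Lib.Helper4.LocalDimEtale1
import Groth.Agent.Lib.Helper4.Aff2
import Groth.Agent.Lib.Helper7.EtCoord.DiffSpan
import Groth.Agent.Lib.Helper2.Sch.ProdLocalDim
import Groth.Agent.Lib.Helper2.Sch.SmoothFieldRegular
import Groth.Agent.Lib.Helper2.FibDim.EtaleLocal

/-!
# A monomorphism of smooth schemes preserving the fibre dimensions is an open immersion (S4993)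
(helper2)
-/

set_option backward.isDefEq.respectTransparency.types false
set_option autoImplicit false
set_option linter.unusedSectionVars false
set_option linter.style.haveILetI false
universe u
open CategoryTheory CategoryTheory.Limits AlgebraicGeometry TopologicalSpace Topology IsLocalRing
open Groth.Agent.Lib.Helper4.FibDim1

namespace Groth.Agent.Helper2.MonoSmoothOpenImm

theorem tr_congr {X Y : Scheme.{u}} {f f' : X ⟶ Y} (h : f = f') [LocallyOfFiniteType f]
    [LocallyOfFiniteType f'] (x : X) : tr f x = tr f' x := by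
  subst h; rfl

/-- An unramified morphism locally of finite type between schemes smooth over a field is flat at
every point where the local dimensions agree. -/
theorem flat_stalkMap_of_unramified_of_localDim_eq (K : Type u) [Field K] {A B : Scheme.{u}}
    (a : A ⟶ Spec (.of K)) (b : B ⟶ Spec (.of K)) [Smooth a] [Smooth b] (F : A ⟶ B)
    (hF : F ≫ b = a) [FormallyUnramified F] (x' : A)
    (hdim : FlatMor.localDim B (F x') = FlatMor.localDim A x') :
    (F.stalkMap x').hom.Flat := by
  haveI : LocallyOfFiniteType (F ≫ b) := by rw [hF]; infer_instance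
  haveI : LocallyOfFiniteType F := locallyOfFiniteType_of_comp F b
  haveI : IsLocallyNoetherian A := LocallyOfFiniteType.isLocallyNoetherian a
  haveI : IsLocallyNoetherian B := LocallyOfFiniteType.isLocallyNoetherian b
  haveI : LocallyQuasiFinite F :=
    Groth.Agent.Lib.Helper4.LocalDimEtale1.locallyQuasiFinite_of_unramified F
  have htr : tr a x' = tr b (F x') := by
    rw [tr_congr hF.symm x', Groth.Agent.Lib.Helper4.PropDim1.tr_comp F b x',
      Groth.Agent.Lib.Helper4.Aff2.tr_eq_zero_of_locallyQuasiFinite F x', add_zero]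
  rw [Groth.Agent.Helper2.ProdLocalDim.localDim_eq_stalk_add_tr K b (F x'),
    Groth.Agent.Helper2.ProdLocalDim.localDim_eq_stalk_add_tr K a x', htr] at hdim
  haveI hR : IsRegularLocalRing (B.presheaf.stalk (F x')) :=
    Groth.Agent.Helper2.SmoothFieldRegular.S1535_main K b (F x')
  haveI hT : IsRegularLocalRing (A.presheaf.stalk x') :=
    Groth.Agent.Helper2.SmoothFieldRegular.S1535_main K a x'
  haveI : LocCoh.IsCohenMacaulayLocalRing (A.presheaf.stalk x') :=
    Groth.Agent.Helper8.FlatReg.isCohenMacaulayLocalRing_of_isRegularLocalRing _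
  obtain ⟨m, hm⟩ := Groth.Agent.Helper7.EtCoord.exists_nat_ringKrullDim (A.presheaf.stalk x')
  obtain ⟨n, hn⟩ := Groth.Agent.Helper7.EtCoord.exists_nat_ringKrullDim (B.presheaf.stalk (F x'))
  rw [hm, hn] at hdim
  have hmn : m = n := by
    have : (n + tr b (F x') : ℕ) = (m + tr b (F x') : ℕ) := by exact_mod_cast hdim
    omega
  algebraize [(F.stalkMap x').hom]
  haveI : IsLocalHom (algebraMap (B.presheaf.stalk (F x')) (A.presheaf.stalk x')) :=
    inferInstanceAs (IsLocalHom (F.stalkMap x').hom)
  haveI : Algebra.EssFiniteType (B.presheaf.stalk (F x')) (A.presheaf.stalk x') := by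
    rw [← RingHom.essFiniteType_algebraMap, RingHom.algebraMap_toAlgebra]
    exact LocallyOfFiniteType.stalkMap F x'
  haveI : Algebra.FormallyUnramified (B.presheaf.stalk (F x')) (A.presheaf.stalk x') := by
    rw [← RingHom.formallyUnramified_algebraMap, RingHom.algebraMap_toAlgebra]
    exact FormallyUnramified.stalkMap F x'
  have hfield := Algebra.FormallyUnramified.isField_quotient_map_maximalIdeal
    (R := B.presheaf.stalk (F x')) (S := A.presheaf.stalk x')
  have hd : ringKrullDim (A.presheaf.stalk x') = ringKrullDim (B.presheaf.stalk (F x')) +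
      ringKrullDim ((A.presheaf.stalk x') ⧸
        (maximalIdeal (B.presheaf.stalk (F x'))).map
          (algebraMap (B.presheaf.stalk (F x')) (A.presheaf.stalk x'))) := by
    rw [ringKrullDim_eq_zero_of_isField hfield, add_zero, hm, hn, hmn]
  exact Groth.Agent.Helper8.FlatReg.miracle_flatness hd

/-- S4993 -/
theorem S4993_main {X Y S : Scheme.{u}} (f : Y ⟶ S) (h : X ⟶ S)
    [Smooth f] [Smooth h] (g : X ⟶ Y) (w : g ≫ f = h) :
    IsOpenImmersion g ↔
      Mono g ∧ ∀ x : ↥X, FlatMor.fibreDimAt f (g.base x) = FlatMor.fibreDimAt h x := by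
  subst w
  constructor
  · intro hg
    haveI := hg
    exact ⟨inferInstance, fun x =>
      Groth.Agent.Helper2.FibDim.S7408_main f (g ≫ f) g (𝟙 S) (by rw [Category.comp_id]) x⟩
  · rintro ⟨hmono, hdim⟩
    haveI := hmono
    haveI : LocallyOfFinitePresentation g :=
      Groth.Agent.Lead.CritFib.locallyOfFinitePresentation_of_comp g f
    suffices hfl : Flat g from IsOpenImmersion.of_flat_of_mono g
    rw [Flat.iff_flat_stalkMap]
    intro x
    obtain ⟨s, hs⟩ : ∃ s : S, s = f (g x) := ⟨_, rfl⟩
    have key := (Groth.Agent.Lead.CritFib.critere_fibre g f x).mp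
    refine (key ⟨Flat.stalkMap (g ≫ f) x, ?_⟩).2
    -- flatness of the map of fibres
    haveI : Smooth ((g ≫ f).fiberToSpecResidueField (f (g x))) :=
      MorphismProperty.pullback_snd (P := @Smooth) _ _ inferInstance
    haveI : Smooth (f.fiberToSpecResidueField (f (g x))) :=
      MorphismProperty.pullback_snd (P := @Smooth) _ _ inferInstance
    have hpb := Groth.Agent.Lead.CritFib.isPullback_fiberMap g f (f (g x))
    haveI : Mono (MoreMor.fiberMap g f (f (g x))) :=
      MorphismProperty.of_isPullback (P := MorphismProperty.monomorphisms Scheme.{u}) hpb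
        (MorphismProperty.monomorphisms.infer_property g)
    haveI : IsOpenImmersion (pullback.diagonal (MoreMor.fiberMap g f (f (g x)))) :=
      inferInstance
    haveI : FormallyUnramified (MoreMor.fiberMap g f (f (g x))) := inferInstance
    refine flat_stalkMap_of_unramified_of_localDim_eq (S.residueField (f (g x)))
      ((g ≫ f).fiberToSpecResidueField (f (g x))) (f.fiberToSpecResidueField (f (g x)))
      (MoreMor.fiberMap g f (f (g x)))
      (Groth.Agent.Lead.CritFib.fiberMap_comp_fiberToSpecResidueField g f (f (g x))) _ ?_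
    have hpt : MoreMor.fiberMap g f (f (g x)) ((g ≫ f).asFiber x) = f.asFiber (g x) := by
      apply (f.fiberι (f (g x))).isEmbedding.injective
      have h1 : (f.fiberι (f (g x))) (MoreMor.fiberMap g f (f (g x)) ((g ≫ f).asFiber x)) =
          g (((g ≫ f).fiberι (f (g x))) ((g ≫ f).asFiber x)) := by
        rw [← Scheme.Hom.comp_apply, Groth.Agent.Lead.CritFib.fiberMap_comp_fiberι]
        rfl
      have h2 : ((g ≫ f).fiberι (f (g x))) ((g ≫ f).asFiber x) = x :=
        (g ≫ f).fiberι_asFiber x
      rw [h1, h2, f.fiberι_asFiber (g x)]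
    rw [hpt]
    exact hdim x

end Groth.Agent.Helper2.MonoSmoothOpenImm
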