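import Mathlib
import Groth.Prelude.Def_HMNum
import Groth.Prelude.Def_GLinSh
import Groth.Prelude.Def_AlgGrp
import Groth.Prelude.Def_Red

/-!
# The numerical function under translation of the point and conjugation of the one-parameter
subgroup (helper2)
-/

set_option backward.isDefEq.respectTransparency.types false
set_option autoImplicit false
set_option synthInstance.maxHeartbeats 400000
set_option maxHeartbeats 4000000
set_option linter.style.haveILetI false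
set_option linter.unusedSectionVars false
set_option linter.unusedVariables false
set_option linter.unusedSimpArgs false
set_option linter.unnecessarySimpa false

open CategoryTheory CategoryTheory.Limits MonoidalCategory CartesianMonoidalCategory MonObj GrpObj
  AlgebraicGeometry Opposite

namespace Groth.Agent.Helper2.MuConj
universe u

section Cat
variable {C : Type*} [Category C] [CartesianMonoidalCategory C]

theorem mul_comp_eq {M G : C} [MonObj M] [MonObj G] (α : M ⟶ G) [IsMonHom α] :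
    μ[M] ≫ α = (fst M M ≫ α) * (snd M M ≫ α) := by
  rw [IsMonHom.mul_hom, MonObj.mul_eq_mul, MonObj.comp_mul, tensorHom_fst, tensorHom_snd]

theorem tensorHom_mul_eq {M G : C} [MonObj G] (ga' : M ⟶ G) :
    (ga' ⊗ₘ ga') ≫ μ[G] = (fst M M ≫ ga') * (snd M M ≫ ga') := by
  rw [MonObj.mul_eq_mul, MonObj.comp_mul, tensorHom_fst, tensorHom_snd]

/-- Conjugating a homomorphism by a constant point gives a homomorphism. -/
theorem isMonHom_conj {M G : C} [MonObj M] [GrpObj G] (l : M ⟶ G) [IsMonHom l] (ga : 𝟙_ C ⟶ G) :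
    IsMonHom ((toUnit M ≫ ga)⁻¹ * l * (toUnit M ≫ ga)) where
  one_hom := by
    rw [MonObj.comp_mul, MonObj.comp_mul, GrpObj.comp_inv, IsMonHom.one_hom (f := l),
      MonObj.one_eq_one (M := G), _root_.mul_one, inv_mul_cancel]
  mul_hom := by
    rw [tensorHom_mul_eq]
    simp only [MonObj.comp_mul, GrpObj.comp_inv, mul_comp_eq l, comp_toUnit_assoc]
    group

end Cat

section Act
variable {S : Scheme.{u}} {G X : Over S} [GrpObj G] (a : AlgGrp.Action G X)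

theorem sm_mul {T : Over S} (g h : T ⟶ G) (x : T ⟶ X) :
    lift (g * h) x ≫ a.act = lift g (lift h x ≫ a.act) ≫ a.act :=
  (Magnet.MonAct.ofAction a).lift_mul_act g h x

theorem sm_one {T : Over S} (x : T ⟶ X) : lift (1 : T ⟶ G) x ≫ a.act = x :=
  (Magnet.MonAct.ofAction a).lift_one_act x

theorem sm_inv_sm {T : Over S} (g : T ⟶ G) (x : T ⟶ X) :
    lift g⁻¹ (lift g x ≫ a.act) ≫ a.act = x := by
  rw [← sm_mul, inv_mul_cancel, sm_one]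

theorem conj_key (l l' : Red.Gm S ⟶ G) (g₀ : 𝟙_ (Over S) ⟶ G)
    (hl' : l' = (toUnit _ ≫ g₀)⁻¹ * l * (toUnit _ ≫ g₀)) {T' : Over S} (g : T' ⟶ Red.Gm S) :
    (toUnit T' ≫ g₀) * (g ≫ l') = (g ≫ l) * (toUnit T' ≫ g₀) := by
  rw [hl', MonObj.comp_mul, MonObj.comp_mul, GrpObj.comp_inv, comp_toUnit_assoc]
  group

/-- Translating the point by `g₀` and conjugating the one-parameter subgroup: limits. -/
theorem isLimitPt_conj (l l' : Red.Gm S ⟶ G) [IsMonHom l] [IsMonHom l']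
    (g₀ : 𝟙_ (Over S) ⟶ G) (hl' : l' = (toUnit _ ≫ g₀)⁻¹ * l * (toUnit _ ≫ g₀))
    {T : Over S} (x y : T ⟶ X) (h : HMNum.IsLimitPt a l' x y) :
    HMNum.IsLimitPt a l (lift (toUnit T ≫ g₀) x ≫ a.act) (lift (toUnit T ≫ g₀) y ≫ a.act) := by
  unfold HMNum.IsLimitPt at h ⊢
  obtain ⟨φ', hφx, hφy⟩ := h
  have hφ'eq := (Magnet.MonAct.mem_eqvHom_iff φ'.1).1 φ'.2
  have hx' : lift (toUnit T ≫ η[Magnet.AMonS S ↥HMNum.plus]) (𝟙 T) ≫ φ'.1 = x := hφx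
  have hy' : lift (toUnit T ≫ HMNum.origin S) (𝟙 T) ≫ φ'.1 = y :=
    (HMNum.limitPt_eq φ').symm.trans hφy
  have hmem : Magnet.MonAct.IsEquivariant
      ((Magnet.subAct S ℤ HMNum.plus).prod (Magnet.MonAct.trivial (Magnet.AMonS S ℤ) T))
      (HMNum.gmAct a l) (lift (toUnit _ ≫ g₀) φ'.1 ≫ a.act) := by
    rw [Magnet.MonAct.mem_eqvHom_iff]
    intro T' g b t
    have e1 := hφ'eq T' g b t
    rw [Magnet.MonAct.lift_restrict_act, Magnet.MonAct.ofAction_act] at e1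
    refine Eq.trans (b := lift ((toUnit T' ≫ g₀) * (g ≫ l')) (lift b t ≫ φ'.1) ≫ a.act) ?_ ?_
    · rw [comp_lift_assoc, comp_toUnit_assoc, e1, sm_mul a]
    · rw [conj_key l l' g₀ hl' g, sm_mul a, Magnet.MonAct.lift_restrict_act,
        Magnet.MonAct.ofAction_act, comp_lift_assoc, comp_toUnit_assoc]
  refine Exists.intro (Subtype.mk _ hmem) ⟨?_, ?_⟩
  · show lift (toUnit T ≫ η[Magnet.AMonS S ↥HMNum.plus]) (𝟙 T) ≫
      (lift (toUnit _ ≫ g₀) φ'.1 ≫ a.act) = _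
    rw [comp_lift_assoc, comp_toUnit_assoc, hx']
  · rw [HMNum.limitPt_eq]
    show lift (toUnit T ≫ HMNum.origin S) (𝟙 T) ≫ (lift (toUnit _ ≫ g₀) φ'.1 ≫ a.act) = _
    rw [comp_lift_assoc, comp_toUnit_assoc, hy']

end Act

section Gen

theorem appLE_comp_apply {X Y Z : Scheme.{u}} (f : X ⟶ Y) (g : Y ⟶ Z) (U : Z.Opens) (V : Y.Opens)
    (W : X.Opens) (e₁ : V ≤ g ⁻¹ᵁ U) (e₂ : W ≤ f ⁻¹ᵁ V) (h : X ⟶ Z) (hh : h = f ≫ g)
    (e₃ : W ≤ h ⁻¹ᵁ U) (s : Γ(Z, U)) :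
    h.appLE U W e₃ s = f.appLE V W e₂ (g.appLE U V e₁ s) := by
  subst hh
  rw [← CommRingCat.comp_apply, Scheme.Hom.appLE_comp_appLE]

variable {S : Scheme.{u}}

theorem top_le_of_comp {A Bo Co : Over S} (f : A ⟶ Bo) (g : Bo ⟶ Co) (h : A ⟶ Co)
    (hh : f ≫ g = h) (U : Co.left.Opens) (hU : h.left ⁻¹ᵁ U = ⊤) :
    f.left ⁻¹ᵁ (g.left ⁻¹ᵁ U) = ⊤ := by
  subst hh; exact hU

theorem comp_preimage_top {T' T Xo : Over S} (t : T' ⟶ T) (x : T ⟶ Xo) (U : Xo.left.Opens)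
    (hU : x.left ⁻¹ᵁ U = ⊤) : (t ≫ x).left ⁻¹ᵁ U = ⊤ := by
  have e : (t ≫ x).left ⁻¹ᵁ U = t.left ⁻¹ᵁ (x.left ⁻¹ᵁ U) := rfl
  rw [e, hU]; rfl

theorem top_le_preimage_inf {A Bo : Over S} (f : A ⟶ Bo) (U₁ U₂ : Bo.left.Opens)
    (h₁ : f.left ⁻¹ᵁ U₁ = ⊤) (h₂ : f.left ⁻¹ᵁ U₂ = ⊤) : ⊤ ≤ f.left ⁻¹ᵁ (U₁ ⊓ U₂) := by
  intro z _
  have m₁ : z ∈ f.left ⁻¹ᵁ U₁ := by rw [h₁]; trivial
  have m₂ : z ∈ f.left ⁻¹ᵁ U₂ := by rw [h₂]; trivial
  exact And.intro m₁ m₂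

theorem appLE_pt_congr {A Bo : Over S} {W : Bo.left.Opens} (C : Γ(Bo.left, W)) {q q' : A ⟶ Bo}
    (hq : q = q') (h : ⊤ ≤ q.left ⁻¹ᵁ W) (h' : ⊤ ≤ q'.left ⁻¹ᵁ W) :
    q.left.appLE W ⊤ h C = q'.left.appLE W ⊤ h' C := by
  subst hq; rfl

end Gen

section Wt
variable {S : Scheme.{u}} {G X : Over S} [GrpObj G] (a : AlgGrp.Action G X)
  (B : GLinSh.LinBun G a)

theorem lift_π_pt {T' : Over S} (ga : T' ⟶ G) (u : T' ⟶ B.V) :
    (lift ga u ≫ B.lift.act) ≫ B.π = lift ga (u ≫ B.π) ≫ a.act := by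
  rw [Category.assoc, B.lift_π, lift_whiskerLeft_assoc]

theorem evalFn_congr {T' : Over S} {U : X.left.Opens} (c : Γ(B.V.left, B.π.left ⁻¹ᵁ U))
    {p p' : T' ⟶ B.V} (hp : p = p') (h : ⊤ ≤ p.left ⁻¹ᵁ (B.π.left ⁻¹ᵁ U))
    (h' : ⊤ ≤ p'.left ⁻¹ᵁ (B.π.left ⁻¹ᵁ U)) :
    HMNum.evalFn B.π c p h = HMNum.evalFn B.π c p' h' := by
  subst hp; rfl

/-- The fibrewise-linearity identity evaluated at a point. -/
theorem eval_linear (U U' : X.left.Opens) (c₁ : Γ(B.V.left, B.π.left ⁻¹ᵁ U))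
    (c₂ : Γ(B.V.left, B.π.left ⁻¹ᵁ U'))
    (C : Γ((G ⊗ X).left, a.act.left ⁻¹ᵁ U' ⊓ (snd G X).left ⁻¹ᵁ U))
    (hC : B.lift.act.left.appLE (B.π.left ⁻¹ᵁ U') (GLinSh.liftOpen a B.π U U')
        (GLinSh.liftOpen_le_act a B.π B.lift B.lift_π) c₂ =
      (G ◁ B.π).left.appLE _ (GLinSh.liftOpen a B.π U U') (GLinSh.liftOpen_le_base a B.π) C *
        (snd G B.V).left.appLE (B.π.left ⁻¹ᵁ U) (GLinSh.liftOpen a B.π U U')
          (GLinSh.liftOpen_le_snd a B.π) c₁)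
    {T T' : Over S} (y₀ x₁ : T ⟶ X) (hU : y₀.left ⁻¹ᵁ U = ⊤) (hU' : x₁.left ⁻¹ᵁ U' = ⊤)
    (t : T' ⟶ T) (ga : T' ⟶ G) (hga : lift ga (t ≫ y₀) ≫ a.act = t ≫ x₁)
    (h3 : ⊤ ≤ (lift ga (t ≫ y₀)).left ⁻¹ᵁ (a.act.left ⁻¹ᵁ U' ⊓ (snd G X).left ⁻¹ᵁ U))
    (u : T' ⟶ B.V) (hu : u ≫ B.π = t ≫ y₀)
    (h1 : ⊤ ≤ u.left ⁻¹ᵁ (B.π.left ⁻¹ᵁ U))
    (h2 : ⊤ ≤ (lift ga u ≫ B.lift.act).left ⁻¹ᵁ (B.π.left ⁻¹ᵁ U')) :
    HMNum.evalFn B.π c₂ (lift ga u ≫ B.lift.act) h2 =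
      (lift ga (t ≫ y₀)).left.appLE _ ⊤ h3 C * HMNum.evalFn B.π c₁ u h1 := by
  have hp : ⊤ ≤ (lift ga u).left ⁻¹ᵁ GLinSh.liftOpen a B.π U U' := by
    refine top_le_preimage_inf (lift ga u) _ _ ?_ ?_
    · exact top_le_of_comp (lift ga u) ((G ◁ B.π) ≫ a.act) (t ≫ x₁)
        (by rw [lift_whiskerLeft_assoc, hu, hga]) U' (comp_preimage_top t x₁ U' hU')
    · exact top_le_of_comp (lift ga u) ((G ◁ B.π) ≫ snd G X) (t ≫ y₀)
        (by rw [lift_whiskerLeft_assoc, lift_snd, hu]) U (comp_preimage_top t y₀ U hU)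
  have e1 := appLE_comp_apply (lift ga u).left B.lift.act.left (B.π.left ⁻¹ᵁ U')
    (GLinSh.liftOpen a B.π U U') ⊤
    (GLinSh.liftOpen_le_act a B.π B.lift B.lift_π) hp (lift ga u ≫ B.lift.act).left rfl h2 c₂
  have e2 := appLE_comp_apply (lift ga u).left (G ◁ B.π).left _ (GLinSh.liftOpen a B.π U U') ⊤
    (GLinSh.liftOpen_le_base a B.π) hp (lift ga (t ≫ y₀)).left
    (by rw [← Over.comp_left, lift_whiskerLeft, hu]) h3 C
  have e3 := appLE_comp_apply (lift ga u).left (snd G B.V).left (B.π.left ⁻¹ᵁ U)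
    (GLinSh.liftOpen a B.π U U') ⊤
    (GLinSh.liftOpen_le_snd a B.π) hp u.left (by rw [← Over.comp_left, lift_snd]) h1 c₁
  show (lift ga u ≫ B.lift.act).left.appLE (B.π.left ⁻¹ᵁ U') ⊤ h2 c₂ =
    _ * u.left.appLE (B.π.left ⁻¹ᵁ U) ⊤ h1 c₁
  rw [e1, e2, e3, hC, map_mul]

/-- Translating the point by `g₀` and conjugating the one-parameter subgroup: fibre weights. -/
theorem hasFibreWt_conj (l l' : Red.Gm S ⟶ G) (g₀ : 𝟙_ (Over S) ⟶ G)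
    (hl' : l' = (toUnit _ ≫ g₀)⁻¹ * l * (toUnit _ ≫ g₀)) {T : Over S} (y₀ : T ⟶ X) (w : ℤ)
    (hcov : ∃ (U' : X.left.Opens) (c₂ : Γ(B.V.left, B.π.left ⁻¹ᵁ U')), c₂ ∈ B.atlas.chart U' ∧
      (lift (toUnit T ≫ g₀) y₀ ≫ a.act).left ⁻¹ᵁ U' = ⊤)
    (h : HMNum.HasFibreWeight B l' y₀ w) :
    HMNum.HasFibreWeight B l (lift (toUnit T ≫ g₀) y₀ ≫ a.act) w := by
  unfold HMNum.HasFibreWeight HMNum.HasFibreWt at h ⊢
  obtain ⟨hfix, U, c₁, hc₁, hU, hwt⟩ := h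
  obtain ⟨U', c₂, hc₂, hU'⟩ := hcov
  obtain ⟨C, hC⟩ := B.lift_linear U U' c₁ c₂ hc₁ hc₂
  have hx₁ : ∀ {T' : Over S} (t : T' ⟶ T), t ≫ lift (toUnit T ≫ g₀) y₀ ≫ a.act =
      lift (toUnit T' ≫ g₀) (t ≫ y₀) ≫ a.act := by
    intro T' t; rw [comp_lift_assoc, comp_toUnit_assoc]
  refine ⟨?_, U', c₂, hc₂, hU', ?_⟩
  · intro T' t g
    rw [hx₁ t, ← sm_mul a, ← conj_key l l' g₀ hl' g, sm_mul a, hfix T' t g]
  · intro T' t g v' hv' hgv'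
    obtain ⟨ga, hga⟩ : ∃ ga : T' ⟶ G, ga = toUnit T' ≫ g₀ := ⟨_, rfl⟩
    have hx₁' : t ≫ lift (toUnit T ≫ g₀) y₀ ≫ a.act = lift ga (t ≫ y₀) ≫ a.act := by
      rw [hga]; exact hx₁ t
    obtain ⟨v, hv_def⟩ : ∃ v : T' ⟶ B.V, v = lift ga⁻¹ v' ≫ B.lift.act := ⟨_, rfl⟩
    have hv : v ≫ B.π = t ≫ y₀ := by
      rw [hv_def, lift_π_pt a B, hv', hx₁', sm_inv_sm a]
    have hgav : lift ga v ≫ B.lift.act = v' := by
      rw [hv_def, ← sm_mul B.lift, mul_inv_cancel, sm_one B.lift]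
    obtain ⟨v₂, hv₂_def⟩ : ∃ v₂ : T' ⟶ B.V, v₂ = lift (g ≫ l') v ≫ B.lift.act := ⟨_, rfl⟩
    have hv₂ : v₂ ≫ B.π = t ≫ y₀ := by
      rw [hv₂_def, lift_π_pt a B, hv]; exact hfix T' t g
    have hgav₂ : lift ga v₂ ≫ B.lift.act = lift (g ≫ l) v' ≫ B.lift.act := by
      rw [hv₂_def, ← sm_mul B.lift, hga, conj_key l l' g₀ hl' g, ← hga, sm_mul B.lift, hgav]
    have hgv₂ : (lift (g ≫ l') v ≫ B.lift.act) ≫ B.π = t ≫ y₀ := by
      rw [← hv₂_def]; exact hv₂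
    have hw := hwt T' t g v hv hgv₂
    have hga' : lift ga (t ≫ y₀) ≫ a.act = t ≫ (lift (toUnit T ≫ g₀) y₀ ≫ a.act) := hx₁'.symm
    have h3 : ⊤ ≤ (lift ga (t ≫ y₀)).left ⁻¹ᵁ
        (a.act.left ⁻¹ᵁ U' ⊓ (snd G X).left ⁻¹ᵁ U) := by
      refine top_le_preimage_inf (lift ga (t ≫ y₀)) _ _ ?_ ?_
      · exact top_le_of_comp _ a.act _ hga' U' (comp_preimage_top t _ U' hU')
      · exact top_le_of_comp _ (snd G X) (t ≫ y₀) (lift_snd _ _) U (comp_preimage_top t y₀ U hU)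
    have h1v := HMNum.top_le_preimage B.π hU hv
    have h1v₂ := HMNum.top_le_preimage B.π hU hv₂
    have hh2v : (lift ga v ≫ B.lift.act) ≫ B.π = t ≫ (lift (toUnit T ≫ g₀) y₀ ≫ a.act) := by
      rw [hgav]; exact hv'
    have hh2v₂ : (lift ga v₂ ≫ B.lift.act) ≫ B.π =
        t ≫ (lift (toUnit T ≫ g₀) y₀ ≫ a.act) := by
      rw [hgav₂]; exact hgv'
    have h2v := HMNum.top_le_preimage B.π hU' hh2v
    have h2v₂ := HMNum.top_le_preimage B.π hU' hh2v₂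
    have E1 := eval_linear a B U U' c₁ c₂ C hC y₀ _ hU hU' t ga hga' h3 v hv h1v h2v
    have E2 := eval_linear a B U U' c₁ c₂ C hC y₀ _ hU hU' t ga hga' h3 v₂ hv₂ h1v₂ h2v₂
    have s1 : HMNum.evalFn B.π c₂ (lift (g ≫ l) v' ≫ B.lift.act)
        (HMNum.top_le_preimage B.π hU' hgv') =
        HMNum.evalFn B.π c₂ (lift ga v₂ ≫ B.lift.act) h2v₂ := evalFn_congr a B c₂ hgav₂.symm _ _
    have s2 : HMNum.evalFn B.π c₂ v' (HMNum.top_le_preimage B.π hU' hv') =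
        HMNum.evalFn B.π c₂ (lift ga v ≫ B.lift.act) h2v := evalFn_congr a B c₂ hgav.symm _ _
    have s3 : HMNum.evalFn B.π c₁ v₂ h1v₂ =
        HMNum.evalFn B.π c₁ (lift (g ≫ l') v ≫ B.lift.act)
          (HMNum.top_le_preimage B.π hU hgv₂) := evalFn_congr a B c₁ hv₂_def _ _
    rw [s1, s2, E2, E1, s3, hw, mul_left_comm]

end Wt

section Main
variable (k : Type u) [Field k] {G X : Over (Spec (CommRingCat.of k))} [GrpObj G]
  (a : AlgGrp.Action G X) (B : GLinSh.LinBun G a)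

theorem isMu_conj_dir (x : 𝟙_ (Over (Spec (CommRingCat.of k))) ⟶ X)
    (l l' : Red.Gm (Spec (CommRingCat.of k)) ⟶ G) [IsMonHom l] [IsMonHom l']
    (g₀ : 𝟙_ (Over (Spec (CommRingCat.of k))) ⟶ G)
    (hl' : l' = (toUnit _ ≫ g₀)⁻¹ * l * (toUnit _ ≫ g₀)) (m : ℤ)
    (h : HMNum.IsMu B l' x m) : HMNum.IsMu B l (lift g₀ x ≫ a.act) m := by
  unfold HMNum.IsMu HMNum.IsMuOf at h ⊢
  obtain ⟨y, hlim, hwt⟩ := h
  have e : toUnit (𝟙_ (Over (Spec (CommRingCat.of k)))) ≫ g₀ = g₀ := by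
    rw [toUnit_unit, Category.id_comp]
  have hA := isLimitPt_conj a l l' g₀ hl' x y hlim
  rw [e] at hA
  refine ⟨lift g₀ y ≫ a.act, hA, ?_⟩
  have hcov : ∃ (U' : X.left.Opens) (c₂ : Γ(B.V.left, B.π.left ⁻¹ᵁ U')),
      c₂ ∈ B.atlas.chart U' ∧ (lift g₀ y ≫ a.act).left ⁻¹ᵁ U' = ⊤ := by
    obtain ⟨t₀⟩ : Nonempty ↥(𝟙_ (Over (Spec (CommRingCat.of k)))).left :=
      ⟨(IsLocalRing.closedPoint k : PrimeSpectrum k)⟩
    haveI : Subsingleton ↥(𝟙_ (Over (Spec (CommRingCat.of k)))).left :=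
      inferInstanceAs (Subsingleton (PrimeSpectrum k))
    obtain ⟨U', hmem, c₂, hc₂⟩ := B.atlas.cover ((lift g₀ y ≫ a.act).left.base t₀)
    refine ⟨U', c₂, hc₂, ?_⟩
    apply le_antisymm le_top
    intro z _
    have hz : z = t₀ := Subsingleton.elim _ _
    rw [hz]; exact hmem
  have hB := hasFibreWt_conj a B l l' g₀ hl' y (-m) (by rw [e]; exact hcov) hwt
  rw [e] at hB
  exact hB

/-- `μ(g₀·x, l) = μ(x, g₀⁻¹ l g₀)`. -/
theorem isMu_conj (x : 𝟙_ (Over (Spec (CommRingCat.of k))) ⟶ X)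
    (l l' : Red.Gm (Spec (CommRingCat.of k)) ⟶ G) [IsMonHom l] [IsMonHom l']
    (g₀ : 𝟙_ (Over (Spec (CommRingCat.of k))) ⟶ G)
    (hl' : l' = (toUnit _ ≫ g₀)⁻¹ * l * (toUnit _ ≫ g₀)) (m : ℤ) :
    HMNum.IsMu B l (lift g₀ x ≫ a.act) m ↔ HMNum.IsMu B l' x m := by
  constructor
  · intro h
    have hl : l = (toUnit _ ≫ g₀⁻¹)⁻¹ * l' * (toUnit _ ≫ g₀⁻¹) := by
      rw [hl', GrpObj.comp_inv]; group
    have h2 := isMu_conj_dir k a B (lift g₀ x ≫ a.act) l' l g₀⁻¹ hl m h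
    rw [sm_inv_sm a] at h2
    exact h2
  · exact isMu_conj_dir k a B x l l' g₀ hl' m

/-- The set of normalised values is the same at `g·x` and at `x`. -/
theorem normalised (nrm : (Red.Gm (Spec (CommRingCat.of k)) ⟶ G) → ℝ)
    (hnrm : ∀ (l : Red.Gm (Spec (CommRingCat.of k)) ⟶ G) [IsMonHom l]
      (g : 𝟙_ (Over (Spec (CommRingCat.of k))) ⟶ G),
      nrm ((toUnit _ ≫ g) * l * (toUnit _ ≫ g)⁻¹) = nrm l)
    (x : 𝟙_ (Over (Spec (CommRingCat.of k))) ⟶ X)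
    (g : 𝟙_ (Over (Spec (CommRingCat.of k))) ⟶ G) (q : ℝ) :
    (∃ (l : Red.Gm (Spec (CommRingCat.of k)) ⟶ G) (_ : IsMonHom l) (m : ℤ),
        l ≠ 1 ∧ HMNum.IsMu B l (lift g x ≫ a.act) m ∧ q = (m : ℝ) / nrm l) ↔
      ∃ (l : Red.Gm (Spec (CommRingCat.of k)) ⟶ G) (_ : IsMonHom l) (m : ℤ),
        l ≠ 1 ∧ HMNum.IsMu B l x m ∧ q = (m : ℝ) / nrm l := by
  constructor
  · rintro ⟨l, hl, m, hne, hmu, hq⟩
    haveI := hl
    obtain ⟨l', hl'⟩ : ∃ l' : Red.Gm (Spec (CommRingCat.of k)) ⟶ G,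
        l' = (toUnit _ ≫ g)⁻¹ * l * (toUnit _ ≫ g) := ⟨_, rfl⟩
    haveI : IsMonHom l' := by rw [hl']; exact isMonHom_conj l g
    have hback : (toUnit _ ≫ g) * l' * (toUnit _ ≫ g)⁻¹ = l := by rw [hl']; group
    have hn : nrm l = nrm l' := by
      have := hnrm l' g
      rw [hback] at this
      exact this
    refine ⟨l', inferInstance, m, ?_, (isMu_conj k a B x l l' g hl' m).1 hmu, ?_⟩
    · intro h1
      apply hne
      rw [← hback, h1]; group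
    · rw [← hn]; exact hq
  · rintro ⟨l, hl, m, hne, hmu, hq⟩
    haveI := hl
    obtain ⟨l'', hl''⟩ : ∃ l'' : Red.Gm (Spec (CommRingCat.of k)) ⟶ G,
        l'' = (toUnit _ ≫ g) * l * (toUnit _ ≫ g)⁻¹ := ⟨_, rfl⟩
    haveI : IsMonHom l'' := by
      have h0 := isMonHom_conj l g⁻¹
      rw [GrpObj.comp_inv, _root_.inv_inv] at h0
      rw [hl'']; exact h0
    have hl : l = (toUnit _ ≫ g)⁻¹ * l'' * (toUnit _ ≫ g) := by rw [hl'']; group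
    have hn : nrm l'' = nrm l := by rw [hl'']; exact hnrm l g
    refine ⟨l'', inferInstance, m, ?_, (isMu_conj k a B x l'' l g hl m).2 hmu, ?_⟩
    · intro h1
      apply hne
      rw [hl, h1]; group
    · rw [hn]; exact hq

end Main

end Groth.Agent.Helper2.MuConj
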