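import Mathlib
import Groth.Prelude.Def_HMNum
import Groth.Prelude.Def_GLinSh
import Groth.Agent.Lib.Helper2.Magnet.AMonDom
import Groth.Agent.Lib.Helper2.Magnet.Dom
import Groth.Agent.Lib.Helper2.Magnet.FaceHomotopy

/-!
# The numerical function at a point and at its limit point (helper2)

Limits under a one-parameter subgroup are unique (for a separated target), the limit point is
fixed, and a fixed point is its own limit.
-/

set_option backward.isDefEq.respectTransparency.types false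
set_option autoImplicit false
set_option synthInstance.maxHeartbeats 400000
set_option maxHeartbeats 4000000
set_option linter.style.haveILetI false
set_option linter.unusedSectionVars false
set_option linter.unusedVariables false
set_option linter.unusedSimpArgs false
set_option linter.unnecessarySimpa false

open CategoryTheory CategoryTheory.Limits MonoidalCategory CartesianMonoidalCategory MonObj GrpObj
  AlgebraicGeometry Opposite
open Groth.Agent.Helper2.MagnetPts

namespace Groth.Agent.Helper2.MuLimit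
universe u

variable {S : Scheme.{u}}

theorem lift_subAct {T' : Over S} (g : T' ⟶ Magnet.AMonS S ℤ) (b : T' ⟶ HMNum.A1 S) :
    lift g b ≫ (Magnet.subAct S ℤ HMNum.plus).act = (g ≫ HMNum.incl S) * b := by
  unfold Magnet.subAct
  rw [Magnet.MonAct.lift_restrict_act, Magnet.MonAct.lift_regular_act]

/-- The zero section of the affine line is absorbing. -/
theorem mul_origin {T' : Over S} (p : T' ⟶ HMNum.A1 S) :
    p * (toUnit T' ≫ HMNum.origin S) = toUnit T' ≫ HMNum.origin S := by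
  apply charOf_injective S ↥HMNum.plus
  refine MonoidHom.ext fun n => ?_
  rw [charOf_mul]
  obtain ⟨n₀, hn₀⟩ : ∃ n₀ : ↥HMNum.plus, Multiplicative.ofAdd n₀ = n :=
    ⟨Multiplicative.toAdd n, rfl⟩
  rw [← hn₀]
  have ho : toUnit T' ≫ HMNum.origin S =
      (1 : T' ⟶ Magnet.AMonS S ↥(⊥ : AddSubmonoid ℤ)) ≫
        Magnet.AMonS.faceMap S HMNum.isFace_bot := by
    rw [HMNum.origin, Hom.one_def, Category.assoc]
  rw [ho]
  by_cases h : ((n₀ : ℤ)) ∈ (⊥ : AddSubmonoid ℤ)
  · rw [Groth.Agent.Helper2.FaceHomotopy.charOf_faceMap_of_mem S HMNum.isFace_bot _ n₀ h,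
      Groth.Agent.Helper2.MagnetGrading.charOf_one]
    have hn : n₀ = 0 := Subtype.ext ((AddSubmonoid.mem_bot).1 h)
    rw [hn, ofAdd_zero, map_one, _root_.mul_one]
  · rw [Groth.Agent.Helper2.FaceHomotopy.charOf_faceMap_of_not_mem S HMNum.isFace_bot _ n₀ h,
      mul_zero]

section Act
variable {G X : Over S} [GrpObj G] (a : AlgGrp.Action G X) (l : Red.Gm S ⟶ G) [IsMonHom l]

/-- A limit point is fixed by the one-parameter subgroup. -/
theorem isFixedBy_of_isLimitPt {T : Over S} (x y : T ⟶ X) (h : HMNum.IsLimitPt a l x y) :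
    HMNum.IsFixedBy a l y := by
  unfold HMNum.IsLimitPt at h
  obtain ⟨φ, -, hφy⟩ := h
  have hφeq := (Magnet.MonAct.mem_eqvHom_iff φ.1).1 φ.2
  have hy : lift (toUnit T ≫ HMNum.origin S) (𝟙 T) ≫ φ.1 = y :=
    (HMNum.limitPt_eq φ).symm.trans hφy
  intro T' t g
  have hty : t ≫ y = lift (toUnit T' ≫ HMNum.origin S) t ≫ φ.1 := by
    rw [← hy, comp_lift_assoc, comp_toUnit_assoc, Category.comp_id]
  have e := hφeq T' g (toUnit T' ≫ HMNum.origin S) t
  rw [lift_subAct, mul_origin, ← hty, Magnet.MonAct.lift_restrict_act,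
    Magnet.MonAct.ofAction_act] at e
  exact e.symm

/-- A fixed point is its own limit. -/
theorem isLimitPt_self {T : Over S} (y : T ⟶ X) (hy : HMNum.IsFixedBy a l y) :
    HMNum.IsLimitPt a l y y := by
  unfold HMNum.IsLimitPt
  have hmem : Magnet.MonAct.IsEquivariant
      ((Magnet.subAct S ℤ HMNum.plus).prod (Magnet.MonAct.trivial (Magnet.AMonS S ℤ) T))
      (HMNum.gmAct a l) (snd (HMNum.A1 S) T ≫ y) := by
    rw [Magnet.MonAct.mem_eqvHom_iff]
    intro T' g b t
    rw [lift_snd_assoc, lift_snd_assoc, Magnet.MonAct.lift_restrict_act,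
      Magnet.MonAct.ofAction_act]
    exact (hy T' t g).symm
  refine Exists.intro (Subtype.mk _ hmem) ⟨?_, ?_⟩
  · show lift (toUnit T ≫ η[Magnet.AMonS S ↥HMNum.plus]) (𝟙 T) ≫
      (snd (HMNum.A1 S) T ≫ y) = _
    rw [lift_snd_assoc, Category.id_comp]
  · rw [HMNum.limitPt_eq]
    show lift (toUnit T ≫ HMNum.origin S) (𝟙 T) ≫ (snd (HMNum.A1 S) T ≫ y) = _
    rw [lift_snd_assoc, Category.id_comp]

/-- Two points of the attractor with the same value on the unit section agree (separated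
target). -/
theorem attr_ext [IsSeparated X.hom] {T : Over S}
    (φ₁ φ₂ : (HMNum.attrPlus a l).obj (op T))
    (h : (Magnet.attrToX (HMNum.gmAct a l) HMNum.plus).app (op T) φ₁ =
      (Magnet.attrToX (HMNum.gmAct a l) HMNum.plus).app (op T) φ₂) :
    φ₁.1 = φ₂.1 := by
  have h1 := (Magnet.MonAct.mem_eqvHom_iff φ₁.1).1 φ₁.2
  have h2 := (Magnet.MonAct.mem_eqvHom_iff φ₂.1).1 φ₂.2
  have hx : lift (toUnit T ≫ η[Magnet.AMonS S ↥HMNum.plus]) (𝟙 T) ≫ φ₁.1 =
      lift (toUnit T ≫ η[Magnet.AMonS S ↥HMNum.plus]) (𝟙 T) ≫ φ₂.1 := h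
  haveI : IsSchemeTheoreticallyDominant (HMNum.incl S ▷ T).left :=
    Groth.Agent.Helper2.MagnetDom.isSchemeTheoreticallyDominant_whiskerRight S
      HMNum.plus.subtype (fun _ _ hab => Subtype.ext hab) T
  refine Groth.Agent.Helper2.MagnetDom.eq_of_comp_eq_of_dominant (HMNum.incl S ▷ T) φ₁.1 φ₂.1 ?_
  apply Magnet.hom_ext_lift₂
  intro T' g t
  have key : ∀ (φ : HMNum.A1 S ⊗ T ⟶ X)
      (hφ : ∀ (T' : Over S) (g : T' ⟶ Magnet.AMonS S ℤ) (b : T' ⟶ HMNum.A1 S) (t : T' ⟶ T),
        lift (lift g b ≫ (Magnet.subAct S ℤ HMNum.plus).act) t ≫ φ =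
          lift g (lift b t ≫ φ) ≫ (HMNum.gmAct a l).act),
      lift g t ≫ (HMNum.incl S ▷ T) ≫ φ =
        lift g (t ≫ lift (toUnit T ≫ η[Magnet.AMonS S ↥HMNum.plus]) (𝟙 T) ≫ φ) ≫
          (HMNum.gmAct a l).act := by
    intro φ hφ
    have e := hφ T' g (toUnit T' ≫ η[Magnet.AMonS S ↥HMNum.plus]) t
    have e0 : (g ≫ HMNum.incl S) * (toUnit T' ≫ η[Magnet.AMonS S ↥HMNum.plus]) =
        g ≫ HMNum.incl S := by
      rw [← Hom.one_def, _root_.mul_one]
    rw [lift_subAct, e0] at e
    rw [lift_whiskerRight_assoc, e, comp_lift_assoc, comp_toUnit_assoc, Category.comp_id]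
  rw [key φ₁.1 h1, key φ₂.1 h2, hx]

/-- Limits are unique for a separated target. -/
theorem isLimitPt_unique [IsSeparated X.hom] {T : Over S} (x y y' : T ⟶ X)
    (h : HMNum.IsLimitPt a l x y) (h' : HMNum.IsLimitPt a l x y') : y = y' := by
  unfold HMNum.IsLimitPt at h h'
  obtain ⟨φ, hφx, hφy⟩ := h
  obtain ⟨φ', hφx', hφy'⟩ := h'
  have e := attr_ext a l φ φ' (hφx.trans hφx'.symm)
  rw [← hφy, ← hφy', HMNum.limitPt_eq, HMNum.limitPt_eq, e]

/-- The numerical function takes the same values at a point and at its limit point. -/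
theorem isMu_limit [IsSeparated X.hom] (B : GLinSh.LinBun G a) {T : Over S} (x y : T ⟶ X)
    (hy : HMNum.IsLimitPt a l x y) (m : ℤ) :
    HMNum.IsMu B l x m ↔ HMNum.IsMu B l y m := by
  unfold HMNum.IsMu HMNum.IsMuOf
  have hfix := isFixedBy_of_isLimitPt a l x y hy
  have hyy := isLimitPt_self a l y hfix
  constructor
  · rintro ⟨y', hlim, hwt⟩
    have e : y' = y := isLimitPt_unique a l x y' y hlim hy
    rw [e] at hwt
    exact ⟨y, hyy, hwt⟩
  · rintro ⟨y'', hlim, hwt⟩
    have e : y'' = y := isLimitPt_unique a l y y'' y hlim hyy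
    rw [e] at hwt
    exact ⟨y, hy, hwt⟩

end Act

end Groth.Agent.Helper2.MuLimit
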