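import Mathlib
import Groth.Agent.Lib.Helper2.Sch.MuConj
import Groth.Agent.Lib.Helper2.Sch.MuLimit

/-!
# The numerical function is unchanged by conjugating the one-parameter subgroup with an element of
its parabolic subgroup (helper2)
-/

set_option backward.isDefEq.respectTransparency.types false
set_option autoImplicit false
set_option synthInstance.maxHeartbeats 400000
set_option maxHeartbeats 4000000
set_option linter.style.haveILetI false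
set_option linter.unusedSectionVars false
set_option linter.unusedVariables false
set_option linter.unusedSimpArgs false
set_option linter.unnecessarySimpa false

open CategoryTheory CategoryTheory.Limits MonoidalCategory CartesianMonoidalCategory MonObj GrpObj
  AlgebraicGeometry Opposite
open Groth.Agent.Helper2.MuConj Groth.Agent.Helper2.MuLimit

namespace Groth.Agent.Helper2.MuParab
universe u

section Gen
variable {S : Scheme.{u}} {G X : Over S} [GrpObj G]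

/-- If `u ↦ l(u) g₀ l(u)⁻¹` extends to `f` on the affine line then `f(u·b) = l(u) f(b) l(u)⁻¹`. -/
theorem parab_equivariant [IsSeparated G.hom] (l : Red.Gm S ⟶ G) [IsMonHom l]
    (g₀ : 𝟙_ (Over S) ⟶ G) (f : HMNum.A1 S ⟶ G)
    (hf : HMNum.incl S ≫ f = l * (toUnit _ ≫ g₀) * l⁻¹)
    {T' : Over S} (g : T' ⟶ Red.Gm S) (b : T' ⟶ HMNum.A1 S) :
    ((g ≫ HMNum.incl S) * b) ≫ f = (g ≫ l) * (b ≫ f) * (g ≫ l)⁻¹ := by
  obtain ⟨Φ₁, hΦ₁⟩ : ∃ Φ₁ : HMNum.A1 S ⊗ Red.Gm S ⟶ G,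
      Φ₁ = ((snd _ _ ≫ HMNum.incl S) * fst _ _) ≫ f := ⟨_, rfl⟩
  obtain ⟨Φ₂, hΦ₂⟩ : ∃ Φ₂ : HMNum.A1 S ⊗ Red.Gm S ⟶ G,
      Φ₂ = (snd _ _ ≫ l) * (fst _ _ ≫ f) * (snd _ _ ≫ l)⁻¹ := ⟨_, rfl⟩
  haveI : IsSchemeTheoreticallyDominant (HMNum.incl S ▷ Red.Gm S).left :=
    Groth.Agent.Helper2.MagnetDom.isSchemeTheoreticallyDominant_whiskerRight S
      HMNum.plus.subtype (fun _ _ hab => Subtype.ext hab) (Red.Gm S)
  have hΦ : Φ₁ = Φ₂ := by
    refine Groth.Agent.Helper2.MagnetDom.eq_of_comp_eq_of_dominant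
      (HMNum.incl S ▷ Red.Gm S) Φ₁ Φ₂ ?_
    apply Magnet.hom_ext_lift₂
    intro T'' h g'
    have L : lift (h ≫ HMNum.incl S) g' ≫ Φ₁ =
        ((g' ≫ l) * (h ≫ l)) * (toUnit T'' ≫ g₀) * ((g' ≫ l) * (h ≫ l))⁻¹ := by
      rw [hΦ₁, ← Category.assoc, MonObj.comp_mul, lift_snd_assoc, lift_fst, ← MonObj.mul_comp,
        Category.assoc, hf, MonObj.comp_mul, MonObj.comp_mul, GrpObj.comp_inv, MonObj.mul_comp,
        comp_toUnit_assoc]
    have R : lift (h ≫ HMNum.incl S) g' ≫ Φ₂ =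
        (g' ≫ l) * ((h ≫ l) * (toUnit T'' ≫ g₀) * (h ≫ l)⁻¹) * (g' ≫ l)⁻¹ := by
      rw [hΦ₂, MonObj.comp_mul, MonObj.comp_mul, GrpObj.comp_inv, lift_snd_assoc,
        lift_fst_assoc, Category.assoc, hf, MonObj.comp_mul, MonObj.comp_mul, GrpObj.comp_inv,
        comp_toUnit_assoc]
    rw [lift_whiskerRight_assoc, lift_whiskerRight_assoc, L, R]
    group
  have E₁ : lift b g ≫ Φ₁ = ((g ≫ HMNum.incl S) * b) ≫ f := by
    rw [hΦ₁, ← Category.assoc, MonObj.comp_mul, lift_snd_assoc, lift_fst]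
  have E₂ : lift b g ≫ Φ₂ = (g ≫ l) * (b ≫ f) * (g ≫ l)⁻¹ := by
    rw [hΦ₂, MonObj.comp_mul, MonObj.comp_mul, GrpObj.comp_inv, lift_snd_assoc, lift_fst_assoc]
  rw [← E₁, ← E₂, hΦ]

/-- The value of `f` at the origin commutes with the one-parameter subgroup. -/
theorem parab_commute [IsSeparated G.hom] (l : Red.Gm S ⟶ G) [IsMonHom l]
    (g₀ : 𝟙_ (Over S) ⟶ G) (f : HMNum.A1 S ⟶ G)
    (hf : HMNum.incl S ≫ f = l * (toUnit _ ≫ g₀) * l⁻¹) :
    l = (toUnit _ ≫ (HMNum.origin S ≫ f))⁻¹ * l * (toUnit _ ≫ (HMNum.origin S ≫ f)) := by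
  have h := parab_equivariant l g₀ f hf (𝟙 (Red.Gm S)) (toUnit _ ≫ HMNum.origin S)
  rw [mul_origin, Category.id_comp, Category.assoc] at h
  have hc : l * (toUnit (Red.Gm S) ≫ HMNum.origin S ≫ f) =
      (toUnit (Red.Gm S) ≫ HMNum.origin S ≫ f) * l := mul_inv_eq_iff_eq_mul.1 h.symm
  rw [_root_.mul_assoc, hc, inv_mul_cancel_left]

theorem eta_comp [IsSeparated G.hom] (l : Red.Gm S ⟶ G) [IsMonHom l]
    (g₀ : 𝟙_ (Over S) ⟶ G) (f : HMNum.A1 S ⟶ G)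
    (hf : HMNum.incl S ≫ f = l * (toUnit _ ≫ g₀) * l⁻¹) :
    η[HMNum.A1 S] ≫ f = g₀ := by
  have h1 : η[Red.Gm S] ≫ HMNum.incl S = η[HMNum.A1 S] := IsMonHom.one_hom (f := HMNum.incl S)
  rw [← h1, Category.assoc, hf, MonObj.comp_mul, MonObj.comp_mul, GrpObj.comp_inv,
    IsMonHom.one_hom (f := l), MonObj.one_eq_one (M := G), inv_one, _root_.mul_one,
    _root_.one_mul, comp_toUnit_assoc, toUnit_unit, Category.id_comp]

variable (a : AlgGrp.Action G X)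

/-- Limits: translating the point by an element of the parabolic subgroup. -/
theorem isLimitPt_parab [IsSeparated G.hom] (l : Red.Gm S ⟶ G) [IsMonHom l]
    (g₀ : 𝟙_ (Over S) ⟶ G) (f : HMNum.A1 S ⟶ G)
    (hf : HMNum.incl S ≫ f = l * (toUnit _ ≫ g₀) * l⁻¹)
    {T : Over S} (x y : T ⟶ X) (h : HMNum.IsLimitPt a l x y) :
    HMNum.IsLimitPt a l (lift (toUnit T ≫ g₀) x ≫ a.act)
      (lift (toUnit T ≫ HMNum.origin S ≫ f) y ≫ a.act) := by
  unfold HMNum.IsLimitPt at h ⊢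
  obtain ⟨φ, hφx, hφy⟩ := h
  have hφeq := (Magnet.MonAct.mem_eqvHom_iff φ.1).1 φ.2
  have hx' : lift (toUnit T ≫ η[Magnet.AMonS S ↥HMNum.plus]) (𝟙 T) ≫ φ.1 = x := hφx
  have hy' : lift (toUnit T ≫ HMNum.origin S) (𝟙 T) ≫ φ.1 = y :=
    (HMNum.limitPt_eq φ).symm.trans hφy
  have hmem : Magnet.MonAct.IsEquivariant
      ((Magnet.subAct S ℤ HMNum.plus).prod (Magnet.MonAct.trivial (Magnet.AMonS S ℤ) T))
      (HMNum.gmAct a l) (lift (fst (HMNum.A1 S) T ≫ f) φ.1 ≫ a.act) := by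
    rw [Magnet.MonAct.mem_eqvHom_iff]
    intro T' g b t
    have e1 := hφeq T' g b t
    rw [Magnet.MonAct.lift_restrict_act, Magnet.MonAct.ofAction_act] at e1
    have hp := parab_equivariant l g₀ f hf g b
    refine Eq.trans (b := lift ((((g ≫ HMNum.incl S) * b) ≫ f) * (g ≫ l))
      (lift b t ≫ φ.1) ≫ a.act) ?_ ?_
    · rw [comp_lift_assoc, lift_fst_assoc, e1, lift_subAct, sm_mul a]
    · rw [hp, inv_mul_cancel_right, sm_mul a, Magnet.MonAct.lift_restrict_act,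
        Magnet.MonAct.ofAction_act, comp_lift_assoc, lift_fst_assoc]
  refine Exists.intro (Subtype.mk _ hmem) ⟨?_, ?_⟩
  · show lift (toUnit T ≫ η[Magnet.AMonS S ↥HMNum.plus]) (𝟙 T) ≫
      (lift (fst (HMNum.A1 S) T ≫ f) φ.1 ≫ a.act) = _
    rw [comp_lift_assoc, lift_fst_assoc, hx', Category.assoc, eta_comp l g₀ f hf]
  · rw [HMNum.limitPt_eq]
    show lift (toUnit T ≫ HMNum.origin S) (𝟙 T) ≫
      (lift (fst (HMNum.A1 S) T ≫ f) φ.1 ≫ a.act) = _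
    rw [comp_lift_assoc, lift_fst_assoc, hy', Category.assoc]

end Gen

section Main
variable (k : Type u) [Field k] {G X : Over (Spec (CommRingCat.of k))} [GrpObj G]
  (a : AlgGrp.Action G X) (B : GLinSh.LinBun G a)

theorem exists_chart_pt (z : 𝟙_ (Over (Spec (CommRingCat.of k))) ⟶ X) :
    ∃ (U' : X.left.Opens) (c₂ : Γ(B.V.left, B.π.left ⁻¹ᵁ U')),
      c₂ ∈ B.atlas.chart U' ∧ z.left ⁻¹ᵁ U' = ⊤ := by
  obtain ⟨t₀⟩ : Nonempty ↥(𝟙_ (Over (Spec (CommRingCat.of k)))).left :=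
    ⟨(IsLocalRing.closedPoint k : PrimeSpectrum k)⟩
  haveI : Subsingleton ↥(𝟙_ (Over (Spec (CommRingCat.of k)))).left :=
    inferInstanceAs (Subsingleton (PrimeSpectrum k))
  obtain ⟨U', hmem, c₂, hc₂⟩ := B.atlas.cover (z.left.base t₀)
  refine ⟨U', c₂, hc₂, ?_⟩
  apply le_antisymm le_top
  intro w _
  have hw : w = t₀ := Subsingleton.elim _ _
  rw [hw]; exact hmem

theorem isMu_parab_dir [IsSeparated G.hom] (x : 𝟙_ (Over (Spec (CommRingCat.of k))) ⟶ X)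
    (l : Red.Gm (Spec (CommRingCat.of k)) ⟶ G) [IsMonHom l]
    (g₀ : 𝟙_ (Over (Spec (CommRingCat.of k))) ⟶ G)
    (f : HMNum.A1 (Spec (CommRingCat.of k)) ⟶ G)
    (hf : HMNum.incl (Spec (CommRingCat.of k)) ≫ f = l * (toUnit _ ≫ g₀) * l⁻¹) (m : ℤ)
    (h : HMNum.IsMu B l x m) : HMNum.IsMu B l (lift g₀ x ≫ a.act) m := by
  unfold HMNum.IsMu HMNum.IsMuOf at h ⊢
  obtain ⟨y, hlim, hwt⟩ := h
  have e : toUnit (𝟙_ (Over (Spec (CommRingCat.of k)))) ≫ g₀ = g₀ := by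
    rw [toUnit_unit, Category.id_comp]
  have e' : toUnit (𝟙_ (Over (Spec (CommRingCat.of k)))) ≫
      HMNum.origin (Spec (CommRingCat.of k)) ≫ f = HMNum.origin (Spec (CommRingCat.of k)) ≫ f := by
    rw [toUnit_unit, Category.id_comp]
  have hA := isLimitPt_parab a l g₀ f hf x y hlim
  rw [e, e'] at hA
  refine ⟨lift (HMNum.origin (Spec (CommRingCat.of k)) ≫ f) y ≫ a.act, hA, ?_⟩
  have hcomm := parab_commute l g₀ f hf
  have e'' : toUnit (𝟙_ (Over (Spec (CommRingCat.of k)))) ≫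
      (HMNum.origin (Spec (CommRingCat.of k)) ≫ f) = HMNum.origin (Spec (CommRingCat.of k)) ≫ f := by
    rw [toUnit_unit, Category.id_comp]
  have hB := hasFibreWt_conj a B l l (HMNum.origin (Spec (CommRingCat.of k)) ≫ f) hcomm y (-m)
    (by rw [e'']; exact exists_chart_pt k a B _) hwt
  rw [e''] at hB
  exact hB

/-- `μ(x, l) = μ(x, g₀⁻¹ l g₀)` for `g₀` in the parabolic subgroup of `l`. -/
theorem isMu_parab [IsSeparated G.hom] (x : 𝟙_ (Over (Spec (CommRingCat.of k))) ⟶ X)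
    (l : Red.Gm (Spec (CommRingCat.of k)) ⟶ G) [IsMonHom l]
    (g₀ : 𝟙_ (Over (Spec (CommRingCat.of k))) ⟶ G)
    (hg₀ : ∃ f : HMNum.A1 (Spec (CommRingCat.of k)) ⟶ G,
      HMNum.incl (Spec (CommRingCat.of k)) ≫ f = l * (toUnit _ ≫ g₀) * l⁻¹)
    (l' : Red.Gm (Spec (CommRingCat.of k)) ⟶ G) [IsMonHom l']
    (hl' : l' = (toUnit _ ≫ g₀)⁻¹ * l * (toUnit _ ≫ g₀)) (m : ℤ) :
    HMNum.IsMu B l x m ↔ HMNum.IsMu B l' x m := by
  obtain ⟨f, hf⟩ := hg₀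
  rw [← isMu_conj k a B x l l' g₀ hl' m]
  constructor
  · exact isMu_parab_dir k a B x l g₀ f hf m
  · intro h
    have hf' : HMNum.incl (Spec (CommRingCat.of k)) ≫ f⁻¹ = l * (toUnit _ ≫ g₀⁻¹) * l⁻¹ := by
      simp only [GrpObj.comp_inv, hf]
      group
    have h2 := isMu_parab_dir k a B (lift g₀ x ≫ a.act) l g₀⁻¹ f⁻¹ hf' m h
    rw [sm_inv_sm a] at h2
    exact h2

end Main

end Groth.Agent.Helper2.MuParab
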