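import Mathlib
import Groth.Prelude.Def_W4c1extbt15Mult
import Groth.Prelude.Def_CGrpSh
import Groth.Agent.Lib.Helper2.Sch.CGrpShExact
import Groth.Agent.Lib.Helper2.Sch.QuotEffK

/-!
# Multilinear morphisms of commutative group schemes and fppf epimorphisms (helper2)
-/

set_option autoImplicit false
set_option linter.unusedSectionVars false
universe v u
open CategoryTheory CategoryTheory.Limits AlgebraicGeometry Opposite MonObj MonoidalCategory
  CartesianMonoidalCategory

namespace Groth.Agent.Helper2.MultSchLib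

section General

variable {C : Type u} [Category.{v} C] [CartesianMonoidalCategory C] [BraidedCategory C]

theorem comp_tuple {M T T' : C} (t : T' ⟶ T) : ∀ {n : ℕ} (x : Fin n → (T ⟶ M)),
    t ≫ MultSch.tuple x = MultSch.tuple (fun l => t ≫ x l)
  | 0, _ => toUnit_unique _ _
  | n + 1, x => by
    show t ≫ lift (x 0) (MultSch.tuple fun i => x i.succ) =
      lift (t ≫ x 0) (MultSch.tuple fun i => t ≫ x i.succ)
    rw [comp_lift, comp_tuple t]

theorem finset_inf_mem (J : GrothendieckTopology C) {X : C} {I : Type*} (s : Finset I)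
    (R : I → Sieve X) (h : ∀ l ∈ s, R l ∈ J X) : s.inf R ∈ J X := by
  classical
  induction s using Finset.induction_on with
  | empty => simpa using J.top_mem X
  | insert a s ha ih =>
    rw [Finset.inf_insert]
    exact J.intersection_covering (h a (by simp)) (ih fun l hl => h l (by simp [hl]))

theorem finset_inf_apply {X Y : C} {I : Type*} [Fintype I] (R : I → Sieve X) (f : Y ⟶ X)
    (hf : (Finset.univ.inf R) f) (l : I) : R l f :=
  (Finset.inf_le (Finset.mem_univ l) : Finset.univ.inf R ≤ R l) _ hf

end General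

section Sch

variable {S : Scheme.{u}} (K : Precoverage Scheme.{u}) [(QuotSh.J K S).Subcanonical]
variable {M M'' : Over S} [GrpObj M] [IsCommMonObj M] [GrpObj M''] [IsCommMonObj M'']

/-- Simultaneous local lifting of finitely many points along an epimorphism of sheaves. -/
theorem exists_sieve_lift_tuple (π : M ⟶ M'') [IsMonHom π] (hπ : Epi (CGrpSh.ptsMap K π))
    {T : Over S} {r : ℕ} (x : Fin r → (T ⟶ M'')) :
    ∃ Sv : Sieve T, Sv ∈ QuotSh.J K S T ∧
      ∀ ⦃T' : Over S⦄ (t : T' ⟶ T), Sv t → ∀ l, ∃ g : T' ⟶ M, g ≫ π = t ≫ x l := by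
  obtain ⟨Sv, hSv, hlift⟩ := Groth.Agent.Helper2.CGrpShExact.exists_sieve_of_epi_ptsMap K π hπ
  refine ⟨Finset.univ.inf (fun l => Sv.pullback (x l)),
    finset_inf_mem _ _ _ (fun l _ => (QuotSh.J K S).pullback_stable (x l) hSv), ?_⟩
  intro T' t ht l
  exact hlift _ (finset_inf_apply (fun l => Sv.pullback (x l)) t ht l)

end Sch

end Groth.Agent.Helper2.MultSchLib
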