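import Mathlib
import Groth.Prelude.Def_W4c1extbt15Mult
import Groth.Prelude.Def_CGrpSh
import Groth.Agent.Lib.Helper2.Sch.MultSchLib
import Groth.Agent.Lib.Helper2.Sch.AbShExact

/-!
# Descent of a morphism additive in one slot along an fppf epimorphism (helper2)
-/

set_option autoImplicit false
set_option linter.unusedSectionVars false
universe v u
open CategoryTheory CategoryTheory.Limits AlgebraicGeometry Opposite MonObj MonoidalCategory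
  CartesianMonoidalCategory

namespace Groth.Agent.Helper2.MultSchDesc

variable {S : Scheme.{u}} (K : Precoverage Scheme.{u}) [(QuotSh.J K S).Subcanonical]
variable {M' M M'' : Over S} [GrpObj M'] [IsCommMonObj M'] [GrpObj M] [IsCommMonObj M]
  [GrpObj M''] [IsCommMonObj M'']

/-- the sieve of points of `M''` which lift to `M`. -/
def liftSieve (π : M ⟶ M'') : Sieve M'' where
  arrows T t := ∃ g : T ⟶ M, g ≫ π = t
  downward_closed := by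
    rintro T T' t ⟨g, rfl⟩ s
    exact ⟨s ≫ g, Category.assoc _ _ _⟩

theorem liftSieve_mem (π : M ⟶ M'') [IsMonHom π] (hπ : Epi (CGrpSh.ptsMap K π)) :
    liftSieve π ∈ QuotSh.J K S M'' := by
  obtain ⟨Sv, hSv, hlift⟩ := Groth.Agent.Helper2.CGrpShExact.exists_sieve_of_epi_ptsMap K π hπ
  exact (QuotSh.J K S).superset_covering (fun T t ht => hlift t ht) hSv

/-- Exactness at the middle term gives local lifts of points killed by `π`. -/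
theorem exists_sieve_of_exact (j : M' ⟶ M) (π : M ⟶ M'') [IsMonHom j] [IsMonHom π]
    (w : j ≫ π = 1) (hex : (CGrpSh.seq K j π w).Exact) {T : Over S} (d : T ⟶ M)
    (hd : d ≫ π = 1) :
    ∃ Sv : Sieve T, Sv ∈ QuotSh.J K S T ∧
      ∀ ⦃T' : Over S⦄ (t : T' ⟶ T), Sv t → ∃ y : T' ⟶ M', y ≫ j = t ≫ d := by
  obtain ⟨Sv, hSv, h⟩ := Groth.Agent.Helper2.AbShExact.exists_sieve_of_exact K
    (CGrpSh.seq K j π w) hex (op T)
    (ULift.up (Additive.ofMul d) : ULift.{u+1} (Additive (T ⟶ M))) (by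
      apply ULift.ext
      show Additive.ofMul (d ≫ π) = 0
      rw [hd]
      rfl)
  refine ⟨Sv, hSv, ?_⟩
  intro T' t ht
  obtain ⟨y, hy⟩ := h t ht
  refine ⟨(y : ULift.{u+1} (Additive (T' ⟶ M'))).down.toMul, ?_⟩
  have h3 := congrArg (fun z : ULift.{u+1} (Additive (T' ⟶ M)) => z.down.toMul) hy
  exact h3

section Desc

variable {P Q N : Over S} [GrpObj N] [IsCommMonObj N]

/-- the hypotheses on `ψ` used in the descent. -/
structure Hyp (j : M' ⟶ M) (π : M ⟶ M'') [IsMonHom j] [IsMonHom π] (ψ : P ⊗ (M ⊗ Q) ⟶ N) :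
    Prop where
  w : j ≫ π = 1
  hex : (CGrpSh.seq K j π w).Exact
  hepi : Epi (CGrpSh.ptsMap K π)
  hadd : ∀ (T : Over S) (p : T ⟶ P) (q : T ⟶ Q) (y z : T ⟶ M),
      lift p (lift (y * z) q) ≫ ψ = (lift p (lift y q) ≫ ψ) * (lift p (lift z q) ≫ ψ)
  hvan : ∀ (T : Over S) (p : T ⟶ P) (q : T ⟶ Q) (y' : T ⟶ M'), lift p (lift (y' ≫ j) q) ≫ ψ = 1

variable {K} {j : M' ⟶ M} {π : M ⟶ M''} [IsMonHom j] [IsMonHom π] {ψ : P ⊗ (M ⊗ Q) ⟶ N}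

theorem Hyp.indep (H : Hyp K j π ψ) {T : Over S} (p : T ⟶ P) (q : T ⟶ Q) (g g' : T ⟶ M)
    (h : g ≫ π = g' ≫ π) : lift p (lift g q) ≫ ψ = lift p (lift g' q) ≫ ψ := by
  have hd : (g * g'⁻¹) ≫ π = 1 := by
    rw [MonObj.mul_comp, GrpObj.inv_comp, h, mul_inv_cancel]
  obtain ⟨Sv, hSv, hl⟩ := exists_sieve_of_exact K j π H.w H.hex (g * g'⁻¹) hd
  apply Groth.Agent.Helper2.QuotEffK.hom_ext_sieve K Sv hSv
  intro T' t ht
  obtain ⟨y, hy⟩ := hl t ht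
  have h1 : t ≫ g = (y ≫ j) * (t ≫ g') := by
    rw [hy, MonObj.comp_mul, GrpObj.comp_inv, inv_mul_cancel_right]
  rw [← Category.assoc, ← Category.assoc, comp_lift, comp_lift, comp_lift, comp_lift, h1,
    H.hadd, H.hvan, _root_.one_mul]

theorem Hyp.exists_glue (H : Hyp K j π ψ) {T : Over S} (p : T ⟶ P) (y : T ⟶ M'') (q : T ⟶ Q) :
    ∃ r : T ⟶ N, ∀ ⦃T' : Over S⦄ (t : T' ⟶ T) (g : T' ⟶ M), g ≫ π = t ≫ y →
      t ≫ r = lift (t ≫ p) (lift g (t ≫ q)) ≫ ψ := by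
  have hcov : (liftSieve π).pullback y ∈ QuotSh.J K S T :=
    (QuotSh.J K S).pullback_stable y (liftSieve_mem K π H.hepi)
  have hch : ∀ ⦃T' : Over S⦄ (t : T' ⟶ T), ((liftSieve π).pullback y) t →
      ∃ g : T' ⟶ M, g ≫ π = t ≫ y := fun T' t ht => ht
  choose g hg using hch
  obtain ⟨r, hr⟩ := Groth.Agent.Helper2.QuotEffK.exists_glue_sieve K ((liftSieve π).pullback y)
    hcov (fun T' t ht => lift (t ≫ p) (lift (g t ht) (t ≫ q)) ≫ ψ) (by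
      intro T' T'' t s ht
      rw [← Category.assoc, comp_lift, comp_lift]
      simp only [Category.assoc]
      apply H.indep
      rw [Category.assoc, hg, hg, Category.assoc])
  refine ⟨r, ?_⟩
  intro T' t g' hg'
  have ht : ((liftSieve π).pullback y) t := ⟨g', hg'⟩
  rw [hr t ht]
  apply H.indep
  rw [hg, hg']

/-- the descended function on points. -/
noncomputable def Hyp.Ψ (H : Hyp K j π ψ) {T : Over S} (p : T ⟶ P) (y : T ⟶ M'') (q : T ⟶ Q) :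
    T ⟶ N := (H.exists_glue p y q).choose

theorem Hyp.Ψ_spec (H : Hyp K j π ψ) {T : Over S} (p : T ⟶ P) (y : T ⟶ M'') (q : T ⟶ Q)
    ⦃T' : Over S⦄ (t : T' ⟶ T) (g : T' ⟶ M) (hg : g ≫ π = t ≫ y) :
    t ≫ H.Ψ p y q = lift (t ≫ p) (lift g (t ≫ q)) ≫ ψ :=
  (H.exists_glue p y q).choose_spec t g hg

theorem Hyp.Ψ_ext (H : Hyp K j π ψ) {T : Over S} (y : T ⟶ M'') (a b : T ⟶ N)
    (hab : ∀ ⦃T' : Over S⦄ (t : T' ⟶ T) (g : T' ⟶ M), g ≫ π = t ≫ y → t ≫ a = t ≫ b) :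
    a = b := by
  have hcov : (liftSieve π).pullback y ∈ QuotSh.J K S T :=
    (QuotSh.J K S).pullback_stable y (liftSieve_mem K π H.hepi)
  apply Groth.Agent.Helper2.QuotEffK.hom_ext_sieve K _ hcov
  rintro T' t ⟨g, hg⟩
  exact hab t g hg

theorem Hyp.Ψ_comp (H : Hyp K j π ψ) {T T₁ : Over S} (s : T₁ ⟶ T) (p : T ⟶ P) (y : T ⟶ M'')
    (q : T ⟶ Q) : s ≫ H.Ψ p y q = H.Ψ (s ≫ p) (s ≫ y) (s ≫ q) := by
  apply H.Ψ_ext (s ≫ y)
  intro T' t g hg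
  rw [H.Ψ_spec (s ≫ p) (s ≫ y) (s ≫ q) t g hg, ← Category.assoc,
    H.Ψ_spec p y q (t ≫ s) g (by rw [hg, Category.assoc])]
  simp only [Category.assoc]

theorem Hyp.Ψ_lift (H : Hyp K j π ψ) {T : Over S} (p : T ⟶ P) (m : T ⟶ M) (q : T ⟶ Q) :
    H.Ψ p (m ≫ π) q = lift p (lift m q) ≫ ψ := by
  have := H.Ψ_spec p (m ≫ π) q (𝟙 T) m (by rw [Category.id_comp])
  simpa only [Category.id_comp] using this

theorem Hyp.Ψ_mul (H : Hyp K j π ψ) {T : Over S} (p : T ⟶ P) (y z : T ⟶ M'') (q : T ⟶ Q) :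
    H.Ψ p (y * z) q = H.Ψ p y q * H.Ψ p z q := by
  apply H.Ψ_ext y
  intro T' t g hg
  apply H.Ψ_ext (t ≫ z)
  intro T'' t' g' hg'
  rw [← Category.assoc, ← Category.assoc, MonObj.comp_mul]
  rw [H.Ψ_spec p (y * z) q (t' ≫ t) ((t' ≫ g) * g') (by
    rw [MonObj.mul_comp, Category.assoc, hg, hg', MonObj.comp_mul, Category.assoc,
      Category.assoc]),
    H.Ψ_spec p y q (t' ≫ t) (t' ≫ g) (by rw [Category.assoc, hg, Category.assoc]),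
    H.Ψ_spec p z q (t' ≫ t) g' (by rw [hg', Category.assoc]), H.hadd]

theorem Hyp.Ψ_act (H : Hyp K j π ψ) (a : M ⟶ M) (a'' : M'' ⟶ M'') (aN : N ⟶ N)
    (ha : π ≫ a'' = a ≫ π)
    (hlin : ∀ (T : Over S) (p : T ⟶ P) (q : T ⟶ Q) (y : T ⟶ M),
      lift p (lift (y ≫ a) q) ≫ ψ = (lift p (lift y q) ≫ ψ) ≫ aN)
    {T : Over S} (p : T ⟶ P) (y : T ⟶ M'') (q : T ⟶ Q) :
    H.Ψ p (y ≫ a'') q = H.Ψ p y q ≫ aN := by
  apply H.Ψ_ext y
  intro T' t g hg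
  rw [H.Ψ_spec p (y ≫ a'') q t (g ≫ a) (by
    rw [Category.assoc, ← ha, ← Category.assoc, hg, Category.assoc]), hlin, ← Category.assoc,
    H.Ψ_spec p y q t g hg]

theorem Hyp.eq_Ψ (H : Hyp K j π ψ) (ψ'' : P ⊗ (M'' ⊗ Q) ⟶ N) (h : (P ◁ (π ▷ Q)) ≫ ψ'' = ψ)
    {T : Over S} (p : T ⟶ P) (y : T ⟶ M'') (q : T ⟶ Q) :
    lift p (lift y q) ≫ ψ'' = H.Ψ p y q := by
  apply H.Ψ_ext y
  intro T' t g hg
  rw [H.Ψ_spec p y q t g hg, ← h, ← Category.assoc, ← Category.assoc]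
  congr 1
  ext <;> simp [hg]

theorem Hyp.Ψ_whisker (H : Hyp K j π ψ) :
    (P ◁ (π ▷ Q)) ≫ H.Ψ (fst P (M'' ⊗ Q)) (snd P (M'' ⊗ Q) ≫ fst M'' Q)
      (snd P (M'' ⊗ Q) ≫ snd M'' Q) = ψ := by
  rw [H.Ψ_comp]
  have e1 : (P ◁ (π ▷ Q)) ≫ fst P (M'' ⊗ Q) = fst _ _ := by simp
  have e2 : (P ◁ (π ▷ Q)) ≫ snd P (M'' ⊗ Q) ≫ fst M'' Q = (snd _ _ ≫ fst _ _) ≫ π := by simp
  have e3 : (P ◁ (π ▷ Q)) ≫ snd P (M'' ⊗ Q) ≫ snd M'' Q = snd _ _ ≫ snd _ _ := by simp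
  rw [e1, e2, e3, H.Ψ_lift]
  have e4 : lift (fst P (M ⊗ Q)) (lift (snd P (M ⊗ Q) ≫ fst M Q) (snd P (M ⊗ Q) ≫ snd M Q)) =
      𝟙 _ := by
    ext <;> simp
  rw [e4, Category.id_comp]

theorem Hyp.lift_Ψ (H : Hyp K j π ψ) {T : Over S} (p : T ⟶ P) (y : T ⟶ M'') (q : T ⟶ Q) :
    lift p (lift y q) ≫ H.Ψ (fst P (M'' ⊗ Q)) (snd P (M'' ⊗ Q) ≫ fst M'' Q)
      (snd P (M'' ⊗ Q) ≫ snd M'' Q) = H.Ψ p y q :=
  H.eq_Ψ _ H.Ψ_whisker p y q

end Desc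

end Groth.Agent.Helper2.MultSchDesc
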