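import Mathlib
import Groth.Prelude.Def_W4c1extbt15Mult
import Groth.Prelude.Def_CGrpSh
import Groth.Agent.Lib.Helper2.Sch.MultSchDesc

/-!
# Descent of alternating multilinear morphisms along an fppf epimorphism (helper2)
-/

set_option autoImplicit false
set_option linter.unusedSectionVars false
universe v u
open CategoryTheory CategoryTheory.Limits AlgebraicGeometry Opposite MonObj MonoidalCategory
  CartesianMonoidalCategory

namespace Groth.Agent.Helper2.MultSchPow

open Groth.Agent.Helper2.MultSchLib Groth.Agent.Helper2.MultSchDesc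

section General

variable {C : Type u} [Category.{v} C] [CartesianMonoidalCategory C] [BraidedCategory C]

/-- the coordinate projections of `pow M n`. -/
def proj (M : C) : (n : ℕ) → Fin n → (MultSch.pow M n ⟶ M)
  | 0 => fun l => Fin.elim0 l
  | n + 1 => Fin.cases (fst M (MultSch.pow M n)) (fun l => snd M (MultSch.pow M n) ≫ proj M n l)

theorem tuple_proj {M T : C} : ∀ {n : ℕ} (x : Fin n → (T ⟶ M)) (l : Fin n),
    MultSch.tuple x ≫ proj M n l = x l
  | 0, _, l => Fin.elim0 l
  | n + 1, x, l => by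
    refine Fin.cases ?_ (fun l => ?_) l
    · show lift (x 0) (MultSch.tuple fun i => x i.succ) ≫ fst M (MultSch.pow M n) = x 0
      rw [lift_fst]
    · show lift (x 0) (MultSch.tuple fun i => x i.succ) ≫ (snd M (MultSch.pow M n) ≫ proj M n l) =
        x l.succ
      rw [lift_snd_assoc, tuple_proj]

theorem tuple_eta {M T : C} : ∀ {n : ℕ} (f : T ⟶ MultSch.pow M n),
    MultSch.tuple (fun l => f ≫ proj M n l) = f
  | 0, f => toUnit_unique _ _
  | n + 1, f => by
    show lift (f ≫ fst M (MultSch.pow M n))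
      (MultSch.tuple fun i : Fin n => f ≫ (snd M (MultSch.pow M n) ≫ proj M n i)) = f
    have h := tuple_eta (f ≫ snd M (MultSch.pow M n))
    simp only [Category.assoc] at h
    rw [h]
    refine CartesianMonoidalCategory.hom_ext _ _ ?_ ?_
    · exact lift_fst _ _
    · exact lift_snd _ _

theorem tuple_proj_id (M : C) (n : ℕ) : MultSch.tuple (proj M n) = 𝟙 _ := by
  have h := tuple_eta (𝟙 (MultSch.pow M n))
  simp only [Category.id_comp] at h
  exact h

end General

section Sch

variable {S : Scheme.{u}} (K : Precoverage Scheme.{u}) [(QuotSh.J K S).Subcanonical]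
variable {M₁ M₂ M₃ N : Over S} [GrpObj M₁] [IsCommMonObj M₁] [GrpObj M₂] [IsCommMonObj M₂]
  [GrpObj M₃] [IsCommMonObj M₃] [GrpObj N] [IsCommMonObj N]

/-- the hypotheses on `φ` used in the descent. -/
structure HypPow (j : M₁ ⟶ M₂) (π : M₂ ⟶ M₃) [IsMonHom j] [IsMonHom π] {n : ℕ} (hn : 1 ≤ n)
    (φ : MultSch.pow M₂ n ⟶ N) : Prop where
  w : j ≫ π = 1
  hex : (CGrpSh.seq K j π w).Exact
  hepi : Epi (CGrpSh.ptsMap K π)
  hmult : MultSch.IsMultilinear φ
  halt : MultSch.IsAlternating φ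
  hvan : ∀ (T : Over S) (y : T ⟶ M₁) (x : Fin n → (T ⟶ M₂)), x ⟨0, hn⟩ = y ≫ j →
      MultSch.tuple x ≫ φ = 1

variable {K} {j : M₁ ⟶ M₂} {π : M₂ ⟶ M₃} [IsMonHom j] [IsMonHom π] {n : ℕ} {hn : 1 ≤ n}
  {φ : MultSch.pow M₂ n ⟶ N}

theorem HypPow.antisymm (H : HypPow K j π hn φ) {T : Over S} (x : Fin n → (T ⟶ M₂))
    (a b : Fin n) (hab : a ≠ b) :
    (MultSch.tuple x ≫ φ) *
      (MultSch.tuple (Function.update (Function.update x a (x b)) b (x a)) ≫ φ) = 1 := by
  have hF1 : ∀ p p' q : T ⟶ M₂,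
      MultSch.tuple (Function.update (Function.update x a (p * p')) b q) ≫ φ =
      (MultSch.tuple (Function.update (Function.update x a p) b q) ≫ φ) *
        (MultSch.tuple (Function.update (Function.update x a p') b q) ≫ φ) := by
    intro p p' q
    rw [Function.update_comm hab, Function.update_comm hab, Function.update_comm hab]
    exact H.hmult T _ a p p'
  have hF2 : ∀ p q q' : T ⟶ M₂,
      MultSch.tuple (Function.update (Function.update x a p) b (q * q')) ≫ φ =
      (MultSch.tuple (Function.update (Function.update x a p) b q) ≫ φ) *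
        (MultSch.tuple (Function.update (Function.update x a p) b q') ≫ φ) := by
    intro p q q'
    exact H.hmult T _ b q q'
  have hF0 : ∀ p : T ⟶ M₂,
      MultSch.tuple (Function.update (Function.update x a p) b p) ≫ φ = 1 := by
    intro p
    apply H.halt T _ a b hab
    rw [Function.update_self, Function.update_of_ne hab, Function.update_self]
  have hx : Function.update (Function.update x a (x a)) b (x b) = x := by
    rw [Function.update_eq_self, Function.update_eq_self]
  have h1 := hF0 (x a * x b)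
  rw [hF1, hF2, hF2, hF0, hF0, hx] at h1
  simpa using h1

theorem HypPow.van (H : HypPow K j π hn φ) {T : Over S} (x : Fin n → (T ⟶ M₂)) (a : Fin n)
    (y : T ⟶ M₁) (hy : x a = y ≫ j) : MultSch.tuple x ≫ φ = 1 := by
  by_cases ha : a = ⟨0, hn⟩
  · subst ha
    exact H.hvan T y x hy
  · have h1 := H.antisymm x a ⟨0, hn⟩ ha
    have h2 : MultSch.tuple (Function.update (Function.update x a (x ⟨0, hn⟩)) ⟨0, hn⟩ (x a)) ≫ φ
        = 1 := by
      apply H.hvan T y
      rw [Function.update_self, hy]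
    rw [h2, _root_.mul_one] at h1
    exact h1

theorem comp_update {T T' : Over S} (t : T' ⟶ T) (g : Fin n → (T ⟶ M₂)) (a : Fin n)
    (z : T ⟶ M₂) :
    (fun l => t ≫ Function.update g a z l) = Function.update (fun l => t ≫ g l) a (t ≫ z) := by
  funext l
  exact Function.apply_update (fun _ (w : T ⟶ M₂) => t ≫ w) g a z l

theorem HypPow.single (H : HypPow K j π hn φ) {T : Over S} (g : Fin n → (T ⟶ M₂)) (a : Fin n)
    (z : T ⟶ M₂) (hz : z ≫ π = g a ≫ π) :
    MultSch.tuple (Function.update g a z) ≫ φ = MultSch.tuple g ≫ φ := by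
  have hd : (z * (g a)⁻¹) ≫ π = 1 := by
    rw [MonObj.mul_comp, GrpObj.inv_comp, hz, mul_inv_cancel]
  obtain ⟨Sv, hSv, hl⟩ := exists_sieve_of_exact K j π H.w H.hex (z * (g a)⁻¹) hd
  apply Groth.Agent.Helper2.QuotEffK.hom_ext_sieve K Sv hSv
  intro T' t ht
  obtain ⟨y, hy⟩ := hl t ht
  have h1 : t ≫ z = (y ≫ j) * (t ≫ g a) := by
    rw [hy, MonObj.comp_mul, GrpObj.comp_inv, inv_mul_cancel_right]
  rw [← Category.assoc, ← Category.assoc, comp_tuple, comp_tuple, comp_update, h1,
    H.hmult T' _ a (y ≫ j) (t ≫ g a),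
    H.van (Function.update (fun l => t ≫ g l) a (y ≫ j)) a y (Function.update_self _ _ _),
    _root_.one_mul, Function.update_eq_self]

theorem HypPow.indep_aux (H : HypPow K j π hn φ) {T : Over S} (g' : Fin n → (T ⟶ M₂))
    (s : Finset (Fin n)) : ∀ g : Fin n → (T ⟶ M₂), (∀ l, l ∉ s → g l = g' l) →
      (∀ l, g l ≫ π = g' l ≫ π) → MultSch.tuple g ≫ φ = MultSch.tuple g' ≫ φ := by
  classical
  induction s using Finset.induction_on with
  | empty =>
    intro g h1 _
    have : g = g' := funext fun l => h1 l (Finset.notMem_empty l)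
    rw [this]
  | insert a s ha ih =>
    intro g h1 h2
    have h3 := ih (Function.update g a (g' a)) (by
      intro l hl
      by_cases hla : l = a
      · subst hla
        rw [Function.update_self]
      · rw [Function.update_of_ne hla]
        exact h1 l (by simp [hla, hl])) (by
      intro l
      by_cases hla : l = a
      · subst hla
        rw [Function.update_self]
      · rw [Function.update_of_ne hla]
        exact h2 l)
    rw [← h3, H.single g a (g' a) (h2 a).symm]

theorem HypPow.indep (H : HypPow K j π hn φ) {T : Over S} (g g' : Fin n → (T ⟶ M₂))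
    (h : ∀ l, g l ≫ π = g' l ≫ π) : MultSch.tuple g ≫ φ = MultSch.tuple g' ≫ φ :=
  H.indep_aux g' Finset.univ g (fun l hl => absurd (Finset.mem_univ l) hl) h

/-- the sieve on which all coordinates of `y` lift. -/
def liftSieveTuple (π : M₂ ⟶ M₃) {T : Over S} (y : Fin n → (T ⟶ M₃)) : Sieve T where
  arrows T' t := ∃ g : Fin n → (T' ⟶ M₂), ∀ l, g l ≫ π = t ≫ y l
  downward_closed := by
    rintro T' T'' t ⟨g, hg⟩ s
    exact ⟨fun l => s ≫ g l, fun l => by rw [Category.assoc, hg, Category.assoc]⟩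

theorem liftSieveTuple_mem (hepi : Epi (CGrpSh.ptsMap K π)) {T : Over S}
    (y : Fin n → (T ⟶ M₃)) : liftSieveTuple π y ∈ QuotSh.J K S T := by
  obtain ⟨Sv, hSv, hlift⟩ := exists_sieve_lift_tuple K π hepi y
  refine (QuotSh.J K S).superset_covering (fun T' t ht => ?_) hSv
  choose g hg using hlift t ht
  exact ⟨g, hg⟩

theorem HypPow.exists_glue (H : HypPow K j π hn φ) {T : Over S} (y : Fin n → (T ⟶ M₃)) :
    ∃ r : T ⟶ N, ∀ ⦃T' : Over S⦄ (t : T' ⟶ T) (g : Fin n → (T' ⟶ M₂)),
      (∀ l, g l ≫ π = t ≫ y l) → t ≫ r = MultSch.tuple g ≫ φ := by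
  have hcov := liftSieveTuple_mem (K := K) (π := π) H.hepi y
  have hch : ∀ ⦃T' : Over S⦄ (t : T' ⟶ T), (liftSieveTuple π y) t →
      ∃ g : Fin n → (T' ⟶ M₂), ∀ l, g l ≫ π = t ≫ y l := fun T' t ht => ht
  choose g hg using hch
  obtain ⟨r, hr⟩ := Groth.Agent.Helper2.QuotEffK.exists_glue_sieve K (liftSieveTuple π y)
    hcov (fun T' t ht => MultSch.tuple (g t ht) ≫ φ) (by
      intro T' T'' t s ht
      rw [← Category.assoc, comp_tuple]
      apply H.indep
      intro l
      rw [Category.assoc, hg, hg, Category.assoc])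
  refine ⟨r, ?_⟩
  intro T' t g' hg'
  have ht : (liftSieveTuple π y) t := ⟨g', hg'⟩
  rw [hr t ht]
  apply H.indep
  intro l
  rw [hg, hg']

/-- the descended function on points. -/
noncomputable def HypPow.Φ (H : HypPow K j π hn φ) {T : Over S} (y : Fin n → (T ⟶ M₃)) : T ⟶ N :=
  (H.exists_glue y).choose

theorem HypPow.Φ_spec (H : HypPow K j π hn φ) {T : Over S} (y : Fin n → (T ⟶ M₃))
    ⦃T' : Over S⦄ (t : T' ⟶ T) (g : Fin n → (T' ⟶ M₂)) (hg : ∀ l, g l ≫ π = t ≫ y l) :
    t ≫ H.Φ y = MultSch.tuple g ≫ φ :=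
  (H.exists_glue y).choose_spec t g hg

theorem HypPow.Φ_ext (H : HypPow K j π hn φ) {T : Over S} (y : Fin n → (T ⟶ M₃)) (a b : T ⟶ N)
    (hab : ∀ ⦃T' : Over S⦄ (t : T' ⟶ T) (g : Fin n → (T' ⟶ M₂)),
      (∀ l, g l ≫ π = t ≫ y l) → t ≫ a = t ≫ b) : a = b := by
  apply Groth.Agent.Helper2.QuotEffK.hom_ext_sieve K _
    (liftSieveTuple_mem (K := K) (π := π) H.hepi y)
  rintro T' t ⟨g, hg⟩
  exact hab t g hg

theorem HypPow.Φ_comp (H : HypPow K j π hn φ) {T T₁ : Over S} (s : T₁ ⟶ T)
    (y : Fin n → (T ⟶ M₃)) : s ≫ H.Φ y = H.Φ (fun l => s ≫ y l) := by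
  apply H.Φ_ext (fun l => s ≫ y l)
  intro T' t g hg
  rw [H.Φ_spec (fun l => s ≫ y l) t g hg, ← Category.assoc,
    H.Φ_spec y (t ≫ s) g (fun l => by rw [hg, Category.assoc])]

theorem HypPow.Φ_lift (H : HypPow K j π hn φ) {T : Over S} (x : Fin n → (T ⟶ M₂)) :
    H.Φ (fun l => x l ≫ π) = MultSch.tuple x ≫ φ := by
  have := H.Φ_spec (fun l => x l ≫ π) (𝟙 T) x (fun l => by rw [Category.id_comp])
  simpa only [Category.id_comp] using this

theorem lifts_update {T T' : Over S} (t : T' ⟶ T) (y : Fin n → (T ⟶ M₃))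
    (g : Fin n → (T' ⟶ M₂)) (i : Fin n) (z : T' ⟶ M₂) (c : T ⟶ M₃)
    (hg : ∀ l, l ≠ i → g l ≫ π = t ≫ y l) (hz : z ≫ π = t ≫ c) :
    ∀ l, Function.update g i z l ≫ π = t ≫ Function.update y i c l := by
  intro l
  by_cases hl : l = i
  · subst hl
    rw [Function.update_self, Function.update_self, hz]
  · rw [Function.update_of_ne hl, Function.update_of_ne hl, hg l hl]

theorem HypPow.tuple_Φ (H : HypPow K j π hn φ) {T : Over S} (y : Fin n → (T ⟶ M₃)) :
    MultSch.tuple y ≫ H.Φ (proj M₃ n) = H.Φ y := by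
  rw [H.Φ_comp]
  congr 1
  funext l
  exact tuple_proj y l

theorem HypPow.Φ_mul (H : HypPow K j π hn φ) {T : Over S} (y : Fin n → (T ⟶ M₃)) (i : Fin n)
    (a b : T ⟶ M₃) :
    H.Φ (Function.update y i (a * b)) =
      H.Φ (Function.update y i a) * H.Φ (Function.update y i b) := by
  apply H.Φ_ext (Function.update y i a)
  intro T' t g hg
  apply H.Φ_ext (fun l => t ≫ Function.update y i b l)
  intro T'' t' g' hg'
  have hgl : ∀ l, l ≠ i → (t' ≫ g l) ≫ π = (t' ≫ t) ≫ y l := by
    intro l hl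
    have := hg l
    rw [Function.update_of_ne hl] at this
    rw [Category.assoc, this, Category.assoc]
  have hga : (t' ≫ g i) ≫ π = (t' ≫ t) ≫ a := by
    have := hg i
    rw [Function.update_self] at this
    rw [Category.assoc, this, Category.assoc]
  have hgb : g' i ≫ π = (t' ≫ t) ≫ b := by
    have := hg' i
    rw [Function.update_self] at this
    rw [this, Category.assoc]
  rw [← Category.assoc, ← Category.assoc, MonObj.comp_mul]
  rw [H.Φ_spec (Function.update y i (a * b)) (t' ≫ t)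
      (Function.update (fun l => t' ≫ g l) i ((t' ≫ g i) * g' i))
      (lifts_update (t' ≫ t) y _ i _ (a * b) hgl (by
        rw [MonObj.mul_comp, hga, hgb, MonObj.comp_mul])),
    H.Φ_spec (Function.update y i a) (t' ≫ t)
      (Function.update (fun l => t' ≫ g l) i (t' ≫ g i))
      (lifts_update (t' ≫ t) y _ i _ a hgl hga),
    H.Φ_spec (Function.update y i b) (t' ≫ t)
      (Function.update (fun l => t' ≫ g l) i (g' i))
      (lifts_update (t' ≫ t) y _ i _ b hgl hgb)]
  exact H.hmult T'' _ i _ _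

theorem HypPow.Φ_act (H : HypPow K j π hn φ) (a₂ : M₂ ⟶ M₂) (a₃ : M₃ ⟶ M₃) (aN : N ⟶ N)
    (ha : π ≫ a₃ = a₂ ≫ π)
    (hlin : ∀ (T : Over S) (x : Fin n → (T ⟶ M₂)) (i : Fin n),
      MultSch.tuple (Function.update x i (x i ≫ a₂)) ≫ φ = (MultSch.tuple x ≫ φ) ≫ aN)
    {T : Over S} (y : Fin n → (T ⟶ M₃)) (i : Fin n) :
    H.Φ (Function.update y i (y i ≫ a₃)) = H.Φ y ≫ aN := by
  apply H.Φ_ext y
  intro T' t g hg
  rw [H.Φ_spec (Function.update y i (y i ≫ a₃)) t (Function.update g i (g i ≫ a₂))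
    (lifts_update t y g i _ _ (fun l _ => hg l) (by
      rw [Category.assoc, ← ha, ← Category.assoc, hg i, Category.assoc])),
    hlin, ← Category.assoc, H.Φ_spec y t g hg]

theorem HypPow.Φ_alt (H : HypPow K j π hn φ) {T : Over S} (y : Fin n → (T ⟶ M₃)) (i k : Fin n)
    (hik : i ≠ k) (hy : y i = y k) : H.Φ y = 1 := by
  apply H.Φ_ext y
  intro T' t g hg
  have h1 := H.Φ_spec y t (Function.update g k (g i)) (by
    have := lifts_update t y g k (g i) (y k) (fun l _ => hg l) (by rw [hg i, hy])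
    rw [Function.update_eq_self] at this
    exact this)
  rw [h1, MonObj.comp_one]
  apply H.halt T' _ i k hik
  rw [Function.update_self, Function.update_of_ne hik]

theorem HypPow.Φ_unique (H : HypPow K j π hn φ) (φ'' : MultSch.pow M₃ n ⟶ N)
    (h : ∀ (T : Over S) (x : Fin n → (T ⟶ M₂)),
      MultSch.tuple x ≫ φ = MultSch.tuple (fun l => x l ≫ π) ≫ φ'') :
    φ'' = H.Φ (proj M₃ n) := by
  apply H.Φ_ext (proj M₃ n)
  intro T' t g hg
  rw [H.Φ_spec (proj M₃ n) t g hg, h T' g]
  have e1 : (fun l => g l ≫ π) = fun l => t ≫ proj M₃ n l := funext hg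
  rw [e1, tuple_eta]

end Sch

end Groth.Agent.Helper2.MultSchPow
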