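import Mathlib
import Groth.Prelude.Def_AlgGrp
import Groth.Prelude.Def_Flat
import Groth.Agent.Lib.Helper2.Sch.OrbitDim
import Groth.Agent.Lib.Helper2.Sch.GrpHomFlat
import Groth.Agent.Lib.Helper2.Sch.OrbitSmooth

/-!
# `dim G = dim (G · x) + dim G_x` (S16130) (helper2)
-/

set_option backward.isDefEq.respectTransparency.types false
set_option synthInstance.maxHeartbeats 400000
set_option autoImplicit false
set_option linter.unusedSectionVars false
set_option linter.style.haveILetI false
universe u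
open CategoryTheory CategoryTheory.Limits AlgebraicGeometry TopologicalSpace
open MonoidalCategory CartesianMonoidalCategory MonObj GrpObj
open Groth.Agent.Lib.Helper4.GrpShear1 Groth.Agent.Helper2.FlatPt
open Groth.Agent.Lib.Helper4.FibDim1 Groth.Agent.Lib.Helper4.FTDim1
open Groth.Agent.Lib.Helper4.PropDim1 Groth.Agent.Lib.Helper4.JacDim4
open Groth.Agent.Lib.Helper4.OpenNoeth1 Groth.Agent.Lib.Helper4.RangeDim1
open Groth.Agent.Helper2.Orbit Groth.Agent.Helper2.OrbitDim

namespace Groth.Agent.Helper2.OrbitDimFormula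

section Homog

variable {S : Scheme.{u}} {G X : Over S} [GrpObj G]
  (act : G ⊗ X ⟶ X)
  (one_act : (η[G] ▷ X) ≫ act = (λ_ X).hom)
  (mul_act : (μ[G] ▷ X) ≫ act = (α_ G G X).hom ≫ (G ◁ act) ≫ act)
  (o : 𝟙_ (Over S) ⟶ X)

include one_act mul_act in
/-- The fibre dimension of an orbit map is constant on the fibres of `G → S`. -/
theorem fibreDimAt_orbit_eq [LocallyOfFiniteType (orbit act o).left] (g g' : G.left)
    (h : G.hom g = G.hom g') :
    FlatMor.fibreDimAt (orbit act o).left g = FlatMor.fibreDimAt (orbit act o).left g' := by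
  obtain ⟨φ, hφ⟩ : ∃ φ, φ = orbit act o := ⟨_, rfl⟩
  haveI : LocallyOfFiniteType φ.left := by rw [hφ]; infer_instance
  rw [← hφ]
  obtain ⟨z, hz1, hz2⟩ := Groth.Agent.Helper2.GrpHom.exists_snd_mul g g' h
  have sq := isPullback_whiskerLeft' (G := G) φ
  haveI : LocallyOfFiniteType (G ◁ φ).left :=
    MorphismProperty.of_isPullback (P := @LocallyOfFiniteType) sq inferInstance
  haveI : IsIso (actShear act) := isIso_actShear act one_act mul_act
  haveI : IsIso (actShear act).left :=
    inferInstanceAs (IsIso ((Over.forget _).map (actShear act)))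
  have hcomm : (shear (𝟙 G)).left ≫ (G ◁ φ).left = (G ◁ φ).left ≫ (actShear act).left := by
    rw [← Over.comp_left, ← Over.comp_left, hφ, whiskerLeft_orbit_shear act mul_act]
  have k1 := Groth.Agent.Lib.Helper4.FibDimBC2.fibreDimAt_abs φ.left (snd G X).left
    (snd G G).left (G ◁ φ).left sq z
  have k2 := Groth.Agent.Lib.Helper4.FibDimBC2.fibreDimAt_abs φ.left (snd G X).left
    (snd G G).left (G ◁ φ).left sq ((shear (𝟙 G)).left z)
  rw [← Scheme.Hom.comp_apply, ← Over.comp_left, Groth.Agent.Helper2.GrpHom.shear_id_snd, hz2]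
    at k2
  rw [hz1] at k1
  rw [← k1, ← k2]
  have sq2 : IsPullback (shear (𝟙 G)).left (G ◁ φ).left (G ◁ φ).left (actShear act).left :=
    IsPullback.of_horiz_isIso ⟨hcomm⟩
  exact Groth.Agent.Lib.Helper4.FibDimBC2.fibreDimAt_abs (G ◁ φ).left (actShear act).left
    (shear (𝟙 G)).left (G ◁ φ).left sq2 z

end Homog

section Field

variable (k : Type u) [Field k] {G X : Over (Spec (CommRingCat.of k))} [GrpObj G]
  [LocallyOfFiniteType G.hom] [QuasiCompact G.hom] [LocallyOfFiniteType X.hom]
  [QuasiCompact X.hom]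
  (act : G ⊗ X ⟶ X)
  (one_act : (η[G] ▷ X) ≫ act = (λ_ X).hom)
  (mul_act : (μ[G] ▷ X) ≫ act = (α_ G G X).hom ≫ (G ◁ act) ≫ act)
  (o : 𝟙_ (Over (Spec (CommRingCat.of k))) ⟶ X)

include one_act mul_act in
/-- `dim G = dim (G · x) + dim G_x`. -/
theorem dim_eq_dim_orbit_add_dim_fibre [IsClosedImmersion o.left] :
    topologicalKrullDim ↥G.left =
      topologicalKrullDim ↥(Set.range (orbit act o).left) +
        topologicalKrullDim ↥(Limits.pullback (orbit act o).left o.left) := by
  haveI : Subsingleton ↥(Spec (CommRingCat.of k)) :=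
    inferInstanceAs (Subsingleton (PrimeSpectrum k))
  obtain ⟨f, hf⟩ : ∃ f : G.left ⟶ X.left, f = (orbit act o).left := ⟨_, rfl⟩
  have hfw : f ≫ X.hom = G.hom := by rw [hf]; exact Over.w _
  haveI : LocallyOfFiniteType (f ≫ X.hom) := by rw [hfw]; infer_instance
  haveI : LocallyOfFiniteType f := locallyOfFiniteType_of_comp f X.hom
  haveI : NoetherianSpace ↥G.left := noetherianSpace_of_field k G.hom
  obtain ⟨e, he⟩ : ∃ e : G.left, e = η[G].left (IsLocalRing.closedPoint k) := ⟨_, rfl⟩
  haveI : Nonempty G.left := ⟨e⟩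
  -- constancy of the fibre dimension
  obtain ⟨d, hd⟩ := Groth.Agent.Lib.Helper4.FibDimComp1.exists_fibreDimAt_nat f e
  have hconst : ∀ g : G.left, FlatMor.fibreDimAt f g = (d : WithBot ℕ∞) := by
    intro g
    rw [← hd]
    subst hf
    exact fibreDimAt_orbit_eq act one_act mul_act o g e (Subsingleton.elim _ _)
  -- transcendence degrees at maximal points
  have htrmax : ∀ ξ : G.left, (∀ t : G.left, t ⤳ ξ → t = ξ) →
      tr G.hom ξ = tr X.hom (f ξ) + d := by
    intro ξ hξ
    have h1 := Groth.Agent.Lib.Helper4.IrrFib1.trX_eq k G.hom X.hom f hfw ξ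
    have h2 := Groth.Agent.Lib.Helper4.LocNoethFib1.fibreDimAt_eq_tr_of_max f ξ
      (fun z' _ hz' => hξ z' hz')
    rw [hconst ξ] at h2
    have h3 : d = tr f ξ := by exact_mod_cast h2
    rw [h1, h3]
  -- a maximal point with maximal image transcendence degree
  obtain ⟨ξ₀, hξ₀⟩ := exists_max_of_specializes (α := G.left) (fun ξ => tr X.hom (f ξ))
    (fun a b hab => tr_le_of_specializes_of_field k X.hom _ _ (hab.map f.continuous))
  obtain ⟨ξ₁, hξ₁, hmax₁⟩ := Groth.Agent.Lib.Helper4.FibDim2.exists_isMax_ge G.left ξ₀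
  have hξ₁' : ∀ t : G.left, t ⤳ ξ₁ → t = ξ₁ := fun t ht =>
    Groth.Agent.Lib.Helper4.FlatDimK1.eq_of_isMax_of_specializes ξ₁ hmax₁ t ht
  have hξ₁sp : ξ₁ ⤳ ξ₀ := hξ₁
  obtain ⟨M, hM⟩ : ∃ M : ℕ, M = tr X.hom (f ξ₁) := ⟨_, rfl⟩
  have hMmax : ∀ g : G.left, tr X.hom (f g) ≤ M := by
    intro g
    rw [hM]
    exact (hξ₀ g).trans
      (tr_le_of_specializes_of_field k X.hom _ _ (hξ₁sp.map f.continuous))
  -- the dimension of the orbit
  have hO : topologicalKrullDim ↥(Set.range f) = (M : WithBot ℕ∞) := by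
    apply le_antisymm
    · refine (Groth.Agent.Lib.Helper4.DimFT2.topologicalKrullDim_mono
        (subset_closure : Set.range f ⊆ closure (Set.range f))).trans ?_
      haveI : QuasiSober ↥(closure (Set.range f)) :=
        isClosed_closure.isClosedEmbedding_subtypeVal.quasiSober
      apply tdim_le_of_forall
      intro t ht
      obtain ⟨a, ha⟩ := exists_specializes_of_mem_closure_range f f.continuous t ht
      refine ⟨f a, ha, ?_⟩
      rw [dim_closure_of_field k X.hom (f a)]
      exact_mod_cast hMmax a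
    · rw [hM]
      exact tr_le_dim_range k G.hom X.hom f hfw ξ₁
  -- the dimension of `G`
  have hG : topologicalKrullDim ↥G.left = ((M + d : ℕ) : WithBot ℕ∞) := by
    apply le_antisymm
    · apply dim_le_of_forall_tr k G.hom
      intro g
      obtain ⟨ξ, hξ, hmax⟩ := Groth.Agent.Lib.Helper4.FibDim2.exists_isMax_ge G.left g
      have hξ' : ∀ t : G.left, t ⤳ ξ → t = ξ := fun t ht =>
        Groth.Agent.Lib.Helper4.FlatDimK1.eq_of_isMax_of_specializes ξ hmax t ht
      have h1 := tr_le_of_specializes_of_field k G.hom ξ g hξ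
      have h2 := htrmax ξ hξ'
      have h3 := hMmax ξ
      have : tr G.hom g ≤ M + d := by omega
      exact_mod_cast this
    · have h1 := tr_le_dim k G.hom ξ₁
      rw [htrmax ξ₁ hξ₁', ← hM] at h1
      exact h1
  -- the dimension of the fibre
  obtain ⟨y, hy⟩ : ∃ y : X.left, y = f e := ⟨_, rfl⟩
  have hy' : y = o.left (IsLocalRing.closedPoint k) := by
    rw [hy, he, hf, ← Scheme.Hom.comp_apply, ← Over.comp_left, eta_orbit act one_act]
  have hfib : topologicalKrullDim ↥(f.fiber y) = (d : WithBot ℕ∞) := by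
    apply le_antisymm
    · apply Groth.Agent.Lib.Helper4.FibDimBC1.dim_fiber_le_of_forall
      intro z _
      exact (Groth.Agent.Lib.Helper4.FibDimComp1.tr_le_fibreDimAt' f z).trans (hconst z).le
    · rw [hy, ← hconst e]
      exact Groth.Agent.Lib.Helper4.Chev3.fibreDimAt_le_dim_fiber f e
  have hrange : Set.range (pullback.fst f o.left) = f ⁻¹' {y} := by
    rw [Scheme.Pullback.range_fst]
    congr 1
    ext t
    constructor
    · rintro ⟨s, rfl⟩
      rw [Set.mem_singleton_iff, hy']
      congr 1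
      exact Subsingleton.elim (α := ↥(Spec (CommRingCat.of k))) _ _
    · intro ht
      rw [Set.mem_singleton_iff] at ht
      exact ⟨_, (ht.trans hy').symm⟩
  have hP : topologicalKrullDim ↥(Limits.pullback f o.left) = (d : WithBot ℕ∞) := by
    rw [← hfib, (f.fiberHomeo y).isHomeomorph.topologicalKrullDim_eq]
    exact Groth.Agent.Lib.Helper4.ProperImgDim1.dim_eq_of_isEmbedding (pullback.fst f o.left)
      (pullback.fst f o.left).isEmbedding _ hrange
  rw [← hf, hG, hO, hP]
  push_cast
  rfl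

end Field

end Groth.Agent.Helper2.OrbitDimFormula
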