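import Mathlib
import Groth.Prelude.Def_AlgGrp
import Groth.Agent.Lib.Helper2.Sch.EquivFlat
import Groth.Agent.Lib.Helper2.Sch.Stabilizer
import Groth.Agent.Lib.Helper6.Cartier.Main

/-!
# Orbit maps onto homogeneous spaces are smooth in characteristic zero (S10927) (helper2)
-/

set_option backward.isDefEq.respectTransparency.types false
set_option synthInstance.maxHeartbeats 400000
set_option autoImplicit false
set_option linter.unusedSectionVars false
set_option linter.style.haveILetI false
universe u
open CategoryTheory CategoryTheory.Limits AlgebraicGeometry TopologicalSpace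
open MonoidalCategory CartesianMonoidalCategory MonObj GrpObj
open Groth.Agent.Helper2.Orbit

namespace Groth.Agent.Helper2.OrbitSmoothCharZero

variable (k : Type u) [Field k] {G X : Over (Spec (CommRingCat.of k))} [GrpObj G]
  [LocallyOfFiniteType G.hom] [QuasiCompact G.hom] [LocallyOfFiniteType X.hom]
  [QuasiCompact X.hom]
  (act : G ⊗ X ⟶ X)
  (one_act : (η[G] ▷ X) ≫ act = (λ_ X).hom)
  (mul_act : (μ[G] ▷ X) ≫ act = (α_ G G X).hom ≫ (G ◁ act) ≫ act)

include one_act mul_act in
/-- If `G(k)` is transitive on `X(k)` with `k` algebraically closed and `X` reduced, every orbit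
map is flat and surjective. -/
theorem flat_surjective_orbit [IsAlgClosed k] [IsReduced X.left]
    (htrans : ∀ x x' : 𝟙_ (Over (Spec (CommRingCat.of k))) ⟶ X,
      ∃ σ : 𝟙_ (Over (Spec (CommRingCat.of k))) ⟶ G, lift σ x ≫ act = x')
    (x : 𝟙_ (Over (Spec (CommRingCat.of k))) ⟶ X) :
    Flat (orbit act x).left ∧ Surjective (orbit act x).left := by
  have hT : Over.mk (Spec.map (CommRingCat.ofHom (algebraMap k k))) =
      𝟙_ (Over (Spec (CommRingCat.of k))) := by
    rw [Algebra.algebraMap_self, CommRingCat.ofHom_id, Spec.map_id]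
    rfl
  have htr : ∀ y y' : Over.mk (Spec.map (CommRingCat.ofHom (algebraMap k k))) ⟶ X,
      ∃ g : Over.mk (Spec.map (CommRingCat.ofHom (algebraMap k k))) ⟶ G,
        lift g y ≫ act = y' := by
    rw [hT]; exact htrans
  haveI : Nonempty G.left := ⟨η[G].left (IsLocalRing.closedPoint k)⟩
  exact Groth.Agent.Helper2.EquivFlat.flat_surjective_of_equivariant k k μ[G] act
    (MonObj.one_mul G) (MonObj.mul_assoc G) one_act mul_act (orbit act x)
    (whiskerLeft_orbit_act act mul_act x) htr

include one_act mul_act in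
/-- S10927 -/
theorem smooth_orbit [IsAlgClosed k] [CharZero k] [IsReduced X.left] [IsSeparated X.hom]
    (htrans : ∀ x x' : 𝟙_ (Over (Spec (CommRingCat.of k))) ⟶ X,
      ∃ σ : 𝟙_ (Over (Spec (CommRingCat.of k))) ⟶ G, lift σ x ≫ act = x')
    (x : 𝟙_ (Over (Spec (CommRingCat.of k))) ⟶ X) :
    Smooth (orbit act x).left := by
  obtain ⟨hflat, hsurj⟩ := flat_surjective_orbit k act one_act mul_act htrans x
  obtain ⟨f, hf⟩ : ∃ f : G ⟶ X, f = orbit act x := ⟨_, rfl⟩
  rw [← hf] at hflat hsurj ⊢
  -- the stabilizer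
  obtain ⟨N, i, h⟩ : ∃ (N : Over (Spec (CommRingCat.of k))) (i : N ⟶ G),
      IsPullback i (toUnit N) f x :=
    ⟨pullback f x, pullback.fst f x, by
      have := IsPullback.of_hasPullback f x
      rwa [toUnit_unique (pullback.snd f x) (toUnit _)] at this⟩
  obtain ⟨_, hi⟩ := Groth.Agent.Helper2.Stab.exists_grpObj act one_act mul_act x i (hf ▸ h)
  -- the stabilizer is smooth by Cartier's theorem
  haveI : IsClosedImmersion (x.left ≫ X.hom) := by
    rw [Over.w x]
    exact (inferInstance : IsClosedImmersion (𝟙 (Spec (CommRingCat.of k))))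
  haveI : IsClosedImmersion x.left := IsClosedImmersion.of_comp x.left X.hom
  have h' : IsPullback i.left (toUnit N).left f.left x.left := h.map (Over.forget _)
  haveI : IsClosedImmersion i.left :=
    MorphismProperty.of_isPullback (P := @IsClosedImmersion) h'.flip inferInstance
  haveI : LocallyOfFiniteType N.hom := by rw [← Over.w i]; infer_instance
  haveI : GrpObj (Over.mk N.hom) := (inferInstance : GrpObj N)
  have hN : Smooth N.hom := Groth.Agent.Lib.Helper6.Cartier.smooth_of_charZero N.hom
  -- descent along the orbit map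
  have sq := Groth.Agent.Lib.Helper4.GrpKer2.isPullback_left
    (Groth.Agent.Helper2.Stab.isPullback_shear act one_act mul_act x i (hf ▸ h))
  rw [← hf] at sq
  haveI : QuasiCompact (f.left ≫ X.hom) := by rw [Over.w]; infer_instance
  haveI : QuasiCompact f.left := QuasiCompact.of_comp f.left X.hom
  exact MorphismProperty.of_isPullback_of_descendsAlong (P := @Smooth)
    (Q := @Surjective ⊓ @Flat ⊓ @QuasiCompact) sq ⟨⟨hsurj, hflat⟩, inferInstance⟩
    (Groth.Agent.Lib.Helper4.GrpKer2.prop_fst_left G N @Smooth hN)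

end Groth.Agent.Helper2.OrbitSmoothCharZero
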