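import Mathlib
import Groth.Prelude.Def_AlgGrp
import Groth.Agent.Lib.Helper2.Sch.OrbitFlat
import Groth.Agent.Lib.Helper2.Sch.SchImageGrp
import Groth.Agent.Lib.Helper4.GrpKer1
import Groth.Agent.Lib.Helper4.GrpKer2

/-!
# `G ×_{H × G''} (H × G) = G' × G` for `G' = ker (p : G → G'')` and `u : G → H` (helper2)

Used for: if `u ∘ i` is proper (`i : G' → G` the kernel of a faithfully flat `p : G → G''` with
`G''` proper) then `u` is proper.
-/

set_option backward.isDefEq.respectTransparency.types false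
set_option synthInstance.maxHeartbeats 400000
set_option autoImplicit false
set_option linter.unusedSectionVars false
set_option linter.style.haveILetI false
universe u
open CategoryTheory CategoryTheory.Limits AlgebraicGeometry TopologicalSpace
open MonoidalCategory CartesianMonoidalCategory MonObj GrpObj
open Groth.Agent.Lib.Helper4.GrpKer1 Groth.Agent.Lib.Helper4.GrpKer2

namespace Groth.Agent.Helper2.ProperHomKer

variable {S : Scheme.{u}} {G G' G'' H : Over S} [GrpObj G] [GrpObj G'] [GrpObj G''] [GrpObj H]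
  (p : G ⟶ G'') [IsMonHom p] (i : G' ⟶ G) [IsMonHom i] (hker : IsKer i p)
  (u : G ⟶ H) [IsMonHom u]

/-- `(g', g) ↦ i(g') g`. -/
noncomputable def α : G' ⊗ G ⟶ G := (fst G' G ≫ i) * snd G' G

/-- `(h, g) ↦ (h u(g), g)`. -/
noncomputable def σ : H ⊗ G ⟶ H ⊗ G := lift (fst H G * (snd H G ≫ u)) (snd H G)

/-- `(h, g) ↦ (h u(g)⁻¹, g)`. -/
noncomputable def σinv : H ⊗ G ⟶ H ⊗ G := lift (fst H G * (snd H G ≫ u)⁻¹) (snd H G)

theorem σ_σinv : σ u ≫ σinv u = 𝟙 (H ⊗ G) := by
  apply CartesianMonoidalCategory.hom_ext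
  · rw [Category.assoc, σinv, lift_fst, MonObj.comp_mul, GrpObj.comp_inv, σ, lift_fst,
      lift_snd_assoc, mul_inv_cancel_right, Category.id_comp]
  · rw [Category.assoc, σinv, lift_snd, σ, lift_snd, Category.id_comp]

theorem σinv_σ : σinv u ≫ σ u = 𝟙 (H ⊗ G) := by
  apply CartesianMonoidalCategory.hom_ext
  · rw [Category.assoc, σ, lift_fst, MonObj.comp_mul, σinv, lift_fst,
      lift_snd_assoc, inv_mul_cancel_right, Category.id_comp]
  · rw [Category.assoc, σ, lift_snd, σinv, lift_snd, Category.id_comp]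

instance : IsIso (σ (G := G) u) := ⟨σinv u, σ_σinv u, σinv_σ u⟩

/-- `(g', g) ↦ (u(i(g')) u(g), g)`. -/
noncomputable def β : G' ⊗ G ⟶ H ⊗ G := ((i ≫ u) ▷ G) ≫ σ u

theorem α_points {T : Over S} (g' : T ⟶ G') (g : T ⟶ G) : lift g' g ≫ α i = (g' ≫ i) * g := by
  simp only [α, MonObj.comp_mul, lift_fst_assoc, lift_snd]

theorem β_points {T : Over S} (g' : T ⟶ G') (g : T ⟶ G) :
    lift g' g ≫ β i u = lift ((g' ≫ i ≫ u) * (g ≫ u)) g := by
  simp only [β, σ, lift_whiskerRight_assoc, comp_lift, MonObj.comp_mul, lift_fst, lift_snd,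
    lift_snd_assoc]

include hker in
/-- `G' × G = G ×_{H × G''} (H × G)`. -/
theorem isPullback_sq : IsPullback (β i u) (α i) (H ◁ p) (lift u p) := by
  haveI := hker.mono
  have hpt : ∀ {T : Over S} (t : T ⟶ G' ⊗ G), t = lift (t ≫ fst G' G) (t ≫ snd G' G) := by
    intro T t
    apply CartesianMonoidalCategory.hom_ext <;> simp
  refine isPullback_of_points _ _ _ _ ?_ ?_ ?_
  · rw [← Category.id_comp (β i u ≫ H ◁ p), ← Category.id_comp (α i ≫ lift u p),
      ← lift_fst_snd, ← Category.assoc, ← Category.assoc,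
      β_points, α_points, lift_whiskerLeft, comp_lift, MonObj.mul_comp, MonObj.mul_comp,
      Category.assoc, Category.assoc, hker.comp_eq_one, MonObj.comp_one,
      _root_.one_mul]
  · intro T y x hxy
    have h1 : x ≫ u = y ≫ fst H G := by
      have := congrArg (· ≫ fst H G'') hxy
      simp only [Category.assoc, whiskerLeft_fst, lift_fst] at this
      exact this.symm
    have h2 : x ≫ p = (y ≫ snd H G) ≫ p := by
      have := congrArg (· ≫ snd H G'') hxy
      simp only [Category.assoc, whiskerLeft_snd, lift_snd] at this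
      exact this.symm
    have h3 : (x * (y ≫ snd H G)⁻¹) ≫ p = 1 := by
      rw [MonObj.mul_comp, GrpObj.inv_comp, h2, mul_inv_cancel]
    obtain ⟨g', hg'⟩ := hker.exists_lift _ h3
    refine ⟨lift g' (y ≫ snd H G), ?_, ?_⟩
    · rw [β_points]
      apply CartesianMonoidalCategory.hom_ext
      · rw [lift_fst, ← h1, ← Category.assoc g', hg', ← MonObj.mul_comp, inv_mul_cancel_right]
      · rw [lift_snd]
    · rw [α_points, hg', inv_mul_cancel_right]
  · intro T s t h1 h2
    rw [hpt s, hpt t] at h1 h2 ⊢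
    rw [β_points, β_points] at h1
    rw [α_points, α_points] at h2
    have e1 : s ≫ snd G' G = t ≫ snd G' G := by
      have := congrArg (· ≫ snd H G) h1
      simpa using this
    rw [e1] at h2
    have e2 := mul_right_cancel h2
    rw [cancel_mono] at e2
    rw [e1, e2]

end Groth.Agent.Helper2.ProperHomKer
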