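import Mathlib
import Groth.Prelude.Def_AlgGrp
import Groth.Agent.Lib.Helper2.Sch.FppfCov
import Groth.Agent.Lib.Helper2.EtaleLocal
import Groth.Agent.Lib.Helper3.FppfDesc3
import Groth.Agent.Lib.Helper4.GrpKer2

/-!
# `G/f⁻¹(T) = C/T` for an fppf quotient `f : G → C` and a subgroup `T ⊆ C` (S6119) (helper2)
-/

set_option backward.isDefEq.respectTransparency.types false
set_option synthInstance.maxHeartbeats 400000
set_option autoImplicit false
set_option linter.unusedSectionVars false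
set_option linter.style.haveILetI false
universe u
open CategoryTheory CategoryTheory.Limits AlgebraicGeometry TopologicalSpace
open MonoidalCategory CartesianMonoidalCategory MonObj GrpObj
open Groth.Agent.Helper2.QuotDesc Groth.Agent.Helper2.FppfLift Groth.Agent.Helper2.FppfCov
open Groth.Agent.Lib.Helper4.GrpKer2

namespace Groth.Agent.Helper2.QuotPreimage

variable {S : Scheme.{u}} {G D C T'' H Q : Over S} [GrpObj G] [GrpObj D] [GrpObj C] [GrpObj T'']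
  [GrpObj H] (d : D ⟶ G) (f₀ : G ⟶ C) [IsMonHom f₀] (hf₀ : IsCov f₀)
  (pbD : IsPullback (fst G D) ((G ◁ d) ≫ μ[G]) f₀ f₀)
  (hd : d ≫ f₀ = 1)
  (t : T'' ⟶ C) [IsMonHom t] [Mono t] (k : H ⟶ G) [IsMonHom k] (g : H ⟶ T'')
  (hsq : IsPullback k g f₀ t) (q : G ⟶ Q)
  (pbH : IsPullback (fst G H) ((G ◁ k) ≫ μ[G]) q q)

include hd hsq in
/-- `D = Ker f₀` is contained in the preimage `H`. -/
theorem exists_le : ∃ e : D ⟶ H, e ≫ k = d := by
  refine ⟨hsq.lift d 1 ?_, hsq.lift_fst _ _ _⟩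
  rw [hd, MonObj.one_comp]

include hd hsq pbD pbH in
/-- `q` is constant on the fibres of `f₀`. -/
theorem comp_q_eq {T : Over S} (g₁ g₂ : T ⟶ G) (h12 : g₁ ≫ f₀ = g₂ ≫ f₀) : g₁ ≫ q = g₂ ≫ q := by
  obtain ⟨e, he⟩ := exists_le d f₀ hd t k g hsq
  obtain ⟨n, hn⟩ := exists_of_comp_eq d f₀ pbD _ _ h12
  rw [hn, ← he, ← Category.assoc, comp_eq_of_mul k q pbH]

variable (q' : C ⟶ Q) (hq' : f₀ ≫ q' = q)

include hf₀ hsq pbH hq' in
/-- Translating by `T''` does not change the image in `Q`. -/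
theorem mul_comp_q' {T : Over S} (c : T ⟶ C) (τ : T ⟶ T'') : (c * (τ ≫ t)) ≫ q' = c ≫ q' := by
  obtain ⟨T', π, g₀, g', hπ, hg₀, hg'⟩ := exists_lift₂ f₀ hf₀ f₀ hf₀ c (τ ≫ t)
  haveI := hπ.epi
  have e1 : g' ≫ f₀ = (π ≫ τ) ≫ t := by rw [hg', Category.assoc]
  have e2 : (g₀ * (hsq.lift g' (π ≫ τ) e1 ≫ k)) ≫ q = g₀ ≫ q := comp_eq_of_mul k q pbH _ _
  rw [hsq.lift_fst] at e2
  rw [← cancel_epi π, ← Category.assoc, MonObj.comp_mul, ← hg₀, ← Category.assoc π, ← e1,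
    ← MonObj.mul_comp, Category.assoc, hq', e2, ← hq', ← Category.assoc, hg₀, Category.assoc]

include hf₀ hsq pbH hq' in
/-- The kernel pair of `C → Q` is `C × T''`. -/
theorem isPullback_q' : IsPullback (fst C T'') ((C ◁ t) ≫ μ[C]) q' q' := by
  have e : ∀ {T : Over S} (r : T ⟶ C ⊗ T''),
      r ≫ (C ◁ t) ≫ μ[C] = (r ≫ fst C T'') * (r ≫ snd C T'' ≫ t) := by
    intro T r
    rw [Hom.mul_def, ← Category.assoc]
    congr 1
    apply CartesianMonoidalCategory.hom_ext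
    · rw [Category.assoc, whiskerLeft_fst, lift_fst]
    · rw [Category.assoc, whiskerLeft_snd, lift_snd]
  refine isPullback_of_points _ _ _ _ ?_ ?_ ?_
  · have := e (𝟙 (C ⊗ T''))
    rw [Category.id_comp, Category.id_comp, Category.id_comp] at this
    rw [this, mul_comp_q' f₀ hf₀ t k g hsq q pbH q' hq']
  · intro T c₁ c₂ h12
    obtain ⟨τ, hτ⟩ : ∃ τ : T ⟶ T'', τ ≫ t = c₁⁻¹ * c₂ := by
      obtain ⟨T', π, g₁, g₂, hπ, hg₁, hg₂⟩ := exists_lift₂ f₀ hf₀ f₀ hf₀ c₁ c₂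
      have e1 : g₁ ≫ q = g₂ ≫ q := by
        rw [← hq', ← Category.assoc, ← Category.assoc, hg₁, hg₂, Category.assoc, Category.assoc,
          h12]
      obtain ⟨x, hx⟩ := exists_of_comp_eq k q pbH _ _ e1
      refine hπ.exists_lift_mono t (c₁⁻¹ * c₂) (x ≫ g) ?_
      rw [Category.assoc, ← hsq.w, MonObj.comp_mul, GrpObj.comp_inv, ← hg₁, ← hg₂, hx,
        MonObj.mul_comp, inv_mul_cancel_left, Category.assoc]
    refine ⟨lift c₁ τ, lift_fst _ _, ?_⟩
    rw [e, lift_fst, lift_snd_assoc, hτ, mul_inv_cancel_left]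
  · intro T r₁ r₂ h1 h2
    rw [e, e, h1] at h2
    have h3 := mul_left_cancel h2
    rw [← Category.assoc, ← Category.assoc, cancel_mono] at h3
    exact CartesianMonoidalCategory.hom_ext _ _ h1 h3

end Groth.Agent.Helper2.QuotPreimage
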