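import Mathlib
import Groth.Agent.Lib.Helper2.Sch.FppfSourceDesc
import Groth.Agent.Lib.Helper2.AlgSp.SourceFppfSmooth
import Groth.Agent.Lib.Helper3.FppfDesc4
import Groth.Agent.Lib.Helper6.FlatQ.Quot
import Groth.Agent.Lib.Helper6.FlatQ.WQC
import Groth.Agent.S0079
import Groth.Agent.S0080

/-! Transfer of finiteness properties between `G`, `G'` and an fpqc quotient `G'' = G/G'`
(helper2). -/
set_option linter.style.haveILetI false
set_option autoImplicit false
set_option backward.isDefEq.respectTransparency.types false
set_option synthInstance.maxHeartbeats 400000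
namespace Groth.Agent.Helper2.QuotTransfer
open CategoryTheory CategoryTheory.Limits AlgebraicGeometry MonoidalCategory
  CartesianMonoidalCategory MonObj
open Groth.Agent.Lib.Helper6.FlatQ Groth.Agent.Helper2.FppfSourceDesc
universe u

variable {S : Scheme.{u}} {G G' G'' : Over S} [GrpObj G] [GrpObj G']

/-- `G' → S` is a base change of the projection `G ×_S G' → G` (along the unit section). -/
theorem prop_hom_of_prop_fst (P : MorphismProperty Scheme.{u}) [P.IsStableUnderBaseChange]
    (h : P (fst G G').left) : P G'.hom := by
  rw [Over.fst_left] at h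
  let e : S ⟶ G.left := η[G].left
  have he : e ≫ G.hom = 𝟙 S := Over.w η[G]
  let j : G'.left ⟶ pullback G.hom G'.hom :=
    pullback.lift (G'.hom ≫ e) (𝟙 _) (by rw [Category.assoc, he, Category.comp_id, Category.id_comp])
  have h1 : IsPullback j G'.hom (pullback.fst G.hom G'.hom) e := by
    refine IsPullback.of_right ?_ (pullback.lift_fst _ _ _)
      (IsPullback.of_hasPullback G.hom G'.hom).flip
    rw [pullback.lift_snd, he]
    exact IsPullback.of_id_fst
  exact MorphismProperty.of_isPullback (P := P) h1 h

section

variable (u : G' ⟶ G) (p : G ⟶ G'') {Z : Scheme.{u}} (q : Z ⟶ G''.left) (r : Z ⟶ G.left)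
  (hrq : r ≫ p.left = q) (hq : FQC q)
  (hsq : IsPullback ((G ◁ u) ≫ μ[G]) (fst G G') p p)

include hrq hq in
theorem surjective_of_cover : Surjective p.left := by
  constructor
  intro y
  obtain ⟨z, hz⟩ := hq.2.surjective.surj y
  refine ⟨r z, ?_⟩
  rw [← hz, ← hrq]
  rfl

include hrq hq hsq in
/-- Descent from `G'` to `p` of a property descending along fpqc coverings. -/
theorem prop_p_of_prop_hom (P : MorphismProperty Scheme.{u}) [P.IsStableUnderBaseChange]
    [P.DescendsAlong FQC.{u}] (h : P G'.hom) : P p.left := by
  have hsqL : IsPullback ((G ◁ u) ≫ μ[G]).left (fst G G').left p.left p.left :=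
    hsq.map (Over.forget S)
  have hbig := (IsPullback.of_hasPullback (fst G G').left r).paste_horiz hsqL
  rw [hrq] at hbig
  have h1 : P (fst G G').left := by
    rw [Over.fst_left]
    exact P.pullback_fst _ _ h
  have h2 : P (pullback.snd (fst G G').left r) := P.pullback_snd _ _ h1
  exact MorphismProperty.of_isPullback_of_descendsAlong (P := P) (Q := FQC.{u}) hbig.flip hq h2

include hsq in
/-- Ascent from `p` to `G'` of a property stable under base change. -/
theorem prop_hom_of_prop_p (P : MorphismProperty Scheme.{u}) [P.IsStableUnderBaseChange]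
    (h : P p.left) : P G'.hom := by
  have hsqL : IsPullback ((G ◁ u) ≫ μ[G]).left (fst G G').left p.left p.left :=
    hsq.map (Over.forget S)
  exact prop_hom_of_prop_fst P (MorphismProperty.of_isPullback (P := P) hsqL h)

end

end Groth.Agent.Helper2.QuotTransfer
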