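import Mathlib
import Groth.Prelude.Def_Flat
import Groth.Agent.Lib.Helper7.EtCoord.RankDim
import Groth.Agent.Lib.Helper2.Sch.SmoothRelDim

/-!
# Reduced finite type algebras over a perfect field with projective differentials are smooth
(S7623) (helper2)
-/

set_option autoImplicit false
set_option linter.style.haveILetI false
set_option linter.unusedSectionVars false

universe u

open CategoryTheory CategoryTheory.Limits AlgebraicGeometry TopologicalSpace Topology TensorProduct

namespace Groth.Agent.Helper2.ReducedProjOmega

open Groth.Agent.Helper7.EtCoord Groth.Agent.Helper2.SmoothRelDim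

/-- A field which is essentially of finite type over a perfect field is formally smooth. -/
theorem formallySmooth_of_isField (K L : Type u) [Field K] [PerfectField K] [CommRing L]
    [Algebra K L] [Algebra.EssFiniteType K L] (hL : IsField L) : Algebra.FormallySmooth K L := by
  letI : Field L := hL.toField
  exact Algebra.FormallySmooth.of_perfectField

theorem localDim_le_of_specializes {α : Type*} [TopologicalSpace α] (x x' : α) (hsp : x ⤳ x') :
    FlatMor.localDim α x ≤ FlatMor.localDim α x' := by
  unfold FlatMor.localDim
  refine le_iInf fun U => ?_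
  exact iInf_le (fun U : {U : TopologicalSpace.Opens α // x ∈ U} =>
    topologicalKrullDim (U.1 : Set α)) ⟨U.1, hsp.mem_open U.1.isOpen U.2⟩

/-- A minimal prime of a reduced finite type algebra over a perfect field is a smooth point. -/
theorem isSmoothAt_of_mem_minimalPrimes (k A : Type u) [Field k] [PerfectField k] [CommRing A]
    [Algebra k A] [Algebra.FiniteType k A] [IsReduced A] (p : Ideal A) [p.IsPrime]
    (hp : p ∈ minimalPrimes A) : Algebra.IsSmoothAt k p := by
  haveI : Ring.KrullDimLE 0 (Localization.AtPrime p) :=
    Ring.KrullDimLE.of_isLocalization p hp (Localization.AtPrime p)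
  have hF : IsField (Localization.AtPrime p) := Ring.KrullDimLE.isField_of_isReduced
  exact formallySmooth_of_isField k (Localization.AtPrime p) hF

theorem S7623_main (k A : Type u) [Field k] [PerfectField k] [CommRing A] [Algebra k A]
    [Algebra.FiniteType k A] [IsReduced A] [Module.Projective A Ω[A⁄k]] : Algebra.Smooth k A := by
  haveI : Algebra.FinitePresentation k A :=
    (Algebra.FinitePresentation.of_finiteType).mp inferInstance
  haveI : Module.Finite A Ω[A⁄k] := inferInstance
  haveI : Module.FinitePresentation A Ω[A⁄k] := inferInstance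
  have hloc : IsLocallyConstant (Module.rankAtStalk (R := A) Ω[A⁄k]) :=
    Module.isLocallyConstant_rankAtStalk
  have hall : ∀ q : PrimeSpectrum A, Algebra.IsSmoothAt k q.asIdeal := by
    intro q
    obtain ⟨p, hp, hpq⟩ := Ideal.exists_minimalPrimes_le (I := (⊥ : Ideal A)) (J := q.asIdeal)
      bot_le
    haveI : p.IsPrime := hp.1.1
    haveI : Algebra.IsSmoothAt k p := isSmoothAt_of_mem_minimalPrimes k A p hp
    have hsp : (⟨p, inferInstance⟩ : PrimeSpectrum A) ⤳ q := by
      rw [← PrimeSpectrum.le_iff_specializes]
      exact hpq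
    have hrank : Module.rankAtStalk (R := A) Ω[A⁄k] ⟨p, inferInstance⟩ =
        Module.rankAtStalk (R := A) Ω[A⁄k] q :=
      (specializes_iff_eq.mp (hsp.map hloc.continuous))
    have h1 := localDim_eq_finrank_of_isSmoothAt (k := k) p
    have h2 : FlatMor.localDim (PrimeSpectrum A) ⟨p, inferInstance⟩ ≤
        FlatMor.localDim (PrimeSpectrum A) q := localDim_le_of_specializes _ _ hsp
    have h3 : Module.finrank p.ResidueField (p.ResidueField ⊗[A] Ω[A⁄k]) =
        Module.rankAtStalk (R := A) Ω[A⁄k] ⟨p, inferInstance⟩ :=
      Ideal.finrank_fiber_eq_rankAtStalk (M := Ω[A⁄k]) p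
    have h4 : Module.finrank q.asIdeal.ResidueField (q.asIdeal.ResidueField ⊗[A] Ω[A⁄k]) =
        Module.rankAtStalk (R := A) Ω[A⁄k] q :=
      Ideal.finrank_fiber_eq_rankAtStalk (M := Ω[A⁄k]) q.asIdeal
    rw [rankDim_main, h4, ← hrank, ← h3]
    calc ((Module.finrank p.ResidueField (p.ResidueField ⊗[A] Ω[A⁄k]) : ℕ∞) : WithBot ℕ∞)
        = FlatMor.localDim (PrimeSpectrum A) ⟨p, inferInstance⟩ := by rw [h1]; rfl
      _ ≤ _ := h2
  haveI : Algebra.FormallySmooth k A := by
    rw [← Algebra.smoothLocus_eq_univ_iff]
    exact Set.eq_univ_of_forall hall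
  exact ⟨inferInstance, inferInstance⟩

end Groth.Agent.Helper2.ReducedProjOmega
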