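import Mathlib
import Groth.Agent.S0083

/-!
# Separatedness descends along finite flat surjective morphisms of the source (helper2)

If `m : U ⟶ M` is finite, flat and surjective and `U ⟶ B` is (quasi-)separated, then `M ⟶ B` is
(quasi-)separated.
-/

set_option backward.isDefEq.respectTransparency.types false
set_option synthInstance.maxHeartbeats 400000
set_option autoImplicit false
set_option linter.unusedSectionVars false
set_option linter.style.haveILetI false
universe u
open CategoryTheory CategoryTheory.Limits AlgebraicGeometry Opposite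

namespace Groth.Agent.Helper2.SepQuot

/-- Quasi-compactness descends along a quasi-compact surjective base change. -/
theorem quasiCompact_of_isPullback_of_surjective {X' Y' X Y : Scheme.{u}} {f' : X' ⟶ Y'}
    {g' : X' ⟶ X} {g : Y' ⟶ Y} {f : X ⟶ Y} (sq : IsPullback f' g' g f) [Surjective g]
    [QuasiCompact g] [QuasiCompact f'] : QuasiCompact f := by
  constructor
  intro U hU hUc
  have h1 : IsCompact (g ⁻¹' U) := QuasiCompact.isCompact_preimage (f := g) U hU hUc
  have h2 : IsCompact (f' ⁻¹' (g ⁻¹' U)) :=
    QuasiCompact.isCompact_preimage (f := f') _ (hU.preimage g.continuous) h1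
  have h3 : g' '' (f' ⁻¹' (g ⁻¹' U)) = f ⁻¹' U := by
    ext x
    constructor
    · rintro ⟨x', hx', rfl⟩
      have := congrArg (fun φ : X' ⟶ Y => φ x') sq.w
      simp only [Scheme.Hom.comp_apply] at this
      show f (g' x') ∈ U
      rw [← this]
      exact hx'
    · intro hx
      obtain ⟨y', hy'⟩ := g.surjective (f x)
      obtain ⟨x'', h4, h5⟩ := Scheme.Pullback.exists_preimage_pullback (f := g) (g := f) y' x hy'
      refine ⟨sq.isoPullback.inv x'', ?_, ?_⟩
      · have e1 : f' (sq.isoPullback.inv x'') = y' := by
          rw [← Scheme.Hom.comp_apply, sq.isoPullback_inv_fst, h4]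
        show g (f' (sq.isoPullback.inv x'')) ∈ U
        rw [e1, hy']
        exact hx
      · rw [← Scheme.Hom.comp_apply, sq.isoPullback_inv_snd, h5]
  rw [← h3]
  exact h2.image g'.continuous

variable {U M B : Scheme.{u}} (m : U ⟶ M) (pM : M ⟶ B)

theorem isSeparated_of_finite_flat_surjective [IsFinite m] [Flat m] [Surjective m]
    [IsSeparated (m ≫ pM)] : IsSeparated pM := by
  haveI := Groth.Agent.S0083.result.{u}
  have sq := (pullback_map_diagonal_isPullback m m pM).flip
  have hQ : (@Surjective ⊓ @Flat ⊓ @QuasiCompact : MorphismProperty Scheme.{u})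
      (pullback.map (m ≫ pM) (m ≫ pM) pM pM m m (𝟙 _) (Category.comp_id _)
        (Category.comp_id _)) :=
    MorphismProperty.pullbackMap (P := @Surjective ⊓ @Flat ⊓ @QuasiCompact)
      ⟨⟨inferInstance, inferInstance⟩, inferInstance⟩
      ⟨⟨inferInstance, inferInstance⟩, inferInstance⟩ rfl rfl
  constructor
  refine MorphismProperty.of_isPullback_of_descendsAlong (P := @IsClosedImmersion)
    (Q := @Surjective ⊓ @Flat ⊓ @QuasiCompact) sq hQ ?_
  rw [IsClosedImmersion.iff_isFinite_and_mono]
  constructor
  · haveI : IsFinite (pullback.map m m (m ≫ pM) (m ≫ pM) (𝟙 _) (𝟙 _) pM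
        (Category.id_comp _).symm (Category.id_comp _).symm ≫
        pullback.snd (m ≫ pM) (m ≫ pM)) := by
      rw [pullback.lift_snd, Category.comp_id]
      infer_instance
    exact IsFinite.of_comp _ (pullback.snd (m ≫ pM) (m ≫ pM))
  · exact MorphismProperty.of_isPullback (P := MorphismProperty.monomorphisms Scheme.{u}) sq.flip
      (inferInstanceAs (Mono (pullback.diagonal pM)))

theorem quasiSeparated_of_finite_flat_surjective [IsFinite m] [Flat m] [Surjective m]
    [QuasiSeparated (m ≫ pM)] : QuasiSeparated pM := by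
  have sq := (pullback_map_diagonal_isPullback m m pM).flip
  have hQ : (@Surjective ⊓ @Flat ⊓ @QuasiCompact : MorphismProperty Scheme.{u})
      (pullback.map (m ≫ pM) (m ≫ pM) pM pM m m (𝟙 _) (Category.comp_id _)
        (Category.comp_id _)) :=
    MorphismProperty.pullbackMap (P := @Surjective ⊓ @Flat ⊓ @QuasiCompact)
      ⟨⟨inferInstance, inferInstance⟩, inferInstance⟩
      ⟨⟨inferInstance, inferInstance⟩, inferInstance⟩ rfl rfl
  haveI : Surjective (pullback.map (m ≫ pM) (m ≫ pM) pM pM m m (𝟙 _) (Category.comp_id _)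
        (Category.comp_id _)) := hQ.1.1
  haveI : QuasiCompact (pullback.map (m ≫ pM) (m ≫ pM) pM pM m m (𝟙 _) (Category.comp_id _)
        (Category.comp_id _)) := hQ.2
  haveI : QuasiCompact (pullback.map m m (m ≫ pM) (m ≫ pM) (𝟙 _) (𝟙 _) pM
        (Category.id_comp _).symm (Category.id_comp _).symm) := by
    haveI : QuasiCompact (pullback.map m m (m ≫ pM) (m ≫ pM) (𝟙 _) (𝟙 _) pM
        (Category.id_comp _).symm (Category.id_comp _).symm ≫
        pullback.snd (m ≫ pM) (m ≫ pM)) := by
      rw [pullback.lift_snd, Category.comp_id]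
      infer_instance
    exact QuasiCompact.of_comp _ (pullback.snd (m ≫ pM) (m ≫ pM))
  constructor
  exact quasiCompact_of_isPullback_of_surjective sq

end Groth.Agent.Helper2.SepQuot
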