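import Mathlib
import Groth.Agent.Lib.Helper2.Ring.EtNbhd

/-! A smooth morphism of schemes has sections étale locally on the target. -/
namespace Groth.Agent.Helper2.SchLib
open CategoryTheory CategoryTheory.Limits AlgebraicGeometry
open Groth.Agent.Helper2.RingLib
universe u

set_option backward.isDefEq.respectTransparency.types false in
/-- Smooth morphisms have étale local sections through any point of the source. -/
theorem exists_etale_section_of_smooth {X S : Scheme.{u}} (f : X ⟶ S) [Smooth f] (x : X) :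
    ∃ (S' : Scheme.{u}) (g : S' ⟶ S) (s' : S') (h : S' ⟶ X),
      Etale g ∧ g s' = f x ∧ h ≫ f = g := by
  obtain ⟨U, hU, V, hV, hxV, e, hstd⟩ := Smooth.exists_isStandardSmooth f x
  obtain ⟨n, g₀, hg₀C, hg₀et⟩ := hstd.exists_etale_mvPolynomial
  let A := Γ(S, U)
  let B := Γ(X, V)
  let P : CommRingCat.{u} := CommRingCat.of (MvPolynomial (Fin n) A)
  let G : Spec B ⟶ Spec P := Spec.map (CommRingCat.ofHom g₀)
  haveI hG : Etale G := (HasRingHomProperty.Spec_iff (P := @Etale)).mpr hg₀et
  let y : Spec B := hV.primeIdealOf ⟨x, hxV⟩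
  have hopen : IsOpen (Set.range G) := G.isOpenMap.isOpen_range
  obtain ⟨N, _, _, _, ν, p', h1, h2⟩ := exists_etale_point A n (Set.range G) hopen (G y) ⟨y, rfl⟩
  let NN : CommRingCat.{u} := CommRingCat.of N
  let ΦN : Spec NN ⟶ Spec P :=
    Spec.map (CommRingCat.ofHom (MvPolynomial.aeval ν : MvPolynomial (Fin n) A →ₐ[A] N).toRingHom)
  let α : Spec NN ⟶ Spec A := Spec.map (CommRingCat.ofHom (algebraMap A N))
  haveI hα : Etale α := (HasRingHomProperty.Spec_iff (P := @Etale)).mpr
    (RingHom.etale_algebraMap.mpr inferInstance)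
  let γ : Spec P ⟶ Spec A := Spec.map (CommRingCat.ofHom (MvPolynomial.C : A →+* MvPolynomial (Fin n) A))
  have hΦγ : ΦN ≫ γ = α := by
    rw [← Spec.map_comp]
    congr 1
    ext a
    simp only [CommRingCat.hom_comp, CommRingCat.hom_ofHom, RingHom.coe_comp, Function.comp_apply]
    exact MvPolynomial.aeval_C ν a
  have hGγ : G ≫ γ = Spec.map (f.appLE U V e) := by
    rw [← Spec.map_comp]
    congr 1
    ext a
    exact congrArg (fun ψ => ψ a) hg₀C
  obtain ⟨y', hy'⟩ := h2
  obtain ⟨z, hz1, hz2⟩ := Scheme.Pullback.exists_preimage_pullback (f := ΦN) (g := G) p' y'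
    hy'.symm
  refine ⟨pullback ΦN G, pullback.fst ΦN G ≫ α ≫ hU.fromSpec, z,
    pullback.snd ΦN G ≫ hV.fromSpec, inferInstance, ?_, ?_⟩
  · rw [Scheme.Hom.comp_apply, Scheme.Hom.comp_apply, hz1]
    have h3 : α p' = (Spec.map (f.appLE U V e)) y := by
      rw [← hGγ, Scheme.Hom.comp_apply]
      exact h1
    rw [h3, ← Scheme.Hom.comp_apply, IsAffineOpen.SpecMap_appLE_fromSpec f hU hV e,
      Scheme.Hom.comp_apply, IsAffineOpen.fromSpec_primeIdealOf]
  · rw [Category.assoc, ← IsAffineOpen.SpecMap_appLE_fromSpec f hU hV e, ← hGγ,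
      ← Category.assoc, ← Category.assoc, ← pullback.condition, Category.assoc, Category.assoc,
      ← Category.assoc ΦN, hΦγ]

end Groth.Agent.Helper2.SchLib
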