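import Mathlib
import Groth.Prelude.Def_GLinSh
import Groth.Prelude.Def_W4bk4git07Quot
import Groth.Prelude.Def_AlgGrp
import Groth.Agent.Lib.Helper4.Act1
import Groth.Agent.Lib.Helper4.Chev3
import Groth.Agent.Lib.Helper4.FibDimBC2
import Groth.Agent.Lib.Helper4.FibDimComp1
import Groth.Agent.Lib.Helper4.HomogDim1

/-!
# Upper semicontinuity of the stabiliser dimension (helper2)

For an action of a group scheme `G` (locally of finite type) on `X` over `S`, the dimension of the
stabiliser `GLinSh.stab` of the canonical point `Spec κ(x) ⟶ X` is the local fibre dimension of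
`Ψ = (σ, p₂) : G ×_S X ⟶ X ×_S X` at the identity point `(e, x)`; the latter is upper
semicontinuous by Chevalley's theorem.  Homogeneity of the stabiliser is obtained from the right
translation automorphism of `G × T` by a `T`-point of `G` stabilising a `T`-point of `X`.
-/

set_option backward.isDefEq.respectTransparency.types false
set_option autoImplicit false
set_option synthInstance.maxHeartbeats 400000
set_option maxHeartbeats 4000000
set_option linter.style.haveILetI false
set_option linter.unusedSectionVars false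
set_option linter.unusedVariables false
set_option linter.unusedSimpArgs false
set_option linter.unnecessarySimpa false

open CategoryTheory CategoryTheory.Limits MonoidalCategory CartesianMonoidalCategory MonObj GrpObj
  AlgebraicGeometry

namespace Groth.Agent.Helper2.StabDim

universe v u

section Abstract

variable {C : Type u} [Category.{v} C] [CartesianMonoidalCategory C]
variable {G X : C} [GrpObj G] (act : G ⊗ X ⟶ X)

theorem whiskerLeft_eq_lift {T : C} (f : T ⟶ X) :
    G ◁ f = lift (fst G T) (snd G T ≫ f) := by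
  apply CartesianMonoidalCategory.hom_ext
  · rw [whiskerLeft_fst, lift_fst]
  · rw [whiskerLeft_snd, lift_snd]

theorem psi_sq_w {T : C} (f : T ⟶ X) :
    (G ◁ f) ≫ lift act (snd G X) = lift ((G ◁ f) ≫ act) (snd G T) ≫ (X ◁ f) := by
  apply CartesianMonoidalCategory.hom_ext
  · rw [Category.assoc, lift_fst, Category.assoc, whiskerLeft_fst, lift_fst]
  · rw [Category.assoc, lift_snd, whiskerLeft_snd, Category.assoc, whiskerLeft_snd,
      ← Category.assoc, lift_snd]

theorem psi_lift_fac {W T : C} (f : T ⟶ X) (u : W ⟶ G ⊗ X) (v : W ⟶ X ⊗ T)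
    (h : u ≫ lift act (snd G X) = v ≫ (X ◁ f)) :
    lift (u ≫ fst G X) (v ≫ snd X T) ≫ (G ◁ f) = u ∧
      lift (u ≫ fst G X) (v ≫ snd X T) ≫ lift ((G ◁ f) ≫ act) (snd G T) = v := by
  have h1 : u ≫ act = v ≫ fst X T := by
    have h' := congrArg (fun t => t ≫ fst X X) h
    simp only [Category.assoc, lift_fst, whiskerLeft_fst] at h'
    exact h'
  have h2 : u ≫ snd G X = v ≫ snd X T ≫ f := by
    have h' := congrArg (fun t => t ≫ snd X X) h
    simp only [Category.assoc, lift_snd, whiskerLeft_snd] at h'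
    exact h'
  have e1 : lift (u ≫ fst G X) (v ≫ snd X T) ≫ (G ◁ f) = u := by
    apply CartesianMonoidalCategory.hom_ext
    · rw [Category.assoc, whiskerLeft_fst, lift_fst]
    · rw [Category.assoc, whiskerLeft_snd, ← Category.assoc, lift_snd, Category.assoc, h2]
  refine ⟨e1, ?_⟩
  apply CartesianMonoidalCategory.hom_ext
  · rw [Category.assoc, lift_fst, ← Category.assoc, e1, h1]
  · rw [Category.assoc, lift_snd, lift_snd]

/-- The square comparing the orbit map of a `T`-point with `Ψ = (σ, p₂)` is cartesian. -/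
theorem isPullback_psi {T : C} (f : T ⟶ X) :
    IsPullback (G ◁ f) (lift ((G ◁ f) ≫ act) (snd G T)) (lift act (snd G X)) (X ◁ f) := by
  refine ⟨⟨psi_sq_w act f⟩, ⟨PullbackCone.IsLimit.mk _
    (fun s => lift (s.fst ≫ fst G X) (s.snd ≫ snd X T))
    (fun s => (psi_lift_fac act f s.fst s.snd s.condition).1)
    (fun s => (psi_lift_fac act f s.fst s.snd s.condition).2) ?_⟩⟩
  intro s m hm1 hm2
  apply CartesianMonoidalCategory.hom_ext
  · rw [lift_fst, ← hm1, Category.assoc, whiskerLeft_fst]
  · rw [lift_snd, ← hm2, Category.assoc, lift_snd]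

/-- Right translation of `G × T` by a `T`-point of `G`. -/
def rt {T : C} (g : T ⟶ G) : G ⊗ T ⟶ G ⊗ T :=
  lift (fst G T * (snd G T ≫ g)) (snd G T)

theorem rt_fst {T : C} (g : T ⟶ G) : rt g ≫ fst G T = fst G T * (snd G T ≫ g) := lift_fst _ _

theorem rt_snd {T : C} (g : T ⟶ G) : rt g ≫ snd G T = snd G T := lift_snd _ _

theorem rt_comp {T : C} (g h : T ⟶ G) : rt g ≫ rt h = rt (g * h) := by
  apply CartesianMonoidalCategory.hom_ext
  · have e1 : (rt g ≫ rt h) ≫ fst G T = (fst G T * (snd G T ≫ g)) * (snd G T ≫ h) := by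
      rw [Category.assoc, rt_fst h, MonObj.comp_mul, rt_fst g, ← Category.assoc, rt_snd g]
    have e2 : rt (g * h) ≫ fst G T = fst G T * ((snd G T ≫ g) * (snd G T ≫ h)) := by
      rw [rt_fst, MonObj.comp_mul]
    rw [e1, e2, _root_.mul_assoc]
  · rw [Category.assoc, rt_snd h, rt_snd g, rt_snd]

theorem rt_one {T : C} : rt (1 : T ⟶ G) = 𝟙 (G ⊗ T) := by
  apply CartesianMonoidalCategory.hom_ext
  · rw [rt_fst, MonObj.comp_one, _root_.mul_one, Category.id_comp]
  · rw [rt_snd, Category.id_comp]

theorem isIso_rt {T : C} (g : T ⟶ G) : IsIso (rt g) :=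
  ⟨⟨rt g⁻¹, by rw [rt_comp, _root_.mul_inv_cancel, rt_one],
    by rw [rt_comp, _root_.inv_mul_cancel, rt_one]⟩⟩

theorem rt_whisker {T : C} (g : T ⟶ G) (f : T ⟶ X) :
    rt g ≫ (G ◁ f) = lift (fst G T * (snd G T ≫ g)) (snd G T ≫ f) := by
  apply CartesianMonoidalCategory.hom_ext
  · rw [Category.assoc, whiskerLeft_fst, rt_fst, lift_fst]
  · rw [Category.assoc, whiskerLeft_snd, ← Category.assoc, rt_snd, lift_snd]

/-- Right translation by a point stabilising `f` is an automorphism of the orbit map of `f`. -/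
theorem rt_psi (mul_act : (μ[G] ▷ X) ≫ act = (α_ G G X).hom ≫ (G ◁ act) ≫ act)
    {T : C} (g : T ⟶ G) (f : T ⟶ X) (hs : lift g f ≫ act = f) :
    rt g ≫ lift ((G ◁ f) ≫ act) (snd G T) = lift ((G ◁ f) ≫ act) (snd G T) := by
  have e2 : lift (snd G T ≫ g) (snd G T ≫ f) ≫ act = snd G T ≫ f := by
    rw [← comp_lift, Category.assoc, hs]
  apply CartesianMonoidalCategory.hom_ext
  · rw [Category.assoc, lift_fst, ← Category.assoc, rt_whisker,
      Groth.Agent.Helper4.Act.mul_smul' act mul_act, e2, ← whiskerLeft_eq_lift f]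
  · rw [Category.assoc, lift_snd, rt_snd]

theorem pt_rt {T : C} (g : T ⟶ G) : lift (1 : T ⟶ G) (𝟙 T) ≫ rt g = lift g (𝟙 T) := by
  apply CartesianMonoidalCategory.hom_ext
  · rw [Category.assoc, rt_fst, MonObj.comp_mul, lift_fst, ← Category.assoc, lift_snd,
      Category.id_comp, _root_.one_mul, lift_fst]
  · rw [Category.assoc, rt_snd, lift_snd, lift_snd]

theorem pt_whisker {T : C} (g : T ⟶ G) (f : T ⟶ X) : lift g (𝟙 T) ≫ (G ◁ f) = lift g f := by
  rw [lift_whiskerLeft, Category.id_comp]

theorem pt_psi (one_act : (η[G] ▷ X) ≫ act = (λ_ X).hom) {T : C} (f : T ⟶ X) :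
    lift (1 : T ⟶ G) (𝟙 T) ≫ lift ((G ◁ f) ≫ act) (snd G T) = lift f (𝟙 T) := by
  apply CartesianMonoidalCategory.hom_ext
  · rw [Category.assoc, lift_fst, ← Category.assoc, pt_whisker,
      Groth.Agent.Helper4.Act.one_smul' act one_act, lift_fst]
  · rw [Category.assoc, lift_snd, lift_snd, lift_snd]

end Abstract

section Sch

open Groth.Agent.Lib.Helper4.FibDimBC2 Groth.Agent.Lib.Helper4.FibDimComp1
  Groth.Agent.Lib.Helper4.Chev3 Groth.Agent.Lib.Helper4.HomogDim1

theorem fibreDimAt_of_comp_iso {A B : Scheme.{u}} (p : A ⟶ B) [LocallyOfFiniteType p]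
    (r : A ⟶ A) [IsIso r] (h : r ≫ p = p) (z : A) :
    FlatMor.fibreDimAt p (r z) = FlatMor.fibreDimAt p z := by
  have sq : IsPullback r p p (𝟙 B) :=
    IsPullback.of_horiz_isIso ⟨by rw [h, Category.comp_id]⟩
  exact (fibreDimAt_abs p (𝟙 B) r p sq z).symm

variable {S : Scheme.{u}} {G X : Over S} [GrpObj G] (a : AlgGrp.Action G X)

/-- Homogeneity: the local fibre dimension of `Ψ` at a point `(g, f)` with `g · f = f` equals
the one at `(e, f)`. -/
theorem fibreDimAt_stab_pt [LocallyOfFiniteType (lift a.act (snd G X)).left] {T : Over S}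
    (g : T ⟶ G) (f : T ⟶ X) (hs : lift g f ≫ a.act = f) (t : T.left) :
    FlatMor.fibreDimAt (lift a.act (snd G X)).left ((lift g f).left t) =
      FlatMor.fibreDimAt (lift a.act (snd G X)).left ((lift (1 : T ⟶ G) f).left t) := by
  have sq0 := (isPullback_psi a.act f).map (Over.forget S)
  simp only [Over.forget_obj, Over.forget_map] at sq0
  haveI : LocallyOfFiniteType (lift ((G ◁ f) ≫ a.act) (snd G T)).left :=
    MorphismProperty.of_isPullback sq0 inferInstance
  have h1 := fibreDimAt_abs (lift a.act (snd G X)).left (X ◁ f).left (G ◁ f).left _ sq0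
  haveI : IsIso (rt g) := isIso_rt g
  haveI : IsIso (rt g).left := inferInstanceAs (IsIso ((Over.forget _).map (rt g)))
  have h2 := fibreDimAt_of_comp_iso (lift ((G ◁ f) ≫ a.act) (snd G T)).left (rt g).left
    (by rw [← Over.comp_left, rt_psi a.act a.mul_act g f hs])
  have eg : (lift g f).left t = (G ◁ f).left ((lift g (𝟙 T)).left t) := by
    rw [← Scheme.Hom.comp_apply, ← Over.comp_left, pt_whisker]
  have e1 : (lift (1 : T ⟶ G) f).left t = (G ◁ f).left ((lift (1 : T ⟶ G) (𝟙 T)).left t) := by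
    rw [← Scheme.Hom.comp_apply, ← Over.comp_left, pt_whisker]
  have er : (lift g (𝟙 T)).left t = (rt g).left ((lift (1 : T ⟶ G) (𝟙 T)).left t) := by
    rw [← Scheme.Hom.comp_apply, ← Over.comp_left, pt_rt]
  rw [eg, ← h1, er, h2, h1, ← e1]

section Stab

variable {T : Over S} (f : T ⟶ X)

/-- The stabiliser as an object over `S`. -/
noncomputable abbrev stabOver : Over S := Over.mk (GLinSh.stabTo a f ≫ T.hom)

theorem stab_w : pullback.fst (GIT.psi a f).left (lift f (𝟙 T)).left ≫ (G ⊗ T).hom =
    GLinSh.stabTo a f ≫ T.hom := by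
  have hc := pullback.condition (f := (GIT.psi a f).left) (g := (lift f (𝟙 T)).left)
  have e1 : (GIT.psi a f).left ≫ (X ⊗ T).hom = (G ⊗ T).hom := Over.w (GIT.psi a f)
  have e2 : (lift f (𝟙 T)).left ≫ (X ⊗ T).hom = T.hom := Over.w (lift f (𝟙 T))
  unfold GLinSh.stabTo
  rw [← e1, ← Category.assoc, hc, Category.assoc, e2]
  rfl

/-- The inclusion of the stabiliser in `G ⊗ T`. -/
noncomputable def inc₁ : stabOver a f ⟶ G ⊗ T :=
  Over.homMk (pullback.fst (GIT.psi a f).left (lift f (𝟙 T)).left) (stab_w a f)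

/-- The structure morphism of the stabiliser. -/
noncomputable def inc₂ : stabOver a f ⟶ T :=
  Over.homMk (GLinSh.stabTo a f) rfl

theorem inc_cond : inc₁ a f ≫ lift ((G ◁ f) ≫ a.act) (snd G T) = inc₂ a f ≫ lift f (𝟙 T) := by
  apply Over.OverMorphism.ext
  exact pullback.condition (f := (GIT.psi a f).left) (g := (lift f (𝟙 T)).left)

theorem inc_act : (inc₁ a f ≫ (G ◁ f)) ≫ a.act = inc₂ a f ≫ f := by
  have h := congrArg (fun t => t ≫ fst X T) (inc_cond a f)
  simp only [Category.assoc, lift_fst] at h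
  rw [Category.assoc]
  exact h

theorem inc_snd : inc₁ a f ≫ snd G T = inc₂ a f := by
  have h := congrArg (fun t => t ≫ snd X T) (inc_cond a f)
  simp only [Category.assoc, lift_snd, Category.comp_id] at h
  exact h

theorem inc_whisker_snd : (inc₁ a f ≫ (G ◁ f)) ≫ snd G X = inc₂ a f ≫ f := by
  rw [Category.assoc, whiskerLeft_snd, ← Category.assoc, inc_snd]

theorem isPullback_stab :
    IsPullback (inc₁ a f ≫ (G ◁ f)).left (GLinSh.stabTo a f) (lift a.act (snd G X)).left
      ((lift f (𝟙 T)).left ≫ (X ◁ f).left) := by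
  have sq0 := (isPullback_psi a.act f).map (Over.forget S)
  simp only [Over.forget_obj, Over.forget_map] at sq0
  exact (IsPullback.of_hasPullback (GIT.psi a f).left (lift f (𝟙 T)).left).paste_horiz sq0

theorem fibreDimAt_stabTo [LocallyOfFiniteType (lift a.act (snd G X)).left]
    (h : ↥(GLinSh.stab a f)) :
    FlatMor.fibreDimAt (GLinSh.stabTo a f) h =
      FlatMor.fibreDimAt (lift a.act (snd G X)).left
        ((lift (1 : X ⟶ G) (𝟙 X)).left (f.left (GLinSh.stabTo a f h))) := by
  have k1 := fibreDimAt_abs (lift a.act (snd G X)).left _ _ _ (isPullback_stab a f) h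
  have hlift : lift ((inc₁ a f ≫ (G ◁ f)) ≫ fst G X) (inc₂ a f ≫ f) = inc₁ a f ≫ (G ◁ f) := by
    apply CartesianMonoidalCategory.hom_ext
    · rw [lift_fst]
    · rw [lift_snd, inc_whisker_snd]
  have hs : lift ((inc₁ a f ≫ (G ◁ f)) ≫ fst G X) (inc₂ a f ≫ f) ≫ a.act = inc₂ a f ≫ f := by
    rw [hlift, inc_act]
  have k2 := fibreDimAt_stab_pt a ((inc₁ a f ≫ (G ◁ f)) ≫ fst G X) (inc₂ a f ≫ f) hs h
  rw [hlift] at k2
  have e3 : lift (1 : stabOver a f ⟶ G) (inc₂ a f ≫ f) =
      (inc₂ a f ≫ f) ≫ lift (1 : X ⟶ G) (𝟙 X) := by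
    rw [comp_lift, MonObj.comp_one, Category.comp_id]
  rw [e3] at k2
  rw [k1]
  exact k2

/-- The stabiliser of a point with values in a one-point locally Noetherian scheme has dimension
the local fibre dimension of `Ψ` at the identity point. -/
theorem tdim_stab [LocallyOfFiniteType (lift a.act (snd G X)).left]
    [Subsingleton ↥T.left] [IsLocallyNoetherian T.left] (t : ↥T.left) :
    topologicalKrullDim ↥(GLinSh.stab a f) =
      FlatMor.fibreDimAt (lift a.act (snd G X)).left
        ((lift (1 : X ⟶ G) (𝟙 X)).left (f.left t)) := by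
  obtain ⟨d, hd⟩ := exists_fibreDimAt_nat (lift a.act (snd G X)).left
    ((lift (1 : X ⟶ G) (𝟙 X)).left (f.left t))
  haveI : LocallyOfFiniteType (GLinSh.stabTo a f) :=
    MorphismProperty.of_isPullback (isPullback_stab a f) inferInstance
  have hconst : ∀ h : ↥(GLinSh.stab a f),
      FlatMor.fibreDimAt (GLinSh.stabTo a f) h = (d : WithBot ℕ∞) := by
    intro h
    rw [fibreDimAt_stabTo, Subsingleton.elim (GLinSh.stabTo a f h) t, hd]
  have hw : (lift (1 : T ⟶ G) (𝟙 T)).left ≫ (GIT.psi a f).left =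
      𝟙 T.left ≫ (lift f (𝟙 T)).left := by
    rw [Category.id_comp, ← Over.comp_left]
    exact congrArg CommaMorphism.left (pt_psi a.act a.one_act f)
  let h₀ : ↥(GLinSh.stab a f) :=
    (pullback.lift (lift (1 : T ⟶ G) (𝟙 T)).left (𝟙 T.left) hw) t
  have key := tdim_eq_of_const (GLinSh.stabTo a f) d hconst t Set.univ isOpen_univ
    ⟨h₀, trivial⟩ (fun z _ => Subsingleton.elim _ _)
  have e := IsHomeomorph.topologicalKrullDim_eq _
    (Homeomorph.Set.univ ↥(GLinSh.stab a f)).isHomeomorph
  rw [← e, key, hd]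

end Stab

/-- Upper semicontinuity of the stabiliser dimension at all scheme points. -/
theorem main [LocallyOfFiniteType G.hom] (n : WithBot ℕ∞) :
    IsClosed {x : X.left | n ≤ topologicalKrullDim
      (GLinSh.stab a (Over.homMk (X.left.fromSpecResidueField x) rfl :
        Over.mk (X.left.fromSpecResidueField x ≫ X.hom) ⟶ X))} := by
  haveI : LocallyOfFiniteType (snd G X).left := by
    rw [Over.snd_left]; infer_instance
  haveI : LocallyOfFiniteType ((lift a.act (snd G X)).left ≫ (snd X X).left) := by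
    rw [← Over.comp_left, lift_snd]; infer_instance
  haveI : LocallyOfFiniteType (lift a.act (snd G X)).left :=
    locallyOfFiniteType_of_comp (lift a.act (snd G X)).left (snd X X).left
  have key : ∀ x : X.left, topologicalKrullDim
      (GLinSh.stab a (Over.homMk (X.left.fromSpecResidueField x) rfl :
        Over.mk (X.left.fromSpecResidueField x ≫ X.hom) ⟶ X)) =
      FlatMor.fibreDimAt (lift a.act (snd G X)).left ((lift (1 : X ⟶ G) (𝟙 X)).left x) := by
    intro x
    haveI : Subsingleton ↥(Over.mk (X.left.fromSpecResidueField x ≫ X.hom)).left :=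
      (show Subsingleton (PrimeSpectrum (X.left.residueField x)) from inferInstance)
    haveI : IsLocallyNoetherian (Over.mk (X.left.fromSpecResidueField x ≫ X.hom)).left :=
      (show IsLocallyNoetherian (Spec (X.left.residueField x)) from inferInstance)
    obtain ⟨t⟩ : Nonempty ↥(Over.mk (X.left.fromSpecResidueField x ≫ X.hom)).left :=
      (show Nonempty (PrimeSpectrum (X.left.residueField x)) from inferInstance)
    have h := tdim_stab a (Over.homMk (X.left.fromSpecResidueField x) rfl :
        Over.mk (X.left.fromSpecResidueField x ≫ X.hom) ⟶ X) t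
    rw [h]
    congr 2
    exact Scheme.fromSpecResidueField_apply _ _
  have hset : {x : X.left | n ≤ topologicalKrullDim
      (GLinSh.stab a (Over.homMk (X.left.fromSpecResidueField x) rfl :
        Over.mk (X.left.fromSpecResidueField x ≫ X.hom) ⟶ X))} =
      (lift (1 : X ⟶ G) (𝟙 X)).left ⁻¹'
        {z | n ≤ FlatMor.fibreDimAt (lift a.act (snd G X)).left z} := by
    ext x
    simp only [Set.mem_ofPred_eq, Set.mem_preimage]
    rw [key x]
  rw [hset]
  exact (isClosed_setOf_le_fibreDimAt (lift a.act (snd G X)).left n).preimage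
    (lift (1 : X ⟶ G) (𝟙 X)).left.continuous

end Sch

end Groth.Agent.Helper2.StabDim
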