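import Mathlib
import Groth.Prelude.Def_QuotSh
import Groth.Prelude.Def_AlgSp
import Groth.Agent.Lib.Helper2.AlgSp.Coprod
import Groth.Agent.Lib.Helper2.AlgSp.FormalUnr

/-!
# `B ⊗ -` on schemes over `S` is continuous for the fppf topology (helper2)

Precomposing a sheaf of sets on the big fppf site of `S` with `T ↦ B ×_S T` gives a sheaf.
-/

set_option autoImplicit false

namespace Groth.Agent.Helper2.TensorCont
open CategoryTheory CategoryTheory.Limits MonoidalCategory CartesianMonoidalCategory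
  AlgebraicGeometry Opposite
universe u v w

section Cat
variable {C : Type u} [Category.{v} C] [CartesianMonoidalCategory C]

theorem isPullback_whiskerLeft_snd {A B : C} (p : A ⟶ B) (G : C) :
    IsPullback (snd G A) (G ◁ p) p (snd G B) := by
  have hw : snd G A ≫ p = (G ◁ p) ≫ snd G B := (whiskerLeft_snd _ _).symm
  refine ⟨⟨hw⟩, ⟨PullbackCone.IsLimit.mk hw (fun s => lift (s.snd ≫ fst G B) s.fst) ?_ ?_ ?_⟩⟩
  · intro s
    rw [lift_snd]
  · intro s
    apply CartesianMonoidalCategory.hom_ext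
    · rw [Category.assoc, whiskerLeft_fst, lift_fst]
    · rw [Category.assoc, whiskerLeft_snd, lift_snd_assoc, s.condition]
  · intro s m h1 h2
    apply CartesianMonoidalCategory.hom_ext
    · rw [lift_fst, ← h2, Category.assoc, whiskerLeft_fst]
    · rw [lift_snd, ← h1]

/-- `B ⊗ -` is compatible-preserving for any topology. -/
theorem compatiblePreserving_tensorLeft (K : GrothendieckTopology C) (B : C) :
    CompatiblePreserving.{w} K (tensorLeft B) := by
  constructor
  intro ℱ Z T x hx Y₁ Y₂ X f₁ f₂ g₁ g₂ hg₁ hg₂ e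
  obtain ⟨b, hb⟩ : ∃ b : X ⟶ B, b = f₁ ≫ fst B Y₁ := ⟨_, rfl⟩
  obtain ⟨s₁, hs₁⟩ : ∃ s₁ : X ⟶ Y₁, s₁ = f₁ ≫ snd B Y₁ := ⟨_, rfl⟩
  obtain ⟨s₂, hs₂⟩ : ∃ s₂ : X ⟶ Y₂, s₂ = f₂ ≫ snd B Y₂ := ⟨_, rfl⟩
  have hb' : b = f₂ ≫ fst B Y₂ := by
    rw [hb]
    have := congrArg (fun m => m ≫ fst B Z) e
    simpa [Category.assoc, whiskerLeft_fst] using this
  have hs : s₁ ≫ g₁ = s₂ ≫ g₂ := by
    rw [hs₁, hs₂]
    have := congrArg (fun m => m ≫ snd B Z) e
    simpa [Category.assoc, whiskerLeft_snd] using this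
  have h1 : f₁ = lift b (𝟙 X) ≫ (tensorLeft B).map s₁ := by
    apply CartesianMonoidalCategory.hom_ext
    · simp [hb]
    · simp [hs₁]
  have h2 : f₂ = lift b (𝟙 X) ≫ (tensorLeft B).map s₂ := by
    apply CartesianMonoidalCategory.hom_ext
    · simp [hb']
    · simp [hs₂]
  have hc' : ℱ.obj.map ((tensorLeft B).map s₁).op (x g₁ hg₁) =
      ℱ.obj.map ((tensorLeft B).map s₂).op (x g₂ hg₂) := hx s₁ s₂ hg₁ hg₂ hs
  rw [h1, h2]
  have key : ∀ {Y : C} (s : X ⟶ Y) (y : ℱ.obj.obj (op ((tensorLeft B).obj Y))),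
      ℱ.obj.map (lift b (𝟙 X) ≫ (tensorLeft B).map s).op y =
        ℱ.obj.map (lift b (𝟙 X)).op (ℱ.obj.map ((tensorLeft B).map s).op y) := by
    intro Y s y
    rw [op_comp, Functor.map_comp]
    rfl
  rw [key, key, hc']

end Cat

variable {S : Scheme.{u}}

open Groth.Agent.Helper2.AlgSpFormal Groth.Agent.Helper2.Coprod in
/-- `B ⊗ -` preserves covers of the big fppf site. -/
theorem coverPreserving_tensorLeft (B : Over S) :
    CoverPreserving (AlgSp.J S) (AlgSp.J S) (tensorLeft B) := by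
  constructor
  intro T R hR
  obtain ⟨κ, W, p, hp, hs, hRp⟩ := exists_family_of_mem_J R hR
  have hmem : Sieve.ofArrows (fun k => B ⊗ W k) (fun k => B ◁ p k) ∈ AlgSp.J S (B ⊗ T) := by
    refine ofArrows_mem_J _ _ (fun k => ?_) (fun x => ?_)
    · have sq := (isPullback_whiskerLeft_snd (p k) B).map (Over.forget S)
      exact MorphismProperty.of_isPullback sq (hp k)
    · obtain ⟨k, w, hw⟩ := hs ((snd B T).left x)
      have sq := (isPullback_whiskerLeft_snd (p k) B).map (Over.forget S)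
      obtain ⟨z, -, hz⟩ := Scheme.exists_preimage_of_isPullback sq w x hw
      exact ⟨k, z, hz⟩
  refine (AlgSp.J S).superset_covering ?_ hmem
  rw [Sieve.ofArrows, Sieve.generate_le_iff]
  rintro _ _ ⟨k⟩
  exact ⟨W k, p k, 𝟙 _, hRp k, by simp⟩

/-- Precomposing a sheaf of sets with `B ⊗ -` gives a sheaf. -/
theorem isSheaf_tensorLeft_comp (B : Over S) (ℱ : Sheaf (AlgSp.J S) (Type w)) :
    Presieve.IsSheaf (AlgSp.J S) ((tensorLeft B).op ⋙ ℱ.obj) := by
  have hF₁ : CompatiblePreserving.{w} (AlgSp.J S) (tensorLeft B) :=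
    compatiblePreserving_tensorLeft _ B
  have hF₂ := coverPreserving_tensorLeft B
  intro X R hR x hx
  apply existsUnique_of_exists_of_unique
  · have H := (isSheaf_iff_isSheaf_of_type _ _).1 ℱ.2 _ (hF₂.cover_preserve hR)
    exact ⟨H.amalgamate (x.functorPushforward (tensorLeft B)) (hx.functorPushforward hF₁),
      fun V f hf => (H.isAmalgamation (hx.functorPushforward hF₁) ((tensorLeft B).map f) _).trans
        (hF₁.apply_map _ hx hf)⟩
  · intro y₁ y₂ hy₁ hy₂
    apply (((isSheaf_iff_isSheaf_of_type _ _).1 ℱ.2).isSeparated _ (hF₂.cover_preserve hR)).ext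
    rintro Y _ ⟨Z, g, h, hg, rfl⟩
    simpa using! congrArg _ ((hy₁ g hg).trans (hy₂ g hg).symm)

end Groth.Agent.Helper2.TensorCont
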