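import Mathlib
import Groth.Prelude.Def_AlgGrp
import Groth.Agent.Lib.Helper2.Sch.FppfCov
import Groth.Agent.Lib.Helper2.EtaleLocal
import Groth.Agent.Lib.Helper3.FppfDesc3
import Groth.Agent.Lib.Helper4.GrpKer2

/-!
# The third isomorphism theorem for fppf quotients `(G/H)/(K/H) = G/K` (S6056) (helper2)
-/

set_option backward.isDefEq.respectTransparency.types false
set_option synthInstance.maxHeartbeats 400000
set_option autoImplicit false
set_option linter.unusedSectionVars false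
set_option linter.style.haveILetI false
universe u
open CategoryTheory CategoryTheory.Limits AlgebraicGeometry TopologicalSpace
open MonoidalCategory CartesianMonoidalCategory MonObj GrpObj
open Groth.Agent.Helper2.QuotDesc Groth.Agent.Helper2.FppfLift Groth.Agent.Helper2.FppfCov
open Groth.Agent.Lib.Helper4.GrpKer2

namespace Groth.Agent.Helper2.ThirdIsoFppf

variable {S : Scheme.{u}} {H K G QH Kb : Over S} [GrpObj H] [GrpObj K] [GrpObj G]
  (h : H ⟶ K) (k : K ⟶ G) [Mono k] [IsMonHom h] [IsMonHom k]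
  (qH : G ⟶ QH) (hqH : IsCov qH)
  (pbH : IsPullback (fst G H) ((G ◁ (h ≫ k)) ≫ μ[G]) qH qH)
  (qKb : K ⟶ Kb) (hqKb : IsCov qKb)
  (pbK : IsPullback (fst K H) ((K ◁ h) ≫ μ[K]) qKb qKb)
  (act : QH ⊗ Kb ⟶ QH) (hact : (qH ⊗ₘ qKb) ≫ act = (G ◁ k) ≫ μ[G] ≫ qH)

include hact in
/-- The action on points represented in `G` and `K`. -/
theorem act_points {T : Over S} (g : T ⟶ G) (x : T ⟶ K) :
    lift (g ≫ qH) (x ≫ qKb) ≫ act = (g * (x ≫ k)) ≫ qH := by
  rw [← lift_map, Category.assoc, hact, ← Category.assoc, ← Category.assoc, lift_whiskerLeft,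
    ← Hom.mul_def]

include hact hqH hqKb pbH pbK in
/-- The action of `K/H` on `G/H` is free. -/
theorem act_free {T : Over S} (a : T ⟶ QH) (κ₁ κ₂ : T ⟶ Kb)
    (h12 : lift a κ₁ ≫ act = lift a κ₂ ≫ act) : κ₁ = κ₂ := by
  obtain ⟨T', π, g, x₁, x₂, hπ, hg, hx₁, hx₂⟩ :=
    exists_lift₃ qH hqH qKb hqKb qKb hqKb a κ₁ κ₂
  haveI := hπ.epi
  rw [← cancel_epi π, ← hx₁, ← hx₂]
  have e1 : ((g * (x₁ ≫ k)) ≫ qH) = ((g * (x₂ ≫ k)) ≫ qH) := by
    rw [← act_points k qH qKb act hact, ← act_points k qH qKb act hact, hg, hx₁, hx₂,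
      ← comp_lift, ← comp_lift, Category.assoc, Category.assoc, h12]
  obtain ⟨n, hn⟩ := exists_of_comp_eq (h ≫ k) qH pbH _ _ e1
  have e2 : x₂ ≫ k = (x₁ * (n ≫ h)) ≫ k := by
    rw [MonObj.mul_comp, Category.assoc]
    rw [_root_.mul_assoc] at hn
    exact mul_left_cancel hn
  have e3 : x₂ = x₁ * (n ≫ h) := (cancel_mono k).1 e2
  rw [e3, comp_eq_of_mul h qKb pbK]

section PartOne

variable {QK : Over S} (qK : G ⟶ QK) (pbQK : IsPullback (fst G K) ((G ◁ k) ≫ μ[G]) qK qK)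
  (qbar : QH ⟶ QK) (hbar : qH ≫ qbar = qK)

include hact hqH hqKb pbQK hbar in
/-- The action preserves the fibres of `G/H → G/K`. -/
theorem act_comp_qbar {T : Over S} (a : T ⟶ QH) (κ : T ⟶ Kb) :
    lift a κ ≫ act ≫ qbar = a ≫ qbar := by
  obtain ⟨T', π, g, x, hπ, hg, hx⟩ := exists_lift₂ qH hqH qKb hqKb a κ
  haveI := hπ.epi
  rw [← cancel_epi π, ← Category.assoc π, comp_lift, ← hg, ← hx, ← Category.assoc,
    act_points k qH qKb act hact, Category.assoc, hbar, comp_eq_of_mul k qK pbQK, ← hbar,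
    ← Category.assoc, hg, Category.assoc]

include hact hqH hqKb pbH pbK pbQK hbar in
/-- `G/H ×_{G/K} G/H = G/H × K/H`. -/
theorem isPullback_act : IsPullback (fst QH Kb) act qbar qbar := by
  refine isPullback_of_points _ _ _ _ ?_ ?_ ?_
  · have := act_comp_qbar k qH hqH qKb hqKb act hact qK pbQK qbar hbar (fst QH Kb) (snd QH Kb)
    rw [lift_fst_snd, Category.id_comp] at this
    exact this.symm
  · intro T a b hab
    obtain ⟨T', π, ga, gb, hπ, hga, hgb⟩ := exists_lift₂ qH hqH qH hqH a b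
    haveI := hπ.epi
    have e1 : ga ≫ qK = gb ≫ qK := by
      rw [← hbar, ← Category.assoc, ← Category.assoc, hga, hgb, Category.assoc, Category.assoc,
        hab]
    obtain ⟨x, hx⟩ := exists_of_comp_eq k qK pbQK _ _ e1
    have e2 : lift (π ≫ a) (x ≫ qKb) ≫ act = π ≫ b := by
      rw [← hga, act_points k qH qKb act hact, ← hx, hgb]
    obtain ⟨κ, hκ⟩ := hπ.exists_desc (x ≫ qKb) (by
      intro Z z₁ z₂ hz
      apply act_free h k qH hqH pbH qKb hqKb pbK act hact (z₁ ≫ π ≫ a)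
      have e3 : lift (z₁ ≫ π ≫ a) (z₁ ≫ x ≫ qKb) ≫ act = z₁ ≫ π ≫ b := by
        rw [← comp_lift, Category.assoc, e2]
      have e4 : lift (z₁ ≫ π ≫ a) (z₂ ≫ x ≫ qKb) ≫ act = z₁ ≫ π ≫ b := by
        rw [← Category.assoc z₁, hz, Category.assoc, ← comp_lift, Category.assoc, e2,
          ← Category.assoc z₂, ← hz, Category.assoc]
      rw [e3, e4])
    refine ⟨lift a κ, lift_fst _ _, ?_⟩
    rw [← cancel_epi π, ← Category.assoc, comp_lift, hκ, e2]
  · intro T s t h1 h2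
    have e1 : s = lift (s ≫ fst QH Kb) (s ≫ snd QH Kb) := by
      apply CartesianMonoidalCategory.hom_ext <;> simp
    have e2 : t = lift (s ≫ fst QH Kb) (t ≫ snd QH Kb) := by
      apply CartesianMonoidalCategory.hom_ext
      · rw [lift_fst, h1]
      · rw [lift_snd]
    have e3 : s ≫ snd QH Kb = t ≫ snd QH Kb := by
      apply act_free h k qH hqH pbH qKb hqKb pbK act hact (s ≫ fst QH Kb)
      rw [← e1, ← e2, h2]
    rw [e1, e2, e3]

end PartOne

section PartTwo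

variable {Y : Over S} (p : QH ⟶ Y) (hp : IsPullback (fst QH Kb) act p p)

include hact hqKb pbH hp in
/-- If `p : G/H → Y` has kernel pair `G/H × K/H`, then `G → G/H → Y` has kernel pair `G × K`. -/
theorem isPullback_comp : IsPullback (fst G K) ((G ◁ k) ≫ μ[G]) (qH ≫ p) (qH ≫ p) := by
  refine isPullback_of_points _ _ _ _ ?_ ?_ ?_
  · have e : ((G ◁ k) ≫ μ[G]) ≫ qH ≫ p = ((qH ⊗ₘ qKb) ≫ act) ≫ p := by
      rw [hact]; simp only [Category.assoc]
    rw [e, Category.assoc, ← hp.w, tensorHom_fst_assoc]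
  · intro T g₁ g₂ h12
    rw [← Category.assoc, ← Category.assoc] at h12
    obtain ⟨κ, hκ⟩ : ∃ κ : T ⟶ Kb, lift (g₁ ≫ qH) κ ≫ act = g₂ ≫ qH := by
      refine ⟨hp.lift _ _ h12 ≫ snd QH Kb, ?_⟩
      have e1 : lift (g₁ ≫ qH) (hp.lift _ _ h12 ≫ snd QH Kb) = hp.lift _ _ h12 := by
        apply CartesianMonoidalCategory.hom_ext
        · rw [lift_fst, hp.lift_fst]
        · rw [lift_snd]
      rw [e1, hp.lift_snd]
    obtain ⟨x, hx⟩ : ∃ x : T ⟶ K, x ≫ k = g₁⁻¹ * g₂ := by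
      obtain ⟨T', π, x', hπ, hx'⟩ := FppfCov.exists_lift qKb hqKb κ
      have e1 : ((π ≫ g₁) * (x' ≫ k)) ≫ qH = (π ≫ g₂) ≫ qH := by
        rw [← act_points k qH qKb act hact, hx', Category.assoc, ← comp_lift, Category.assoc,
          hκ, Category.assoc]
      obtain ⟨n, hn⟩ := exists_of_comp_eq (h ≫ k) qH pbH _ _ e1
      refine hπ.exists_lift_mono k (g₁⁻¹ * g₂) (x' * (n ≫ h)) ?_
      rw [MonObj.mul_comp, Category.assoc, MonObj.comp_mul, GrpObj.comp_inv, hn,
        _root_.mul_assoc, inv_mul_cancel_left]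
    refine ⟨lift g₁ x, lift_fst _ _, ?_⟩
    rw [← Category.assoc, lift_whiskerLeft, ← Hom.mul_def, hx, mul_inv_cancel_left]
  · intro T s t h1 h2
    have e : ∀ r : T ⟶ G ⊗ K, r ≫ (G ◁ k) ≫ μ[G] = (r ≫ fst G K) * (r ≫ snd G K ≫ k) := by
      intro r
      rw [Hom.mul_def, ← Category.assoc]
      congr 1
      apply CartesianMonoidalCategory.hom_ext
      · rw [Category.assoc, whiskerLeft_fst, lift_fst]
      · rw [Category.assoc, whiskerLeft_snd, lift_snd]
    rw [e, e, h1] at h2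
    have h3 := mul_left_cancel h2
    rw [← Category.assoc, ← Category.assoc, cancel_mono] at h3
    exact CartesianMonoidalCategory.hom_ext _ _ h1 h3

end PartTwo

end Groth.Agent.Helper2.ThirdIsoFppf
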