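import Mathlib
import Groth.Prelude.Def_AlgGrp
import Groth.Prelude.Def_ChGrp
import Groth.Prelude.Def_NonAbH2
import Groth.Agent.Lib.Helper4.GrpKer2

/-!
# Composition of torsors under a semidirect product (S18977) (helper2)
-/

set_option backward.isDefEq.respectTransparency.types false
set_option synthInstance.maxHeartbeats 400000
set_option autoImplicit false
set_option linter.unusedSectionVars false
set_option linter.style.haveILetI false
universe u
open CategoryTheory CategoryTheory.Limits AlgebraicGeometry TopologicalSpace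
open MonoidalCategory CartesianMonoidalCategory MonObj GrpObj
open Groth.Agent.Lib.Helper4.GrpKer1 Groth.Agent.Lib.Helper4.GrpKer2

namespace Groth.Agent.Helper2.TorsorComp

section LocTriv

/-- Local triviality is stable under composition. -/
theorem isLocallyTrivialFor_comp (K : Precoverage Scheme.{u}) [K.IsStableUnderBaseChange]
    [K.IsStableUnderComposition] {X Y Z : Scheme.{u}} (f₁ : X ⟶ Y) (f₂ : Y ⟶ Z)
    (h₁ : NonAbH1.IsLocallyTrivialFor K (Over.mk f₁))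
    (h₂ : NonAbH1.IsLocallyTrivialFor K (Over.mk f₂)) :
    NonAbH1.IsLocallyTrivialFor K (Over.mk (f₁ ≫ f₂)) := by
  obtain ⟨R₂, hR₂, hs₂⟩ := h₂
  obtain ⟨R₁, hR₁, hs₁⟩ := h₁
  obtain ⟨ι₂, Z', g₂, rfl⟩ := R₂.exists_eq_ofArrows
  obtain ⟨ι₁, Y', g₁, rfl⟩ := R₁.exists_eq_ofArrows
  choose s₂ hs₂' using fun i => hs₂ (g₂ i) (Presieve.ofArrows.mk i)
  choose s₁ hs₁' using fun j => hs₁ (g₁ j) (Presieve.ofArrows.mk j)
  have hs₂'' : ∀ i, s₂ i ≫ f₂ = g₂ i := hs₂'
  have hs₁'' : ∀ j, s₁ j ≫ f₁ = g₁ j := hs₁'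
  refine ⟨Presieve.ofArrows (fun p : Σ _ : ι₂, ι₁ => pullback (s₂ p.1) (g₁ p.2))
    (fun p => pullback.fst (s₂ p.1) (g₁ p.2) ≫ g₂ p.1), ?_, ?_⟩
  · exact Precoverage.comp_mem_coverings (J := K) g₂ hR₂
      (fun i j => pullback.fst (s₂ i) (g₁ j))
      (fun i => Precoverage.mem_coverings_of_isPullback (J := K) g₁ hR₁ (s₂ i) _
        (fun j => pullback.snd (s₂ i) (g₁ j)) (fun j => IsPullback.of_hasPullback _ _))
  · rintro S' f ⟨p⟩
    refine ⟨pullback.snd (s₂ p.1) (g₁ p.2) ≫ s₁ p.2, ?_⟩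
    change (pullback.snd (s₂ p.1) (g₁ p.2) ≫ s₁ p.2) ≫ f₁ ≫ f₂ = _
    rw [Category.assoc, ← Category.assoc (s₁ p.2), hs₁'', ← Category.assoc, ← pullback.condition,
      Category.assoc, hs₂'']

end LocTriv

section Pullback

variable {S : Scheme.{u}} {G N Q H X Y Z : Over S} [GrpObj G] [GrpObj N] [GrpObj Q] [GrpObj H]
  (iN : N ⟶ G) [IsMonHom iN] (q : G ⟶ Q) [IsMonHom q] (hker : IsKer iN q)
  (iH : H ⟶ G) [IsIso (iH ≫ q)]
  (a : AlgGrp.Action G X) (φ₁ : X ⟶ Y) (h₁ : IsPullback (a.restrict iN).act (snd N X) φ₁ φ₁)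
  (aY : AlgGrp.Action Q Y) (hequiv : (q ⊗ₘ φ₁) ≫ aY.act = a.act ≫ φ₁)
  (φ₂ : Y ⟶ Z) (h₂ : IsPullback aY.act (snd Q Y) φ₂ φ₂)

include hequiv in
theorem equiv_points {T : Over S} (g : T ⟶ G) (x : T ⟶ X) :
    lift (g ≫ q) (x ≫ φ₁) ≫ aY.act = (lift g x ≫ a.act) ≫ φ₁ := by
  rw [← lift_map, Category.assoc, hequiv, Category.assoc]

include hker h₁ hequiv h₂ iH in
/-- The composite of an `N`-torsor and a `Q`-torsor is a pseudo-torsor under `G = N ⋊ H`. -/
theorem isPullback_comp : IsPullback a.act (snd G X) (φ₁ ≫ φ₂) (φ₁ ≫ φ₂) := by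
  refine isPullback_of_points _ _ _ _ ?_ ?_ ?_
  · rw [← Category.assoc, ← hequiv, Category.assoc, h₂.w, ← Category.assoc, tensorHom_snd,
      Category.assoc]
  · intro T u v huv
    rw [← Category.assoc, ← Category.assoc] at huv
    obtain ⟨κ, hκ⟩ : ∃ κ : T ⟶ Q, lift κ (v ≫ φ₁) ≫ aY.act = u ≫ φ₁ := by
      refine ⟨h₂.lift _ _ huv ≫ fst Q Y, ?_⟩
      have e1 : lift (h₂.lift _ _ huv ≫ fst Q Y) (v ≫ φ₁) = h₂.lift _ _ huv := by
        apply CartesianMonoidalCategory.hom_ext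
        · rw [lift_fst]
        · rw [lift_snd, h₂.lift_snd]
      rw [e1, h₂.lift_fst]
    obtain ⟨g₀, hg₀⟩ : ∃ g₀ : T ⟶ G, g₀ ≫ q = κ :=
      ⟨κ ≫ CategoryTheory.inv (iH ≫ q) ≫ iH, by
        rw [Category.assoc, Category.assoc, IsIso.inv_hom_id, Category.comp_id]⟩
    have e2 : u ≫ φ₁ = (lift g₀ v ≫ a.act) ≫ φ₁ := by
      rw [← equiv_points q a φ₁ aY hequiv, hg₀, hκ]
    obtain ⟨m, hm⟩ : ∃ m : T ⟶ N, lift m (lift g₀ v ≫ a.act) ≫ (a.restrict iN).act = u := by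
      refine ⟨h₁.lift _ _ e2 ≫ fst N X, ?_⟩
      have e1 : lift (h₁.lift _ _ e2 ≫ fst N X) (lift g₀ v ≫ a.act) = h₁.lift _ _ e2 := by
        apply CartesianMonoidalCategory.hom_ext
        · rw [lift_fst]
        · rw [lift_snd, h₁.lift_snd]
      rw [e1, h₁.lift_fst]
    refine ⟨lift ((m ≫ iN) * g₀) v, ?_, lift_snd _ _⟩
    rw [AlgGrp.Action.lift_mul_act, ← AlgGrp.Action.lift_restrict_act, hm]
  · intro T s t hst1 hst2
    have es : s = lift (s ≫ fst G X) (s ≫ snd G X) := by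
      apply CartesianMonoidalCategory.hom_ext <;> simp
    have et : t = lift (t ≫ fst G X) (s ≫ snd G X) := by
      apply CartesianMonoidalCategory.hom_ext
      · rw [lift_fst]
      · rw [lift_snd, hst2]
    obtain ⟨g, hg⟩ : ∃ g, g = s ≫ fst G X := ⟨_, rfl⟩
    obtain ⟨g', hg'⟩ : ∃ g', g' = t ≫ fst G X := ⟨_, rfl⟩
    obtain ⟨v, hv⟩ : ∃ v, v = s ≫ snd G X := ⟨_, rfl⟩
    rw [← hg, ← hv] at es
    rw [← hg', ← hv] at et
    rw [es, et] at hst1
    -- first: q g = q g'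
    have e1 : lift (g ≫ q) (v ≫ φ₁) = lift (g' ≫ q) (v ≫ φ₁) := by
      apply h₂.hom_ext
      · rw [equiv_points q a φ₁ aY hequiv, equiv_points q a φ₁ aY hequiv, hst1]
      · rw [lift_snd, lift_snd]
    have e2 : g ≫ q = g' ≫ q := by
      have := congrArg (fun r => r ≫ fst Q Y) e1
      simpa using this
    have e3 : (g' * g⁻¹) ≫ q = 1 := by
      rw [MonObj.mul_comp, GrpObj.inv_comp, e2, mul_inv_cancel]
    obtain ⟨m, hm⟩ := hker.exists_lift _ e3
    have e4 : lift m (lift g v ≫ a.act) = lift 1 (lift g v ≫ a.act) := by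
      apply h₁.hom_ext
      · rw [AlgGrp.Action.lift_restrict_act, AlgGrp.Action.lift_restrict_act, hm,
          ← AlgGrp.Action.lift_mul_act, inv_mul_cancel_right, MonObj.one_comp,
          AlgGrp.Action.lift_one_act, hst1]
      · rw [lift_snd, lift_snd]
    have e5 : m = 1 := by
      have := congrArg (fun r => r ≫ fst N X) e4
      simpa using this
    rw [e5, MonObj.one_comp] at hm
    have e6 : g' = g := by
      have := mul_inv_eq_one.1 hm.symm
      exact this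
    rw [es, et, e6]

end Pullback

end Groth.Agent.Helper2.TorsorComp
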